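import Mathlib
import Cfsg.Prelude.Def_Solvable
import Cfsg.Prelude.Def_Transfer
import Cfsg.Prelude.Def_CaseTheorems

set_option autoImplicit false

namespace Cfsg.Agent.Helper14

open Cfsg

/-- `O_p(G)` is a `p`-group (in any group). -/
theorem pCore_isPGroup (p : ℕ) (G : Type*) [Group G] : IsPGroup p (pCore p G) :=
  Sylow.sSup_of_normal _ (fun _ h => h.2) (fun _ h => h.1)

/-- A normal `p`-subgroup lies in `O_p(G)`. -/
theorem le_pCore {p : ℕ} {G : Type*} [Group G] {N : Subgroup G} (hN : N.Normal) (hp : IsPGroup p N) :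
    N ≤ pCore p G :=
  le_sSup ⟨hN, hp⟩

/-- `O_p(G)` lies in every Sylow `p`-subgroup. -/
theorem pCore_le_sylow {p : ℕ} {G : Type*} [Group G] (P : Sylow p G) : pCore p G ≤ P :=
  (pCore_isPGroup p G).le_sylow_of_normal P

/-- An element killed by two coprime exponents is trivial. -/
theorem eq_one_of_pow_eq_one_of_coprime {G : Type*} [Monoid G] {x : G} {a b : ℕ}
    (ha : x ^ a = 1) (hb : x ^ b = 1) (hab : Nat.Coprime a b) : x = 1 := by
  have h1 := orderOf_dvd_of_pow_eq_one ha
  have h2 := orderOf_dvd_of_pow_eq_one hb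
  have h3 : orderOf x ∣ 1 := by
    have := Nat.dvd_gcd h1 h2
    rwa [hab] at this
  exact orderOf_eq_one_iff.mp (Nat.dvd_one.mp h3)

/-- In a finite group, if every element of order prime to `p` is trivial, the group is a `p`-group. -/
theorem isPGroup_of_pprime_elements_trivial {p : ℕ} [hp : Fact p.Prime] {G : Type*} [Group G] [Finite G]
    (h : ∀ x : G, (orderOf x).Coprime p → x = 1) : IsPGroup p G := by
  intro g
  have hpos : 0 < orderOf g := orderOf_pos g
  obtain ⟨a, m, hm, hgm⟩ := Nat.exists_eq_pow_mul_and_not_dvd hpos.ne' p hp.out.ne_one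
  refine ⟨a, ?_⟩
  apply h
  have hcop : Nat.Coprime m p := ((Nat.Prime.coprime_iff_not_dvd hp.out).mpr hm).symm
  have hord : orderOf (g ^ (p ^ a)) = m := by
    rw [orderOf_pow' g (pow_ne_zero a hp.out.ne_zero), hgm, Nat.gcd_eq_right (Dvd.intro _ rfl)]
    exact Nat.mul_div_cancel_left m (pow_pos hp.out.pos a)
  rw [hord]
  exact hcop

end Cfsg.Agent.Helper14
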