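import Mathlib
import Cfsg.Prelude.Def_Amalgam
import Cfsg.Agent.Lib.Helper14.Basic

set_option autoImplicit false

namespace Cfsg.Agent.Helper14

open Cfsg

/-- `O_p` is carried to `O_p` by an isomorphism. -/
theorem pCore_map_equiv {p : ℕ} {G G' : Type*} [Group G] [Group G'] (e : G ≃* G') :
    (pCore p G).map e.toMonoidHom = pCore p G' := by
  apply le_antisymm
  · apply le_pCore
    · exact Subgroup.Normal.map inferInstance _ e.surjective
    · exact (pCore_isPGroup p G).map _
  · have h2 : (pCore p G').map e.symm.toMonoidHom ≤ pCore p G := by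
      apply le_pCore
      · exact Subgroup.Normal.map inferInstance _ e.symm.surjective
      · exact (pCore_isPGroup p G').map _
    intro x hx
    exact ⟨e.symm x, h2 ⟨x, hx, rfl⟩, by simp⟩

/-- Characteristic `p` (`C(O_p) ≤ O_p`) is invariant under isomorphism. -/
theorem charP_of_mulEquiv {p : ℕ} {G G' : Type*} [Group G] [Group G'] (e : G ≃* G')
    (h : Subgroup.centralizer (pCore p G : Set G) ≤ pCore p G) :
    Subgroup.centralizer (pCore p G' : Set G') ≤ pCore p G' := by
  intro x' hx'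
  rw [Subgroup.mem_centralizer_iff] at hx'
  have hx : e.symm x' ∈ Subgroup.centralizer (pCore p G : Set G) := by
    rw [Subgroup.mem_centralizer_iff]
    intro y hy
    have hy' : e y ∈ pCore p G' := by
      rw [← pCore_map_equiv e]; exact ⟨y, hy, rfl⟩
    have := hx' (e y) hy'
    apply e.injective
    simpa using this
  have := h hx
  rw [← pCore_map_equiv e]
  exact ⟨e.symm x', this, by simp⟩

variable {X : Type*} [Group X]

theorem pCoreOf_le (p : ℕ) (H : Subgroup X) : pCoreOf p H ≤ H := by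
  unfold pCoreOf; exact Subgroup.map_subtype_le _

theorem pCoreOf_isPGroup (p : ℕ) (H : Subgroup X) : IsPGroup p (pCoreOf p H) :=
  (pCore_isPGroup p H).map _

theorem mem_pCoreOf_iff {p : ℕ} {H : Subgroup X} {x : X} :
    x ∈ pCoreOf p H ↔ ∃ hx : x ∈ H, (⟨x, hx⟩ : H) ∈ pCore p H := by
  unfold pCoreOf
  constructor
  · rintro ⟨y, hy, rfl⟩
    exact ⟨y.2, hy⟩
  · rintro ⟨hx, h⟩
    exact ⟨⟨x, hx⟩, h, rfl⟩

/-- `H` normalizes `O_p(H)`. -/
theorem le_normalizer_pCoreOf (p : ℕ) (H : Subgroup X) : H ≤ Subgroup.normalizer (pCoreOf p H : Set X) := by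
  intro h hh
  rw [Subgroup.mem_normalizer_iff]
  intro x
  have key : ∀ (g : X) (hg : g ∈ H) (y : X), y ∈ pCoreOf p H → g * y * g⁻¹ ∈ pCoreOf p H := by
    intro g hg y hy
    rw [mem_pCoreOf_iff] at hy ⊢
    obtain ⟨hyH, hy⟩ := hy
    refine ⟨H.mul_mem (H.mul_mem hg hyH) (H.inv_mem hg), ?_⟩
    have := (pCore_normal p H).conj_mem ⟨y, hyH⟩ hy ⟨g, hg⟩
    exact this
  constructor
  · exact key h hh x
  · intro hx
    have := key h⁻¹ (H.inv_mem hh) _ hx
    simpa [mul_assoc] using this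

/-- A `p`-subgroup of `H` normalized by `H` lies in `O_p(H)`. -/
theorem le_pCoreOf {p : ℕ} {H N : Subgroup X} (hNH : N ≤ H) (hnorm : H ≤ Subgroup.normalizer (N : Set X))
    (hp : IsPGroup p N) : N ≤ pCoreOf p H := by
  intro x hx
  rw [mem_pCoreOf_iff]
  refine ⟨hNH hx, ?_⟩
  have hle : N.subgroupOf H ≤ pCore p H := by
    apply le_pCore
    · constructor
      intro n hn g
      rw [Subgroup.mem_subgroupOf] at hn ⊢
      have hg := hnorm g.2
      rw [Subgroup.mem_normalizer_iff] at hg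
      exact (hg _).mp hn
    · exact hp.comap_of_injective _ (Subgroup.subtype_injective H)
  exact hle (by rw [Subgroup.mem_subgroupOf]; exact hx)

/-- The isomorphism `H ≃* φ(H)` induced by an automorphism `φ` of the ambient group. -/
def mapEquiv (φ : X ≃* X) (H : Subgroup X) : ↥H ≃* ↥(H.map φ.toMonoidHom) := φ.subgroupMap H

@[simp] theorem mapEquiv_apply_coe (φ : X ≃* X) (H : Subgroup X) (y : H) :
    ((mapEquiv φ H y : ↥(H.map φ.toMonoidHom)) : X) = φ y := rfl

/-- `O_p` of a conjugate (or image under an automorphism of the ambient group). -/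
theorem pCoreOf_map_equiv (p : ℕ) (φ : X ≃* X) (H : Subgroup X) :
    pCoreOf p (H.map φ.toMonoidHom) = (pCoreOf p H).map φ.toMonoidHom := by
  unfold pCoreOf
  rw [← pCore_map_equiv (mapEquiv φ H), Subgroup.map_map, Subgroup.map_map]
  congr 1

/-- Characteristic `p` for a subgroup, read in the ambient group. -/
theorem charP_iff_ambient {p : ℕ} {H : Subgroup X} :
    Subgroup.centralizer (pCore p H : Set H) ≤ pCore p H ↔
      H ⊓ Subgroup.centralizer (pCoreOf p H : Set X) ≤ pCoreOf p H := by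
  constructor
  · intro h x hx
    obtain ⟨hxH, hxc⟩ := Subgroup.mem_inf.mp hx
    rw [mem_pCoreOf_iff]
    refine ⟨hxH, h ?_⟩
    rw [Subgroup.mem_centralizer_iff] at hxc ⊢
    intro y hy
    have : (y : X) ∈ pCoreOf p H := mem_pCoreOf_iff.mpr ⟨y.2, hy⟩
    exact Subtype.ext (hxc _ this)
  · intro h x hx
    have hx' : (x : X) ∈ H ⊓ Subgroup.centralizer (pCoreOf p H : Set X) := by
      refine Subgroup.mem_inf.mpr ⟨x.2, ?_⟩
      rw [Subgroup.mem_centralizer_iff] at hx ⊢
      intro y hy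
      obtain ⟨hyH, hy'⟩ := mem_pCoreOf_iff.mp hy
      have := hx ⟨y, hyH⟩ hy'
      exact congrArg Subtype.val this
    obtain ⟨_, h2⟩ := mem_pCoreOf_iff.mp (h hx')
    exact h2

/-- Characteristic `p` transported along an automorphism of the ambient group. -/
theorem charP_map_equiv {p : ℕ} (φ : X ≃* X) {H : Subgroup X}
    (h : Subgroup.centralizer (pCore p H : Set H) ≤ pCore p H) :
    Subgroup.centralizer (pCore p ↥(H.map φ.toMonoidHom) : Set ↥(H.map φ.toMonoidHom)) ≤
      pCore p ↥(H.map φ.toMonoidHom) :=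
  charP_of_mulEquiv (mapEquiv φ H) h

/-! ### Sylow subgroups of a subgroup, viewed in the ambient group -/

/-- `T` is (the image in the ambient group of) a Sylow `p`-subgroup of `H`. -/
def IsSylowOf (p : ℕ) (H T : Subgroup X) : Prop :=
  ∃ P : Sylow p ↥H, (P : Subgroup ↥H).map H.subtype = T

theorem IsSylowOf.le {p : ℕ} {H T : Subgroup X} (h : IsSylowOf p H T) : T ≤ H := by
  obtain ⟨P, rfl⟩ := h
  exact Subgroup.map_subtype_le _

theorem IsSylowOf.isPGroup {p : ℕ} {H T : Subgroup X} (h : IsSylowOf p H T) : IsPGroup p T := by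
  obtain ⟨P, rfl⟩ := h
  exact P.isPGroup'.map _

theorem pCoreOf_le_of_isSylowOf {p : ℕ} {H T : Subgroup X} (h : IsSylowOf p H T) : pCoreOf p H ≤ T := by
  obtain ⟨P, rfl⟩ := h
  unfold pCoreOf
  exact Subgroup.map_mono (pCore_le_sylow P)

theorem IsSylowOf.map_equiv {p : ℕ} {H T : Subgroup X} (φ : X ≃* X) (h : IsSylowOf p H T) :
    IsSylowOf p (H.map φ.toMonoidHom) (T.map φ.toMonoidHom) := by
  obtain ⟨P, rfl⟩ := h
  have hinj : Function.Injective (mapEquiv φ H).symm.toMonoidHom := (mapEquiv φ H).symm.injective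
  have hrange : (P : Subgroup ↥H) ≤ (mapEquiv φ H).symm.toMonoidHom.range := by
    intro x _
    exact ⟨mapEquiv φ H x, (mapEquiv φ H).symm_apply_apply x⟩
  refine ⟨P.comapOfInjective _ hinj hrange, ?_⟩
  rw [Sylow.coe_comapOfInjective]
  ext x
  constructor
  · rintro ⟨y, hy, rfl⟩
    change (mapEquiv φ H).symm y ∈ (P : Subgroup ↥H) at hy
    refine ⟨((mapEquiv φ H).symm y : X), ⟨_, hy, rfl⟩, ?_⟩
    have : ((mapEquiv φ H ((mapEquiv φ H).symm y) : ↥(H.map φ.toMonoidHom)) : X) = (y : X) := by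
      rw [MulEquiv.apply_symm_apply]
    exact this
  · rintro ⟨z, ⟨w, hw, rfl⟩, rfl⟩
    refine ⟨mapEquiv φ H w, ?_, rfl⟩
    change (mapEquiv φ H).symm (mapEquiv φ H w) ∈ (P : Subgroup ↥H)
    rw [MulEquiv.symm_apply_apply]
    exact hw

/-- If `K ≤ H` are finite and the Sylow `p`-subgroups of `K` have the order of those of `H`, then a Sylow
`p`-subgroup of `K` is a Sylow `p`-subgroup of `H`. -/
theorem IsSylowOf.of_le_of_card {p : ℕ} [Fact p.Prime] {K H T : Subgroup X} [Finite H] (hKH : K ≤ H)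
    (hcard : ∀ (S : Sylow p ↥K) (P : Sylow p ↥H), Nat.card S = Nat.card P)
    (h : IsSylowOf p K T) : IsSylowOf p H T := by
  obtain ⟨S, rfl⟩ := h
  have hT : IsPGroup p (((S : Subgroup ↥K).map K.subtype).subgroupOf H) :=
    (S.isPGroup'.map _).comap_of_injective _ (Subgroup.subtype_injective H)
  obtain ⟨P, hP⟩ := hT.exists_le_sylow
  have hle : (S : Subgroup ↥K).map K.subtype ≤ H := (Subgroup.map_subtype_le _).trans hKH
  have hc1 : Nat.card ↥(((S : Subgroup ↥K).map K.subtype).subgroupOf H) = Nat.card S := by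
    rw [Nat.card_congr (Subgroup.subgroupOfEquivOfLe hle).toEquiv,
      Subgroup.card_map_of_injective (Subgroup.subtype_injective K)]
  have heq : ((S : Subgroup ↥K).map K.subtype).subgroupOf H = (P : Subgroup ↥H) := by
    apply Subgroup.eq_of_le_of_card_ge hP
    rw [hc1, hcard S P]
  refine ⟨P, ?_⟩
  rw [← heq]
  ext x
  constructor
  · rintro ⟨y, hy, rfl⟩
    exact hy
  · intro hx
    exact ⟨⟨x, hle hx⟩, hx, rfl⟩

end Cfsg.Agent.Helper14
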