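import Mathlib
import Cfsg.Prelude.Def_Amalgam

set_option autoImplicit false

namespace Cfsg.Agent.Helper14

open Cfsg

variable {X : Type*} [Group X] {M₁ M₂ : Subgroup X}

theorem smul_inl_mk (g x : X) :
    g • (Sum.inl (x : X ⧸ M₁) : CosetVertex M₁ M₂) = Sum.inl ((g * x : X) : X ⧸ M₁) := rfl

theorem smul_inr_mk (g x : X) :
    g • (Sum.inr (x : X ⧸ M₂) : CosetVertex M₁ M₂) = Sum.inr ((g * x : X) : X ⧸ M₂) := rfl

/-- Adjacency in the coset graph. -/
theorem cosetGraph_adj_iff (a b : CosetVertex M₁ M₂) :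
    (cosetGraph M₁ M₂).Adj a b ↔
      (∃ x : X, a = Sum.inl (x : X ⧸ M₁) ∧ b = Sum.inr (x : X ⧸ M₂)) ∨
      (∃ x : X, b = Sum.inl (x : X ⧸ M₁) ∧ a = Sum.inr (x : X ⧸ M₂)) := by
  unfold cosetGraph
  rw [SimpleGraph.fromRel_adj]
  constructor
  · rintro ⟨_, h⟩
    exact h
  · intro h
    refine ⟨?_, h⟩
    rcases h with ⟨x, rfl, rfl⟩ | ⟨x, rfl, rfl⟩
    · exact Sum.inl_ne_inr
    · exact Sum.inr_ne_inl

theorem cosetGraph_adj_inl_inr (x : X) :
    (cosetGraph M₁ M₂).Adj (Sum.inl (x : X ⧸ M₁)) (Sum.inr (x : X ⧸ M₂)) :=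
  (cosetGraph_adj_iff _ _).mpr (Or.inl ⟨x, rfl, rfl⟩)

/-- The action preserves adjacency. -/
theorem cosetGraph_adj_smul (g : X) {a b : CosetVertex M₁ M₂} (h : (cosetGraph M₁ M₂).Adj a b) :
    (cosetGraph M₁ M₂).Adj (g • a) (g • b) := by
  rw [cosetGraph_adj_iff] at h ⊢
  rcases h with ⟨x, rfl, rfl⟩ | ⟨x, rfl, rfl⟩
  · exact Or.inl ⟨g * x, rfl, rfl⟩
  · exact Or.inr ⟨g * x, rfl, rfl⟩

theorem cosetGraph_adj_smul_iff (g : X) {a b : CosetVertex M₁ M₂} :
    (cosetGraph M₁ M₂).Adj (g • a) (g • b) ↔ (cosetGraph M₁ M₂).Adj a b := by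
  constructor
  · intro h
    have := cosetGraph_adj_smul g⁻¹ h
    simpa using this
  · exact cosetGraph_adj_smul g

/-- Neighbours of a left vertex. -/
theorem adj_inl_iff (x : X) (b : CosetVertex M₁ M₂) :
    (cosetGraph M₁ M₂).Adj (Sum.inl (x : X ⧸ M₁)) b ↔ ∃ m ∈ M₁, b = Sum.inr ((x * m : X) : X ⧸ M₂) := by
  rw [cosetGraph_adj_iff]
  constructor
  · rintro (⟨y, h1, rfl⟩ | ⟨y, rfl, h2⟩)
    · have h1' : (x : X ⧸ M₁) = (y : X ⧸ M₁) := Sum.inl_injective h1
      rw [QuotientGroup.eq] at h1'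
      exact ⟨x⁻¹ * y, h1', by rw [mul_inv_cancel_left]⟩
    · exact absurd h2 Sum.inl_ne_inr
  · rintro ⟨m, hm, rfl⟩
    refine Or.inl ⟨x * m, ?_, rfl⟩
    congr 1
    rw [QuotientGroup.eq]
    simpa using hm

/-- Neighbours of a right vertex. -/
theorem adj_inr_iff (x : X) (b : CosetVertex M₁ M₂) :
    (cosetGraph M₁ M₂).Adj (Sum.inr (x : X ⧸ M₂)) b ↔ ∃ m ∈ M₂, b = Sum.inl ((x * m : X) : X ⧸ M₁) := by
  rw [cosetGraph_adj_iff]
  constructor
  · rintro (⟨y, h1, rfl⟩ | ⟨y, rfl, h2⟩)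
    · exact absurd h1 Sum.inr_ne_inl
    · have h2' : (x : X ⧸ M₂) = (y : X ⧸ M₂) := Sum.inr_injective h2
      rw [QuotientGroup.eq] at h2'
      exact ⟨x⁻¹ * y, h2', by rw [mul_inv_cancel_left]⟩
  · rintro ⟨m, hm, rfl⟩
    refine Or.inr ⟨x * m, rfl, ?_⟩
    congr 1
    rw [QuotientGroup.eq]
    simpa using hm

/-- Stabilizer of a left vertex. -/
theorem mem_stabilizer_inl (g x : X) :
    g ∈ MulAction.stabilizer X (Sum.inl (x : X ⧸ M₁) : CosetVertex M₁ M₂) ↔ x⁻¹ * g * x ∈ M₁ := by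
  rw [MulAction.mem_stabilizer_iff, smul_inl_mk]
  constructor
  · intro h
    have h' : ((g * x : X) : X ⧸ M₁) = (x : X ⧸ M₁) := Sum.inl_injective h
    rw [eq_comm, QuotientGroup.eq] at h'
    simpa [mul_assoc] using h'
  · intro h
    congr 1
    rw [eq_comm, QuotientGroup.eq]
    simpa [mul_assoc] using h

/-- Stabilizer of a right vertex. -/
theorem mem_stabilizer_inr (g x : X) :
    g ∈ MulAction.stabilizer X (Sum.inr (x : X ⧸ M₂) : CosetVertex M₁ M₂) ↔ x⁻¹ * g * x ∈ M₂ := by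
  rw [MulAction.mem_stabilizer_iff, smul_inr_mk]
  constructor
  · intro h
    have h' : ((g * x : X) : X ⧸ M₂) = (x : X ⧸ M₂) := Sum.inr_injective h
    rw [eq_comm, QuotientGroup.eq] at h'
    simpa [mul_assoc] using h'
  · intro h
    congr 1
    rw [eq_comm, QuotientGroup.eq]
    simpa [mul_assoc] using h

theorem mem_map_conj_iff (M : Subgroup X) (g x : X) :
    g ∈ M.map (MulAut.conj x).toMonoidHom ↔ x⁻¹ * g * x ∈ M := by
  rw [Subgroup.mem_map]
  constructor
  · rintro ⟨m, hm, rfl⟩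
    simpa [mul_assoc] using hm
  · intro h
    exact ⟨x⁻¹ * g * x, h, by simp [mul_assoc]⟩

theorem stabilizer_inl (x : X) :
    MulAction.stabilizer X (Sum.inl (x : X ⧸ M₁) : CosetVertex M₁ M₂) = M₁.map (MulAut.conj x).toMonoidHom := by
  ext g
  rw [mem_stabilizer_inl, mem_map_conj_iff]

theorem stabilizer_inr (x : X) :
    MulAction.stabilizer X (Sum.inr (x : X ⧸ M₂) : CosetVertex M₁ M₂) = M₂.map (MulAut.conj x).toMonoidHom := by
  ext g
  rw [mem_stabilizer_inr, mem_map_conj_iff]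

end Cfsg.Agent.Helper14

namespace Cfsg.Agent.Helper14

open Cfsg

variable {X : Type*} [Group X] {M₁ M₂ : Subgroup X}

/-- Translation by `g` as a graph homomorphism of the coset graph. -/
def cosetGraphSmulHom (g : X) : cosetGraph M₁ M₂ →g cosetGraph M₁ M₂ where
  toFun := fun a => g • a
  map_rel' := fun h => cosetGraph_adj_smul g h

theorem reachable_smul (g : X) {a b : CosetVertex M₁ M₂} (h : (cosetGraph M₁ M₂).Reachable a b) :
    (cosetGraph M₁ M₂).Reachable (g • a) (g • b) :=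
  h.map (cosetGraphSmulHom g)

theorem reachable_inl_one_of_mem_closure (g : X) (hg : g ∈ Subgroup.closure ((M₁ : Set X) ∪ (M₂ : Set X))) :
    (cosetGraph M₁ M₂).Reachable (Sum.inl ((1 : X) : X ⧸ M₁)) (Sum.inl ((g : X) : X ⧸ M₁)) := by
  induction hg using Subgroup.closure_induction with
  | mem x hx =>
    rcases hx with hx | hx
    · have : ((x : X) : X ⧸ M₁) = ((1 : X) : X ⧸ M₁) := by
        rw [eq_comm, QuotientGroup.eq]; simpa using hx
      rw [this]
    · have h1 : (cosetGraph M₁ M₂).Adj (Sum.inl ((1 : X) : X ⧸ M₁)) (Sum.inr ((1 : X) : X ⧸ M₂)) :=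
        cosetGraph_adj_inl_inr 1
      have h2 : (cosetGraph M₁ M₂).Adj (Sum.inl ((x : X) : X ⧸ M₁)) (Sum.inr ((x : X) : X ⧸ M₂)) :=
        cosetGraph_adj_inl_inr x
      have e : ((x : X) : X ⧸ M₂) = ((1 : X) : X ⧸ M₂) := by
        rw [eq_comm, QuotientGroup.eq]; simpa using hx
      rw [e] at h2
      exact h1.reachable.trans h2.reachable.symm
  | one => exact SimpleGraph.Reachable.refl _
  | mul x y _ _ ihx ihy =>
    have := reachable_smul x ihy
    rw [smul_inl_mk, smul_inl_mk, mul_one] at this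
    exact ihx.trans this
  | inv x _ ihx =>
    have := reachable_smul x⁻¹ ihx
    rw [smul_inl_mk, smul_inl_mk, mul_one, inv_mul_cancel] at this
    exact this.symm

/-- If `M₁` and `M₂` generate `X`, the coset graph is connected. -/
theorem cosetGraph_connected (hgen : M₁ ⊔ M₂ = ⊤) : (cosetGraph M₁ M₂).Connected := by
  have hall : ∀ g : X, g ∈ Subgroup.closure ((M₁ : Set X) ∪ (M₂ : Set X)) := by
    intro g
    rw [← Subgroup.sup_eq_closure, hgen]
    exact Subgroup.mem_top g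
  have hbase : ∀ v : CosetVertex M₁ M₂,
      (cosetGraph M₁ M₂).Reachable (Sum.inl ((1 : X) : X ⧸ M₁)) v := by
    intro v
    rcases v with q | q
    · obtain ⟨x, rfl⟩ := QuotientGroup.mk_surjective q
      exact reachable_inl_one_of_mem_closure x (hall x)
    · obtain ⟨x, rfl⟩ := QuotientGroup.mk_surjective q
      exact (reachable_inl_one_of_mem_closure x (hall x)).trans (cosetGraph_adj_inl_inr x).reachable
  have : Nonempty (CosetVertex M₁ M₂) := ⟨Sum.inl ((1 : X) : X ⧸ M₁)⟩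
  exact ⟨fun u v => (hbase u).symm.trans (hbase v)⟩

end Cfsg.Agent.Helper14

namespace Cfsg.Agent.Helper14

open Cfsg

variable {X : Type*} [Group X] {M₁ M₂ : Subgroup X}

/-- The kernel of the action on the coset graph is trivial when no nontrivial subgroup of `M₁ ⊓ M₂` is normal. -/
theorem eq_one_of_forall_smul_eq (h : ∀ N : Subgroup X, N ≤ M₁ ⊓ M₂ → N.Normal → N = ⊥) (g : X)
    (hg : ∀ v : CosetVertex M₁ M₂, g • v = v) : g = 1 := by
  have hker : (MulAction.toPermHom X (CosetVertex M₁ M₂)).ker = ⊥ := by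
    apply h _ _ (MonoidHom.normal_ker _)
    intro g hg
    rw [MonoidHom.mem_ker] at hg
    have hfix : ∀ v : CosetVertex M₁ M₂, g • v = v := by
      intro v
      have := congrArg (fun σ : Equiv.Perm (CosetVertex M₁ M₂) => σ v) hg
      simpa using this
    refine ⟨?_, ?_⟩
    · have h1 : g ∈ MulAction.stabilizer X (Sum.inl ((1 : X) : X ⧸ M₁) : CosetVertex M₁ M₂) :=
        hfix _
      rw [mem_stabilizer_inl] at h1
      simpa using h1
    · have h1 : g ∈ MulAction.stabilizer X (Sum.inr ((1 : X) : X ⧸ M₂) : CosetVertex M₁ M₂) :=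
        hfix _
      rw [mem_stabilizer_inr] at h1
      simpa using h1
  have : g ∈ (MulAction.toPermHom X (CosetVertex M₁ M₂)).ker := by
    rw [MonoidHom.mem_ker]
    ext v
    simpa using hg v
  rw [hker, Subgroup.mem_bot] at this
  exact this

end Cfsg.Agent.Helper14
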