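import Mathlib
import Cfsg.Prelude.Def_Amalgam
import Cfsg.Agent.Lib.Helper14.Basic
import Cfsg.Agent.Lib.Helper14.CosetGraph
import Cfsg.Agent.Lib.Helper14.Ambient

set_option autoImplicit false

namespace Cfsg.Agent.Helper14

open Cfsg

variable {X : Type*} [Group X]

theorem map_symm_map (φ : X ≃* X) (T : Subgroup X) :
    (T.map φ.symm.toMonoidHom).map φ.toMonoidHom = T := by
  rw [Subgroup.map_map]
  have : φ.toMonoidHom.comp φ.symm.toMonoidHom = MonoidHom.id X := by
    ext x; simp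
  rw [this, Subgroup.map_id]

theorem map_map_symm (φ : X ≃* X) (T : Subgroup X) :
    (T.map φ.toMonoidHom).map φ.symm.toMonoidHom = T := by
  rw [Subgroup.map_map]
  have : φ.symm.toMonoidHom.comp φ.toMonoidHom = MonoidHom.id X := by
    ext x; simp
  rw [this, Subgroup.map_id]

theorem IsSylowOf.of_map_equiv {p : ℕ} {H T : Subgroup X} (φ : X ≃* X)
    (h : IsSylowOf p (H.map φ.toMonoidHom) T) : IsSylowOf p H (T.map φ.symm.toMonoidHom) := by
  have := h.map_equiv φ.symm
  rwa [map_map_symm] at this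

variable {M₁ M₂ : Subgroup X}

/-- Each edge of the coset graph is a translate of the base edge. -/
theorem exists_rep_of_adj {δ μ : CosetVertex M₁ M₂} (h : (cosetGraph M₁ M₂).Adj δ μ) :
    ∃ g : X, (δ = Sum.inl (g : X ⧸ M₁) ∧ μ = Sum.inr (g : X ⧸ M₂)) ∨
      (δ = Sum.inr (g : X ⧸ M₂) ∧ μ = Sum.inl (g : X ⧸ M₁)) := by
  rcases (cosetGraph_adj_iff δ μ).mp h with ⟨x, h1, h2⟩ | ⟨x, h1, h2⟩
  · exact ⟨x, Or.inl ⟨h1, h2⟩⟩
  · exact ⟨x, Or.inr ⟨h2, h1⟩⟩

theorem edgeStabilizer_inl_inr (g : X) :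
    edgeStabilizer (Sum.inl (g : X ⧸ M₁) : CosetVertex M₁ M₂) (Sum.inr (g : X ⧸ M₂)) =
      (M₁ ⊓ M₂).map (MulAut.conj g).toMonoidHom := by
  unfold edgeStabilizer
  rw [stabilizer_inl, stabilizer_inr, Subgroup.map_inf _ _ _ (MulAut.conj g).injective]

theorem edgeStabilizer_comm (δ μ : CosetVertex M₁ M₂) : edgeStabilizer δ μ = edgeStabilizer μ δ := by
  unfold edgeStabilizer; exact inf_comm _ _

section CharP

variable {p : ℕ} [Fact p.Prime]

omit [Fact p.Prime] in
theorem charPPair_stabilizer_finite (h : IsCharPAmalgamPair p M₁ M₂) (δ : CosetVertex M₁ M₂) :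
    Finite ↥(MulAction.stabilizer X δ) := by
  obtain ⟨_, hf1, hf2, _⟩ := h
  rcases δ with q | q
  · obtain ⟨g, rfl⟩ := QuotientGroup.mk_surjective q
    rw [stabilizer_inl]
    exact Finite.of_equiv _ (mapEquiv (MulAut.conj g) M₁).toEquiv
  · obtain ⟨g, rfl⟩ := QuotientGroup.mk_surjective q
    rw [stabilizer_inr]
    exact Finite.of_equiv _ (mapEquiv (MulAut.conj g) M₂).toEquiv

omit [Fact p.Prime] in
theorem charPPair_stabilizer_charP (h : IsCharPAmalgamPair p M₁ M₂) (δ : CosetVertex M₁ M₂) :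
    Subgroup.centralizer (pCore p ↥(MulAction.stabilizer X δ) : Set ↥(MulAction.stabilizer X δ)) ≤
      pCore p ↥(MulAction.stabilizer X δ) := by
  obtain ⟨_, _, _, _, _, _, hc1, hc2⟩ := h
  rcases δ with q | q
  · obtain ⟨g, rfl⟩ := QuotientGroup.mk_surjective q
    rw [stabilizer_inl]
    exact charP_map_equiv (MulAut.conj g) hc1
  · obtain ⟨g, rfl⟩ := QuotientGroup.mk_surjective q
    rw [stabilizer_inr]
    exact charP_map_equiv (MulAut.conj g) hc2

/-- A Sylow `p`-subgroup of an edge stabilizer is a Sylow `p`-subgroup of the vertex stabilizer. -/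
theorem charPPair_isSylowOf_edge (h : IsCharPAmalgamPair p M₁ M₂) {δ μ : CosetVertex M₁ M₂}
    (hadj : (cosetGraph M₁ M₂).Adj δ μ) {T : Subgroup X} (hT : IsSylowOf p (edgeStabilizer δ μ) T) :
    IsSylowOf p (MulAction.stabilizer X δ) T := by
  obtain ⟨_, hf1, hf2, _, _, hsyl, _, _⟩ := h
  obtain ⟨g, ⟨rfl, rfl⟩ | ⟨rfl, rfl⟩⟩ := exists_rep_of_adj hadj
  · rw [edgeStabilizer_inl_inr] at hT
    rw [stabilizer_inl]
    have h1 := hT.of_map_equiv (MulAut.conj g)
    have h2 : IsSylowOf p M₁ (T.map (MulAut.conj g).symm.toMonoidHom) :=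
      IsSylowOf.of_le_of_card inf_le_left (fun S P => (hsyl S P (Classical.arbitrary _)).1) h1
    have := h2.map_equiv (MulAut.conj g)
    rwa [map_symm_map] at this
  · rw [edgeStabilizer_comm, edgeStabilizer_inl_inr] at hT
    rw [stabilizer_inr]
    have h1 := hT.of_map_equiv (MulAut.conj g)
    have h2 : IsSylowOf p M₂ (T.map (MulAut.conj g).symm.toMonoidHom) :=
      IsSylowOf.of_le_of_card inf_le_right (fun S P => (hsyl S (Classical.arbitrary _) P).2) h1
    have := h2.map_equiv (MulAut.conj g)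
    rwa [map_symm_map] at this

/-- An edge stabilizer has a Sylow `p`-subgroup (in the ambient sense). -/
theorem exists_isSylowOf (p : ℕ) (H : Subgroup X) : ∃ T, IsSylowOf p H T :=
  ⟨_, ⟨Classical.arbitrary (Sylow p ↥H), rfl⟩⟩

/-- `Q_δ` fixes every neighbour of `δ`. -/
theorem charPPair_vertexQ_le_stabilizer_of_adj (h : IsCharPAmalgamPair p M₁ M₂)
    {δ μ : CosetVertex M₁ M₂} (hadj : (cosetGraph M₁ M₂).Adj δ μ) :
    vertexQ p δ ≤ MulAction.stabilizer X μ := by
  obtain ⟨T, hT⟩ := exists_isSylowOf p (edgeStabilizer δ μ)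
  have h1 := charPPair_isSylowOf_edge h hadj hT
  exact (pCoreOf_le_of_isSylowOf h1).trans (hT.le.trans inf_le_right)

theorem charPPair_vertexQ_le_neighbourKernel (h : IsCharPAmalgamPair p M₁ M₂)
    (δ : CosetVertex M₁ M₂) : vertexQ p δ ≤ neighbourKernel δ := by
  unfold neighbourKernel
  refine le_inf (pCoreOf_le p _) ?_
  refine le_iInf₂ ?_
  intro μ hμ
  exact charPPair_vertexQ_le_stabilizer_of_adj h hμ

end CharP

end Cfsg.Agent.Helper14
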