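import Mathlib
import Cfsg.Prelude.Def_Amalgam
import Cfsg.Agent.Lib.Helper14.Amalgam

set_option autoImplicit false

namespace Cfsg.Agent.Helper14

open Cfsg
open scoped commutatorElement

/-- In a connected graph, a vertex at distance `n+1` has a neighbour at distance `n` from the target. -/
theorem exists_adj_dist_eq {V : Type*} {G : SimpleGraph V} (hc : G.Connected) {u v : V} {n : ℕ}
    (h : G.dist u v = n + 1) : ∃ w, G.Adj u w ∧ G.dist w v = n := by
  obtain ⟨p, hp⟩ := hc.exists_walk_length_eq_dist u v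
  rw [h] at hp
  cases p with
  | nil => simp at hp
  | @cons _ w _ hadj q =>
    refine ⟨w, hadj, ?_⟩
    have hq : q.length = n := by simpa using hp
    have h1 : G.dist w v ≤ n := hq ▸ SimpleGraph.dist_le q
    have h2 : G.dist u v ≤ G.dist u w + G.dist w v := hc.dist_triangle
    have h3 : G.dist u w = 1 := SimpleGraph.dist_eq_one_iff_adj.mpr hadj
    omega

variable {X : Type*} [Group X]

/-- If conjugation by elements of `H` maps `Z` into itself then `H` normalizes `Z`. -/
theorem le_normalizer_of_conj_mem {H Z : Subgroup X} (h : ∀ g ∈ H, ∀ z ∈ Z, g * z * g⁻¹ ∈ Z) :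
    H ≤ Subgroup.normalizer (Z : Set X) := by
  intro g hg
  rw [Subgroup.mem_normalizer_iff]
  intro z
  constructor
  · exact h g hg z
  · intro hz
    have := h g⁻¹ (H.inv_mem hg) _ hz
    simpa [mul_assoc] using this

/-- If `K` normalizes `Z` then `[Z, K] ≤ Z`. -/
theorem commutator_le_of_le_normalizer {Z K : Subgroup X} (h : K ≤ Subgroup.normalizer (Z : Set X)) :
    ⁅Z, K⁆ ≤ Z := by
  rw [Subgroup.commutator_le]
  intro z hz k hk
  have hk' := h hk
  rw [Subgroup.mem_normalizer_iff] at hk'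
  have : k * z⁻¹ * k⁻¹ ∈ Z := (hk' z⁻¹).mp (Z.inv_mem hz)
  have e : ⁅z, k⁆ = z * (k * z⁻¹ * k⁻¹) := by rw [commutatorElement_def]; group
  rw [e]; exact Z.mul_mem hz this

/-- If `Z` normalizes `K` then `[Z, K] ≤ K`. -/
theorem commutator_le_of_le_normalizer' {Z K : Subgroup X} (h : Z ≤ Subgroup.normalizer (K : Set X)) :
    ⁅Z, K⁆ ≤ K := by
  rw [Subgroup.commutator_le]
  intro z hz k hk
  have hz' := h hz
  rw [Subgroup.mem_normalizer_iff] at hz'
  have : z * k * z⁻¹ ∈ K := (hz' k).mp hk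
  have e : ⁅z, k⁆ = (z * k * z⁻¹) * k⁻¹ := by rw [commutatorElement_def]
  rw [e]; exact K.mul_mem this (K.inv_mem hk)

/-- `Ω₁(Z(T))` for a subgroup `T` of the ambient group. -/
def omegaZ (p : ℕ) (T : Subgroup X) : Subgroup X :=
  omegaOne p (T ⊓ Subgroup.centralizer (T : Set X))

theorem omegaOne_le (p : ℕ) (K : Subgroup X) : omegaOne p K ≤ K := by
  unfold omegaOne
  rw [Subgroup.closure_le]
  intro x hx
  exact hx.1

theorem omegaOne_mono (p : ℕ) {K L : Subgroup X} (h : K ≤ L) : omegaOne p K ≤ omegaOne p L := by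
  unfold omegaOne
  apply Subgroup.closure_mono
  intro x hx
  exact ⟨h hx.1, hx.2⟩

theorem omegaZ_le (p : ℕ) (T : Subgroup X) : omegaZ p T ≤ T :=
  (omegaOne_le p _).trans inf_le_left

theorem omegaZ_le_centralizer (p : ℕ) (T : Subgroup X) : omegaZ p T ≤ Subgroup.centralizer (T : Set X) :=
  (omegaOne_le p _).trans inf_le_right

theorem omegaOne_map_equiv (p : ℕ) (φ : X ≃* X) (K : Subgroup X) :
    omegaOne p (K.map φ.toMonoidHom) = (omegaOne p K).map φ.toMonoidHom := by
  unfold omegaOne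
  rw [MonoidHom.map_closure]
  congr 1
  ext x
  constructor
  · rintro ⟨⟨y, hy, rfl⟩, hx⟩
    refine ⟨y, ⟨hy, ?_⟩, rfl⟩
    apply φ.injective
    simpa using hx
  · rintro ⟨y, ⟨hy, hyp⟩, rfl⟩
    refine ⟨⟨y, hy, rfl⟩, ?_⟩
    show (φ y) ^ p = 1
    rw [← map_pow, hyp, map_one]

theorem centralizer_map_equiv (φ : X ≃* X) (K : Subgroup X) :
    Subgroup.centralizer ((K.map φ.toMonoidHom : Subgroup X) : Set X) =
      (Subgroup.centralizer (K : Set X)).map φ.toMonoidHom := by
  ext x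
  constructor
  · intro hx
    rw [Subgroup.mem_centralizer_iff] at hx
    rw [Subgroup.mem_map]
    refine ⟨φ.symm x, ?_, by simp⟩
    rw [Subgroup.mem_centralizer_iff]
    intro k hk
    have := hx (φ k) ⟨k, hk, rfl⟩
    apply φ.injective
    simpa using this
  · intro hx
    rw [Subgroup.mem_map] at hx
    obtain ⟨y, hy, rfl⟩ := hx
    rw [Subgroup.mem_centralizer_iff] at hy ⊢
    rintro _ ⟨k, hk, rfl⟩
    have := hy k hk
    show φ k * φ y = φ y * φ k
    rw [← map_mul, ← map_mul, this]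

theorem omegaZ_map_equiv (p : ℕ) (φ : X ≃* X) (T : Subgroup X) :
    omegaZ p (T.map φ.toMonoidHom) = (omegaZ p T).map φ.toMonoidHom := by
  unfold omegaZ
  rw [centralizer_map_equiv, ← Subgroup.map_inf _ _ _ φ.injective, omegaOne_map_equiv]

theorem omegaZ_le_sylowCenterClosure {p : ℕ} {H T : Subgroup X} (h : IsSylowOf p H T) :
    omegaZ p T ≤ sylowCenterClosure p H := by
  obtain ⟨S, rfl⟩ := h
  unfold sylowCenterClosure omegaZ
  exact le_iSup (fun S : Sylow p H => omegaOne p (((S : Subgroup H).map H.subtype) ⊓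
      Subgroup.centralizer (((S : Subgroup H).map H.subtype : Subgroup X) : Set X))) S

theorem sylowCenterClosure_le_iff {p : ℕ} {H K : Subgroup X} :
    sylowCenterClosure p H ≤ K ↔ ∀ T, IsSylowOf p H T → omegaZ p T ≤ K := by
  constructor
  · intro h T hT
    exact (omegaZ_le_sylowCenterClosure hT).trans h
  · intro h
    unfold sylowCenterClosure
    apply iSup_le
    intro S
    exact h _ ⟨S, rfl⟩

theorem map_conj_eq_self_of_mem {H : Subgroup X} {g : X} (hg : g ∈ H) :
    H.map (MulAut.conj g).toMonoidHom = H := by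
  ext x
  rw [mem_map_conj_iff]
  constructor
  · intro h
    have := H.mul_mem (H.mul_mem hg h) (H.inv_mem hg)
    simpa [mul_assoc] using this
  · intro h
    exact H.mul_mem (H.mul_mem (H.inv_mem hg) h) hg

theorem IsSylowOf.conj_mem {p : ℕ} {H T : Subgroup X} (h : IsSylowOf p H T) {g : X} (hg : g ∈ H) :
    IsSylowOf p H (T.map (MulAut.conj g).toMonoidHom) := by
  have := h.map_equiv (MulAut.conj g)
  rwa [map_conj_eq_self_of_mem hg] at this

/-- `H` normalizes `Z_H`. -/
theorem le_normalizer_sylowCenterClosure (p : ℕ) (H : Subgroup X) :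
    H ≤ Subgroup.normalizer (sylowCenterClosure p H : Set X) := by
  apply le_normalizer_of_conj_mem
  intro g hg z hz
  have hle : (sylowCenterClosure p H).map (MulAut.conj g).toMonoidHom ≤ sylowCenterClosure p H := by
    rw [Subgroup.map_le_iff_le_comap, sylowCenterClosure_le_iff]
    intro T hT
    rw [← Subgroup.map_le_iff_le_comap, ← omegaZ_map_equiv]
    exact omegaZ_le_sylowCenterClosure (hT.conj_mem hg)
  have := hle (Subgroup.mem_map_of_mem _ hz)
  simpa using this

/-- For a subgroup of characteristic `p`, `Z_H ≤ O_p(H)`. -/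
theorem sylowCenterClosure_le_pCoreOf {p : ℕ} {H : Subgroup X}
    (hchar : Subgroup.centralizer (pCore p H : Set H) ≤ pCore p H) :
    sylowCenterClosure p H ≤ pCoreOf p H := by
  rw [sylowCenterClosure_le_iff]
  intro T hT
  have h1 : omegaZ p T ≤ H := (omegaZ_le p T).trans hT.le
  have h2 : omegaZ p T ≤ Subgroup.centralizer (pCoreOf p H : Set X) :=
    (omegaZ_le_centralizer p T).trans (Subgroup.centralizer_le (pCoreOf_le_of_isSylowOf hT))
  exact (le_inf h1 h2).trans (charP_iff_ambient.mp hchar)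

/-- Sylow's conjugacy theorem in the ambient form. -/
theorem IsSylowOf.exists_conj {p : ℕ} [Fact p.Prime] {H T T' : Subgroup X} [Finite H]
    (h1 : IsSylowOf p H T) (h2 : IsSylowOf p H T') :
    ∃ g ∈ H, T' = T.map (MulAut.conj g).toMonoidHom := by
  obtain ⟨P, rfl⟩ := h1
  obtain ⟨Q, rfl⟩ := h2
  obtain ⟨g, hg⟩ := MulAction.exists_smul_eq (↥H) P Q
  refine ⟨g, g.2, ?_⟩
  rw [← hg]
  ext x
  constructor
  · rintro ⟨y, hy, rfl⟩
    rw [SetLike.mem_coe, Sylow.coe_subgroup_smul, Subgroup.mem_smul_pointwise_iff_exists] at hy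
    obtain ⟨s, hs, rfl⟩ := hy
    exact ⟨(s : X), ⟨s, hs, rfl⟩, by simp [MulAut.smul_def]⟩
  · rintro ⟨y, ⟨s, hs, rfl⟩, rfl⟩
    refine ⟨g * s * g⁻¹, ?_, by simp⟩
    rw [SetLike.mem_coe, Sylow.coe_subgroup_smul, Subgroup.mem_smul_pointwise_iff_exists]
    exact ⟨s, hs, by simp [MulAut.smul_def]⟩

theorem map_conj_eq_self_of_le_normalizer {H Z : Subgroup X} (hn : H ≤ Subgroup.normalizer (Z : Set X))
    {g : X} (hg : g ∈ H) : Z.map (MulAut.conj g).toMonoidHom = Z := by
  have hg' := hn hg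
  ext x
  rw [mem_map_conj_iff]
  have hginv : g⁻¹ ∈ Subgroup.normalizer (Z : Set X) := Subgroup.inv_mem _ hg'
  rw [Subgroup.mem_normalizer_iff] at hginv
  have := hginv x
  simp only [inv_inv] at this
  exact this.symm

/-- If `Z_H = Ω₁(Z(T))` for one Sylow `p`-subgroup `T` of the finite group `H`, then for all of them. -/
theorem omegaZ_eq_sylowCenterClosure_of_eq {p : ℕ} [Fact p.Prime] {H T T' : Subgroup X} [Finite H]
    (h1 : IsSylowOf p H T) (h2 : IsSylowOf p H T') (heq : sylowCenterClosure p H = omegaZ p T) :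
    sylowCenterClosure p H = omegaZ p T' := by
  obtain ⟨g, hg, rfl⟩ := h1.exists_conj h2
  rw [omegaZ_map_equiv, ← heq, map_conj_eq_self_of_le_normalizer (le_normalizer_sylowCenterClosure p H) hg]

section Critical

variable {M₁ M₂ : Subgroup X} {p : ℕ}

theorem charPPair_connected (h : IsCharPAmalgamPair p M₁ M₂) : (cosetGraph M₁ M₂).Connected :=
  cosetGraph_connected h.1.1

theorem charPPair_vertexZ_le_vertexQ (h : IsCharPAmalgamPair p M₁ M₂) (δ : CosetVertex M₁ M₂) :
    vertexZ p δ ≤ vertexQ p δ :=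
  sylowCenterClosure_le_pCoreOf (charPPair_stabilizer_charP h δ)

theorem charPPair_vertexZ_le_neighbourKernel [Fact p.Prime] (h : IsCharPAmalgamPair p M₁ M₂)
    (δ : CosetVertex M₁ M₂) : vertexZ p δ ≤ neighbourKernel δ :=
  (charPPair_vertexZ_le_vertexQ h δ).trans (charPPair_vertexQ_le_neighbourKernel h δ)

theorem neighbourKernel_le_stabilizer (δ : CosetVertex M₁ M₂) :
    neighbourKernel δ ≤ MulAction.stabilizer X δ := inf_le_left

theorem neighbourKernel_le_stabilizer_of_adj {δ μ : CosetVertex M₁ M₂}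
    (hadj : (cosetGraph M₁ M₂).Adj δ μ) : neighbourKernel δ ≤ MulAction.stabilizer X μ := by
  unfold neighbourKernel
  exact inf_le_right.trans (iInf₂_le μ hadj)

theorem vertexZ_le_of_dist_lt {δ μ : CosetVertex M₁ M₂}
    (hlt : (cosetGraph M₁ M₂).dist δ μ < criticalDistance p M₁ M₂) :
    vertexZ p δ ≤ neighbourKernel μ := by
  by_contra hcon
  have hmem : (cosetGraph M₁ M₂).dist δ μ ∈
      {n : ℕ | ∃ δ μ : CosetVertex M₁ M₂, (cosetGraph M₁ M₂).dist δ μ = n ∧ ¬ vertexZ p δ ≤ neighbourKernel μ} :=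
    ⟨δ, μ, rfl, hcon⟩
  exact Nat.notMem_of_lt_sInf hlt hmem

theorem criticalPair_ne [Fact p.Prime] (h : IsCharPAmalgamPair p M₁ M₂) {α α' : CosetVertex M₁ M₂}
    (hc : IsCriticalPair p α α') : α ≠ α' := by
  rintro rfl
  exact hc.1 (charPPair_vertexZ_le_neighbourKernel h α)

theorem criticalDistance_pos [Fact p.Prime] (h : IsCharPAmalgamPair p M₁ M₂) {α α' : CosetVertex M₁ M₂}
    (hc : IsCriticalPair p α α') : 1 ≤ criticalDistance p M₁ M₂ := by
  rw [← hc.2]
  exact (charPPair_connected h).pos_dist_of_ne (criticalPair_ne h hc)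

/-- On a geodesic from `α` to `α'` there is a neighbour `β` of `α` one step closer to `α'`. -/
theorem criticalPair_exists_adj [Fact p.Prime] (h : IsCharPAmalgamPair p M₁ M₂) {α α' : CosetVertex M₁ M₂}
    (hc : IsCriticalPair p α α') :
    ∃ β, (cosetGraph M₁ M₂).Adj α β ∧ (cosetGraph M₁ M₂).dist β α' + 1 = criticalDistance p M₁ M₂ := by
  have hpos := criticalDistance_pos h hc
  obtain ⟨n, hn⟩ : ∃ n, criticalDistance p M₁ M₂ = n + 1 := ⟨criticalDistance p M₁ M₂ - 1, by omega⟩
  have hd : (cosetGraph M₁ M₂).dist α α' = n + 1 := by rw [hc.2, hn]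
  obtain ⟨β, hadj, hβ⟩ := exists_adj_dist_eq (charPPair_connected h) hd
  exact ⟨β, hadj, by rw [hβ, hn]⟩

theorem criticalPair_exists_adj' [Fact p.Prime] (h : IsCharPAmalgamPair p M₁ M₂) {α α' : CosetVertex M₁ M₂}
    (hc : IsCriticalPair p α α') :
    ∃ β, (cosetGraph M₁ M₂).Adj α' β ∧ (cosetGraph M₁ M₂).dist β α + 1 = criticalDistance p M₁ M₂ := by
  have hpos := criticalDistance_pos h hc
  obtain ⟨n, hn⟩ : ∃ n, criticalDistance p M₁ M₂ = n + 1 := ⟨criticalDistance p M₁ M₂ - 1, by omega⟩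
  have hd : (cosetGraph M₁ M₂).dist α' α = n + 1 := by rw [SimpleGraph.dist_comm, hc.2, hn]
  obtain ⟨β, hadj, hβ⟩ := exists_adj_dist_eq (charPPair_connected h) hd
  exact ⟨β, hadj, by rw [hβ, hn]⟩

end Critical

end Cfsg.Agent.Helper14
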