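import Mathlib
import Cfsg.Prelude.Def_Amalgam
import Cfsg.Agent.Lib.Helper14.AmalgamZ

set_option autoImplicit false

namespace Cfsg.Agent.Helper14

open Cfsg

variable {X : Type*} [Group X]

/-- Intrinsic characterization of the Sylow `p`-subgroups of `H` inside the ambient group. -/
theorem isSylowOf_iff {p : ℕ} {H T : Subgroup X} :
    IsSylowOf p H T ↔ T ≤ H ∧ IsPGroup p T ∧
      ∀ Q : Subgroup X, IsPGroup p Q → T ≤ Q → Q ≤ H → Q = T := by
  constructor
  · intro h
    refine ⟨h.le, h.isPGroup, ?_⟩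
    obtain ⟨P, rfl⟩ := h
    intro Q hQ hTQ hQH
    have h1 : IsPGroup p (Q.subgroupOf H) := hQ.comap_of_injective _ (Subgroup.subtype_injective H)
    have h2 : (P : Subgroup ↥H) ≤ Q.subgroupOf H := by
      intro x hx
      rw [Subgroup.mem_subgroupOf]
      exact hTQ ⟨x, hx, rfl⟩
    have h3 := P.is_maximal' h1 h2
    rw [← h3, Subgroup.map_subgroupOf_eq_of_le hQH]
  · rintro ⟨hTH, hTp, hmax⟩
    have hp' : IsPGroup p (T.subgroupOf H) := hTp.comap_of_injective _ (Subgroup.subtype_injective H)
    refine ⟨⟨T.subgroupOf H, hp', ?_⟩, Subgroup.map_subgroupOf_eq_of_le hTH⟩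
    intro Q' hQ' hle
    have h1 : IsPGroup p (Q'.map H.subtype) := hQ'.map _
    have h2 : T ≤ Q'.map H.subtype := by
      intro x hx
      exact ⟨⟨x, hTH hx⟩, hle (by rw [Subgroup.mem_subgroupOf]; exact hx), rfl⟩
    have h3 := hmax _ h1 h2 (Subgroup.map_subtype_le _)
    rw [← h3]
    ext y
    rw [Subgroup.mem_subgroupOf]
    constructor
    · intro hy
      exact ⟨y, hy, rfl⟩
    · rintro ⟨z, hz, hzy⟩
      have : z = y := Subtype.ext hzy
      rwa [← this]

theorem IsSylowOf.of_le {p : ℕ} {H L T : Subgroup X} (h : IsSylowOf p H T) (hTL : T ≤ L) (hLH : L ≤ H) :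
    IsSylowOf p L T := by
  rw [isSylowOf_iff] at h ⊢
  exact ⟨hTL, h.2.1, fun Q hQ hTQ hQL => h.2.2 Q hQ hTQ (hQL.trans hLH)⟩

/-! ### The subgroup generated by the `p`-elements -/

theorem pElementClosure_le (p : ℕ) (H : Subgroup X) : pElementClosure p H ≤ H := by
  unfold pElementClosure
  rw [Subgroup.closure_le]
  intro x hx
  exact hx.1

theorem le_pElementClosure {p : ℕ} [Fact p.Prime] {H T : Subgroup X} (hTH : T ≤ H) (hT : IsPGroup p T) :
    T ≤ pElementClosure p H := by
  intro x hx
  apply Subgroup.subset_closure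
  refine ⟨hTH hx, ?_⟩
  obtain ⟨k, hk⟩ := (IsPGroup.iff_orderOf.mp hT) ⟨x, hx⟩
  exact ⟨k, by rw [← hk, Subgroup.orderOf_mk]⟩

theorem pElementClosure_map_equiv (p : ℕ) (φ : X ≃* X) (H : Subgroup X) :
    pElementClosure p (H.map φ.toMonoidHom) = (pElementClosure p H).map φ.toMonoidHom := by
  unfold pElementClosure
  rw [MonoidHom.map_closure]
  congr 1
  ext x
  constructor
  · rintro ⟨⟨y, hy, rfl⟩, k, hk⟩
    refine ⟨y, ⟨hy, k, ?_⟩, rfl⟩
    rw [← hk]
    exact (orderOf_injective φ.toMonoidHom φ.injective y).symm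
  · rintro ⟨y, ⟨hy, k, hk⟩, rfl⟩
    refine ⟨⟨y, hy, rfl⟩, k, ?_⟩
    rw [← hk]
    exact orderOf_injective φ.toMonoidHom φ.injective y

/-- `H` normalizes `O^{p'}(H)`. -/
theorem le_normalizer_pElementClosure (p : ℕ) (H : Subgroup X) :
    H ≤ Subgroup.normalizer (pElementClosure p H : Set X) := by
  apply le_normalizer_of_conj_mem
  intro g hg z hz
  have hle : (pElementClosure p H).map (MulAut.conj g).toMonoidHom ≤ pElementClosure p H := by
    rw [← pElementClosure_map_equiv, map_conj_eq_self_of_mem hg]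
  have := hle (Subgroup.mem_map_of_mem _ hz)
  simpa using this

/-- Frattini argument in the ambient form. -/
theorem frattini_ambient {p : ℕ} [Fact p.Prime] {H L T : Subgroup X} [Finite H]
    (hLH : L ≤ H) (hnorm : H ≤ Subgroup.normalizer (L : Set X)) (hT : IsSylowOf p H T) (hTL : T ≤ L) :
    ∀ h ∈ H, ∃ l ∈ L, ∃ n ∈ H ⊓ Subgroup.normalizer (T : Set X), h = l * n := by
  intro h hh
  have : Finite L := Finite.of_injective (Subgroup.inclusion hLH) (Subgroup.inclusion_injective hLH)
  have hTL' : IsSylowOf p L T := hT.of_le hTL hLH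
  have hconj : IsSylowOf p L (T.map (MulAut.conj h).toMonoidHom) := by
    have h1 := hT.conj_mem hh
    refine h1.of_le ?_ hLH
    have : T.map (MulAut.conj h).toMonoidHom ≤ L.map (MulAut.conj h).toMonoidHom := Subgroup.map_mono hTL
    rwa [map_conj_eq_self_of_le_normalizer hnorm hh] at this
  obtain ⟨l, hl, hleq⟩ := hTL'.exists_conj hconj
  refine ⟨l, hl, l⁻¹ * h, ?_, by group⟩
  refine Subgroup.mem_inf.mpr ⟨H.mul_mem (H.inv_mem (hLH hl)) hh, ?_⟩
  -- conj (l⁻¹ h) T = T
  have hfix : T.map (MulAut.conj (l⁻¹ * h)).toMonoidHom = T := by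
    have e : (MulAut.conj (l⁻¹ * h)).toMonoidHom =
        (MulAut.conj l⁻¹).toMonoidHom.comp (MulAut.conj h).toMonoidHom := by
      ext x; simp [mul_assoc]
    rw [e, ← Subgroup.map_map, hleq, Subgroup.map_map]
    have e2 : (MulAut.conj l⁻¹).toMonoidHom.comp (MulAut.conj l).toMonoidHom = MonoidHom.id X := by
      ext x; simp [mul_assoc]
    rw [e2, Subgroup.map_id]
  rw [Subgroup.mem_normalizer_iff]
  intro t
  constructor
  · intro ht
    have : (MulAut.conj (l⁻¹ * h)).toMonoidHom t ∈ T.map (MulAut.conj (l⁻¹ * h)).toMonoidHom :=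
      Subgroup.mem_map_of_mem _ ht
    rw [hfix] at this
    simpa only [MulEquiv.coe_toMonoidHom, MulAut.conj_apply] using this
  · intro ht
    rw [← hfix] at ht
    obtain ⟨t', ht', heq⟩ := ht
    have : t' = t := by
      simp only [MulEquiv.coe_toMonoidHom, MulAut.conj_apply] at heq
      exact mul_left_cancel (mul_right_cancel heq)
    rwa [← this]

theorem conj_mul_map (a b : X) (U : Subgroup X) :
    U.map (MulAut.conj (a * b)).toMonoidHom =
      (U.map (MulAut.conj b).toMonoidHom).map (MulAut.conj a).toMonoidHom := by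
  rw [Subgroup.map_map]
  congr 1
  ext x; simp [mul_assoc]

/-- The join of the `B`-conjugates of `U`. -/
def conjClosure (B U : Subgroup X) : Subgroup X :=
  ⨆ b : B, U.map (MulAut.conj (b : X)).toMonoidHom

theorem le_conjClosure (B U : Subgroup X) : U ≤ conjClosure B U := by
  have h := le_iSup (fun b : B => U.map (MulAut.conj (b : X)).toMonoidHom) 1
  have e : U.map (MulAut.conj ((1 : B) : X)).toMonoidHom = U := by
    ext x
    rw [mem_map_conj_iff]
    simp
  rw [e] at h
  exact h

theorem conjClosure_le {B U K : Subgroup X}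
    (h : ∀ b ∈ B, U.map (MulAut.conj b).toMonoidHom ≤ K) : conjClosure B U ≤ K := by
  unfold conjClosure
  apply iSup_le
  intro b
  exact h b b.2

theorem conjClosure_le_of_le_normalizer {B U T : Subgroup X} (hUT : U ≤ T)
    (hB : B ≤ Subgroup.normalizer (T : Set X)) : conjClosure B U ≤ T := by
  apply conjClosure_le
  intro b hb
  calc U.map (MulAut.conj b).toMonoidHom ≤ T.map (MulAut.conj b).toMonoidHom := Subgroup.map_mono hUT
    _ = T := map_conj_eq_self_of_le_normalizer hB hb

theorem le_normalizer_conjClosure (B U : Subgroup X) :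
    B ≤ Subgroup.normalizer (conjClosure B U : Set X) := by
  apply le_normalizer_of_conj_mem
  intro c hc z hz
  have hle : (conjClosure B U).map (MulAut.conj c).toMonoidHom ≤ conjClosure B U := by
    unfold conjClosure
    rw [Subgroup.map_iSup]
    apply iSup_le
    intro b
    rw [← conj_mul_map]
    exact le_iSup (fun b : B => U.map (MulAut.conj (b : X)).toMonoidHom) ⟨c * b, B.mul_mem hc b.2⟩
  have := hle (Subgroup.mem_map_of_mem _ hz)
  simpa using this

theorem le_normalizer_conjClosure_of {B U L : Subgroup X}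
    (hBL : B ≤ Subgroup.normalizer (L : Set X)) (hLU : L ≤ Subgroup.normalizer (U : Set X)) :
    L ≤ Subgroup.normalizer (conjClosure B U : Set X) := by
  apply le_normalizer_of_conj_mem
  intro l hl z hz
  have hle : (conjClosure B U).map (MulAut.conj l).toMonoidHom ≤ conjClosure B U := by
    unfold conjClosure
    rw [Subgroup.map_iSup]
    apply iSup_le
    intro b
    have hb' : (b : X)⁻¹ * l * (b : X) ∈ L := by
      have hbn := hBL (B.inv_mem b.2)
      rw [Subgroup.mem_normalizer_iff] at hbn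
      have := (hbn l).mp hl
      simpa using this
    have e : l * (b : X) = (b : X) * ((b : X)⁻¹ * l * (b : X)) := by group
    rw [← conj_mul_map, e, conj_mul_map, map_conj_eq_self_of_le_normalizer hLU hb']
    exact le_iSup (fun b : B => U.map (MulAut.conj (b : X)).toMonoidHom) b
  have := hle (Subgroup.mem_map_of_mem _ hz)
  simpa using this

end Cfsg.Agent.Helper14
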