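import Mathlib
import Cfsg.Prelude.Def_Amalgam
import Cfsg.Agent.Lib.Helper14.Frattini

set_option autoImplicit false

namespace Cfsg.Agent.Helper14

open Cfsg

variable {X : Type*} [Group X]

/-- `H` normalizes `K` as soon as each conjugate of `K` by an element of `H` lies in `K`. -/
theorem le_normalizer_of_map_conj_le {H K : Subgroup X}
    (h : ∀ g ∈ H, K.map (MulAut.conj g).toMonoidHom ≤ K) : H ≤ Subgroup.normalizer (K : Set X) := by
  apply le_normalizer_of_conj_mem
  intro g hg z hz
  have := h g hg (Subgroup.mem_map_of_mem _ hz)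
  simpa using this

theorem le_normalizer_centralizer_of_le_normalizer {H K : Subgroup X}
    (h : H ≤ Subgroup.normalizer (K : Set X)) :
    H ≤ Subgroup.normalizer (Subgroup.centralizer (K : Set X) : Set X) := by
  apply le_normalizer_of_map_conj_le
  intro g hg
  rw [← centralizer_map_equiv, map_conj_eq_self_of_le_normalizer h hg]

theorem le_normalizer_inf {H A B : Subgroup X} (hA : H ≤ Subgroup.normalizer (A : Set X))
    (hB : H ≤ Subgroup.normalizer (B : Set X)) : H ≤ Subgroup.normalizer ((A ⊓ B : Subgroup X) : Set X) := by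
  apply le_normalizer_of_map_conj_le
  intro g hg
  rw [Subgroup.map_inf _ _ _ (MulAut.conj g).injective, map_conj_eq_self_of_le_normalizer hA hg,
    map_conj_eq_self_of_le_normalizer hB hg]

theorem le_normalizer_omegaOne {p : ℕ} {H K : Subgroup X} (h : H ≤ Subgroup.normalizer (K : Set X)) :
    H ≤ Subgroup.normalizer (omegaOne p K : Set X) := by
  apply le_normalizer_of_map_conj_le
  intro g hg
  rw [← omegaOne_map_equiv, map_conj_eq_self_of_le_normalizer h hg]

theorem center_eq_bot_of_inf_centralizer_eq_bot {K : Subgroup X}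
    (h : K ⊓ Subgroup.centralizer (K : Set X) = ⊥) : Subgroup.center ↥K = ⊥ := by
  rw [eq_bot_iff]
  intro z hz
  rw [Subgroup.mem_center_iff] at hz
  have hz' : (z : X) ∈ K ⊓ Subgroup.centralizer (K : Set X) := by
    refine Subgroup.mem_inf.mpr ⟨z.2, ?_⟩
    rw [Subgroup.mem_centralizer_iff]
    intro k hk
    exact congrArg Subtype.val (hz ⟨k, hk⟩)
  rw [h, Subgroup.mem_bot] at hz'
  rw [Subgroup.mem_bot]
  exact Subtype.ext hz'

/-- A finite `p`-group with no element of order `p` is trivial, in the `Ω₁` form. -/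
theorem eq_bot_of_omegaOne_eq_bot {p : ℕ} [hp : Fact p.Prime] {K : Subgroup X} (hK : IsPGroup p K)
    (h : omegaOne p K = ⊥) : K = ⊥ := by
  rw [eq_bot_iff]
  intro x hx
  rw [Subgroup.mem_bot]
  by_contra hne
  obtain ⟨k, hk⟩ := (IsPGroup.iff_orderOf.mp hK) ⟨x, hx⟩
  rw [Subgroup.orderOf_mk] at hk
  have hk0 : k ≠ 0 := by
    rintro rfl
    rw [pow_zero, orderOf_eq_one_iff] at hk
    exact hne hk
  obtain ⟨j, rfl⟩ : ∃ j, k = j + 1 := ⟨k - 1, by omega⟩
  have hy : x ^ (p ^ j) ∈ omegaOne p K := by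
    apply Subgroup.subset_closure
    refine ⟨K.pow_mem hx _, ?_⟩
    rw [← pow_mul, ← pow_succ, ← hk, pow_orderOf_eq_one]
  rw [h, Subgroup.mem_bot] at hy
  have hdvd : orderOf x ∣ p ^ j := orderOf_dvd_of_pow_eq_one hy
  rw [hk] at hdvd
  have := Nat.le_of_dvd (pow_pos hp.out.pos j) hdvd
  have hlt : p ^ j < p ^ (j + 1) := Nat.pow_lt_pow_right hp.out.one_lt (Nat.lt_succ_self j)
  omega

end Cfsg.Agent.Helper14
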