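import Mathlib
import Cfsg.Agent.Lib.Helper14.Ambient
import Cfsg.Agent.Lib.Helper14.AmalgamZ
import Cfsg.Agent.Lib.Helper14.Normalize

set_option autoImplicit false

namespace Cfsg.Agent.Helper14

open Cfsg

variable {X : Type*} [Group X]

/-- If `c = [r, x]` commutes with `x`, is a `p`-element, and `x` has order prime to `p`, then `r` and `x` commute. -/
theorem commute_of_commutator_commute' {p : ℕ} (r x : X) (j : ℕ)
    (hcx : Commute (r * x * r⁻¹ * x⁻¹) x) (hc : (r * x * r⁻¹ * x⁻¹) ^ (p ^ j) = 1)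
    (hx : (orderOf x).Coprime p) : r * x = x * r := by
  set c := r * x * r⁻¹ * x⁻¹ with hcdef
  have h1 : r * x * r⁻¹ = c * x := by rw [hcdef]; group
  have h2 : (r * x * r⁻¹) ^ (orderOf x) = 1 := by
    rw [conj_pow, pow_orderOf_eq_one]; group
  have h3 : c ^ (orderOf x) = 1 := by
    rw [h1, hcx.mul_pow, pow_orderOf_eq_one, mul_one] at h2
    exact h2
  have h4 : c = 1 := eq_one_of_pow_eq_one_of_coprime h3 hc (Nat.Coprime.pow_right j hx)
  have : r * x * r⁻¹ = x := by rw [h1, h4, one_mul]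
  calc r * x = r * x * r⁻¹ * r := by group
    _ = x * r := by rw [this]

/-- An element of a `p`-subgroup of order prime to `p` is trivial. -/
theorem eq_one_of_mem_pGroup_of_coprime {p : ℕ} {Q : Subgroup X} (hQ : IsPGroup p Q) {x : X} (hx : x ∈ Q)
    (hc : (orderOf x).Coprime p) : x = 1 := by
  obtain ⟨j, hj⟩ := hQ ⟨x, hx⟩
  have hj' : x ^ (p ^ j) = 1 := by
    have := congrArg Subtype.val hj
    simpa using this
  exact eq_one_of_pow_eq_one_of_coprime (pow_orderOf_eq_one _) hj' (Nat.Coprime.pow_right j hc)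

/-- Characteristic `p` from the absence of `p'`-elements in `C_H(O_p(H))` (ambient form). -/
theorem charP_ambient_of_pprime_trivial {p : ℕ} [Fact p.Prime] {H : Subgroup X} [Finite H]
    (h : ∀ x ∈ H ⊓ Subgroup.centralizer (pCoreOf p H : Set X), (orderOf x).Coprime p → x = 1) :
    H ⊓ Subgroup.centralizer (pCoreOf p H : Set X) ≤ pCoreOf p H := by
  have hfin : Finite ↥(H ⊓ Subgroup.centralizer (pCoreOf p H : Set X)) :=
    Finite.of_injective (Subgroup.inclusion (inf_le_left : H ⊓ Subgroup.centralizer (pCoreOf p H : Set X) ≤ H))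
      (Subgroup.inclusion_injective _)
  apply le_pCoreOf inf_le_left
  · exact le_normalizer_inf Subgroup.le_normalizer
      (le_normalizer_centralizer_of_le_normalizer (le_normalizer_pCoreOf p H))
  · apply isPGroup_of_pprime_elements_trivial
    intro x hx
    apply Subtype.ext
    apply h x x.2
    rwa [Subgroup.orderOf_coe]

/-- A normal subgroup of a finite group of characteristic `p` has characteristic `p` (ambient form). -/
theorem charP_ambient_of_normal {p : ℕ} [Fact p.Prime] [Finite X]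
    (hchar : Subgroup.centralizer (pCore p X : Set X) ≤ pCore p X) {H : Subgroup X} (hH : H.Normal) :
    H ⊓ Subgroup.centralizer (pCoreOf p H : Set X) ≤ pCoreOf p H := by
  apply charP_ambient_of_pprime_trivial
  intro x hx hxc
  obtain ⟨hxH, hxQ⟩ := Subgroup.mem_inf.mp hx
  have hOn : (pCore p X).Normal := Subgroup.sSup_normal _ (fun K hK => hK.1)
  have hOp : IsPGroup p (pCore p X) := pCore_isPGroup p X
  -- O_p(X) ∩ H ≤ O_p(H)
  have hle : pCore p X ⊓ H ≤ pCoreOf p H := by
    apply le_pCoreOf inf_le_right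
    · have hn : (pCore p X ⊓ H).Normal := Subgroup.normal_inf_normal _ _
      rw [Subgroup.normalizer_eq_top_iff.mpr hn]
      exact le_top
    · exact hOp.to_le inf_le_left
  have hxcent : x ∈ Subgroup.centralizer (pCore p X : Set X) := by
    rw [Subgroup.mem_centralizer_iff]
    intro r hr
    have hc1 : r * x * r⁻¹ * x⁻¹ ∈ pCore p X := by
      have : x * r⁻¹ * x⁻¹ ∈ pCore p X := hOn.conj_mem _ (Subgroup.inv_mem _ hr) x
      have e : r * x * r⁻¹ * x⁻¹ = r * (x * r⁻¹ * x⁻¹) := by group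
      rw [e]
      exact Subgroup.mul_mem _ hr this
    have hc2 : r * x * r⁻¹ * x⁻¹ ∈ H :=
      Subgroup.mul_mem _ (hH.conj_mem _ hxH r) (Subgroup.inv_mem _ hxH)
    have hcQ : r * x * r⁻¹ * x⁻¹ ∈ pCoreOf p H := hle (Subgroup.mem_inf.mpr ⟨hc1, hc2⟩)
    have hcomm : Commute (r * x * r⁻¹ * x⁻¹) x :=
      ((Subgroup.mem_centralizer_iff.mp hxQ) _ hcQ)
    obtain ⟨j, hj⟩ := hOp ⟨_, hc1⟩
    have hj' : (r * x * r⁻¹ * x⁻¹) ^ (p ^ j) = 1 := by
      have := congrArg Subtype.val hj
      simpa using this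
    exact commute_of_commutator_commute' r x j hcomm hj' hxc
  exact eq_one_of_mem_pGroup_of_coprime hOp (hchar hxcent) hxc

end Cfsg.Agent.Helper14
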