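import Mathlib
import Cfsg.Prelude.Def_LocalStructure
import Cfsg.Agent.Lib.Helper14.Basic

set_option autoImplicit false

namespace Cfsg.Agent.Helper14

open Cfsg

variable {L : Type*} [Group L]

/-- `D` acts as a `p`-group modulo `N`: some `p`-power of each element of `D` lies in `N`. -/
def PowCond (p : ℕ) (D N : Subgroup L) : Prop := ∀ d ∈ D, ∃ k : ℕ, d ^ (p ^ k) ∈ N

theorem PowCond.mono_right {p : ℕ} {D N N' : Subgroup L} (h : PowCond p D N) (hN : N ≤ N') :
    PowCond p D N' := fun d hd => let ⟨k, hk⟩ := h d hd; ⟨k, hN hk⟩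

theorem PowCond.mono_left {p : ℕ} {D D' N : Subgroup L} (h : PowCond p D N) (hD : D' ≤ D) :
    PowCond p D' N := fun d hd => h d (hD hd)

theorem powCond_of_isPGroup {p : ℕ} {D : Subgroup L} (hD : IsPGroup p D) (N : Subgroup L) :
    PowCond p D N := by
  intro d hd
  obtain ⟨k, hk⟩ := hD ⟨d, hd⟩
  refine ⟨k, ?_⟩
  have : d ^ (p ^ k) = 1 := by
    have := congrArg Subtype.val hk
    simpa using this
  rw [this]
  exact N.one_mem

theorem powCond_iff_isPGroup_map {p : ℕ} (D N : Subgroup L) [N.Normal] :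
    PowCond p D N ↔ IsPGroup p (D.map (QuotientGroup.mk' N)) := by
  constructor
  · intro h x
    obtain ⟨x, d, hd, rfl⟩ := x
    obtain ⟨k, hk⟩ := h d hd
    refine ⟨k, ?_⟩
    apply Subtype.ext
    show (QuotientGroup.mk' N d) ^ (p ^ k) = 1
    rw [← map_pow]
    exact (QuotientGroup.eq_one_iff _).mpr hk
  · intro h d hd
    obtain ⟨k, hk⟩ := h ⟨QuotientGroup.mk' N d, Subgroup.mem_map_of_mem _ hd⟩
    refine ⟨k, ?_⟩
    have hk' : (QuotientGroup.mk' N d) ^ (p ^ k) = 1 := by
      have := congrArg Subtype.val hk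
      simpa using this
    rw [← map_pow] at hk'
    exact (QuotientGroup.eq_one_iff _).mp hk'

theorem PowCond.sup {p : ℕ} {D N : Subgroup L} [N.Normal] (h : PowCond p D N) : PowCond p (D ⊔ N) N := by
  rw [powCond_iff_isPGroup_map] at h ⊢
  rw [Subgroup.map_sup, QuotientGroup.map_mk'_self, sup_bot_eq]
  exact h

/-- If `O_p(L/N) = 1`, a normal subgroup acting as a `p`-group modulo `N` lies in `N`. -/
theorem le_of_pCore_quotient_eq_bot' {p : ℕ} (N : Subgroup L) [N.Normal]
    (h : pCore p (L ⧸ N) = ⊥) (D : Subgroup L) (hD : D.Normal) (hp : PowCond p D N) : D ≤ N := by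
  rw [powCond_iff_isPGroup_map] at hp
  have hn : (D.map (QuotientGroup.mk' N)).Normal :=
    Subgroup.Normal.map hD _ (QuotientGroup.mk'_surjective N)
  have hle : D.map (QuotientGroup.mk' N) ≤ ⊥ := h ▸ le_pCore hn hp
  intro d hd
  have : QuotientGroup.mk' N d ∈ (⊥ : Subgroup (L ⧸ N)) := hle (Subgroup.mem_map_of_mem _ hd)
  rw [Subgroup.mem_bot] at this
  exact (QuotientGroup.eq_one_iff d).mp this

/-- Converse: if every normal subgroup acting as a `p`-group modulo `N` lies in `N`, then `O_p(L/N) = 1`. -/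
theorem pCore_quotient_eq_bot_of {p : ℕ} (N : Subgroup L) [N.Normal]
    (h : ∀ D : Subgroup L, D.Normal → PowCond p D N → D ≤ N) : pCore p (L ⧸ N) = ⊥ := by
  rw [eq_bot_iff]
  set D := (pCore p (L ⧸ N)).comap (QuotientGroup.mk' N) with hD
  have hPn : (pCore p (L ⧸ N)).Normal := Subgroup.sSup_normal _ (fun H hH => hH.1)
  have hDn : D.Normal := Subgroup.Normal.comap hPn _
  have hDp : PowCond p D N := by
    intro d hd
    have hd' : QuotientGroup.mk' N d ∈ pCore p (L ⧸ N) := hd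
    obtain ⟨k, hk⟩ := pCore_isPGroup p (L ⧸ N) ⟨_, hd'⟩
    refine ⟨k, ?_⟩
    have hk' : (QuotientGroup.mk' N d) ^ (p ^ k) = 1 := by
      have := congrArg Subtype.val hk
      simpa using this
    rw [← map_pow] at hk'
    exact (QuotientGroup.eq_one_iff _).mp hk'
  have hDN := h D hDn hDp
  intro x hx
  obtain ⟨d, rfl⟩ := QuotientGroup.mk'_surjective _ x
  have hd : d ∈ D := hx
  rw [Subgroup.mem_bot]
  exact (QuotientGroup.eq_one_iff d).mpr (hDN hd)

/-- Intrinsic characterization of `p`-reduced normal subgroups. -/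
theorem isPReducedNormal_iff {p : ℕ} (V : Subgroup L) :
    IsPReducedNormal p V ↔ V.Normal ∧ IsElementaryAbelian p V ∧
      ∀ D : Subgroup L, D.Normal → PowCond p D (Subgroup.centralizer (V : Set L)) →
        D ≤ Subgroup.centralizer (V : Set L) := by
  constructor
  · rintro ⟨hVn, hVe, hCn, hO⟩
    exact ⟨hVn, hVe, fun D hD hp => le_of_pCore_quotient_eq_bot' _ hO D hD hp⟩
  · rintro ⟨hVn, hVe, h⟩
    have hCn : (Subgroup.centralizer (V : Set L)).Normal := Subgroup.normal_centralizer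
    exact ⟨hVn, hVe, hCn, pCore_quotient_eq_bot_of _ h⟩

/-- Sylow factorization: a normal subgroup acting as a `p`-group modulo the normal subgroup `N` lies in `T N`. -/
theorem exists_mul_of_powCond {p : ℕ} [Fact p.Prime] [Finite L] (T : Sylow p L) {D N : Subgroup L} [N.Normal]
    (hD : D.Normal) (h : PowCond p D N) : ∀ d ∈ D, ∃ t ∈ T, ∃ n ∈ N, d = t * n := by
  rw [powCond_iff_isPGroup_map] at h
  have hn : (D.map (QuotientGroup.mk' N)).Normal :=
    Subgroup.Normal.map hD _ (QuotientGroup.mk'_surjective N)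
  have hle := h.le_sylow_of_normal (T.mapSurjective (QuotientGroup.mk'_surjective N))
  intro d hd
  have h1 : QuotientGroup.mk' N d ∈ (T : Subgroup L).map (QuotientGroup.mk' N) :=
    hle (Subgroup.mem_map_of_mem _ hd)
  obtain ⟨t, ht, htd⟩ := h1
  refine ⟨t, ht, t⁻¹ * d, ?_, by group⟩
  have : QuotientGroup.mk' N (t⁻¹ * d) = 1 := by
    rw [map_mul, map_inv, htd, inv_mul_cancel]
  exact (QuotientGroup.eq_one_iff _).mp this

/-- The elements of order dividing `p` in the centre of `Q`, as a subgroup. -/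
def omegaCenter' (p : ℕ) (Q : Subgroup L) : Subgroup L where
  carrier := {a | a ∈ Q ∧ a ∈ Subgroup.centralizer (Q : Set L) ∧ a ^ p = 1}
  one_mem' := ⟨Subgroup.one_mem _, Subgroup.one_mem _, one_pow _⟩
  mul_mem' := by
    rintro a b ⟨ha, hac, hap⟩ ⟨hb, hbc, hbp⟩
    refine ⟨Subgroup.mul_mem _ ha hb, Subgroup.mul_mem _ hac hbc, ?_⟩
    have hcomm : Commute a b := (Subgroup.mem_centralizer_iff.mp hbc) a ha
    rw [hcomm.mul_pow, hap, hbp, one_mul]
  inv_mem' := by
    rintro a ⟨ha, hac, hap⟩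
    exact ⟨Subgroup.inv_mem _ ha, Subgroup.inv_mem _ hac, by rw [inv_pow, hap, inv_one]⟩

theorem omegaCenter'_comm (p : ℕ) (Q : Subgroup L) {a b : L}
    (ha : a ∈ omegaCenter' p Q) (hb : b ∈ omegaCenter' p Q) : a * b = b * a :=
  (Subgroup.mem_centralizer_iff.mp hb.2.1) a ha.1

theorem omegaCenter'_normal (p : ℕ) {Q : Subgroup L} (hQ : Q.Normal) : (omegaCenter' p Q).Normal := by
  constructor
  rintro a ⟨ha, hac, hap⟩ g
  have hCn : (Subgroup.centralizer (Q : Set L)).Normal := Subgroup.normal_centralizer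
  refine ⟨hQ.conj_mem a ha g, hCn.conj_mem a hac g, ?_⟩
  rw [conj_pow, hap]; group

theorem isElementaryAbelian_of_le_omegaCenter' {p : ℕ} {Q V : Subgroup L} (h : V ≤ omegaCenter' p Q) :
    IsElementaryAbelian p V :=
  ⟨⟨⟨fun a b => Subtype.ext (omegaCenter'_comm p Q (h a.2) (h b.2))⟩⟩, fun a ha => (h ha).2.2⟩

theorem IsElementaryAbelian.isPGroup {p : ℕ} {V : Subgroup L} (h : IsElementaryAbelian p V) : IsPGroup p V := by
  intro a
  refine ⟨1, ?_⟩
  apply Subtype.ext
  simpa using h.2 a a.2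

end Cfsg.Agent.Helper14
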