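import Mathlib
import Cfsg.Agent.Lib.Helper14.PReduced
import Cfsg.Agent.Lib.Helper14.CharP
import Cfsg.Agent.Lib.Helper19.SubnormalCore
import Cfsg.Agent.Lib.Helper22.PResidual

set_option autoImplicit false

namespace Cfsg.Agent.Helper14

open Cfsg

universe u

variable {L : Type u} [Group L]

/-- A subnormal `p`-subgroup of a finite group lies in `O_p`. -/
theorem subnormal_isPGroup_le_pCore {p : ℕ} [Fact p.Prime] [Finite L] {A : Subgroup L} (hA : A.IsSubnormal)
    (hp : IsPGroup p A) : A ≤ pCore p L := by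
  have := Cfsg.Agent.Helper19.subnormal_le_qCore (Q := fun (H : Type u) [Group H] => IsPGroup p H)
    (fun H H' _ _ e h => h.of_equiv e)
    (fun H _ => IsPGroup.of_bot)
    (fun H _ _ M N hM hN hMp hNp => by
      haveI := hN
      exact hMp.to_sup_of_normal_right hNp)
    (Nat.card L) L rfl A hA hp
  exact this

/-- Every element of a finite group has a `p`-power power of order prime to `p`. -/
theorem exists_pow_orderOf_coprime {p : ℕ} [hp : Fact p.Prime] {G : Type*} [Group G] [Finite G] (g : G) :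
    ∃ a : ℕ, (orderOf (g ^ (p ^ a))).Coprime p := by
  have hpos : 0 < orderOf g := orderOf_pos g
  obtain ⟨a, m, hm, hgm⟩ := Nat.exists_eq_pow_mul_and_not_dvd hpos.ne' p hp.out.ne_one
  refine ⟨a, ?_⟩
  have hcop : Nat.Coprime m p := ((Nat.Prime.coprime_iff_not_dvd hp.out).mpr hm).symm
  have hord : orderOf (g ^ (p ^ a)) = m := by
    rw [orderOf_pow' g (pow_ne_zero a hp.out.ne_zero), hgm, Nat.gcd_eq_right (Dvd.intro _ rfl)]
    exact Nat.mul_div_cancel_left m (pow_pos hp.out.pos a)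
  rw [hord]
  exact hcop

/-- In a subnormal subgroup `K`, a subgroup normalized by `K` and acting as a `p`-group on the `p`-reduced normal
subgroup `V` centralizes `V`. -/
theorem le_centralizer_of_subnormal {p : ℕ} [Fact p.Prime] [Finite L] {V : Subgroup L}
    (hV : IsPReducedNormal p V) {K : Subgroup L} (hK : K.IsSubnormal) {D : Subgroup L} (hDK : D ≤ K)
    (hKD : K ≤ Subgroup.normalizer (D : Set L)) (hp : PowCond p D (Subgroup.centralizer (V : Set L))) :
    D ≤ Subgroup.centralizer (V : Set L) := by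
  obtain ⟨hVn, hVe, hCn, hO⟩ := hV
  rw [powCond_iff_isPGroup_map] at hp
  set f := QuotientGroup.mk' (Subgroup.centralizer (V : Set L)) with hf
  have hfs : Function.Surjective f := QuotientGroup.mk'_surjective _
  have hKs : (K.map f).IsSubnormal := hK.map hfs
  have hDKm : D.map f ≤ K.map f := Subgroup.map_mono hDK
  have hn : ((D.map f).subgroupOf (K.map f)).Normal := by
    rw [Subgroup.normal_subgroupOf_iff_le_normalizer hDKm]
    exact (Subgroup.map_mono hKD).trans (Subgroup.le_normalizer_map f)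
  have hDs : (D.map f).IsSubnormal := Subgroup.IsSubnormal.step _ _ hDKm hKs hn
  have hle := subnormal_isPGroup_le_pCore hDs hp
  rw [hO, le_bot_iff] at hle
  intro d hd
  have h1 : f d ∈ D.map f := Subgroup.mem_map_of_mem _ hd
  rw [hle, Subgroup.mem_bot] at h1
  exact (QuotientGroup.eq_one_iff d).mp h1

/-- Stability modulo a subgroup: if `c = [v, x]` is a `p`-element with `[c, x] ∈ W`, `x` has order prime to `p`, and
`v`, `x` normalize `W`, then `c ∈ W`. -/
theorem commutator_mem_of_commutator_commutator_mem {p : ℕ} {W : Subgroup L} {v x : L}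
    (hv : v ∈ Subgroup.normalizer (W : Set L)) (hx : x ∈ Subgroup.normalizer (W : Set L))
    (hxc : (orderOf x).Coprime p) (k : ℕ) (hc : (v * x * v⁻¹ * x⁻¹) ^ (p ^ k) = 1)
    (hcc : (v * x * v⁻¹ * x⁻¹) * x * (v * x * v⁻¹ * x⁻¹)⁻¹ * x⁻¹ ∈ W) :
    v * x * v⁻¹ * x⁻¹ ∈ W := by
  set N := Subgroup.normalizer (W : Set L) with hN
  set W' := W.subgroupOf N with hW'
  have hW'n : W'.Normal := Subgroup.normal_in_normalizer
  set v' : ↥N := ⟨v, hv⟩
  set x' : ↥N := ⟨x, hx⟩
  set r := QuotientGroup.mk' W' v'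
  set y := QuotientGroup.mk' W' x'
  have hy : (orderOf y).Coprime p := by
    have h1 : orderOf y ∣ orderOf x' := orderOf_map_dvd _ x'
    have h2 : orderOf x' = orderOf x := Subgroup.orderOf_mk x hx
    rw [h2] at h1
    exact Nat.Coprime.coprime_dvd_left h1 hxc
  have hcy : (r * y * r⁻¹ * y⁻¹) ^ (p ^ k) = 1 := by
    have : r * y * r⁻¹ * y⁻¹ = QuotientGroup.mk' W' (v' * x' * v'⁻¹ * x'⁻¹) := by
      simp only [map_mul, map_inv, r, y]
    rw [this, ← map_pow]
    have h3 : (v' * x' * v'⁻¹ * x'⁻¹) ^ (p ^ k) = 1 := Subtype.ext hc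
    rw [h3, map_one]
  have hcomm : Commute (r * y * r⁻¹ * y⁻¹) y := by
    have h4 : QuotientGroup.mk' W' ((v' * x' * v'⁻¹ * x'⁻¹) * x' * (v' * x' * v'⁻¹ * x'⁻¹)⁻¹ * x'⁻¹) = 1 := by
      exact (QuotientGroup.eq_one_iff _).mpr (Subgroup.mem_subgroupOf.mpr hcc)
    simp only [map_mul, map_inv] at h4
    show (r * y * r⁻¹ * y⁻¹) * y = y * (r * y * r⁻¹ * y⁻¹)
    have h5 : (r * y * r⁻¹ * y⁻¹) * y * (r * y * r⁻¹ * y⁻¹)⁻¹ * y⁻¹ = 1 := h4
    calc (r * y * r⁻¹ * y⁻¹) * y
        = ((r * y * r⁻¹ * y⁻¹) * y * (r * y * r⁻¹ * y⁻¹)⁻¹ * y⁻¹) * (y * (r * y * r⁻¹ * y⁻¹)) := by group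
      _ = y * (r * y * r⁻¹ * y⁻¹) := by rw [h5, one_mul]
  have hry := commute_of_commutator_commute' r y k hcomm hcy hy
  have h6 : QuotientGroup.mk' W' (v' * x' * v'⁻¹ * x'⁻¹) = 1 := by
    simp only [map_mul, map_inv]
    show r * y * r⁻¹ * y⁻¹ = 1
    rw [hry]; group
  exact Subgroup.mem_subgroupOf.mp ((QuotientGroup.eq_one_iff _).mp h6)

/-- Centralizers in a subgroup versus the ambient group. -/
theorem mem_centralizer_subgroupOf_iff {W R : Subgroup L} (hWR : W ≤ R) (r : ↥R) :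
    r ∈ Subgroup.centralizer ((W.subgroupOf R : Subgroup ↥R) : Set ↥R) ↔
      (r : L) ∈ Subgroup.centralizer (W : Set L) := by
  rw [Subgroup.mem_centralizer_iff, Subgroup.mem_centralizer_iff]
  constructor
  · intro h w hw
    exact congrArg Subtype.val (h ⟨w, hWR hw⟩ (Subgroup.mem_subgroupOf.mpr hw))
  · intro h x hx
    apply Subtype.ext
    exact h (x : L) (Subgroup.mem_subgroupOf.mp hx)

/-- The image in the ambient group of a normal subgroup of `R` is normalized by `R`. -/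
theorem le_normalizer_map_subtype_of_normal {R : Subgroup L} {D' : Subgroup ↥R} (h : D'.Normal) :
    R ≤ Subgroup.normalizer ((D'.map R.subtype : Subgroup L) : Set L) := by
  apply le_normalizer_of_conj_mem
  rintro r hr _ ⟨d, hd, rfl⟩
  exact ⟨⟨r, hr⟩ * d * ⟨r, hr⟩⁻¹, h.conj_mem d hd ⟨r, hr⟩, rfl⟩

/-- A `p'`-element of a subnormal subgroup `K` commutates the abelian normal `p`-subgroup `V` into `K`. -/
theorem comm_mem_of_subnormal {p : ℕ} {V : Subgroup L} (hVn : V.Normal)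
    (hVc : ∀ a ∈ V, ∀ b ∈ V, a * b = b * a) (hVp : IsPGroup p V) {K : Subgroup L} (hK : K.IsSubnormal) :
    ∀ x ∈ K, (orderOf x).Coprime p → ∀ v ∈ V, v * x * v⁻¹ * x⁻¹ ∈ K := by
  induction hK with
  | top => intros; exact Subgroup.mem_top _
  | step H K' hle hsub hN ih =>
    intro x hxH hxc v hv
    have hxK' := hle hxH
    have hcK' := ih x hxK' hxc v hv
    have hcV : v * x * v⁻¹ * x⁻¹ ∈ V := by
      have e : v * x * v⁻¹ * x⁻¹ = v * (x * v⁻¹ * x⁻¹) := by group
      rw [e]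
      exact V.mul_mem hv (hVn.conj_mem _ (V.inv_mem hv) x)
    have hvN : v ∈ Subgroup.normalizer ((V ⊓ H : Subgroup L) : Set L) := by
      apply Subgroup.centralizer_le_normalizer
      rw [Subgroup.mem_centralizer_iff]
      intro h hh
      exact hVc h (Subgroup.mem_inf.mp hh).1 v hv
    have hxN : x ∈ Subgroup.normalizer ((V ⊓ H : Subgroup L) : Set L) := by
      have h1 : H ≤ Subgroup.normalizer ((V ⊓ H : Subgroup L) : Set L) := by
        apply le_normalizer_inf _ Subgroup.le_normalizer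
        rw [Subgroup.normalizer_eq_top_iff.mpr hVn]
        exact le_top
      exact h1 hxH
    obtain ⟨k, hk⟩ := hVp ⟨_, hcV⟩
    have hk' : (v * x * v⁻¹ * x⁻¹) ^ (p ^ k) = 1 := by
      have := congrArg Subtype.val hk
      simpa using this
    have hcc : (v * x * v⁻¹ * x⁻¹) * x * (v * x * v⁻¹ * x⁻¹)⁻¹ * x⁻¹ ∈ V ⊓ H := by
      refine Subgroup.mem_inf.mpr ⟨?_, ?_⟩
      · have e : (v * x * v⁻¹ * x⁻¹) * x * (v * x * v⁻¹ * x⁻¹)⁻¹ * x⁻¹ =
            (v * x * v⁻¹ * x⁻¹) * (x * (v * x * v⁻¹ * x⁻¹)⁻¹ * x⁻¹) := by group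
        rw [e]
        exact V.mul_mem hcV (hVn.conj_mem _ (V.inv_mem hcV) x)
      · have h2 := hN.conj_mem ⟨x, hxK'⟩ (Subgroup.mem_subgroupOf.mpr hxH) ⟨_, hcK'⟩
        have h3 : (v * x * v⁻¹ * x⁻¹) * x * (v * x * v⁻¹ * x⁻¹)⁻¹ ∈ H := Subgroup.mem_subgroupOf.mp h2
        exact H.mul_mem h3 (H.inv_mem hxH)
    exact (Subgroup.mem_inf.mp
      (commutator_mem_of_commutator_commutator_mem hvN hxN hxc k hk' hcc)).2

end Cfsg.Agent.Helper14
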