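import Mathlib
import Cfsg.Agent.Lib.Helper14.PReducedSub

set_option autoImplicit false

namespace Cfsg.Agent.Helper14

open Cfsg

variable {H : Type*} [Group H]

/-- A subgroup acting as a `p`-group on a nontrivial finite `p`-subgroup `B` has a nontrivial fixed point in `B`. -/
theorem inf_centralizer_ne_bot_of_powCond {p : ℕ} [Fact p.Prime] {B D : Subgroup H} [Finite B] (hB : IsPGroup p B)
    (hne : B ≠ ⊥) (hDB : D ≤ Subgroup.normalizer (B : Set H))
    (hp : PowCond p D (Subgroup.centralizer (B : Set H))) : B ⊓ Subgroup.centralizer (D : Set H) ≠ ⊥ := by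
  set ψ := B.normalizerMonoidHom with hψ
  set P : Subgroup (MulAut ↥B) := (D.subgroupOf (Subgroup.normalizer (B : Set H))).map ψ with hP
  have hPp : IsPGroup p P := by
    rintro ⟨g, d, hd, rfl⟩
    obtain ⟨k, hk⟩ := hp (d : H) (Subgroup.mem_subgroupOf.mp hd)
    refine ⟨k, ?_⟩
    apply Subtype.ext
    show (ψ d) ^ (p ^ k) = 1
    rw [← map_pow, ← MonoidHom.mem_ker, Subgroup.normalizerMonoidHom_ker]
    exact Subgroup.mem_subgroupOf.mpr hk
  have hcard : p ∣ Nat.card ↥B := by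
    rcases hB.card_eq_or_dvd with h1 | h1
    · exact absurd (Subgroup.card_eq_one.mp h1) hne
    · exact h1
  have h1 : (1 : ↥B) ∈ MulAction.fixedPoints ↥P ↥B := by
    intro g
    exact smul_one _
  obtain ⟨b, hb, hb1⟩ := hPp.exists_fixed_point_of_prime_dvd_card_of_fixed_point ↥B hcard h1
  intro hbot
  apply hb1
  have hmem : (b : H) ∈ B ⊓ Subgroup.centralizer (D : Set H) := by
    refine Subgroup.mem_inf.mpr ⟨b.2, ?_⟩
    rw [Subgroup.mem_centralizer_iff]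
    intro d hd
    have hfix := hb ⟨ψ ⟨d, hDB hd⟩, ⟨d, hDB hd⟩, Subgroup.mem_subgroupOf.mpr hd, rfl⟩
    have h2 : (ψ ⟨d, hDB hd⟩) b = b := hfix
    have h3 : d * (b : H) * d⁻¹ = (b : H) := congrArg Subtype.val h2
    calc d * (b : H) = (d * (b : H) * d⁻¹) * d := by group
      _ = (b : H) * d := by rw [h3]
  rw [hbot, Subgroup.mem_bot] at hmem
  exact (Subtype.ext hmem).symm

/-- Thompson's `A × B` lemma for an abelian `p`-group `Z`, in the ambient form: `x` is a `p'`-element normalizing `Z`,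
`D` normalizes `Z` and acts on it as a `p`-group commuting with the action of `x`; if `x` centralizes `C_Z(D)` then `x`
centralizes `Z`. -/
theorem axb {p : ℕ} [Fact p.Prime] [Finite H] {Z D : Subgroup H} (hZc : ∀ a ∈ Z, ∀ b ∈ Z, a * b = b * a)
    (hZp : IsPGroup p Z) {x : H} (hxZ : x ∈ Subgroup.normalizer (Z : Set H)) (hxc : (orderOf x).Coprime p)
    (hDZ : D ≤ Subgroup.normalizer (Z : Set H)) (hp : PowCond p D (Subgroup.centralizer (Z : Set H)))
    (hcomm : ∀ d ∈ D, d * x * d⁻¹ * x⁻¹ ∈ Subgroup.centralizer (Z : Set H))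
    (hfix : ∀ z ∈ Z ⊓ Subgroup.centralizer (D : Set H), z * x = x * z) :
    ∀ v ∈ Z, v * x = x * v := by
  have hconj : ∀ v ∈ Z, x * v * x⁻¹ ∈ Z := fun v hv => (Subgroup.mem_normalizer_iff.mp hxZ v).mp hv
  have hphi : ∀ v ∈ Z, v * x * v⁻¹ * x⁻¹ ∈ Z := by
    intro v hv
    have e : v * x * v⁻¹ * x⁻¹ = v * (x * v⁻¹ * x⁻¹) := by group
    rw [e]
    exact Z.mul_mem hv (hconj _ (Z.inv_mem hv))
  -- the commutator map as a homomorphism
  let φ : ↥Z →* H :=
    { toFun := fun v => (v : H) * x * (v : H)⁻¹ * x⁻¹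
      map_one' := by simp
      map_mul' := by
        intro a b
        have h1 : x * (b : H)⁻¹ * x⁻¹ ∈ Z := hconj _ (Z.inv_mem b.2)
        have h2 : x * (a : H)⁻¹ * x⁻¹ ∈ Z := hconj _ (Z.inv_mem a.2)
        have e1 : ((a * b : ↥Z) : H) * x * ((a * b : ↥Z) : H)⁻¹ * x⁻¹ =
            (a : H) * ((b : H) * (x * (b : H)⁻¹ * x⁻¹)) * (x * (a : H)⁻¹ * x⁻¹) := by
          simp only [Subgroup.coe_mul]; group
        have e2 : (a : H) * x * (a : H)⁻¹ * x⁻¹ * ((b : H) * x * (b : H)⁻¹ * x⁻¹) =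
            (a : H) * (x * (a : H)⁻¹ * x⁻¹) * ((b : H) * (x * (b : H)⁻¹ * x⁻¹)) := by group
        rw [e1, e2, mul_assoc (a : H), mul_assoc (a : H)]
        congr 1
        exact hZc _ (Z.mul_mem b.2 h1) _ h2 }
  set B := φ.range with hB
  have hBZ : B ≤ Z := by
    rintro _ ⟨v, rfl⟩
    exact hphi v v.2
  have hBp : IsPGroup p B := hZp.to_le hBZ
  -- D normalizes B
  have hDB : D ≤ Subgroup.normalizer (B : Set H) := by
    apply le_normalizer_of_conj_mem
    rintro d hd _ ⟨v, rfl⟩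
    have hv' : d * (v : H) * d⁻¹ ∈ Z := (Subgroup.mem_normalizer_iff.mp (hDZ hd) v).mp v.2
    refine ⟨⟨d * (v : H) * d⁻¹, hv'⟩, ?_⟩
    show d * (v : H) * d⁻¹ * x * (d * (v : H) * d⁻¹)⁻¹ * x⁻¹ = d * ((v : H) * x * (v : H)⁻¹ * x⁻¹) * d⁻¹
    set c := d * x * d⁻¹ * x⁻¹ with hc
    have hcC := hcomm d hd
    rw [Subgroup.mem_centralizer_iff] at hcC
    set v' := d * (v : H) * d⁻¹ with hv'def
    have h1 : v' * c = c * v' := hcC v' hv'
    have h2 : (v' * x * v'⁻¹ * x⁻¹) * c = c * (v' * x * v'⁻¹ * x⁻¹) := hcC _ (hphi v' hv')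
    have e : d * ((v : H) * x * (v : H)⁻¹ * x⁻¹) * d⁻¹ = v' * (c * x) * v'⁻¹ * (c * x)⁻¹ := by
      rw [hv'def, hc]; group
    rw [e]
    have e2 : v' * (c * x) * v'⁻¹ * (c * x)⁻¹ = (v' * c) * (x * v'⁻¹ * x⁻¹) * c⁻¹ := by group
    rw [e2, h1]
    have e3 : c * v' * (x * v'⁻¹ * x⁻¹) * c⁻¹ = c * (v' * x * v'⁻¹ * x⁻¹) * c⁻¹ := by group
    rw [e3, ← h2]; group
  have hDpB : PowCond p D (Subgroup.centralizer (B : Set H)) :=
    hp.mono_right (Subgroup.centralizer_le hBZ)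
  -- B is trivial
  have hBbot : B = ⊥ := by
    by_contra hne
    have := inf_centralizer_ne_bot_of_powCond hBp hne hDB hDpB
    apply this
    rw [eq_bot_iff]
    intro b hb
    obtain ⟨hbB, hbD⟩ := Subgroup.mem_inf.mp hb
    obtain ⟨v, rfl⟩ := hbB
    have hbx := hfix _ (Subgroup.mem_inf.mpr ⟨hphi v v.2, hbD⟩)
    obtain ⟨k, hk⟩ := hZp ⟨_, hphi v v.2⟩
    have hk' : ((v : H) * x * (v : H)⁻¹ * x⁻¹) ^ (p ^ k) = 1 := by
      have := congrArg Subtype.val hk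
      simpa using this
    have hvx := commute_of_commutator_commute' (v : H) x k hbx hk' hxc
    rw [Subgroup.mem_bot]
    show (v : H) * x * (v : H)⁻¹ * x⁻¹ = 1
    rw [hvx]; group
  intro v hv
  have h1 : φ ⟨v, hv⟩ ∈ B := ⟨_, rfl⟩
  rw [hBbot, Subgroup.mem_bot] at h1
  have h2 : v * x * v⁻¹ * x⁻¹ = 1 := h1
  calc v * x = (v * x * v⁻¹ * x⁻¹) * (x * v) := by group
    _ = x * v := by rw [h2, one_mul]

end Cfsg.Agent.Helper14
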