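import Mathlib
import Cfsg.Agent.Lib.Helper12.PSL2Max3

/-!
# S0999 / S4701 from S0996 + Theorem R (helper14): group-theoretic wrappers

`plans/S0999_S4701_helper14_reduction.md`.  The statement of S0996 (`Hyp996`) and of helper17's
Theorem R (`HypR`) enter as hypotheses; the final files instantiate them.
-/

set_option autoImplicit false
set_option linter.unusedSectionVars false
set_option linter.unusedVariables false

namespace Cfsg.Agent.Helper14.BRW

universe u

/-- the statement of S0996, at universe `u` -/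
def Hyp996 : Prop :=
  ∀ {G : Type u} [Group G] [Finite G] (hperf : commutator G = ⊤) (p : ℕ) [Fact p.Prime] (z : G)
    (hz : orderOf z = p) (hC : Subgroup.centralizer ({z} : Set G) = Subgroup.zpowers z)
    (hn : 2 * Nat.card (Sylow p G) < (p + 1) * (p + 2)),
    (∃ (F : Type) (_ : Field F) (_ : Fintype F), Fintype.card F = p ∧ 3 < p ∧
      Nonempty (G ≃* Matrix.ProjectiveSpecialLinearGroup (Fin 2) F)) ∨
    (∃ (m : ℕ) (F : Type) (_ : Field F) (_ : Fintype F), Fintype.card F = 2 ^ m ∧ p = 2 ^ m + 1 ∧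
      3 < p ∧ Nonempty (G ≃* Matrix.ProjectiveSpecialLinearGroup (Fin 2) F))

/-- the statement of Theorem R (helper17's `BRRed.main`), at universe `u` -/
def HypR : Prop :=
  ∀ {G : Type u} [Group G] [Finite G] (hperf : commutator G = ⊤) (p : ℕ) [Fact p.Prime]
    (P : Sylow p G) (hP : Nat.card P = p) (hbig : Nat.card G < p ^ 3)
    (hcore : ∀ N : Subgroup G, N.Normal → (Nat.card N).Coprime p → N = ⊥),
    ∃ z : G, orderOf z = p ∧ Subgroup.centralizer ({z} : Set G) = Subgroup.zpowers z ∧
      2 * Nat.card (Sylow p G) < (p + 1) * (p + 2)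

variable {G : Type u} [Group G] [Finite G]

/-- a non-normal Sylow `p`-subgroup of a group of order `< p ^ 3` has order `p` -/
theorem card_sylow_eq_prime (p : ℕ) [Fact p.Prime] (hdvd : p ∣ Nat.card G)
    (hbig : Nat.card G < p ^ 3) (P : Sylow p G) (hPn : ¬ (P : Subgroup G).Normal) :
    Nat.card P = p := by
  have hp : p.Prime := Fact.out
  have hG0 : Nat.card G ≠ 0 := Nat.card_pos.ne'
  have hcard := Sylow.card_eq_multiplicity P
  set k := (Nat.card G).factorization p with hk
  have hk1 : 1 ≤ k := hp.factorization_pos_of_dvd hG0 hdvd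
  by_contra hne
  have hk2 : 2 ≤ k := by
    rcases Nat.lt_or_ge k 2 with h | h
    · exfalso
      have : k = 1 := by omega
      rw [this, pow_one] at hcard
      exact hne hcard
    · exact h
  have hidx := Subgroup.card_mul_index (P : Subgroup G)
  have hp2 : p ^ 2 ≤ Nat.card (P : Subgroup G) := by
    rw [hcard]
    exact Nat.pow_le_pow_right hp.pos hk2
  have hidxlt : (P : Subgroup G).index < p := by
    by_contra h
    push_neg at h
    have : p ^ 3 ≤ Nat.card G := by
      rw [← hidx]
      calc p ^ 3 = p ^ 2 * p := by ring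
        _ ≤ Nat.card (P : Subgroup G) * (P : Subgroup G).index := Nat.mul_le_mul hp2 h
    omega
  set L : Subgroup G := (P : Subgroup G).normalCore with hL
  have hLP : L ≤ (P : Subgroup G) := Subgroup.normalCore_le _
  have hLdvd : L.index ∣ ((P : Subgroup G).index).factorial := by
    rw [hL, Subgroup.normalCore_eq_ker, Subgroup.index_ker]
    have h1 := Subgroup.card_subgroup_dvd_card
      (MulAction.toPermHom G (G ⧸ (P : Subgroup G))).range
    rw [Nat.card_perm] at h1
    exact h1
  have hpL : ¬ p ∣ L.index := by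
    intro h
    have := (hp.dvd_factorial).1 (h.trans hLdvd)
    omega
  have hrel := Subgroup.relIndex_mul_index hLP
  have hreldvd : L.relIndex (P : Subgroup G) ∣ p ^ k := by
    rw [← hcard]
    exact Subgroup.relIndex_dvd_card L (P : Subgroup G)
  obtain ⟨j, -, hj⟩ := (Nat.dvd_prime_pow hp).1 hreldvd
  have hj0 : j = 0 := by
    by_contra h
    apply hpL
    rw [← hrel, hj]
    exact Dvd.dvd.mul_right (dvd_pow_self p h) _
  rw [hj0, pow_zero, Subgroup.relIndex_eq_one] at hj
  have : (P : Subgroup G) = L := le_antisymm hj hLP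
  apply hPn
  rw [this, hL]
  exact Subgroup.normalCore_normal _

/-- a non-cyclic simple group is perfect -/
theorem perfect_of_simple [IsSimpleGroup G] (hG : ¬ IsCyclic G) : commutator G = ⊤ := by
  rcases (IsSimpleGroup.eq_bot_or_eq_top_of_normal (commutator G) inferInstance) with h | h
  · exfalso
    rw [commutator_eq_bot_iff_center_eq_top] at h
    letI : CommGroup G := Group.commGroupOfCenterEqTop h
    exact hG IsSimpleGroup.isCyclic
  · exact h

/-- a perfect nontrivial group is not a `p`-group -/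
theorem not_isPGroup_of_perfect (p : ℕ) [Fact p.Prime] (hperf : commutator G = ⊤)
    [Nontrivial G] : ¬ IsPGroup p G := by
  intro h
  haveI : Group.IsNilpotent G := h.isNilpotent
  have := IsSolvable.commutator_lt_top_of_nontrivial G
  rw [hperf] at this
  exact lt_irrefl _ this

/-- Sylow subgroups of a non-cyclic simple group are not normal -/
theorem sylow_not_normal_of_simple [IsSimpleGroup G] (hG : ¬ IsCyclic G) (p : ℕ) [Fact p.Prime]
    (hdvd : p ∣ Nat.card G) (P : Sylow p G) : ¬ (P : Subgroup G).Normal := by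
  intro hn
  rcases (IsSimpleGroup.eq_bot_or_eq_top_of_normal (P : Subgroup G) hn) with h | h
  · have hP : (P : Subgroup G) ≠ ⊥ := P.ne_bot_of_dvd_card hdvd
    exact hP h
  · have hperf := perfect_of_simple hG
    have hpg : IsPGroup p G := by
      have := P.isPGroup'
      rw [h] at this
      exact (IsPGroup.of_equiv this Subgroup.topEquiv)
    exact not_isPGroup_of_perfect p hperf hpg

/-- a normal `p'`-subgroup of maximal order -/
theorem exists_max_normal_coprime (p : ℕ) : ∃ K : Subgroup G, K.Normal ∧ (Nat.card K).Coprime p ∧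
    ∀ N : Subgroup G, N.Normal → (Nat.card N).Coprime p → K ≤ N → N = K := by
  classical
  haveI : Nonempty {K : Subgroup G // K.Normal ∧ (Nat.card K).Coprime p} :=
    ⟨⟨⊥, inferInstance, by rw [Subgroup.card_bot]; exact Nat.coprime_one_left p⟩⟩
  obtain ⟨⟨K, hK1, hK2⟩, hmax⟩ := Finite.exists_max
    (fun K : {K : Subgroup G // K.Normal ∧ (Nat.card K).Coprime p} => Nat.card (K : Subgroup G))
  refine ⟨K, hK1, hK2, ?_⟩
  intro N hN hNc hKN
  have h := hmax ⟨N, hN, hNc⟩
  exact (Subgroup.eq_of_le_of_card_ge hKN h).symm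

/-- the order of a full preimage -/
theorem card_comap_mk' (K : Subgroup G) [K.Normal] (N' : Subgroup (G ⧸ K)) :
    Nat.card (N'.comap (QuotientGroup.mk' K)) = Nat.card N' * Nat.card K := by
  have h1 := Subgroup.card_mul_index (N'.comap (QuotientGroup.mk' K))
  have h2 := Subgroup.card_mul_index N'
  have h3 := Subgroup.card_eq_card_quotient_mul_card_subgroup K
  have h4 : (N'.comap (QuotientGroup.mk' K)).index = N'.index :=
    Subgroup.index_comap_of_surjective N' (QuotientGroup.mk'_surjective K)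
  have h5 : N'.index ≠ 0 := Subgroup.index_ne_zero_of_finite
  rw [h4] at h1
  have : Nat.card (N'.comap (QuotientGroup.mk' K)) * N'.index =
      Nat.card N' * Nat.card K * N'.index := by
    rw [h1, h3, ← h2]
    ring
  exact Nat.eq_of_mul_eq_mul_right (Nat.pos_of_ne_zero h5) this

/-- the quotient by a maximal normal `p'`-subgroup has no nontrivial normal `p'`-subgroup -/
theorem core_quotient (p : ℕ) [Fact p.Prime] (K : Subgroup G) [K.Normal]
    (hKc : (Nat.card K).Coprime p)
    (hmax : ∀ N : Subgroup G, N.Normal → (Nat.card N).Coprime p → K ≤ N → N = K) :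
    ∀ N' : Subgroup (G ⧸ K), N'.Normal → (Nat.card N').Coprime p → N' = ⊥ := by
  intro N' hN' hc
  have h1 : (N'.comap (QuotientGroup.mk' K)).Normal := hN'.comap _
  have h2 : (Nat.card (N'.comap (QuotientGroup.mk' K))).Coprime p := by
    rw [card_comap_mk']
    exact Nat.Coprime.mul_left hc hKc
  have h3 : K ≤ N'.comap (QuotientGroup.mk' K) := by
    intro k hk
    rw [Subgroup.mem_comap]
    have : (QuotientGroup.mk' K) k = 1 := (QuotientGroup.eq_one_iff k).2 hk
    rw [this]
    exact N'.one_mem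
  have h4 := hmax _ h1 h2 h3
  rw [← Subgroup.map_comap_eq_self_of_surjective (QuotientGroup.mk'_surjective K) N', h4]
  exact QuotientGroup.map_mk'_self K

/-- quotients of perfect groups are perfect -/
theorem perfect_quotient (hperf : commutator G = ⊤) (K : Subgroup G) [K.Normal] :
    commutator (G ⧸ K) = ⊤ := by
  rw [commutator_def] at hperf ⊢
  have h := Subgroup.map_commutator (⊤ : Subgroup G) ⊤ (QuotientGroup.mk' K)
  rw [hperf, Subgroup.map_top_of_surjective _ (QuotientGroup.mk'_surjective K)] at h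
  exact h.symm

/-- in characteristic two `SL₂` has trivial centre -/
theorem sl2_center_eq_bot (F : Type) [Field F] [Fintype F] (m : ℕ) (hF : Fintype.card F = 2 ^ m) :
    Subgroup.center (Matrix.SpecialLinearGroup (Fin 2) F) = ⊥ := by
  have h2 : (2 : F) = 0 := by
    have h := Nat.cast_card_eq_zero F
    rw [hF] at h
    push_cast at h
    exact pow_eq_zero_iff (n := m) (by
      rintro rfl
      have := Fintype.one_lt_card (α := F)
      rw [hF] at this
      simp at this) |>.1 h
  rw [eq_bot_iff]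
  intro A hA
  rw [Matrix.SpecialLinearGroup.mem_center_iff] at hA
  obtain ⟨r, hr, hrA⟩ := hA
  rw [Fintype.card_fin] at hr
  have h1 : (r - 1) ^ 2 = 0 := by
    have : (r - 1) ^ 2 = r ^ 2 + 1 - 2 * r := by ring
    rw [this, hr, h2]
    ring_nf
    exact h2
  have h3 : r = 1 := by
    have := pow_eq_zero_iff (two_ne_zero) |>.1 h1
    exact sub_eq_zero.1 this
  rw [Subgroup.mem_bot]
  apply Subtype.ext
  rw [← hrA, h3]
  simp

/-- in characteristic two `PSL₂ = SL₂` -/
theorem psl2_equiv_sl2 (F : Type) [Field F] [Fintype F] (m : ℕ) (hF : Fintype.card F = 2 ^ m) :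
    Nonempty (Matrix.ProjectiveSpecialLinearGroup (Fin 2) F ≃* Matrix.SpecialLinearGroup (Fin 2) F) :=
  ⟨(QuotientGroup.quotientMulEquivOfEq (sl2_center_eq_bot F m hF)).trans QuotientGroup.quotientBot⟩

/-- S0999 from S0996 and Theorem R -/
theorem S0999_of (h996 : Hyp996.{u}) (hR : HypR.{u}) [IsSimpleGroup G] (hG : ¬ IsCyclic G)
    (p : ℕ) (hp : p.Prime) (hdvd : p ∣ Nat.card G) (hbig : Nat.card G < p ^ 3) :
    (∃ (F : Type) (_ : Field F) (_ : Fintype F), Fintype.card F = p ∧ 3 < p ∧
      Nonempty (G ≃* Matrix.ProjectiveSpecialLinearGroup (Fin 2) F)) ∨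
    (∃ (m : ℕ) (F : Type) (_ : Field F) (_ : Fintype F), Fintype.card F = 2 ^ m ∧ p = 2 ^ m + 1 ∧
      3 < p ∧ Nonempty (G ≃* Matrix.ProjectiveSpecialLinearGroup (Fin 2) F)) := by
  haveI : Fact p.Prime := ⟨hp⟩
  have hperf := perfect_of_simple hG
  obtain ⟨P⟩ : Nonempty (Sylow p G) := inferInstance
  have hPn := sylow_not_normal_of_simple hG p hdvd P
  have hP := card_sylow_eq_prime p hdvd hbig P hPn
  have hcore : ∀ N : Subgroup G, N.Normal → (Nat.card N).Coprime p → N = ⊥ := by
    intro N hN hcop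
    rcases IsSimpleGroup.eq_bot_or_eq_top_of_normal N hN with h | h
    · exact h
    · exfalso
      rw [h, Subgroup.card_top] at hcop
      have := Nat.Coprime.eq_one_of_dvd hcop.symm hdvd
      exact hp.one_lt.ne' this
  obtain ⟨z, hz, hC, hn⟩ := hR hperf p P hP hbig hcore
  exact h996 hperf p z hz hC hn

/-- the order bound: `k (p-1)(p+1) < 2 p²` forces `k ≤ 2` -/
theorem card_le_two_of_psl (p k : ℕ) (hp : 3 < p) (h : k * ((p - 1) * (p + 1)) < 2 * p ^ 2) :
    k ≤ 2 := by
  by_contra hk
  push_neg at hk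
  obtain ⟨q, rfl⟩ : ∃ q, p = q + 1 := ⟨p - 1, by omega⟩
  simp only [Nat.add_sub_cancel] at h
  have : 3 * (q * (q + 1 + 1)) ≤ k * (q * (q + 1 + 1)) := Nat.mul_le_mul_right _ hk
  nlinarith

/-- the order bound: `k (p-1)(p-2) < p²` forces `k ≤ 2` -/
theorem card_le_two_of_sl (p k : ℕ) (hp : 3 < p) (h : k * ((p - 1) * (p - 2)) < p ^ 2) :
    k ≤ 2 := by
  by_contra hk
  push_neg at hk
  obtain ⟨q, rfl⟩ : ∃ q, p = q + 4 := ⟨p - 4, by omega⟩
  have e1 : q + 4 - 1 = q + 3 := by omega
  have e2 : q + 4 - 2 = q + 2 := by omega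
  rw [e1, e2] at h
  have : 3 * ((q + 3) * (q + 2)) ≤ k * ((q + 3) * (q + 2)) := Nat.mul_le_mul_right _ hk
  nlinarith

/-- S4701 from S0996 and Theorem R -/
theorem S4701_of (h996 : Hyp996.{u}) (hR : HypR.{u}) (hperf : commutator G = ⊤) (p : ℕ)
    [Fact p.Prime] (hdvd : p ∣ Nat.card G) (hbig : Nat.card G < p ^ 3) (P : Sylow p G)
    (hP : ¬ (P : Subgroup G).Normal) (h2 : ∀ N : Subgroup G, N.Normal → Nat.card N ≠ 2) :
    (∃ (F : Type) (_ : Field F) (_ : Fintype F), Fintype.card F = p ∧ 3 < p ∧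
      Nonempty (G ≃* Matrix.ProjectiveSpecialLinearGroup (Fin 2) F)) ∨
    (∃ (m : ℕ) (F : Type) (_ : Field F) (_ : Fintype F), Fintype.card F = 2 ^ m ∧ p = 2 ^ m + 1 ∧
      3 < p ∧ Nonempty (G ≃* Matrix.SpecialLinearGroup (Fin 2) F)) := by
  have hp : p.Prime := Fact.out
  have hG0 : Nat.card G ≠ 0 := Nat.card_pos.ne'
  have hcardP := card_sylow_eq_prime p hdvd hbig P hP
  -- the `p`-part of `|G|` is `p`
  have hfac : (Nat.card G).factorization p = 1 := by
    have h := Sylow.card_eq_multiplicity P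
    rw [hcardP] at h
    have h' : p ^ 1 = p ^ (Nat.card G).factorization p := by rw [pow_one]; exact h
    exact (Nat.pow_right_injective hp.two_le h').symm
  obtain ⟨K, hKn, hKc, hmax⟩ := exists_max_normal_coprime (G := G) p
  haveI := hKn
  have hcardG := Subgroup.card_eq_card_quotient_mul_card_subgroup K
  have hK0 : Nat.card K ≠ 0 := Nat.card_pos.ne'
  have hQ0 : Nat.card (G ⧸ K) ≠ 0 := Nat.card_pos.ne'
  have hperfQ := perfect_quotient hperf K
  have hcoreQ := core_quotient p K hKc hmax
  have hbigQ : Nat.card (G ⧸ K) < p ^ 3 := by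
    refine lt_of_le_of_lt ?_ hbig
    rw [hcardG]
    exact Nat.le_mul_of_pos_right _ (Nat.pos_of_ne_zero hK0)
  have hpK : ¬ p ∣ Nat.card K := by
    intro h
    have := Nat.Coprime.eq_one_of_dvd hKc.symm h
    exact hp.one_lt.ne' this
  have hdvdQ : p ∣ Nat.card (G ⧸ K) := by
    rw [hcardG] at hdvd
    exact (Nat.Coprime.dvd_mul_right hKc.symm).1 hdvd
  obtain ⟨PQ⟩ : Nonempty (Sylow p (G ⧸ K)) := inferInstance
  have hPQ : Nat.card PQ = p := by
    rw [Sylow.card_eq_multiplicity PQ]
    have h1 : (Nat.card G).factorization p =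
        (Nat.card (G ⧸ K)).factorization p + (Nat.card K).factorization p := by
      rw [hcardG, Nat.factorization_mul hQ0 hK0]
      rfl
    rw [Nat.factorization_eq_zero_of_not_dvd hpK, add_zero, hfac] at h1
    rw [← h1, pow_one]
  obtain ⟨z, hz, hC, hn⟩ := hR hperfQ p PQ hPQ hbigQ hcoreQ
  -- `|K| ≤ 2` gives `K = ⊥`
  have hKbot : Nat.card K ≤ 2 → Nonempty (G ≃* G ⧸ K) := by
    intro hle
    have h1 : Nat.card K = 1 := by
      have hpos : 0 < Nat.card K := Nat.pos_of_ne_zero hK0
      have hne := h2 K hKn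
      omega
    have hbot : K = ⊥ := Subgroup.eq_bot_of_card_eq K h1
    exact ⟨((QuotientGroup.quotientMulEquivOfEq hbot).trans QuotientGroup.quotientBot).symm⟩
  rcases h996 hperfQ p z hz hC hn with ⟨F, iF, iFt, hF, h3, ⟨e⟩⟩ | ⟨m, F, iF, iFt, hF, hpm, h3, ⟨e⟩⟩
  · left
    refine ⟨F, iF, iFt, hF, h3, ?_⟩
    have hc := Cfsg.Agent.Helper12.PSL2Max.card_PSL2_mul' F hF
    have hodd : Odd p := hp.odd_of_ne_two (by omega)
    have hg : Nat.gcd 2 (p - 1) = 2 := by
      obtain ⟨j, hj⟩ := hodd
      have : p - 1 = 2 * j := by omega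
      rw [this]
      exact Nat.gcd_mul_right_right j 2
    rw [hg, ← Nat.card_congr e.toEquiv] at hc
    have hle : Nat.card K ≤ 2 := by
      apply card_le_two_of_psl p _ h3
      have hG2 : 2 * Nat.card G < 2 * p ^ 3 := by omega
      rw [hcardG] at hG2
      have e1 : 2 * (Nat.card (G ⧸ K) * Nat.card K) =
          p * (Nat.card K * ((p - 1) * (p + 1))) := by
        calc 2 * (Nat.card (G ⧸ K) * Nat.card K) = (2 * Nat.card (G ⧸ K)) * Nat.card K := by ring
          _ = p * (p - 1) * (p + 1) * Nat.card K := by rw [hc]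
          _ = p * (Nat.card K * ((p - 1) * (p + 1))) := by ring
      rw [e1] at hG2
      have e2 : 2 * p ^ 3 = p * (2 * p ^ 2) := by ring
      rw [e2] at hG2
      exact Nat.lt_of_mul_lt_mul_left hG2
    obtain ⟨e0⟩ := hKbot hle
    exact ⟨e0.trans e⟩
  · right
    refine ⟨m, F, iF, iFt, hF, hpm, h3, ?_⟩
    have hc := Cfsg.Agent.Helper12.PSL2Max.card_PSL2_mul' F hF
    have hm : 1 ≤ m := by
      rcases Nat.eq_zero_or_pos m with h | h
      · rw [h] at hpm
        omega
      · exact h
    have hg : Nat.gcd 2 (2 ^ m - 1) = 1 := by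
      obtain ⟨j, rfl⟩ : ∃ j, m = j + 1 := ⟨m - 1, by omega⟩
      have : 2 ^ (j + 1) - 1 = 2 * (2 ^ j - 1) + 1 := by
        have : 1 ≤ 2 ^ j := Nat.one_le_two_pow
        rw [pow_succ]
        omega
      rw [this]
      simp
    rw [hg, one_mul, ← Nat.card_congr e.toEquiv] at hc
    have e1 : 2 ^ m = p - 1 := by omega
    have e2 : 2 ^ m - 1 = p - 2 := by omega
    have e3 : 2 ^ m + 1 = p := by omega
    rw [e2, e3, e1] at hc
    have hle : Nat.card K ≤ 2 := by
      apply card_le_two_of_sl p _ h3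
      rw [hcardG, hc] at hbig
      have e4 : (p - 1) * (p - 2) * p * Nat.card K = p * (Nat.card K * ((p - 1) * (p - 2))) := by
        ring
      have e5 : p ^ 3 = p * p ^ 2 := by ring
      rw [e4, e5] at hbig
      exact Nat.lt_of_mul_lt_mul_left hbig
    obtain ⟨e0⟩ := hKbot hle
    obtain ⟨e9⟩ := psl2_equiv_sl2 F m hF
    exact ⟨(e0.trans e).trans e9⟩

end Cfsg.Agent.Helper14.BRW
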