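import Mathlib
import Cfsg.Prelude.Def_Characters
import Cfsg.Agent.Lib.Helper24.CharLinear
import Cfsg.Agent.Lib.Helper24.CharAlgebra
import Cfsg.Agent.Lib.Helper24.CharOrtho

/-!
# S4503 PIECE GALIRR (helper14): Galois conjugates of (irreducible) characters

For a field automorphism `σ` of `ℂ` and a character `χ` of a finite group, `g ↦ σ (χ g)` is a
character; it is irreducible if `χ` is.
-/

set_option autoImplicit false
set_option linter.unusedSectionVars false
set_option linter.unusedVariables false

namespace Cfsg.Agent.Helper14.BRB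

open scoped ComplexConjugate
open Cfsg Cfsg.Agent.Helper24

universe u

variable {G : Type u} [Group G]

/-- the entrywise image of a representation under a ring automorphism of `ℂ`. -/
noncomputable def galirrRep (σ : ℂ ≃+* ℂ) {n : ℕ} (ρ : Representation ℂ G (Fin n → ℂ)) :
    Representation ℂ G (Fin n → ℂ) where
  toFun g := Matrix.toLin' ((LinearMap.toMatrix' (ρ g)).map (σ : ℂ →+* ℂ))
  map_one' := by
    rw [map_one, Module.End.one_eq_id, LinearMap.toMatrix'_id, Matrix.map_one _ (map_zero _)
      (map_one _), Matrix.toLin'_one]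
  map_mul' g h := by
    rw [map_mul, Module.End.mul_eq_comp, LinearMap.toMatrix'_comp, Matrix.map_mul,
      Matrix.toLin'_mul]
    rfl

theorem galirrRep_character (σ : ℂ ≃+* ℂ) {n : ℕ} (ρ : Representation ℂ G (Fin n → ℂ)) (g : G) :
    (galirrRep σ ρ).character g = σ (ρ.character g) := by
  have h1 : (galirrRep σ ρ) g =
      Matrix.toLin' ((LinearMap.toMatrix' (ρ g)).map (σ : ℂ →+* ℂ)) := rfl
  rw [Representation.character, h1, Matrix.trace_toLin'_eq, Representation.character]
  have h2 : LinearMap.trace ℂ (Fin n → ℂ) (ρ g) = (LinearMap.toMatrix' (ρ g)).trace := by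
    conv_lhs => rw [← Matrix.toLin'_toMatrix' (ρ g)]
    rw [Matrix.trace_toLin'_eq]
  rw [h2]
  exact (AddMonoidHom.map_trace (σ : ℂ →+* ℂ) (LinearMap.toMatrix' (ρ g))).symm

/-- Galois conjugates of characters are characters. -/
theorem isCharacter_ringEquiv (σ : ℂ ≃+* ℂ) {χ : G → ℂ} (hχ : IsCharacter G χ) :
    IsCharacter G (fun g => σ (χ g)) := by
  obtain ⟨n, ρ, rfl⟩ := hχ
  exact ⟨n, galirrRep σ ρ, funext fun g => galirrRep_character σ ρ g⟩

variable [Fintype G]

/-- PIECE GALIRR: Galois conjugates of irreducible characters are irreducible. -/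
theorem isIrrCharacter_ringEquiv (σ : ℂ ≃+* ℂ) {χ : G → ℂ} (hχ : IsIrrCharacter G χ) :
    IsIrrCharacter G (fun g => σ (χ g)) := by
  have hχc := isCharacter_of_isIrrCharacter hχ
  have hσc := isCharacter_ringEquiv σ hχc
  letI : Fintype (IrrCharacter G) := irrFintype
  apply isIrrCharacter_of_classInner_self_eq_one hσc
  have h1 : classInner χ χ = 1 := by
    rw [irr_orthogonality hχ hχ, if_pos rfl]
  have hconj : ∀ g : G, conj (σ (χ g)) = σ (conj (χ g)) := by
    intro g
    rw [← irr_inv hσc g, ← irr_inv hχc g]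
  have h2 : classInner (fun g => σ (χ g)) (fun g => σ (χ g)) = σ (classInner χ χ) := by
    unfold classInner
    rw [map_mul, map_inv₀, map_natCast, map_sum]
    congr 1
    refine Finset.sum_congr rfl fun g _ => ?_
    rw [map_mul, hconj g]
  rw [h2, h1, map_one]

end Cfsg.Agent.Helper14.BRB
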