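import Mathlib
import Cfsg.Prelude.Def_Blocks
import Cfsg.Agent.Lib.Helper2.BRBRED4
import Cfsg.Agent.Lib.Helper15.BRBRED
import Cfsg.Agent.Lib.Helper25.BRBCONS
import Cfsg.Agent.Lib.Helper1.BRBCOUNT
import Cfsg.Agent.Lib.Helper25.BRBREDLIN
import Cfsg.Agent.Lib.Helper14.BRBTHA
import Cfsg.Agent.Lib.Helper17.BRBPARTNER
import Cfsg.Agent.Lib.Helper2.BRBVCENT
import Cfsg.Agent.Lib.Helper12.BRBINNER
import Cfsg.Agent.Lib.Helper18.TLDTPKG
import Cfsg.Agent.Lib.Helper15.TLGT
import Cfsg.Agent.Lib.Helper24.CharAbelian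
import Cfsg.Agent.Lib.Helper24.CharComplete
import Cfsg.Agent.Lib.Helper24.CharHom
import Cfsg.Agent.Lib.Helper24.GlaubPGroup
import Cfsg.Agent.Lib.Helper12.BRC3

set_option autoImplicit false
set_option linter.unusedSectionVars false
set_option linter.unusedVariables false

namespace Cfsg.Agent.Helper14.BRB

open scoped ComplexConjugate
open Cfsg Cfsg.Agent.Helper24

universe u

variable {G : Type u} [Group G] [Fintype G] (p : ℕ) [Fact p.Prime]
variable (P : Sylow p G)

local notation "𝒞" => Subgroup.centralizer ((P : Subgroup G) : Set G)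
local notation "𝒩" => Subgroup.normalizer ((P : Subgroup G) : Set G)

/-- ASSEMBLY of the block-theoretic core: the configuration of a minimal counterexample is
impossible. -/
theorem core_false (M : Ideal AlgInt) (hM : IsPModular p M) (hP : Nat.card P = p)
    (hR4 : ∀ K : Subgroup G, K.Normal → K ≠ ⊤ → K ≤ Subgroup.center G)
    (hlin : ∀ χ : IrrCharacter G, charDegree (χ : G → ℂ) = 1 → χ = principalChar G)
    (ζ : IrrCharacter G) (hdeg : 2 * charDegree (ζ : G → ℂ) + 1 < p)
    (hker : ∃ x ∈ (P : Subgroup G), (ζ : G → ℂ) x ≠ (ζ : G → ℂ) 1) : False := by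
  classical
  have hpp : p.Prime := Fact.out
  have hCN : 𝒞 ≤ 𝒩 := Subgroup.centralizer_le_normalizer _
  obtain ⟨ν, hνf, hfpf, hν3, hν4⟩ :=
    Cfsg.Agent.Helper5.TLD.exists_T_package p P hP 𝒩 hCN le_rfl _ rfl
  set f := (𝒞).relIndex 𝒩 with hf
  obtain ⟨ψ, m, hψ, hm, hζ, hm1⟩ :=
    restrict_structure p P M hM hP f hf.symm ν hνf hfpf hν3 hν4 ζ hdeg hker
  -- `P` is abelian, so `ψ 1 = 1`
  have hPcomm : ∀ a b : (P : Subgroup G), a * b = b * a := by
    intro a b
    haveI : IsCyclic (P : Subgroup G) := isCyclic_of_prime_card hP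
    exact IsCyclic.commGroup.mul_comm a b
  have hψ1 : (ψ : ↥(P : Subgroup G) → ℂ) 1 = 1 := by
    haveI : Fintype (P : Subgroup G) := Fintype.ofFinite _
    letI : Fintype (IrrCharacter (P : Subgroup G)) := irrFintype
    rw [irr_one_eq_charDegree ψ.2, charDegree_eq_one_of_comm hPcomm ψ.2]
    simp
  -- the degree of `ζ`
  have hn : charDegree (ζ : G → ℂ) = m * f := by
    have h1 := hζ 1
    simp only [map_one, Subgroup.coe_one, hψ1, Finset.sum_const, Finset.card_range,
      nsmul_eq_mul, mul_one] at h1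
    rw [irr_one_eq_charDegree ζ.2] at h1
    exact_mod_cast h1
  have hf0 : 0 < f := by
    rcases Nat.eq_zero_or_pos f with h | h
    · have := charDegree_pos ζ.2
      rw [hn, h, mul_zero] at this
      exact absurd this (lt_irrefl 0)
    · exact h
  have hfle : f ≤ m * f := Nat.le_mul_of_pos_left f hm
  have hf1 : f < p - 1 := by omega
  obtain ⟨ζ', hreg, hdisj⟩ := exists_partner p P hP f hf1 ν hνf ζ ψ m hψ hζ
  -- Lemma K for the principal block
  have hK : ∀ χ : IrrCharacter G, χ ∈ principalBlock M G →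
      ∑ᶠ a : (P : Subgroup G), (χ : G → ℂ) (a : G) = 0 →
      ∀ v ∈ 𝒞, ¬ p ∣ orderOf v → (χ : G → ℂ) v = (χ : G → ℂ) 1 := by
    intro χ hχ hfix v hv hvp
    haveI : Fintype (P : Subgroup G) := Fintype.ofFinite _
    rw [finsum_eq_sum_of_fintype] at hfix
    exact Cfsg.Agent.Helper12.BRC.kernel_trick p M hM P hP χ hχ hfix v hv hvp
  have hV : ∀ v ∈ 𝒞, ¬ p ∣ orderOf v → v ∈ Subgroup.center G :=
    fun v hv hvp => pcore_central p P M hM hP hR4 hK ζ ζ' hreg hdisj v hv hvp
  -- `C` is abelian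
  have hCcomm : ∀ c ∈ 𝒞, ∀ c' ∈ 𝒞, c * c' = c' * c := by
    obtain ⟨K, n₀, hK1, -, -, hdec, -, -⟩ := Cfsg.Agent.Helper5.TL.exists_pcore p P hP
    intro c hc c' hc'
    obtain ⟨u, k, hu, hk, rfl⟩ := hdec c (fun u hu => ((Subgroup.mem_centralizer_iff.1 hc) u hu).symm)
    obtain ⟨u', k', hu', hk', rfl⟩ :=
      hdec c' (fun u hu => ((Subgroup.mem_centralizer_iff.1 hc') u hu).symm)
    have hkc : k ∈ Subgroup.center G := hV k ((hK1 k).1 hk).1 ((hK1 k).1 hk).2
    have hkc' : k' ∈ Subgroup.center G := hV k' ((hK1 k').1 hk').1 ((hK1 k').1 hk').2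
    have huu : u * u' = u' * u := congrArg Subtype.val (hPcomm ⟨u, hu⟩ ⟨u', hu'⟩)
    rw [Subgroup.mem_center_iff] at hkc hkc'
    calc u * k * (u' * k') = u * (k * u') * k' := by group
      _ = u * (u' * k) * k' := by rw [hkc u']
      _ = (u * u') * (k * k') := by group
      _ = (u' * u) * (k' * k) := by rw [huu, hkc' k]
      _ = u' * (u * k') * k := by group
      _ = u' * (k' * u) * k := by rw [hkc' u]
      _ = u' * k' * (u * k) := by group
  have hm1' : m = 1 := hm1 hCcomm
  rw [hm1', one_mul] at hn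
  have hn' : charDegree (ζ' : G → ℂ) = f := by
    have h1 := hreg 1 (by rw [orderOf_one]; exact hpp.not_dvd_one)
    have h2 : ((charDegree (ζ' : G → ℂ) : ℕ) : ℂ) = (charDegree (ζ : G → ℂ) : ℂ) := by
      rw [← irr_one_eq_charDegree ζ'.2, ← irr_one_eq_charDegree ζ.2, h1]
    rw [← hn]
    exact_mod_cast h2
  have hζ1 : ζ ≠ principalChar G := by
    rintro rfl
    obtain ⟨x, -, hx⟩ := hker
    exact hx rfl
  exact count_false p P M hM hP f hf.symm hlin ζ ζ' hζ1 hn hn' (by omega)
    (fun χ s hχ => inner_delta p P hP hV ζ ζ' hreg hdisj χ s hχ)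

section Induction

/-- ASSEMBLY: the induction. -/
theorem main_ind (p : ℕ) [Fact p.Prime] : ∀ (n : ℕ) (G : Type u) [Group G] [Finite G],
    Nat.card G = n → p ∣ n → ¬ p ^ 2 ∣ n →
    ∀ χ : G → ℂ, IsCharacter G χ → (∀ g : G, χ g = χ 1 → g = 1) → 2 * charDegree χ + 1 < p →
    ∃ H : Subgroup G, H.Normal ∧ Nat.card H = p := by
  intro n
  induction n using Nat.strong_induction_on with
  | _ n ih =>
    intro G _ _ hn hdiv hsq χ hχ hfaith hdeg
    classical
    by_contra hcon
    have hnn : ∀ H : Subgroup G, H.Normal → Nat.card H ≠ p := fun H hH hc => hcon ⟨H, hH, hc⟩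
    have hpp : p.Prime := Fact.out
    haveI : Fintype G := Fintype.ofFinite G
    obtain ⟨M, hM⟩ := Cfsg.Agent.Helper24.Glaub.exists_isPModular hpp
    have P : Sylow p G := default
    have hP : Nat.card P = p := by
      rw [Sylow.card_eq_multiplicity]
      have hG0 : Nat.card G ≠ 0 := Nat.card_pos.ne'
      have h1 : 0 < (Nat.card G).factorization p :=
        hpp.factorization_pos_of_dvd hG0 (hn ▸ hdiv)
      have h2 : ¬ 2 ≤ (Nat.card G).factorization p := fun h =>
        hsq (hn ▸ (hpp.pow_dvd_iff_le_factorization hG0).mpr h)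
      have h3 : (Nat.card G).factorization p = 1 := by omega
      rw [h3, pow_one]
    -- the induction hypothesis for proper subgroups
    have ih' : ∀ H : Subgroup G, H ≠ ⊤ → p ∣ Nat.card H →
        ∃ Q : Subgroup H, Q.Normal ∧ Nat.card Q = p := by
      intro H hH hpH
      have hlt : Nat.card H < n := by
        rw [← hn]
        exact lt_of_le_of_ne (Subgroup.card_le_card_group H)
          (fun h => hH (Subgroup.card_eq_iff_eq_top H |>.1 h))
      have hdvd : Nat.card H ∣ n := hn ▸ Subgroup.card_subgroup_dvd_card H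
      refine ih (Nat.card H) hlt H rfl hpH (fun h => hsq (dvd_trans h hdvd))
        (fun h : H => χ h) (isCharacter_restrict H hχ) ?_ ?_
      · intro g hg
        exact Subtype.ext (hfaith (g : G) hg)
      · exact hdeg
    have hR3 := le_normalizer_of_ih p P hP ih'
    have hcl := normalClosure_eq_top p P hP hR3 hnn
    have hR4 := proper_normal_central p P M hM hP hR3 hnn hcl χ hχ hfaith hdeg
    have hlin := linear_trivial p P hP hnn hR4
    -- a constituent not containing `P` in its kernel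
    have hP1 : ∃ x ∈ (P : Subgroup G), x ≠ 1 := by
      by_contra hne
      push_neg at hne
      have : (P : Subgroup G) = ⊥ := (Subgroup.eq_bot_iff_forall _).2 hne
      have h1 : Nat.card (P : Subgroup G) = 1 := by rw [this]; exact Subgroup.card_bot
      have h2 : Nat.card (P : Subgroup G) = p := hP
      have := hpp.one_lt
      omega
    obtain ⟨x, hxP, hx1⟩ := hP1
    obtain ⟨ζ, hζc, hζx⟩ : ∃ ζ : IrrCharacter G, classInner χ (ζ : G → ℂ) ≠ 0 ∧
        (ζ : G → ℂ) x ≠ (ζ : G → ℂ) 1 := by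
      by_contra hne
      push_neg at hne
      exact hx1 (hfaith x (eq_of_constituents hχ x hne))
    have hζd := degree_le_of_constituent hχ ζ hζc
    exact core_false p P M hM hP hR4 hlin ζ (by omega) ⟨x, hxP, hζx⟩

end Induction

end Cfsg.Agent.Helper14.BRB
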