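import Mathlib
import Cfsg.Prelude.Def_Blocks
import Cfsg.Agent.Lib.Helper24.CharLinear
import Cfsg.Agent.Lib.Helper24.CharInduced
import Cfsg.Agent.Lib.Helper24.CharComplete
import Cfsg.Agent.Lib.Helper10.BR996Defs
import Cfsg.Agent.Lib.Helper2.BRR1
import Cfsg.Agent.Lib.Helper2.BRR2
import Cfsg.Agent.Lib.Helper6.BR996G0
import Cfsg.Agent.Lib.Helper14.BRW1
import Cfsg.Agent.S4503

/-!
# S0996, PIECE SIMPLE (helper14): nonprincipal irreducible characters have degree `≥ (p-1)/2`

Instead of proving `G` simple we pass to `G / ker χ` (deflation, helper2's `exists_faithful_quotient`) and apply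
S4503 there: `p ∤ |ker χ|` (a normal subgroup containing `P` is everything: Frattini + `N/P` abelian + `G` perfect),
and `G / ker χ` has no normal subgroup of order `p` for the same reason.
-/

set_option autoImplicit false
set_option linter.unusedSectionVars false
set_option linter.unusedVariables false
set_option linter.style.haveILetI false

namespace Cfsg.Agent.Helper10.BR996

open scoped ComplexConjugate commutatorElement
open Cfsg Cfsg.Agent.Helper24

universe u

namespace SIMPLE

variable {G : Type u} [Group G] [Finite G] (p : ℕ) [Fact p.Prime] (P : Subgroup G)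

/-- `P` of prime order `p` with `C_G(P) ≤ P` is (the underlying subgroup of) a Sylow `p`-subgroup -/
theorem exists_sylow_eq (hcard : Nat.card P = p)
    (hcent : Subgroup.centralizer (P : Set G) ≤ P) :
    ∃ P' : Sylow p G, (P' : Subgroup G) = P ∧ Nat.card P' = p := by
  have hp : p.Prime := Fact.out
  haveI : Nontrivial P := by
    rw [← Finite.one_lt_card_iff_nontrivial, hcard]
    exact hp.one_lt
  obtain ⟨⟨z, hzP⟩, hz1⟩ := exists_ne (1 : P)
  have hz1' : z ≠ 1 := fun h => hz1 (Subtype.ext h)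
  have hord : orderOf z = p := by
    have h1 : orderOf (⟨z, hzP⟩ : P) ∣ p := by
      rw [← hcard]
      exact orderOf_dvd_natCard _
    rw [Subgroup.orderOf_mk] at h1
    rcases (Nat.dvd_prime hp).1 h1 with h | h
    · exact absurd (orderOf_eq_one_iff.1 h) hz1'
    · exact h
  have hzp : Subgroup.zpowers z = P := by
    apply Subgroup.eq_of_le_of_card_ge
    · rw [Subgroup.zpowers_le]
      exact hzP
    · rw [Nat.card_zpowers, hord, hcard]
  have hC : Subgroup.centralizer ({z} : Set G) = Subgroup.zpowers z := by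
    apply le_antisymm
    · rw [hzp]
      refine le_trans ?_ hcent
      intro c hc
      rw [Subgroup.mem_centralizer_iff] at hc ⊢
      intro a ha
      have ha' : a ∈ Subgroup.zpowers z := by rw [hzp]; exact ha
      rw [Subgroup.mem_zpowers_iff] at ha'
      obtain ⟨k, rfl⟩ := ha'
      have h1 : Commute z c := hc z (Set.mem_singleton z)
      exact (h1.zpow_left k).eq
    · intro c hc
      rw [Subgroup.mem_zpowers_iff] at hc
      obtain ⟨k, rfl⟩ := hc
      rw [Subgroup.mem_centralizer_iff]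
      intro a ha
      rw [Set.mem_singleton_iff] at ha
      rw [ha]
      exact ((Commute.refl z).zpow_right k).eq
  obtain ⟨P', hP', hc', -⟩ := Cfsg.Agent.Helper6.BR996.G0_exists_sylow p z hord hC
  exact ⟨P', hP'.trans hzp, hc'⟩

/-- `p² ∤ |G|` -/
theorem not_sq_dvd (hcard : Nat.card P = p)
    (hcent : Subgroup.centralizer (P : Set G) ≤ P) : ¬ p ^ 2 ∣ Nat.card G := by
  have hp : p.Prime := Fact.out
  obtain ⟨P', -, hc'⟩ := exists_sylow_eq p P hcard hcent
  have h := Sylow.card_eq_multiplicity P'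
  rw [hc'] at h
  have h' : p ^ 1 = p ^ (Nat.card G).factorization p := by rw [pow_one]; exact h
  have hf := (Nat.pow_right_injective hp.two_le h')
  intro hd
  have := (hp.pow_dvd_iff_le_factorization Nat.card_pos.ne').1 hd
  omega

/-- commutators of elements of `N_G(P)` centralize `P` -/
theorem comm_mem_centralizer (hcard : Nat.card P = p) (a b : G)
    (ha : a ∈ Subgroup.normalizer (P : Set G)) (hb : b ∈ Subgroup.normalizer (P : Set G)) :
    ⁅a, b⁆ ∈ Subgroup.centralizer (P : Set G) := by
  have hp : p.Prime := Fact.out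
  set φ := P.normalizerMonoidHom with hφ
  have hcomm : ∀ x y : MulAut P, x * y = y * x :=
    Cfsg.Agent.Helper6.BR996.G1_mulAut_comm (H := P) (by rw [hcard]; exact hp)
  have h1 : φ ⁅(⟨a, ha⟩ : Subgroup.normalizer (P : Set G)), ⟨b, hb⟩⁆ = 1 := by
    rw [map_commutatorElement, commutatorElement_def, hcomm (φ ⟨a, ha⟩) (φ ⟨b, hb⟩)]
    group
  have h2 : ⁅(⟨a, ha⟩ : Subgroup.normalizer (P : Set G)), ⟨b, hb⟩⁆ ∈ φ.ker := h1
  rw [hφ, Subgroup.normalizerMonoidHom_ker, Subgroup.mem_subgroupOf] at h2
  exact h2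

/-- in a perfect group, a normal subgroup containing the self-centralizing Sylow subgroup `P` of order `p`
is everything (Frattini) -/
theorem eq_top_of_le (hcard : Nat.card P = p)
    (hcent : Subgroup.centralizer (P : Set G) ≤ P) (hperf : commutator G = ⊤)
    (L : Subgroup G) [hL : L.Normal] (hPL : P ≤ L) : L = ⊤ := by
  obtain ⟨P', hP', hc'⟩ := exists_sylow_eq p P hcard hcent
  have hP'L : (P' : Subgroup G) ≤ L := by rw [hP']; exact hPL
  have hfr := Sylow.normalizer_sup_eq_top (P'.subtype hP'L)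
  have hmap : ((P'.subtype hP'L : Sylow p L) : Subgroup L).map L.subtype = P := by
    rw [Sylow.coe_subtype, Subgroup.subgroupOf_map_subtype, hP']
    exact inf_eq_left.2 hPL
  rw [hmap] at hfr
  -- every element is `n * l`
  have hdec : ∀ g : G, ∃ n ∈ Subgroup.normalizer (P : Set G), ∃ l ∈ L, g = n * l := by
    intro g
    have hg : g ∈ ((Subgroup.normalizer (P : Set G) ⊔ L : Subgroup G) : Set G) := by
      rw [hfr]
      trivial
    rw [Subgroup.mul_normal] at hg
    obtain ⟨n, hn, l, hl, h⟩ := Set.mem_mul.1 hg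
    exact ⟨n, hn, l, hl, h.symm⟩
  -- the quotient is commutative
  have hle : commutator G ≤ L := by
    rw [commutator_eq_closure, Subgroup.closure_le]
    rintro _ ⟨a, b, rfl⟩
    obtain ⟨n₁, hn₁, l₁, hl₁, rfl⟩ := hdec a
    obtain ⟨n₂, hn₂, l₂, hl₂, rfl⟩ := hdec b
    have hπ : ∀ (n l : G), l ∈ L → (QuotientGroup.mk' L) (n * l) = (QuotientGroup.mk' L) n := by
      intro n l hl
      rw [map_mul]
      have : (QuotientGroup.mk' L) l = 1 := (QuotientGroup.eq_one_iff l).2 hl
      rw [this, mul_one]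
    have h1 : (QuotientGroup.mk' L) ⁅n₁ * l₁, n₂ * l₂⁆ = (QuotientGroup.mk' L) ⁅n₁, n₂⁆ := by
      rw [map_commutatorElement, map_commutatorElement, hπ n₁ l₁ hl₁, hπ n₂ l₂ hl₂]
    have h2 : ⁅n₁, n₂⁆ ∈ L := hPL (hcent (comm_mem_centralizer p P hcard n₁ n₂ hn₁ hn₂))
    have h3 : (QuotientGroup.mk' L) ⁅n₁ * l₁, n₂ * l₂⁆ = 1 := by
      rw [h1]
      exact (QuotientGroup.eq_one_iff _).2 h2
    exact (QuotientGroup.eq_one_iff _).1 h3
  rw [hperf] at hle
  exact top_le_iff.1 hle

end SIMPLE

variable {G : Type u} [Group G] [Fintype G] [Fintype (IrrCharacter G)]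
  (p : ℕ) [Fact p.Prime] (P : Subgroup G)

local notation "𝒩" => Subgroup.normalizer (P : Set G)

/-- PIECE SIMPLE. -/
theorem degree_ge_of_ne_principal (hcard : Nat.card P = p)
    (hcent : Subgroup.centralizer (P : Set G) ≤ P) (hperf : commutator G = ⊤)
    (n : ℕ) (hidx : (𝒩).index = 1 + n * p) (hn1 : 1 ≤ n) (hn : 2 * n ≤ p + 1)
    (χ : IrrCharacter G) (hχ : χ ≠ principalChar G) :
    p ≤ 2 * charDegree (χ : G → ℂ) + 1 := by
  classical
  have hp : p.Prime := Fact.out
  have hsq := SIMPLE.not_sq_dvd p P hcard hcent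
  have hdvd : p ∣ Nat.card G := by
    rw [← hcard]
    exact Subgroup.card_subgroup_dvd_card P
  set K : Subgroup G := Cfsg.Agent.Helper2.BRR.kerOf χ with hK
  haveI hKn : K.Normal := Cfsg.Agent.Helper2.BRR.kerOf_normal χ
  -- `K ≠ ⊤`
  have hKtop : K ≠ ⊤ := by
    intro h
    apply hχ
    have hconst : ∀ g : G, (χ : G → ℂ) g = (χ : G → ℂ) 1 := by
      intro g
      have : g ∈ K := by rw [h]; trivial
      exact (Cfsg.Agent.Helper2.BRR.mem_kerOf χ g).1 this
    by_contra hne
    have horth := irr_orthogonality' χ (principalChar G)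
    rw [if_neg hne] at horth
    unfold classInner at horth
    have hsum : ∑ g : G, (χ : G → ℂ) g * conj (((principalChar G : IrrCharacter G) : G → ℂ) g) =
        (Nat.card G : ℂ) * (χ : G → ℂ) 1 := by
      have : ∀ g : G, (χ : G → ℂ) g * conj (((principalChar G : IrrCharacter G) : G → ℂ) g) =
          (χ : G → ℂ) 1 := by
        intro g
        rw [hconst g]
        show (χ : G → ℂ) 1 * conj (1 : ℂ) = _
        rw [map_one, mul_one]
      rw [Finset.sum_congr rfl (fun g _ => this g), Finset.sum_const, Finset.card_univ,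
        nsmul_eq_mul, Nat.card_eq_fintype_card]
    rw [hsum] at horth
    have hG0 : (Nat.card G : ℂ) ≠ 0 := by exact_mod_cast (Nat.card_pos (α := G)).ne'
    rw [← mul_assoc, inv_mul_cancel₀ hG0, one_mul, irr_one_eq_charDegree χ.2] at horth
    have := charDegree_pos χ.2
    have h0 : charDegree (χ : G → ℂ) = 0 := by exact_mod_cast horth
    omega
  -- `p ∤ |K|`
  have hpK : ¬ p ∣ Nat.card K := by
    intro h
    have hPK : P ≤ K := Cfsg.Agent.Helper2.BRR.le_of_normal_of_dvd hsq hcard K h
    exact hKtop (SIMPLE.eq_top_of_le p P hcard hcent hperf K hPK)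
  have hcardG := Subgroup.card_eq_card_quotient_mul_card_subgroup K
  have hdivQ : p ∣ Nat.card (G ⧸ K) := by
    rw [hcardG] at hdvd
    rcases (Nat.Prime.dvd_mul hp).1 hdvd with h | h
    · exact h
    · exact absurd h hpK
  have hsqQ : ¬ p ^ 2 ∣ Nat.card (G ⧸ K) := by
    intro h
    apply hsq
    rw [hcardG]
    exact Dvd.dvd.mul_right h _
  have hperfQ := Cfsg.Agent.Helper14.BRW.perfect_quotient hperf K
  have hnnQ : ∀ H : Subgroup (G ⧸ K), H.Normal → Nat.card H ≠ p := by
    intro H hH hHc
    have hLn : (H.comap (QuotientGroup.mk' K)).Normal := hH.comap _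
    have hLc : Nat.card (H.comap (QuotientGroup.mk' K)) = p * Nat.card K := by
      rw [Cfsg.Agent.Helper14.BRW.card_comap_mk', hHc]
    have hPL : P ≤ H.comap (QuotientGroup.mk' K) :=
      Cfsg.Agent.Helper2.BRR.le_of_normal_of_dvd hsq hcard _ (by rw [hLc]; exact dvd_mul_right p _)
    have hLtop := SIMPLE.eq_top_of_le p P hcard hcent hperf _ hPL
    have hHtop : H = ⊤ := by
      rw [← Subgroup.map_comap_eq_self_of_surjective (QuotientGroup.mk'_surjective K) H, hLtop]
      exact Subgroup.map_top_of_surjective _ (QuotientGroup.mk'_surjective K)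
    -- `G ⧸ K` of prime order is cyclic, not perfect
    have hQc : Nat.card (G ⧸ K) = p := by
      rw [← hHc, hHtop, Subgroup.card_top]
    haveI : IsCyclic (G ⧸ K) := isCyclic_of_prime_card hQc
    have hbot : commutator (G ⧸ K) = ⊥ := by
      rw [commutator_eq_bot_iff_center_eq_top]
      exact (IsCyclic.commGroup (α := G ⧸ K)).center_eq_top
    rw [hperfQ] at hbot
    have h1 : Nat.card (G ⧸ K) = 1 := by
      have := congrArg (fun S : Subgroup (G ⧸ K) => Nat.card S) hbot
      simpa using this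
    rw [hQc] at h1
    exact hp.one_lt.ne' h1
  obtain ⟨ψ, hψf, hψd⟩ := Cfsg.Agent.Helper2.BRR.exists_faithful_quotient χ
  have := Cfsg.Agent.S4503.result (G := G ⧸ K) p hp hdivQ hsqQ hnnQ (ψ : G ⧸ K → ℂ)
    (isCharacter_of_isIrrCharacter ψ.2) hψf
  rw [hψd] at this
  exact this

end Cfsg.Agent.Helper10.BR996
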