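import Mathlib
import Cfsg.Prelude.Def_EvenType
import Cfsg.Agent.Lib.Helper14.Frattini
import Cfsg.Agent.Lib.Helper14.Normalize

set_option autoImplicit false

namespace Cfsg.Agent.Helper14

open Cfsg

variable {X : Type*} [Group X]

/-- Every `p`-subgroup of `H` lies in an ambient Sylow `p`-subgroup of `H`. -/
theorem exists_isSylowOf_ge {p : ℕ} {H A : Subgroup X} (hA : A ≤ H) (hp : IsPGroup p A) :
    ∃ T, IsSylowOf p H T ∧ A ≤ T := by
  have hp' : IsPGroup p (A.subgroupOf H) := hp.comap_subtype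
  obtain ⟨P, hP⟩ := hp'.exists_le_sylow
  refine ⟨_, ⟨P, rfl⟩, ?_⟩
  intro x hx
  exact ⟨⟨x, hA hx⟩, hP (Subgroup.mem_subgroupOf.mpr hx), rfl⟩

/-- A Sylow `p`-subgroup of the whole group contained in `M` is an ambient Sylow `p`-subgroup of `M`. -/
theorem isSylowOf_of_sylow_le {p : ℕ} (P : Sylow p X) {M : Subgroup X} (h : (P : Subgroup X) ≤ M) :
    IsSylowOf p M (P : Subgroup X) := by
  rw [isSylowOf_iff]
  exact ⟨h, P.isPGroup', fun Q hQ hPQ _ => P.is_maximal' hQ hPQ⟩

/-- The normalizer of a conjugate. -/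
theorem normalizer_map_conj (A : Subgroup X) (g : X) :
    Subgroup.normalizer ((A.map (MulAut.conj g).toMonoidHom : Subgroup X) : Set X) =
      (Subgroup.normalizer (A : Set X)).map (MulAut.conj g).toMonoidHom :=
  (Subgroup.map_equiv_normalizer_eq A (MulAut.conj g)).symm

/-- An element conjugating a subgroup to itself normalizes it. -/
theorem mem_normalizer_of_map_conj_eq {A : Subgroup X} {g : X}
    (h : A.map (MulAut.conj g).toMonoidHom = A) : g ∈ Subgroup.normalizer (A : Set X) := by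
  rw [Subgroup.mem_normalizer_iff]
  intro x
  constructor
  · intro hx
    have : g * x * g⁻¹ ∈ A.map (MulAut.conj g).toMonoidHom := ⟨x, hx, by simp⟩
    rwa [h] at this
  · intro hx
    rw [← h, mem_map_conj_iff] at hx
    simpa [mul_assoc] using hx

theorem map_conj_ne_bot {A : Subgroup X} (hA : A ≠ ⊥) (g : X) :
    A.map (MulAut.conj g).toMonoidHom ≠ ⊥ := by
  intro h
  apply hA
  rwa [Subgroup.map_eq_bot_iff_of_injective _ (MulAut.conj g).injective] at h

theorem map_conj_inv_map_conj (A : Subgroup X) (g : X) :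
    (A.map (MulAut.conj g).toMonoidHom).map (MulAut.conj g⁻¹).toMonoidHom = A := by
  rw [← conj_mul_map, inv_mul_cancel]
  ext x
  rw [mem_map_conj_iff]
  simp

theorem map_conj_map_conj_inv (A : Subgroup X) (g : X) :
    (A.map (MulAut.conj g⁻¹).toMonoidHom).map (MulAut.conj g).toMonoidHom = A := by
  have := map_conj_inv_map_conj A g⁻¹
  rwa [inv_inv] at this

/-- For a finite `p`-subgroup, having `p`-rank at least one means being nontrivial. -/
theorem not_pRankLE_zero_iff {p : ℕ} [hp : Fact p.Prime] {Q : Subgroup X} [Finite Q] (hQ : IsPGroup p Q) :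
    ¬ PRankLE p 0 Q ↔ Q ≠ ⊥ := by
  constructor
  · intro h hbot
    apply h
    intro A _ _
    subst hbot
    have : Subsingleton (↥(⊥ : Subgroup X)) := inferInstance
    have : Subsingleton ↥A := inferInstance
    rw [Nat.card_of_subsingleton (1 : ↥A)]
    simp
  · intro hne h
    have hcard : p ∣ Nat.card Q := by
      rcases hQ.card_eq_or_dvd with h1 | h1
      · exact absurd (Subgroup.card_eq_one.mp h1) hne
      · exact h1
    obtain ⟨x, hx⟩ := exists_prime_orderOf_dvd_card' p hcard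
    have h1 := h (Subgroup.zpowers x) inferInstance (by
      intro a ha
      obtain ⟨k, rfl⟩ := Subgroup.mem_zpowers_iff.mp ha
      rw [← zpow_natCast, ← zpow_mul, mul_comm, zpow_mul, zpow_natCast, ← hx, pow_orderOf_eq_one, one_zpow])
    rw [Nat.card_zpowers, hx, pow_zero] at h1
    exact absurd h1 (not_le.mpr hp.out.one_lt)

/-- `Γ_{P,1}(X) ≤ M` spelled out. -/
theorem kGeneratedCore_one_le_iff {p : ℕ} [Fact p.Prime] [Finite X] {P : Subgroup X} (hP : IsPGroup p P)
    (M : Subgroup X) :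
    kGeneratedCore p 1 P ≤ M ↔
      ∀ Q : Subgroup X, Q ≤ P → Q ≠ ⊥ → Subgroup.normalizer (Q : Set X) ≤ M := by
  unfold kGeneratedCore
  rw [iSup_le_iff]
  constructor
  · intro h Q hQP hQ
    exact h ⟨Q, hQP, (not_pRankLE_zero_iff (hP.to_le hQP)).mpr hQ⟩
  · rintro h ⟨Q, hQP, hQ⟩
    exact h Q hQP ((not_pRankLE_zero_iff (hP.to_le hQP)).mp hQ)

/-- `M` contains the normalizer of each of its nontrivial `p`-subgroups. -/
def NormalizerClosed (p : ℕ) (M : Subgroup X) : Prop :=
  ∀ A : Subgroup X, A ≤ M → IsPGroup p A → A ≠ ⊥ → Subgroup.normalizer (A : Set X) ≤ M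

/-- The ambient centre of a nontrivial finite `p`-subgroup is nontrivial. -/
theorem inf_centralizer_ne_bot {p : ℕ} [Fact p.Prime] {P : Subgroup X} [Finite P] (hP : IsPGroup p P)
    (hne : P ≠ ⊥) : P ⊓ Subgroup.centralizer (P : Set X) ≠ ⊥ := by
  have : Nontrivial ↥P := (Subgroup.nontrivial_iff_ne_bot P).mpr hne
  have hc := hP.center_nontrivial
  obtain ⟨z, hz⟩ := exists_ne (1 : ↥(Subgroup.center ↥P))
  intro hbot
  apply hz
  have hzc : ((z : ↥P) : X) ∈ P ⊓ Subgroup.centralizer (P : Set X) := by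
    refine Subgroup.mem_inf.mpr ⟨(z : ↥P).2, ?_⟩
    rw [Subgroup.mem_centralizer_iff]
    intro y hy
    have := (Subgroup.mem_center_iff.mp z.2) ⟨y, hy⟩
    exact congrArg Subtype.val this
  rw [hbot, Subgroup.mem_bot] at hzc
  apply Subtype.ext
  apply Subtype.ext
  exact hzc

/-- A normalizer-closed subgroup of order divisible by `p` contains a Sylow `p`-subgroup of the group. -/
theorem NormalizerClosed.exists_sylow_le {p : ℕ} [Fact p.Prime] [Finite X] {M : Subgroup X}
    (h : NormalizerClosed p M) (hpM : p ∣ Nat.card M) : ∃ P : Sylow p X, (P : Subgroup X) ≤ M := by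
  obtain ⟨P₀, hP₀⟩ := exists_isSylowOf p M
  have hP₀ne : P₀ ≠ ⊥ := by
    obtain ⟨S, rfl⟩ := hP₀
    have := S.ne_bot_of_dvd_card hpM
    intro hbot
    apply this
    rwa [Subgroup.map_eq_bot_iff_of_injective _ M.subtype_injective] at hbot
  obtain ⟨P, hP⟩ := hP₀.isPGroup.exists_le_sylow
  refine ⟨P, ?_⟩
  have hPne : (P : Subgroup X) ≠ ⊥ := fun hb => hP₀ne (le_bot_iff.mp (hb ▸ hP))
  have hZne := inf_centralizer_ne_bot P.isPGroup' hPne
  have hZM : (P : Subgroup X) ⊓ Subgroup.centralizer ((P : Subgroup X) : Set X) ≤ M :=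
    (inf_le_right.trans (Subgroup.centralizer_le hP)).trans
      ((Subgroup.centralizer_le_normalizer _).trans (h P₀ hP₀.le hP₀.isPGroup hP₀ne))
  have hN := h _ hZM (P.isPGroup'.to_le inf_le_left) hZne
  exact (le_normalizer_inf Subgroup.le_normalizer
    (le_normalizer_centralizer_of_le_normalizer Subgroup.le_normalizer)).trans hN

/-- In a normalizer-closed subgroup `M`, a nontrivial `p`-subgroup of `M` with a conjugate in `M` is conjugated by an
element of `M`. -/
theorem NormalizerClosed.mem_of_map_conj_le {p : ℕ} [Fact p.Prime] [Finite X] {M : Subgroup X}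
    (h : NormalizerClosed p M) {A : Subgroup X} (hAM : A ≤ M) (hA : IsPGroup p A) (hne : A ≠ ⊥) {g : X}
    (hg : A.map (MulAut.conj g).toMonoidHom ≤ M) : g ∈ M := by
  have hpM : p ∣ Nat.card M := by
    have h1 : p ∣ Nat.card A := by
      rcases hA.card_eq_or_dvd with h1 | h1
      · exact absurd (Subgroup.card_eq_one.mp h1) hne
      · exact h1
    exact h1.trans (Subgroup.card_dvd_of_le hAM)
  obtain ⟨P, hPM⟩ := h.exists_sylow_le hpM
  have hPS : IsSylowOf p M (P : Subgroup X) := isSylowOf_of_sylow_le P hPM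
  -- conjugate A into P inside M
  obtain ⟨T', hT', hAT'⟩ := exists_isSylowOf_ge hAM hA
  obtain ⟨m, hm, hmT'⟩ := hPS.exists_conj hT'
  -- B = m⁻¹ A m ≤ P
  set B := A.map (MulAut.conj m⁻¹).toMonoidHom with hB
  have hBP : B ≤ (P : Subgroup X) := by
    rw [hB]
    calc A.map (MulAut.conj m⁻¹).toMonoidHom ≤ T'.map (MulAut.conj m⁻¹).toMonoidHom := Subgroup.map_mono hAT'
      _ = (P : Subgroup X) := by rw [hmT', map_conj_inv_map_conj]
  have hBne : B ≠ ⊥ := map_conj_ne_bot hne _
  -- A = m B m⁻¹, so g A g⁻¹ = (g m) B (g m)⁻¹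
  set k := g * m with hk
  have hkB : B.map (MulAut.conj k).toMonoidHom ≤ M := by
    rw [hk, conj_mul_map, hB, map_conj_map_conj_inv]
    exact hg
  -- it suffices that k ∈ M
  suffices hkM : k ∈ M by
    have : g = k * m⁻¹ := by rw [hk]; group
    rw [this]
    exact M.mul_mem hkM (M.inv_mem hm)
  -- X₁ = k B k⁻¹ ≤ M ∩ k P k⁻¹
  set X₁ := B.map (MulAut.conj k).toMonoidHom with hX₁
  set P' := (P : Subgroup X).map (MulAut.conj k).toMonoidHom with hP'
  have hX₁P' : X₁ ≤ P' := Subgroup.map_mono hBP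
  have hX₁ne : X₁ ≠ ⊥ := map_conj_ne_bot hBne _
  have hX₁p : IsPGroup p X₁ := (P.isPGroup'.to_le hBP).map _
  have hP'p : IsPGroup p P' := P.isPGroup'.map _
  have hPne : (P : Subgroup X) ≠ ⊥ := fun hb => hBne (le_bot_iff.mp (hb ▸ hBP))
  have hP'ne : P' ≠ ⊥ := map_conj_ne_bot hPne _
  have hZne := inf_centralizer_ne_bot hP'p hP'ne
  have hZM : P' ⊓ Subgroup.centralizer (P' : Set X) ≤ M :=
    (inf_le_right.trans (Subgroup.centralizer_le hX₁P')).trans
      ((Subgroup.centralizer_le_normalizer _).trans (h X₁ hkB hX₁p hX₁ne))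
  have hN := h _ hZM (hP'p.to_le inf_le_left) hZne
  have hP'M : P' ≤ M := (le_normalizer_inf Subgroup.le_normalizer
    (le_normalizer_centralizer_of_le_normalizer Subgroup.le_normalizer)).trans hN
  -- P' is an ambient Sylow subgroup of M
  have hP'S : IsSylowOf p M P' := by
    rw [isSylowOf_iff]
    refine ⟨hP'M, hP'p, ?_⟩
    intro Q hQ hP'Q _
    have h1 : (P : Subgroup X) ≤ Q.map (MulAut.conj k⁻¹).toMonoidHom := by
      calc (P : Subgroup X) = P'.map (MulAut.conj k⁻¹).toMonoidHom := by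
            rw [hP', map_conj_inv_map_conj]
        _ ≤ Q.map (MulAut.conj k⁻¹).toMonoidHom := Subgroup.map_mono hP'Q
    have h2 := P.is_maximal' (hQ.map _) h1
    rw [hP', ← h2, map_conj_map_conj_inv]
  obtain ⟨m', hm', hm'P⟩ := hPS.exists_conj hP'S
  -- m'⁻¹ k normalizes P
  have hn : m'⁻¹ * k ∈ Subgroup.normalizer ((P : Subgroup X) : Set X) := by
    have hle : (P : Subgroup X).map (MulAut.conj (m'⁻¹ * k)).toMonoidHom = (P : Subgroup X) := by
      rw [conj_mul_map, ← hP', hm'P, map_conj_inv_map_conj]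
    exact mem_normalizer_of_map_conj_eq hle
  have hnM := h _ hPM P.isPGroup' hPne hn
  have : k = m' * (m'⁻¹ * k) := by group
  rw [this]
  exact M.mul_mem hm' hnM

/-- Characterization of strongly `p`-embedded subgroups through normalizers of nontrivial `p`-subgroups. -/
theorem spe_iff_normalizerClosed {p : ℕ} [Fact p.Prime] [Finite X] (M : Subgroup X) :
    IsStronglyPEmbedded p M ↔ p ∣ Nat.card M ∧ M ≠ ⊤ ∧ NormalizerClosed p M := by
  constructor
  · rintro ⟨hpX, hM, P, hP⟩
    rw [kGeneratedCore_one_le_iff P.isPGroup'] at hP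
    have hPne : (P : Subgroup X) ≠ ⊥ := P.ne_bot_of_dvd_card hpX
    have hPM : (P : Subgroup X) ≤ M := Subgroup.le_normalizer.trans (hP _ le_rfl hPne)
    have hpP : p ∣ Nat.card (P : Subgroup X) := by
      rcases P.isPGroup'.card_eq_or_dvd with h1 | h1
      · exact absurd (Subgroup.card_eq_one.mp h1) hPne
      · exact h1
    refine ⟨hpP.trans (Subgroup.card_dvd_of_le hPM), hM, ?_⟩
    intro A hAM hA hne
    have hPS : IsSylowOf p M (P : Subgroup X) := isSylowOf_of_sylow_le P hPM
    obtain ⟨T', hT', hAT'⟩ := exists_isSylowOf_ge hAM hA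
    obtain ⟨m, hm, hmT'⟩ := hPS.exists_conj hT'
    set B := A.map (MulAut.conj m⁻¹).toMonoidHom with hB
    have hBP : B ≤ (P : Subgroup X) := by
      rw [hB]
      calc A.map (MulAut.conj m⁻¹).toMonoidHom ≤ T'.map (MulAut.conj m⁻¹).toMonoidHom := Subgroup.map_mono hAT'
        _ = (P : Subgroup X) := by rw [hmT', map_conj_inv_map_conj]
    have hBne : B ≠ ⊥ := map_conj_ne_bot hne _
    have hNB := hP B hBP hBne
    have hAB : A = B.map (MulAut.conj m).toMonoidHom := by rw [hB, map_conj_map_conj_inv]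
    rw [hAB, normalizer_map_conj]
    calc (Subgroup.normalizer (B : Set X)).map (MulAut.conj m).toMonoidHom
        ≤ M.map (MulAut.conj m).toMonoidHom := Subgroup.map_mono hNB
      _ = M := map_conj_eq_self_of_mem hm
  · rintro ⟨hpM, hM, h⟩
    obtain ⟨P, hPM⟩ := h.exists_sylow_le hpM
    refine ⟨hpM.trans (Subgroup.card_subgroup_dvd_card M), hM, P, ?_⟩
    rw [kGeneratedCore_one_le_iff P.isPGroup']
    intro Q hQP hQ
    exact h Q (hQP.trans hPM) (P.isPGroup'.to_le hQP) hQ

/-- The conjugate Sylow subgroup as a map. -/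
theorem sylow_smul_coe {p : ℕ} (P : Sylow p X) (g : X) :
    ((g • P : Sylow p X) : Subgroup X) = (P : Subgroup X).map (MulAut.conj g).toMonoidHom := by
  rw [Sylow.coe_subgroup_smul]
  rfl

/-- Sylow's conjugacy theorem for the whole group, with maps. -/
theorem sylow_exists_conj {p : ℕ} [Fact p.Prime] [Finite X] (P Q : Sylow p X) :
    ∃ g : X, (Q : Subgroup X) = (P : Subgroup X).map (MulAut.conj g).toMonoidHom := by
  obtain ⟨g, hg⟩ := MulAction.exists_smul_eq X P Q
  exact ⟨g, by rw [← hg, sylow_smul_coe]⟩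

/-- `Γ_{P,1}` of a conjugate Sylow subgroup. -/
theorem kGeneratedCore_one_conj_le_iff {p : ℕ} [Fact p.Prime] [Finite X] (T : Sylow p X) (g : X) (M : Subgroup X) :
    kGeneratedCore p 1 ((g • T : Sylow p X) : Subgroup X) ≤ M ↔
      (kGeneratedCore p 1 (T : Subgroup X)).map (MulAut.conj g).toMonoidHom ≤ M := by
  rw [kGeneratedCore_one_le_iff (g • T).isPGroup']
  constructor
  · intro h
    unfold kGeneratedCore
    rw [Subgroup.map_iSup]
    apply iSup_le
    rintro ⟨A, hAT, hA⟩
    have hA' : A ≠ ⊥ := (not_pRankLE_zero_iff (T.isPGroup'.to_le hAT)).mp hA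
    rw [← normalizer_map_conj]
    apply h _ _ (map_conj_ne_bot hA' _)
    rw [sylow_smul_coe]
    exact Subgroup.map_mono hAT
  · intro h Q hQP hQ
    rw [sylow_smul_coe] at hQP
    set A := Q.map (MulAut.conj g⁻¹).toMonoidHom with hA
    have hAT : A ≤ (T : Subgroup X) := by
      calc A ≤ ((T : Subgroup X).map (MulAut.conj g).toMonoidHom).map (MulAut.conj g⁻¹).toMonoidHom :=
            Subgroup.map_mono hQP
        _ = (T : Subgroup X) := map_conj_inv_map_conj _ _
    have hAne : A ≠ ⊥ := map_conj_ne_bot hQ _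
    have hQA : Q = A.map (MulAut.conj g).toMonoidHom := by rw [hA, map_conj_map_conj_inv]
    rw [hQA, normalizer_map_conj]
    refine le_trans (Subgroup.map_mono ?_) h
    exact (kGeneratedCore_one_le_iff T.isPGroup' _).mp le_rfl A hAT hAne

end Cfsg.Agent.Helper14
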