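import Mathlib
import Cfsg.Prelude.Def_Solvable
import Cfsg.Prelude.Def_Transfer

/-!
# S4840 (Gagola, solvable case): definitions (helper14)

Abstract setting: a finite group `X` acts faithfully by automorphisms on an elementary abelian
`p`-group `V` (written multiplicatively), transitively on `V \ {1}`, with point stabilisers
`p`-groups, and `O_p(X) = 1`.
-/

set_option autoImplicit false

namespace Cfsg.Agent.Helper14.Gag40

open Cfsg

/-- The transitive linear setting of Gagola's theorem. -/
structure TLin (p : ℕ) (X V : Type*) [Group X] [Group V] [MulDistribMulAction X V] : Prop where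
  faithful : ∀ x : X, (∀ v : V, x • v = v) → x = 1
  comm : ∀ a b : V, a * b = b * a
  exp : ∀ a : V, a ^ p = 1
  nontriv : ∃ v : V, v ≠ 1
  trans : ∀ v w : V, v ≠ 1 → w ≠ 1 → ∃ x : X, x • v = w
  stab : ∀ v : V, v ≠ 1 → IsPGroup p (MulAction.stabilizer X v)
  core : Cfsg.pCore p X = ⊥

/-- `T` is "good" for `p`: derived subgroups of Sylow `p`-subgroups and the `p`-elements of
`O^p(X)` centralize `T`. -/
def Good {X : Type*} [Group X] (p : ℕ) (T : Subgroup X) : Prop :=
  (∀ P : Sylow p X, ⁅(P : Subgroup X), (P : Subgroup X)⁆ ≤ Subgroup.centralizer (T : Set X)) ∧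
  (∀ g ∈ Cfsg.pResidual p X, (∃ k : ℕ, orderOf g = p ^ k) → g ∈ Subgroup.centralizer (T : Set X))

section Basic

variable {p : ℕ} {X V : Type*} [Group X] [Group V] [MulDistribMulAction X V]

/-- Elements of order prime to `p` act fixed-point-freely. -/
theorem TLin.fpf [hp : Fact p.Prime] (h : TLin p X V) {x : X} (hx : (orderOf x).Coprime p) {v : V}
    (hv : x • v = v) (hv1 : v ≠ 1) : x = 1 := by
  have hmem : x ∈ MulAction.stabilizer X v := hv
  obtain ⟨k, hk⟩ := (h.stab v hv1) ⟨x, hmem⟩
  have hk' : x ^ p ^ k = 1 := by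
    have := congrArg Subtype.val hk
    simpa using this
  have hdvd : orderOf x ∣ p ^ k := orderOf_dvd_of_pow_eq_one hk'
  have hcop : (orderOf x).Coprime (p ^ k) := Nat.Coprime.pow_right k hx
  have : orderOf x = 1 := Nat.Coprime.eq_one_of_dvd hcop hdvd
  exact orderOf_eq_one_iff.mp this

end Basic

end Cfsg.Agent.Helper14.Gag40
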