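import Mathlib
import Cfsg.Agent.Lib.Helper14.GAG40Defs
import Cfsg.Agent.Lib.Helper16.UniqueOrderP
import Cfsg.Agent.Lib.Helper16.UniqueInvolution
import Cfsg.Agent.Lib.Helper16.OddUnique
import Cfsg.Agent.Lib.Helper7.Bender
import Cfsg.Agent.Lib.Helper1.FittingSolvable
import Cfsg.Agent.Lib.Helper10.BG36K4
import Cfsg.Agent.Lib.Helper9.PCoreSub
import Cfsg.Agent.Lib.Helper1.Tate
import Cfsg.Agent.Lib.Helper25.GAG40CARD
import Cfsg.Agent.Lib.Helper20.GAG40CHAIN
import Cfsg.Agent.Lib.Helper20.GAG40QSTR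
import Cfsg.Agent.Lib.Helper23.GAG40IDX2
import Cfsg.Agent.Lib.Helper25.GAG40UOP
import Cfsg.Agent.Lib.Helper26.GAG40Q8
import Cfsg.Agent.Lib.Helper28.GAG40BADV

/-!
# S4840 (Gagola, solvable case): assembly of the abstract theorem `main_X` (helper14)
Pieces: CARD/UOP (helper25), CHAIN/QSTR (helper20), IDX2 (helper23), Q8 (helper26), BADV (helper28).
-/

set_option autoImplicit false

namespace Cfsg.Agent.Helper14.Gag40

open Cfsg

section ASM
variable {p : ℕ} {X V : Type*} [Group X] [Group V] [MulDistribMulAction X V]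

theorem commutator_le_of_index_dvd_three [Finite X] (Y : Subgroup X) [Y.Normal]
    (h3 : Y.index ∣ 3) : commutator X ≤ Y := by
  have hcomm : ∀ a b : X ⧸ Y, a * b = b * a := by
    have hcard : Nat.card (X ⧸ Y) ∣ 3 := by rw [← Subgroup.index_eq_card]; exact h3
    rcases (Nat.dvd_prime Nat.prime_three).mp hcard with h1 | h1
    · haveI : Subsingleton (X ⧸ Y) := (Nat.card_eq_one_iff_unique.mp h1).1
      intro a b
      exact Subsingleton.elim _ _
    · haveI : Fact (Nat.Prime 3) := ⟨Nat.prime_three⟩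
      haveI : IsCyclic (X ⧸ Y) := isCyclic_of_prime_card h1
      intro a b
      exact (IsCyclic.commGroup).mul_comm a b
  rw [commutator_eq_closure, Subgroup.closure_le]
  rintro c ⟨g, k, rfl⟩
  rw [SetLike.mem_coe, ← QuotientGroup.eq_one_iff (N := Y)]
  rw [commutatorElement_def]
  simp only [QuotientGroup.mk_mul, QuotientGroup.mk_inv]
  rw [hcomm (g : X ⧸ Y) (k : X ⧸ Y)]
  group

theorem good_of_q8 [Finite X] [Finite V] [hp : Fact p.Prime] (h : TLin p X V) (T : Subgroup X)
    [T.Normal] (e : T ≃* QuaternionGroup 2) (hp2 : p ≠ 2) : Good p T := by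
  obtain ⟨Y, hYn, hTY, hCY, hY6, hCY4, hodd, i, j, hiT, hjT, hii, hz1, hz2, hji⟩ := q8_chain T e
  haveI := hYn
  have h1 : ∀ y ∈ Y, (∃ k : ℕ, orderOf y = p ^ k) → y ∈ Subgroup.centralizer (T : Set X) := by
    rintro y hy ⟨k, hk⟩
    apply hodd y hy
    rw [hk]
    exact Odd.pow (hp.out.odd_of_ne_two hp2)
  have h2 : commutator X ≤ Y ∨ (Y.index).Coprime p := by
    by_cases hp3 : p = 3
    · left
      subst hp3
      have hC : ∀ c ∈ Subgroup.centralizer (T : Set X), ∀ t ∈ T, c * t = t * c := by
        intro c hc t ht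
        exact ((Subgroup.mem_centralizer_iff.mp hc) t ht).symm
      have hidx : (Subgroup.centralizer (T : Set X)).index ∣ 24 := by
        rw [← Subgroup.relIndex_mul_index hCY]
        exact Nat.mul_dvd_mul hCY4 hY6
      obtain ⟨b, hb⟩ := badv h i j (Subgroup.centralizer (T : Set X)) hii hz1 hz2 hji
        (fun c hc => hC c hc i hiT) (fun c hc => hC c hc j hjT) hidx
      have hT8 : Nat.card T = 8 := by
        rw [Nat.card_congr e.toEquiv, Nat.card_eq_fintype_card, QuaternionGroup.card]
      have hTidx : T.index = 3 ^ b := by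
        have := T.card_mul_index
        rw [hT8, hb] at this
        omega
      have hYT : Y.index ∣ 3 ^ b := hTidx ▸ Subgroup.index_dvd_of_le hTY
      have hY3 : Y.index ∣ 3 := by
        obtain ⟨k, -, hk⟩ := (Nat.dvd_prime_pow Nat.prime_three).mp hYT
        rw [hk] at hY6 ⊢
        rcases k with _ | _ | k
        · simp
        · simp
        · exfalso
          have h9 : 9 ∣ 6 := dvd_trans ⟨3 ^ k, by ring⟩ hY6
          omega
      exact commutator_le_of_index_dvd_three Y hY3
    · right
      have hcop6 : Nat.Coprime 6 p := by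
        rw [Nat.coprime_comm, hp.out.coprime_iff_not_dvd]
        intro h6
        have : p ∣ 2 * 3 := h6
        rcases (Nat.Prime.dvd_mul hp.out).mp this with h' | h'
        · exact hp2 ((Nat.prime_dvd_prime_iff_eq hp.out Nat.prime_two).mp h')
        · exact hp3 ((Nat.prime_dvd_prime_iff_eq hp.out Nat.prime_three).mp h')
      exact Nat.Coprime.coprime_dvd_left hY6 hcop6
  exact chain _ Y hCY h1 h2

theorem good_pCore [Finite X] [Finite V] [hp : Fact p.Prime] (h : TLin p X V) (l : ℕ)
    [hl : Fact l.Prime] (hlp : l ≠ p) : Good p (Cfsg.pCore l X) := by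
  haveI hTn : (Cfsg.pCore l X).Normal := Cfsg.Agent.Helper7.pCore_normal l
  have hTl : IsPGroup l (Cfsg.pCore l X) := Cfsg.Agent.Helper9.pCore_isPGroup' l X
  have hu := uop h hlp (Cfsg.pCore l X) hTl
  rcases hl.out.eq_two_or_odd' with h2 | hodd
  · subst h2
    rcases Cfsg.Agent.Helper16.cyclic_or_quaternion_of_uniqueOrderP_two hTl hu with hc | ⟨n, ⟨e⟩⟩
    · exact good_of_cyclic _ hc
    · rcases n with _ | _ | n
      · -- QuaternionGroup 1 is cyclic
        have hc : IsCyclic (Cfsg.pCore 2 X) := by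
          haveI := QuaternionGroup.quaternionGroup_one_isCyclic
          exact isCyclic_of_surjective e.symm e.symm.surjective
        exact good_of_cyclic _ hc
      · exact good_of_q8 h _ e (Ne.symm hlp)
      · obtain ⟨A, hAn, hAT, hAc, hidx⟩ := qstr (Cfsg.pCore 2 X) (by omega : 2 ≤ n + 1 + 1) e
        haveI := hAn
        exact good_of_index_two hlp _ A hAT hTl hAc hidx
  · have hc : IsCyclic (Cfsg.pCore l X) :=
      Cfsg.Agent.Helper16.isCyclic_of_uniqueOrderP_odd hodd hTl hu
    exact good_of_cyclic _ hc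

/-- everything "good" centralizes the Fitting subgroup -/
theorem le_centralizer_fitting [Finite X] [hp : Fact p.Prime] (hcore : Cfsg.pCore p X = ⊥)
    (K : Subgroup X)
    (hK : ∀ (l : ℕ) [Fact l.Prime], l ≠ p → K ≤ Subgroup.centralizer (Cfsg.pCore l X : Set X)) :
    K ≤ Subgroup.centralizer (Cfsg.fittingSubgroup X : Set X) := by
  rw [Cfsg.Agent.Helper7.fittingSubgroup_eq_iSup_pCore, Subgroup.le_centralizer_iff]
  apply iSup_le
  intro r
  haveI : Fact (r : ℕ).Prime := ⟨r.2⟩
  by_cases hr : (r : ℕ) = p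
  · rw [hr, hcore]
    exact bot_le
  · rw [← Subgroup.le_centralizer_iff]
    exact hK r hr

theorem main_X [Finite X] [Finite V] [hp : Fact p.Prime] [Group.IsSolvable X] (h : TLin p X V) :
    HasNormalPComplement p X ∧ ∀ Q : Sylow p X, IsMulCommutative (Q : Subgroup X) := by
  have hCF := Cfsg.Agent.Helper1.centralizer_fittingSubgroup_le_of_isSolvable (G := X)
  have hpF := Cfsg.Agent.Helper10.BG36K.not_dvd_card_fittingSubgroup (K := X) p h.core
  have hgood := fun (l : ℕ) [Fact l.Prime] (hlp : l ≠ p) => good_pCore h l hlp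
  constructor
  · apply Cfsg.Agent.Helper1.hasNormalPComplement_of_not_dvd_card_pResidual
    intro hdvd
    obtain ⟨g, hg⟩ := exists_prime_orderOf_dvd_card' (G := Cfsg.pResidual p X) p hdvd
    have hgo : orderOf (g : X) = p := by rw [Subgroup.orderOf_coe]; exact hg
    have hgC : Subgroup.zpowers (g : X) ≤
        Subgroup.centralizer (Cfsg.fittingSubgroup X : Set X) := by
      apply le_centralizer_fitting h.core
      intro l _ hlp
      rw [Subgroup.zpowers_le]
      exact (hgood l hlp).2 (g : X) g.2 ⟨1, by rw [hgo, pow_one]⟩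
    have hgF : (g : X) ∈ Cfsg.fittingSubgroup X := hCF (hgC (Subgroup.mem_zpowers _))
    apply hpF
    have := orderOf_dvd_natCard (⟨(g : X), hgF⟩ : Cfsg.fittingSubgroup X)
    rwa [← Subgroup.orderOf_coe, hgo] at this
  · intro Q
    have hQC : ⁅(Q : Subgroup X), (Q : Subgroup X)⁆ ≤
        Subgroup.centralizer (Cfsg.fittingSubgroup X : Set X) := by
      apply le_centralizer_fitting h.core
      intro l _ hlp
      exact (hgood l hlp).1 Q
    have hQF : ⁅(Q : Subgroup X), (Q : Subgroup X)⁆ ≤ Cfsg.fittingSubgroup X := hQC.trans hCF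
    have hQQ : ⁅(Q : Subgroup X), (Q : Subgroup X)⁆ ≤ (Q : Subgroup X) := by
      rw [Subgroup.commutator_le]
      intro a ha b hb
      rw [commutatorElement_def]
      exact mul_mem (mul_mem (mul_mem ha hb) (inv_mem ha)) (inv_mem hb)
    have hbot : ⁅(Q : Subgroup X), (Q : Subgroup X)⁆ = ⊥ := by
      rw [eq_bot_iff]
      intro x hx
      rw [Subgroup.mem_bot]
      obtain ⟨k, hk⟩ := (Q.2) ⟨x, hQQ hx⟩
      have hk' : x ^ p ^ k = 1 := by simpa using congrArg Subtype.val hk
      have hd1 : orderOf x ∣ p ^ k := orderOf_dvd_of_pow_eq_one hk'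
      have hd2 : orderOf x ∣ Nat.card (Cfsg.fittingSubgroup X) := by
        have := orderOf_dvd_natCard (⟨x, hQF hx⟩ : Cfsg.fittingSubgroup X)
        rwa [← Subgroup.orderOf_coe] at this
      have hcop : (p ^ k).Coprime (Nat.card (Cfsg.fittingSubgroup X)) :=
        Nat.Coprime.pow_left k ((Nat.Prime.coprime_iff_not_dvd hp.out).mpr hpF)
      have : orderOf x = 1 := Nat.eq_one_of_dvd_coprimes hcop hd1 hd2
      exact orderOf_eq_one_iff.mp this
    constructor
    constructor
    intro a b
    apply Subtype.ext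
    have := Subgroup.commutator_mem_commutator a.2 b.2
    rw [hbot, Subgroup.mem_bot, commutatorElement_eq_one_iff_mul_comm] at this
    exact this

end ASM

end Cfsg.Agent.Helper14.Gag40
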