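import Mathlib
import Cfsg.Prelude.Def_OddOrderLocal
import Cfsg.Agent.Lib.Helper10.PiCore
import Cfsg.Agent.Lib.Helper7.Transitivity
import Cfsg.Agent.Lib.Helper12.PGroup

/-!
# Transitivity theorems in a minimal simple group of odd order (helper14)

Basic lemmas: `piCoreOf`, invariant `q`-subgroups, conjugation under
`K = O_{π(A)'}(C_G(A))`.
-/

set_option autoImplicit false

namespace Cfsg.Agent.Helper14.BGTrans

open Cfsg Subgroup
open Cfsg.Agent.Helper10 (IsPiNum)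
open Cfsg.Agent.Helper15 (mem_map_conj_iff conj_mem_map_conj map_conj_map_conj map_conj_one
  map_conj_inv_map_conj map_conj_map_conj_inv map_conj_mono card_map_conj isPGroup_map_conj
  map_conj_eq_of_mem_normalizer)

variable {G : Type*} [Group G]

/-! ### `piCoreOf` -/

theorem piCoreOf_le (π : Set ℕ) (X : Subgroup G) : piCoreOf π X ≤ X :=
  Subgroup.map_subtype_le _

theorem card_piCoreOf [Finite G] (π : Set ℕ) (X : Subgroup G) :
    IsPiNum π (Nat.card ↥(piCoreOf π X)) := by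
  unfold piCoreOf
  rw [Subgroup.card_map_of_injective X.subtype_injective]
  exact Cfsg.Agent.Helper10.card_piCore π

theorem piCoreOf_subgroupOf (π : Set ℕ) (X : Subgroup G) :
    (piCoreOf π X).subgroupOf X = piCore π ↥X := by
  unfold piCoreOf Subgroup.subgroupOf
  exact Subgroup.comap_map_eq_self_of_injective X.subtype_injective _

theorem le_normalizer_piCoreOf (π : Set ℕ) (X : Subgroup G) :
    X ≤ normalizer (piCoreOf π X : Set G) := by
  rw [← Subgroup.normal_subgroupOf_iff_le_normalizer (piCoreOf_le π X), piCoreOf_subgroupOf]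
  infer_instance

theorem le_piCoreOf (π : Set ℕ) {X Y : Subgroup G} (hYX : Y ≤ X)
    (hn : X ≤ normalizer (Y : Set G)) (hY : IsPiNum π (Nat.card ↥Y)) : Y ≤ piCoreOf π X := by
  haveI : (Y.subgroupOf X).Normal := (Subgroup.normal_subgroupOf_iff_le_normalizer hYX).mpr hn
  have h1 : Y.subgroupOf X ≤ piCore π ↥X := Cfsg.Agent.Helper10.le_piCore π inferInstance (by
    rw [Nat.card_congr (Subgroup.subgroupOfEquivOfLe hYX).toEquiv]; exact hY)
  have h2 := Subgroup.map_mono (f := X.subtype) h1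
  rwa [Subgroup.map_subgroupOf_eq_of_le hYX] at h2

/-! ### numbers -/

theorem isPiNum_primesNotDvd_iff {n m : ℕ} : IsPiNum (primesNotDvd n) m ↔ m.Coprime n := by
  constructor
  · intro h
    exact Nat.coprime_of_dvd (fun k hk hkm => (h k hk hkm).2)
  · intro h p hp hpm
    refine ⟨hp, fun hpn => ?_⟩
    have := Nat.dvd_gcd hpm hpn
    rw [h] at this
    exact hp.one_lt.ne' (Nat.dvd_one.mp this)

theorem isPiNum_singleton_iff [Finite G] {q : ℕ} [Fact q.Prime] (Y : Subgroup G) :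
    IsPiNum {q} (Nat.card ↥Y) ↔ IsPGroup q ↥Y := by
  have hq := (Fact.out : q.Prime)
  constructor
  · intro h
    have := Nat.eq_prime_pow_of_unique_prime_dvd (n := Nat.card ↥Y) (p := q) Nat.card_pos.ne'
      (fun {d} hd hdn => h d hd hdn)
    exact IsPGroup.of_card this
  · intro h p hp hpY
    obtain ⟨k, hk⟩ := h.exists_card_eq
    rw [hk] at hpY
    exact (Nat.prime_dvd_prime_iff_eq hp hq).mp (hp.dvd_of_dvd_pow hpY)

theorem isPiNum_primesNotDvd_of_isPGroup [Finite G] {q : ℕ} [Fact q.Prime] {n : ℕ}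
    (hqn : ¬ q ∣ n) {Y : Subgroup G} (hY : IsPGroup q ↥Y) :
    IsPiNum (primesNotDvd n) (Nat.card ↥Y) := by
  intro p hp hpY
  have := (isPiNum_singleton_iff Y).mpr hY p hp hpY
  rw [Set.mem_singleton_iff] at this
  subst this
  exact ⟨hp, hqn⟩

/-! ### invariant subgroups -/

theorem mem_invSubgroups_top_iff [Finite G] {q : ℕ} [Fact q.Prime] {A Q : Subgroup G} :
    Q ∈ invSubgroups ⊤ A {q} ↔ IsPGroup q ↥Q ∧ A ≤ normalizer (Q : Set G) := by
  constructor
  · rintro ⟨-, h2, h3⟩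
    exact ⟨(isPiNum_singleton_iff Q).mp h2, h3⟩
  · rintro ⟨h2, h3⟩
    exact ⟨le_top, (isPiNum_singleton_iff Q).mpr h2, h3⟩

theorem mem_maxInvSubgroups_top_iff [Finite G] {q : ℕ} [Fact q.Prime] {A Q : Subgroup G} :
    Q ∈ maxInvSubgroups ⊤ A {q} ↔ (IsPGroup q ↥Q ∧ A ≤ normalizer (Q : Set G)) ∧
      ∀ R : Subgroup G, IsPGroup q ↥R → A ≤ normalizer (R : Set G) → Q ≤ R → R = Q := by
  constructor
  · rintro ⟨h1, h2⟩
    exact ⟨mem_invSubgroups_top_iff.mp h1,
      fun R hR hAR hQR => h2 R (mem_invSubgroups_top_iff.mpr ⟨hR, hAR⟩) hQR⟩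
  · rintro ⟨h1, h2⟩
    refine ⟨mem_invSubgroups_top_iff.mpr h1, fun R hR hQR => ?_⟩
    obtain ⟨hR1, hR2⟩ := mem_invSubgroups_top_iff.mp hR
    exact h2 R hR1 hR2 hQR

/-- every invariant `q`-subgroup lies in a maximal one -/
theorem exists_maxInv_ge [Finite G] {q : ℕ} [Fact q.Prime] {A U : Subgroup G}
    (hU : IsPGroup q ↥U) (hAU : A ≤ normalizer (U : Set G)) :
    ∃ Q ∈ maxInvSubgroups ⊤ A {q}, U ≤ Q := by
  obtain ⟨Q, hQ⟩ := Set.Finite.exists_maximal
    (s := {R : Subgroup G | IsPGroup q ↥R ∧ A ≤ normalizer (R : Set G) ∧ U ≤ R})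
    (Set.toFinite _) ⟨U, hU, hAU, le_rfl⟩
  obtain ⟨⟨hQ1, hQ2, hQ3⟩, hQmax⟩ := hQ
  refine ⟨Q, mem_maxInvSubgroups_top_iff.mpr ⟨⟨hQ1, hQ2⟩, ?_⟩, hQ3⟩
  intro R hR hAR hQR
  exact le_antisymm (hQmax ⟨hR, hAR, hQ3.trans hQR⟩ hQR) hQR

theorem map_conj_le_normalizer_map_conj {A Q : Subgroup G}
    (h : A ≤ normalizer (Q : Set G)) (g : G) :
    A.map (MulAut.conj g).toMonoidHom ≤
      normalizer ((Q.map (MulAut.conj g).toMonoidHom : Subgroup G) : Set G) := by
  have := Subgroup.map_equiv_normalizer_eq Q (MulAut.conj g)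
  rw [← this]
  exact Subgroup.map_mono h

theorem le_normalizer_map_conj {A Q : Subgroup G}
    (h : A ≤ normalizer (Q : Set G)) {g : G} (hg : g ∈ normalizer (A : Set G)) :
    A ≤ normalizer ((Q.map (MulAut.conj g).toMonoidHom : Subgroup G) : Set G) := by
  have := map_conj_le_normalizer_map_conj h g
  rwa [map_conj_eq_of_mem_normalizer hg] at this

theorem maxInv_map_conj [Finite G] {q : ℕ} [Fact q.Prime] {A Q : Subgroup G}
    (hQ : Q ∈ maxInvSubgroups ⊤ A {q}) {g : G} (hg : g ∈ normalizer (A : Set G)) :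
    Q.map (MulAut.conj g).toMonoidHom ∈ maxInvSubgroups ⊤ A {q} := by
  rw [mem_maxInvSubgroups_top_iff] at hQ ⊢
  obtain ⟨⟨hQ1, hQ2⟩, hQ3⟩ := hQ
  refine ⟨⟨isPGroup_map_conj hQ1 g, le_normalizer_map_conj hQ2 hg⟩, ?_⟩
  intro R hR hAR hQR
  have hg' : g⁻¹ ∈ normalizer (A : Set G) := Subgroup.inv_mem _ hg
  have h1 := hQ3 _ (isPGroup_map_conj hR g⁻¹) (le_normalizer_map_conj hAR hg') (by
    have := map_conj_mono hQR g⁻¹
    rwa [map_conj_inv_map_conj] at this)
  rw [← h1, map_conj_map_conj_inv]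

/-! ### the group `K` and conjugacy under it -/

/-- `K = O_{π(A)'}(C_G(A))` -/
def KK (A : Subgroup G) : Subgroup G :=
  piCoreOf (primesNotDvd (Nat.card ↥A)) (centralizer (A : Set G))

theorem KK_le_centralizer (A : Subgroup G) : KK A ≤ centralizer (A : Set G) :=
  piCoreOf_le _ _

theorem KK_le_normalizer (A : Subgroup G) : KK A ≤ normalizer (A : Set G) :=
  (KK_le_centralizer A).trans (Subgroup.centralizer_le_normalizer _)

theorem card_KK_coprime [Finite G] (A : Subgroup G) : (Nat.card ↥(KK A)).Coprime (Nat.card ↥A) :=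
  isPiNum_primesNotDvd_iff.mp (card_piCoreOf _ _)

/-- conjugacy under `K` -/
def KConj (A : Subgroup G) (Q Q' : Subgroup G) : Prop :=
  ∃ k ∈ KK A, Q.map (MulAut.conj k).toMonoidHom = Q'

theorem KConj.refl (A Q : Subgroup G) : KConj A Q Q :=
  ⟨1, Subgroup.one_mem _, map_conj_one Q⟩

theorem KConj.symm {A Q Q' : Subgroup G} (h : KConj A Q Q') : KConj A Q' Q := by
  obtain ⟨c, hc, rfl⟩ := h
  exact ⟨c⁻¹, Subgroup.inv_mem _ hc, map_conj_inv_map_conj Q c⟩

theorem KConj.trans {A Q Q' Q'' : Subgroup G} (h : KConj A Q Q') (h' : KConj A Q' Q'') :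
    KConj A Q Q'' := by
  obtain ⟨c, hc, rfl⟩ := h
  obtain ⟨d, hd, rfl⟩ := h'
  exact ⟨d * c, Subgroup.mul_mem _ hd hc, (map_conj_map_conj Q d c).symm⟩

theorem KConj.maxInv [Finite G] {q : ℕ} [Fact q.Prime] {A Q Q' : Subgroup G}
    (h : KConj A Q Q') (hQ : Q ∈ maxInvSubgroups ⊤ A {q}) : Q' ∈ maxInvSubgroups ⊤ A {q} := by
  obtain ⟨c, hc, rfl⟩ := h
  exact maxInv_map_conj hQ (KK_le_normalizer A hc)

/-! ### consequences of the transitivity hypothesis -/

theorem normalizer_ne_top (hG : IsMinSimpleOddOrder G) {A : Subgroup G}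
    (hA : TransitivityHypothesis A) : normalizer (A : Set G) ≠ ⊤ := by
  intro h
  have hn : A.Normal := Subgroup.normalizer_eq_top_iff.mp h
  haveI := hG.2.1
  rcases hn.eq_bot_or_eq_top with h1 | h1
  · exact hA.1 h1
  · exact hA.2.1 h1

theorem isSolvable_of_ne_top (hG : IsMinSimpleOddOrder G) {H : Subgroup G} (hH : H ≠ ⊤) :
    Group.IsSolvable ↥H := hG.2.2.2 H hH

/-- every `A`-invariant `π(A)'`-subgroup of a proper subgroup `X ≥ A` lies in `O_{π(A)'}(X)` -/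
theorem le_piCoreOf_of_inv {A : Subgroup G} (hA : TransitivityHypothesis A) {X : Subgroup G}
    (hX : X ≠ ⊤) (hAX : A ≤ X) {Y : Subgroup G} (hYX : Y ≤ X)
    (hY : (Nat.card ↥Y).Coprime (Nat.card ↥A)) (hAY : A ≤ normalizer (Y : Set G)) :
    Y ≤ piCoreOf (primesNotDvd (Nat.card ↥A)) X := by
  rw [← hA.2.2 X hX hAX]
  exact le_sSup ⟨hYX, isPiNum_primesNotDvd_iff.mpr hY, hAY⟩

/-- every `π(A)'`-subgroup of `C_G(A)` lies in `K` -/
theorem le_KK_of_le_centralizer [Finite G] (hG : IsMinSimpleOddOrder G) {A : Subgroup G}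
    (hA : TransitivityHypothesis A) {M : Subgroup G} (hMC : M ≤ centralizer (A : Set G))
    (hM : (Nat.card ↥M).Coprime (Nat.card ↥A)) : M ≤ KK A := by
  have hN := normalizer_ne_top hG hA
  have hAM : A ≤ normalizer (M : Set G) := by
    refine le_trans ?_ (Subgroup.centralizer_le_normalizer _)
    intro a ha
    rw [Subgroup.mem_centralizer_iff]
    intro m hm
    exact ((Subgroup.mem_centralizer_iff.mp (hMC hm)) a ha).symm
  have h1 : M ≤ piCoreOf (primesNotDvd (Nat.card ↥A)) (normalizer (A : Set G)) :=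
    le_piCoreOf_of_inv hA hN Subgroup.le_normalizer
      (hMC.trans (Subgroup.centralizer_le_normalizer _)) hM hAM
  set L' := piCoreOf (primesNotDvd (Nat.card ↥A)) (normalizer (A : Set G)) with hL'
  have h2 : M ≤ L' ⊓ centralizer (A : Set G) := le_inf h1 hMC
  refine h2.trans ?_
  apply le_piCoreOf _ inf_le_right
  · have hC : centralizer (A : Set G) ≤ normalizer ((centralizer (A : Set G) : Subgroup G) : Set G) :=
      Subgroup.le_normalizer
    have hCL : centralizer (A : Set G) ≤ normalizer (L' : Set G) :=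
      (Subgroup.centralizer_le_normalizer _).trans (le_normalizer_piCoreOf _ _)
    exact (le_inf hCL hC).trans Subgroup.inf_normalizer_le_normalizer_inf
  · exact (card_piCoreOf _ _).of_dvd (Subgroup.card_dvd_of_le inf_le_left)

/-- **Key lemma**: in a proper subgroup `X ≥ A`, two `A`-invariant `q`-subgroups are contained
in `A`-invariant `q`-subgroups conjugate under `K`. -/
theorem exists_KConj_ge [Finite G] (hG : IsMinSimpleOddOrder G) {A : Subgroup G}
    (hA : TransitivityHypothesis A) {q : ℕ} [Fact q.Prime] (hqA : ¬ q ∣ Nat.card ↥A)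
    {X : Subgroup G} (hX : X ≠ ⊤) (hAX : A ≤ X) {U₁ U₂ : Subgroup G} (hU₁X : U₁ ≤ X)
    (hU₂X : U₂ ≤ X) (hU₁ : IsPGroup q ↥U₁) (hU₂ : IsPGroup q ↥U₂)
    (hAU₁ : A ≤ normalizer (U₁ : Set G)) (hAU₂ : A ≤ normalizer (U₂ : Set G)) :
    ∃ R₁ R₂ : Subgroup G, U₁ ≤ R₁ ∧ U₂ ≤ R₂ ∧ IsPGroup q ↥R₁ ∧ IsPGroup q ↥R₂ ∧
      A ≤ normalizer (R₁ : Set G) ∧ A ≤ normalizer (R₂ : Set G) ∧ KConj A R₁ R₂ := by
  set L := piCoreOf (primesNotDvd (Nat.card ↥A)) X with hL
  have hcopU : ∀ U : Subgroup G, IsPGroup q ↥U → (Nat.card ↥U).Coprime (Nat.card ↥A) :=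
    fun U hU => isPiNum_primesNotDvd_iff.mp (isPiNum_primesNotDvd_of_isPGroup hqA hU)
  have hU₁L : U₁ ≤ L := le_piCoreOf_of_inv hA hX hAX hU₁X (hcopU U₁ hU₁) hAU₁
  have hU₂L : U₂ ≤ L := le_piCoreOf_of_inv hA hX hAX hU₂X (hcopU U₂ hU₂) hAU₂
  have hAL : A ≤ normalizer (L : Set G) := hAX.trans (le_normalizer_piCoreOf _ _)
  have hcop : (Nat.card ↥A).Coprime (Nat.card ↥L) :=
    (isPiNum_primesNotDvd_iff.mp (card_piCoreOf _ _)).symm
  have hsolv : Group.IsSolvable ↥A := isSolvable_of_ne_top hG hA.2.1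
  obtain ⟨R₁, R₂, h1, h2, -, -, h5, h6, h7, h8, h, hh, hconj⟩ :=
    Cfsg.Agent.Helper7.exists_conj_invariant_sylow A L hAL hcop (Or.inl hsolv) q U₁ U₂ hU₁L hU₂L
      hU₁ hU₂ hAU₁ hAU₂
  refine ⟨R₁, R₂, h1, h2, h5, h6, h7, h8, h, ?_, hconj⟩
  apply le_KK_of_le_centralizer hG hA (M := L ⊓ centralizer (A : Set G)) inf_le_right _ hh
  exact Nat.Coprime.coprime_dvd_left (Subgroup.card_dvd_of_le inf_le_left) hcop.symm

end Cfsg.Agent.Helper14.BGTrans
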