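import Mathlib
import Cfsg.Agent.Lib.Helper14.BGTransA

/-!
# Transitivity theorems (helper14): the main induction
-/

set_option autoImplicit false

namespace Cfsg.Agent.Helper14.BGTrans

open Cfsg Subgroup
open Cfsg.Agent.Helper15 (mem_map_conj_iff conj_mem_map_conj map_conj_map_conj map_conj_one
  map_conj_inv_map_conj map_conj_map_conj_inv map_conj_mono card_map_conj isPGroup_map_conj
  map_conj_eq_of_mem_normalizer)

variable {G : Type*} [Group G]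

theorem ne_top_of_isPGroup [Finite G] (hG : IsMinSimpleOddOrder G) {q : ℕ} [Fact q.Prime]
    {Q : Subgroup G} (hQ : IsPGroup q ↥Q) : Q ≠ ⊤ := by
  intro h
  subst h
  have hsolv : Group.IsSolvable (⊤ : Subgroup G) := by
    haveI : Group.IsNilpotent (⊤ : Subgroup G) := hQ.isNilpotent
    infer_instance
  have hsolvG : Group.IsSolvable G :=
    Group.isSolvable_of_isSolvable_injective (f := (Subgroup.topEquiv (G := G)).symm.toMonoidHom)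
      (Subgroup.topEquiv (G := G)).symm.injective
  haveI := hG.2.1
  have hc := (IsSimpleGroup.comm_iff_isSolvable (G := G)).mpr hsolvG
  exact hG.2.2.1 ⟨⟨hc⟩⟩

theorem normalizer_ne_top_of_isPGroup [Finite G] (hG : IsMinSimpleOddOrder G) {q : ℕ}
    [Fact q.Prime] {D : Subgroup G} (hD : IsPGroup q ↥D) (hD1 : D ≠ ⊥) :
    normalizer (D : Set G) ≠ ⊤ := by
  intro h
  have hn : D.Normal := Subgroup.normalizer_eq_top_iff.mp h
  haveI := hG.2.1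
  rcases hn.eq_bot_or_eq_top with h1 | h1
  · exact hD1 h1
  · exact ne_top_of_isPGroup hG hD h1

/-- the inductive form: maximal invariant `q`-subgroups with nontrivial intersection are
conjugate under `K` -/
theorem kconj_of_inf_ne_bot_aux [Finite G] (hG : IsMinSimpleOddOrder G) {A : Subgroup G}
    (hA : TransitivityHypothesis A) {q : ℕ} [Fact q.Prime] (hqA : ¬ q ∣ Nat.card ↥A) :
    ∀ m : ℕ, ∀ Q₁ Q₂ : Subgroup G, Q₁ ∈ maxInvSubgroups ⊤ A {q} → Q₂ ∈ maxInvSubgroups ⊤ A {q} →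
      Q₁ ⊓ Q₂ ≠ ⊥ → Nat.card G - Nat.card ↥(Q₁ ⊓ Q₂ : Subgroup G) = m → KConj A Q₁ Q₂ := by
  intro m
  induction m using Nat.strong_induction_on with
  | _ m ih =>
    intro Q₁ Q₂ h₁ h₂ hne hm
    have h₁' := mem_maxInvSubgroups_top_iff.mp h₁
    have h₂' := mem_maxInvSubgroups_top_iff.mp h₂
    obtain ⟨⟨hQ₁q, hAQ₁⟩, hQ₁max⟩ := h₁'
    obtain ⟨⟨hQ₂q, hAQ₂⟩, hQ₂max⟩ := h₂'
    set D := Q₁ ⊓ Q₂ with hD
    by_cases hD₁ : D = Q₁
    · have hle : Q₁ ≤ Q₂ := by rw [← hD₁]; exact inf_le_right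
      rw [hQ₁max Q₂ hQ₂q hAQ₂ hle]
      exact KConj.refl A Q₁
    by_cases hD₂ : D = Q₂
    · have hle : Q₂ ≤ Q₁ := by rw [← hD₂]; exact inf_le_left
      rw [← hQ₂max Q₁ hQ₁q hAQ₁ hle]
      exact KConj.refl A Q₁
    have hDQ₁ : D < Q₁ := lt_of_le_of_ne inf_le_left hD₁
    have hDQ₂ : D < Q₂ := lt_of_le_of_ne inf_le_right hD₂
    have hDq : IsPGroup q ↥D := hQ₁q.to_le inf_le_left
    have hAD : A ≤ normalizer (D : Set G) :=
      (le_inf hAQ₁ hAQ₂).trans Subgroup.inf_normalizer_le_normalizer_inf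
    set N := normalizer (D : Set G) with hN
    have hNtop : N ≠ ⊤ := normalizer_ne_top_of_isPGroup hG hDq hne
    have hANN : A ≤ normalizer (N : Set G) := hAD.trans Subgroup.le_normalizer
    set U₁ := Q₁ ⊓ N with hU₁
    set U₂ := Q₂ ⊓ N with hU₂
    have hDU₁ : D < U₁ := by
      obtain ⟨g, hgQ, hgD, hgN⟩ := Cfsg.Agent.Helper12.exists_mem_normalizer_not_mem Q₁ hQ₁q D hDQ₁
      refine lt_of_le_of_ne (le_inf inf_le_left Subgroup.le_normalizer) ?_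
      intro heq
      apply hgD
      rw [heq]
      exact Subgroup.mem_inf.mpr ⟨hgQ, hgN⟩
    have hDU₂ : D < U₂ := by
      obtain ⟨g, hgQ, hgD, hgN⟩ := Cfsg.Agent.Helper12.exists_mem_normalizer_not_mem Q₂ hQ₂q D hDQ₂
      refine lt_of_le_of_ne (le_inf inf_le_right Subgroup.le_normalizer) ?_
      intro heq
      apply hgD
      rw [heq]
      exact Subgroup.mem_inf.mpr ⟨hgQ, hgN⟩
    have hAU₁ : A ≤ normalizer (U₁ : Set G) :=
      (le_inf hAQ₁ hANN).trans Subgroup.inf_normalizer_le_normalizer_inf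
    have hAU₂ : A ≤ normalizer (U₂ : Set G) :=
      (le_inf hAQ₂ hANN).trans Subgroup.inf_normalizer_le_normalizer_inf
    obtain ⟨R₁, R₂, hUR₁, hUR₂, hR₁q, hR₂q, hAR₁, hAR₂, k, hk, hconj⟩ :=
      exists_KConj_ge hG hA hqA hNtop hAD (U₁ := U₁) (U₂ := U₂) inf_le_right inf_le_right
        (hQ₁q.to_le inf_le_left) (hQ₂q.to_le inf_le_left) hAU₁ hAU₂
    obtain ⟨Q₁s, hQ₁s, hle₁⟩ := exists_maxInv_ge hR₁q hAR₁
    obtain ⟨Q₂s, hQ₂s, hle₂⟩ := exists_maxInv_ge hR₂q hAR₂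
    have c1 : KConj A Q₁ Q₁s := by
      have hlt : D < Q₁ ⊓ Q₁s :=
        lt_of_lt_of_le hDU₁ (le_inf inf_le_left (hUR₁.trans hle₁))
      exact ih _ (by rw [← hm]; exact Cfsg.Agent.Helper7.card_sub_lt_of_lt hlt) Q₁ Q₁s h₁ hQ₁s
        (fun h => by rw [h] at hlt; exact not_lt_bot hlt) rfl
    have c2 : KConj A Q₂ Q₂s := by
      have hlt : D < Q₂ ⊓ Q₂s :=
        lt_of_lt_of_le hDU₂ (le_inf inf_le_left (hUR₂.trans hle₂))
      exact ih _ (by rw [← hm]; exact Cfsg.Agent.Helper7.card_sub_lt_of_lt hlt) Q₂ Q₂s h₂ hQ₂s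
        (fun h => by rw [h] at hlt; exact not_lt_bot hlt) rfl
    have hQ₁ss : Q₁s.map (MulAut.conj k).toMonoidHom ∈ maxInvSubgroups ⊤ A {q} :=
      maxInv_map_conj hQ₁s (KK_le_normalizer A hk)
    have hle₃ : R₂ ≤ Q₁s.map (MulAut.conj k).toMonoidHom := by
      rw [← hconj]
      exact map_conj_mono hle₁ k
    have c3 : KConj A (Q₁s.map (MulAut.conj k).toMonoidHom) Q₂s := by
      have hlt : D < Q₁s.map (MulAut.conj k).toMonoidHom ⊓ Q₂s :=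
        lt_of_lt_of_le hDU₂ (le_inf (hUR₂.trans hle₃) (hUR₂.trans hle₂))
      exact ih _ (by rw [← hm]; exact Cfsg.Agent.Helper7.card_sub_lt_of_lt hlt) _ Q₂s hQ₁ss hQ₂s
        (fun h => by rw [h] at hlt; exact not_lt_bot hlt) rfl
    exact (c1.trans ⟨k, hk, rfl⟩).trans (c3.trans c2.symm)

theorem kconj_of_inf_ne_bot [Finite G] (hG : IsMinSimpleOddOrder G) {A : Subgroup G}
    (hA : TransitivityHypothesis A) {q : ℕ} [Fact q.Prime] (hqA : ¬ q ∣ Nat.card ↥A)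
    {Q₁ Q₂ : Subgroup G} (h₁ : Q₁ ∈ maxInvSubgroups ⊤ A {q}) (h₂ : Q₂ ∈ maxInvSubgroups ⊤ A {q})
    (hne : Q₁ ⊓ Q₂ ≠ ⊥) : KConj A Q₁ Q₂ :=
  kconj_of_inf_ne_bot_aux hG hA hqA _ Q₁ Q₂ h₁ h₂ hne rfl

/-- **BG Theorem 7.2** -/
theorem kconj_of_common_overgroup [Finite G] (hG : IsMinSimpleOddOrder G) {A : Subgroup G}
    (hA : TransitivityHypothesis A) {q : ℕ} [Fact q.Prime] (hqA : ¬ q ∣ Nat.card ↥A)
    {Q₁ Q₂ : Subgroup G} (h₁ : Q₁ ∈ maxInvSubgroups ⊤ A {q}) (h₂ : Q₂ ∈ maxInvSubgroups ⊤ A {q})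
    {H : Subgroup G} (hH : H ≠ ⊤) (hAH : A ≤ H) (hH₁ : H ⊓ Q₁ ≠ ⊥) (hH₂ : H ⊓ Q₂ ≠ ⊥) :
    KConj A Q₁ Q₂ := by
  obtain ⟨⟨hQ₁q, hAQ₁⟩, hQ₁max⟩ := mem_maxInvSubgroups_top_iff.mp h₁
  obtain ⟨⟨hQ₂q, hAQ₂⟩, hQ₂max⟩ := mem_maxInvSubgroups_top_iff.mp h₂
  have hAHH : A ≤ normalizer (H : Set G) := hAH.trans Subgroup.le_normalizer
  have hAU₁ : A ≤ normalizer ((H ⊓ Q₁ : Subgroup G) : Set G) :=
    (le_inf hAHH hAQ₁).trans Subgroup.inf_normalizer_le_normalizer_inf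
  have hAU₂ : A ≤ normalizer ((H ⊓ Q₂ : Subgroup G) : Set G) :=
    (le_inf hAHH hAQ₂).trans Subgroup.inf_normalizer_le_normalizer_inf
  obtain ⟨R₁, R₂, hUR₁, hUR₂, hR₁q, hR₂q, hAR₁, hAR₂, k, hk, hconj⟩ :=
    exists_KConj_ge hG hA hqA hH hAH (U₁ := H ⊓ Q₁) (U₂ := H ⊓ Q₂) inf_le_left inf_le_left
      (hQ₁q.to_le inf_le_right) (hQ₂q.to_le inf_le_right) hAU₁ hAU₂
  obtain ⟨Q₁s, hQ₁s, hle₁⟩ := exists_maxInv_ge hR₁q hAR₁
  obtain ⟨Q₂s, hQ₂s, hle₂⟩ := exists_maxInv_ge hR₂q hAR₂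
  have hbot : ∀ {U V : Subgroup G}, U ≠ ⊥ → U ≤ V → V ≠ ⊥ := by
    intro U V hU hUV hV
    apply hU
    rw [eq_bot_iff, ← hV]
    exact hUV
  have c1 : KConj A Q₁ Q₁s :=
    kconj_of_inf_ne_bot hG hA hqA h₁ hQ₁s (hbot hH₁ (le_inf inf_le_right (hUR₁.trans hle₁)))
  have c2 : KConj A Q₂ Q₂s :=
    kconj_of_inf_ne_bot hG hA hqA h₂ hQ₂s (hbot hH₂ (le_inf inf_le_right (hUR₂.trans hle₂)))
  have hQ₁ss : Q₁s.map (MulAut.conj k).toMonoidHom ∈ maxInvSubgroups ⊤ A {q} :=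
    maxInv_map_conj hQ₁s (KK_le_normalizer A hk)
  have hle₃ : R₂ ≤ Q₁s.map (MulAut.conj k).toMonoidHom := by
    rw [← hconj]
    exact map_conj_mono hle₁ k
  have c3 : KConj A (Q₁s.map (MulAut.conj k).toMonoidHom) Q₂s :=
    kconj_of_inf_ne_bot hG hA hqA hQ₁ss hQ₂s
      (hbot hH₂ (le_inf (hUR₂.trans hle₃) (hUR₂.trans hle₂)))
  exact (c1.trans ⟨k, hk, rfl⟩).trans (c3.trans c2.symm)

end Cfsg.Agent.Helper14.BGTrans
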