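import Mathlib
import Cfsg.Agent.Lib.Helper14.BGTransB

/-!
# Transitivity theorems (helper14): centre of rank at least 2 or 3
-/

set_option autoImplicit false

namespace Cfsg.Agent.Helper14.BGTrans

open Cfsg Subgroup
open Cfsg.Agent.Helper15 (mem_map_conj_iff conj_mem_map_conj map_conj_map_conj map_conj_one
  map_conj_inv_map_conj map_conj_map_conj_inv map_conj_mono card_map_conj isPGroup_map_conj
  map_conj_eq_of_mem_normalizer)

variable {G : Type*} [Group G]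

theorem exists_elemAb_of_not_rankLE {Z : Subgroup G} {k : ℕ} (h : ¬ RankLE k ↥Z) :
    ∃ p : ℕ, p.Prime ∧ ∃ B : Subgroup G, B ≤ Z ∧ IsElementaryAbelian p B ∧
      p ^ k < Nat.card ↥B := by
  unfold RankLE PRankLE at h
  push Not at h
  obtain ⟨p, hp, B₀, hB₀c, hB₀p, hcard⟩ := h
  refine ⟨p, hp, B₀.map Z.subtype, Subgroup.map_subtype_le _, ⟨?_, ?_⟩, ?_⟩
  · haveI := hB₀c
    exact Subgroup.map_isMulCommutative B₀ Z.subtype
  · rintro _ ⟨a, ha, rfl⟩
    have := hB₀p a ha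
    have h2 := congrArg Subtype.val this
    simpa using h2
  · rw [Subgroup.card_map_of_injective Z.subtype_injective]
    exact hcard

theorem exists_hyperplane [Finite G] {p : ℕ} [Fact p.Prime] {B Q : Subgroup G}
    (hB : IsElementaryAbelian p B) (hB1 : B ≠ ⊥) (hQp : ¬ p ∣ Nat.card ↥Q)
    (hBQ : B ≤ normalizer (Q : Set G)) (hQ1 : Q ≠ ⊥) :
    ∃ D : Subgroup G, D ≤ B ∧ D.relIndex B = p ∧ Q ⊓ centralizer (D : Set G) ≠ ⊥ := by
  by_contra hcon
  push Not at hcon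
  apply hQ1
  rw [eq_bot_iff]
  have h1 := Cfsg.Agent.Helper7.le_hyperGen p B Q hB hQp hBQ
  have h2 := Cfsg.Agent.Helper7.hyperGen_le_iSup_relIndex_eq p
    (Cfsg.Agent.Helper7.isPGroup_of_isElementaryAbelian hB) hB1 Q
  refine (h1.trans h2).trans ?_
  apply iSup_le
  rintro ⟨D, hDB, hDr⟩
  exact (hcon D hDB hDr).le

theorem centralizer_singleton_ne_top (hG : IsMinSimpleOddOrder G) {b : G} (hb : b ≠ 1) :
    centralizer ({b} : Set G) ≠ ⊤ := by
  intro h
  have hbc : b ∈ Subgroup.center G := by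
    rw [Subgroup.mem_center_iff]
    intro g
    have : g ∈ centralizer ({b} : Set G) := by rw [h]; trivial
    rw [Subgroup.mem_centralizer_singleton_iff] at this
    first
      | exact this
      | exact this.symm
  haveI := hG.2.1
  rcases (inferInstance : (Subgroup.center G).Normal).eq_bot_or_eq_top with h1 | h1
  · rw [h1, Subgroup.mem_bot] at hbc
    exact hb hbc
  · apply hG.2.2.1
    refine ⟨⟨fun x y => ?_⟩⟩
    have : y ∈ Subgroup.center G := by rw [h1]; trivial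
    rw [Subgroup.mem_center_iff] at this
    exact this x

theorem le_centralizer_singleton {A : Subgroup G} {b : G}
    (hb : b ∈ A ⊓ centralizer (A : Set G)) : A ≤ centralizer ({b} : Set G) := by
  intro a ha
  rw [Subgroup.mem_centralizer_singleton_iff]
  have := (Subgroup.mem_centralizer_iff.mp hb.2) a ha
  first
    | exact this
    | exact this.symm

theorem centralizer_le_centralizer_singleton {A : Subgroup G} {b : G} (hb : b ∈ A) :
    centralizer (A : Set G) ≤ centralizer ({b} : Set G) :=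
  Subgroup.centralizer_le (by intro x hx; rw [Set.mem_singleton_iff] at hx; rw [hx]; exact hb)

theorem le_normalizer_of_le_centralizer {A M : Subgroup G} (hMC : M ≤ centralizer (A : Set G)) :
    A ≤ normalizer (M : Set G) := by
  refine le_trans ?_ (Subgroup.centralizer_le_normalizer _)
  intro a ha
  rw [Subgroup.mem_centralizer_iff]
  intro m hm
  exact ((Subgroup.mem_centralizer_iff.mp (hMC hm)) a ha).symm

theorem not_dvd_card_of_isPGroup [Finite G] {p q : ℕ} [Fact p.Prime] [Fact q.Prime]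
    {A B Q : Subgroup G} (hBA : B ≤ A) (hB : IsPGroup p ↥B) (hB1 : B ≠ ⊥)
    (hqA : ¬ q ∣ Nat.card ↥A) (hQ : IsPGroup q ↥Q) : ¬ p ∣ Nat.card ↥Q := by
  intro hpQ
  obtain ⟨k, hk⟩ := hQ.exists_card_eq
  rw [hk] at hpQ
  have hpq : p = q := (Nat.prime_dvd_prime_iff_eq Fact.out Fact.out).mp
    ((Fact.out : p.Prime).dvd_of_dvd_pow hpQ)
  subst hpq
  apply hqA
  obtain ⟨j, hj⟩ := hB.exists_card_eq
  have hj1 : j ≠ 0 := by
    intro h0
    rw [h0, pow_zero] at hj
    exact hB1 (Subgroup.card_eq_one.mp hj)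
  have h1 : p ∣ Nat.card ↥B := by rw [hj]; exact dvd_pow_self p hj1
  exact h1.trans (Subgroup.card_dvd_of_le hBA)

theorem exists_mem_ne_one {D : Subgroup G} (hD : D ≠ ⊥) : ∃ b ∈ D, b ≠ 1 := by
  by_contra hcon
  push Not at hcon
  apply hD
  rw [eq_bot_iff]
  intro x hx
  rw [Subgroup.mem_bot]
  exact hcon x hx

theorem ne_bot_of_le {U V : Subgroup G} (hU : U ≠ ⊥) (hUV : U ≤ V) : V ≠ ⊥ := by
  intro hV
  apply hU
  rw [eq_bot_iff, ← hV]
  exact hUV

/-- **BG Theorem 7.3** -/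
theorem kconj_of_center_rank_three [Finite G] (hG : IsMinSimpleOddOrder G) {A : Subgroup G}
    (hA : TransitivityHypothesis A)
    (hZ : ¬ RankLE 2 ↥(A ⊓ centralizer (A : Set G))) {q : ℕ} [Fact q.Prime]
    (hqA : ¬ q ∣ Nat.card ↥A) {Q₁ Q₂ : Subgroup G} (h₁ : Q₁ ∈ maxInvSubgroups ⊤ A {q})
    (h₂ : Q₂ ∈ maxInvSubgroups ⊤ A {q}) : KConj A Q₁ Q₂ := by
  obtain ⟨p, hp, B, hBZ, hB, hBcard⟩ := exists_elemAb_of_not_rankLE hZ
  haveI : Fact p.Prime := ⟨hp⟩
  by_cases hQ₁1 : Q₁ = ⊥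
  · have : Q₂ = Q₁ := h₁.2 Q₂ h₂.1 (by rw [hQ₁1]; exact bot_le)
    rw [this]
    exact KConj.refl A Q₁
  by_cases hQ₂1 : Q₂ = ⊥
  · have : Q₁ = Q₂ := h₂.2 Q₁ h₁.1 (by rw [hQ₂1]; exact bot_le)
    rw [this]
    exact KConj.refl A Q₂
  obtain ⟨⟨hQ₁q, hAQ₁⟩, -⟩ := mem_maxInvSubgroups_top_iff.mp h₁
  obtain ⟨⟨hQ₂q, hAQ₂⟩, -⟩ := mem_maxInvSubgroups_top_iff.mp h₂
  have hBA : B ≤ A := hBZ.trans inf_le_left
  have hBp := Cfsg.Agent.Helper7.isPGroup_of_isElementaryAbelian hB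
  have hB1 : B ≠ ⊥ := by
    intro h
    rw [h, Subgroup.card_bot] at hBcard
    exact absurd hBcard (not_lt.mpr (Nat.one_le_pow _ _ hp.pos))
  obtain ⟨D₁, hD₁B, hD₁r, hD₁Q⟩ := exists_hyperplane hB hB1
    (not_dvd_card_of_isPGroup hBA hBp hB1 hqA hQ₁q) (hBA.trans hAQ₁) hQ₁1
  obtain ⟨D₂, hD₂B, hD₂r, hD₂Q⟩ := exists_hyperplane hB hB1
    (not_dvd_card_of_isPGroup hBA hBp hB1 hqA hQ₂q) (hBA.trans hAQ₂) hQ₂1
  have hD : D₁ ⊓ D₂ ≠ ⊥ := by
    intro h
    have h1 : (D₁ ⊓ D₂).relIndex B ≤ p * p := by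
      calc (D₁ ⊓ D₂).relIndex B ≤ D₁.relIndex B * D₂.relIndex B := Subgroup.relIndex_inf_le
        _ = p * p := by rw [hD₁r, hD₂r]
    rw [h, Subgroup.relIndex_bot_left, ← sq] at h1
    exact absurd hBcard (not_lt.mpr h1)
  obtain ⟨b, hb, hb1⟩ := exists_mem_ne_one hD
  have hbZ : b ∈ A ⊓ centralizer (A : Set G) := hBZ (hD₁B hb.1)
  refine kconj_of_common_overgroup hG hA hqA h₁ h₂ (H := centralizer ({b} : Set G))
    (centralizer_singleton_ne_top hG hb1) (le_centralizer_singleton hbZ) ?_ ?_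
  · refine ne_bot_of_le hD₁Q (le_inf (inf_le_right.trans ?_) inf_le_left)
    exact centralizer_le_centralizer_singleton hb.1
  · refine ne_bot_of_le hD₂Q (le_inf (inf_le_right.trans ?_) inf_le_left)
    exact centralizer_le_centralizer_singleton hb.2

/-- **BG Theorem 7.4** -/
theorem kconj_of_center_rank_two [Finite G] (hG : IsMinSimpleOddOrder G) {A : Subgroup G}
    (hA : TransitivityHypothesis A)
    (hZ : ¬ RankLE 1 ↥(A ⊓ centralizer (A : Set G))) {q : ℕ} [Fact q.Prime]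
    (hqA : ¬ q ∣ Nat.card ↥A) (hqC : q ∣ Nat.card ↥(centralizer (A : Set G)))
    {Q₁ Q₂ : Subgroup G} (h₁ : Q₁ ∈ maxInvSubgroups ⊤ A {q})
    (h₂ : Q₂ ∈ maxInvSubgroups ⊤ A {q}) : KConj A Q₁ Q₂ := by
  obtain ⟨p, hp, B, hBZ, hB, hBcard⟩ := exists_elemAb_of_not_rankLE hZ
  haveI : Fact p.Prime := ⟨hp⟩
  rw [pow_one] at hBcard
  have hBA : B ≤ A := hBZ.trans inf_le_left
  have hBp := Cfsg.Agent.Helper7.isPGroup_of_isElementaryAbelian hB
  have hB1 : B ≠ ⊥ := by
    intro h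
    rw [h, Subgroup.card_bot] at hBcard
    exact absurd hBcard (not_lt.mpr hp.one_lt.le)
  -- a Sylow `q`-subgroup of the centralizer
  set C := centralizer (A : Set G) with hC
  obtain ⟨P⟩ : Nonempty (Sylow q ↥C) := inferInstance
  set T := (P : Subgroup ↥C).map C.subtype with hT
  have hTC : T ≤ C := Subgroup.map_subtype_le _
  have hT1 : T ≠ ⊥ := by
    intro h
    rw [hT, Subgroup.map_eq_bot_iff_of_injective _ C.subtype_injective] at h
    exact P.ne_bot_of_dvd_card hqC h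
  have hTq : IsPGroup q ↥T := P.isPGroup'.map _
  have hAT : A ≤ normalizer (T : Set G) := le_normalizer_of_le_centralizer hTC
  obtain ⟨QT, hQT, hTQT⟩ := exists_maxInv_ge hTq hAT
  have key : ∀ Q : Subgroup G, Q ∈ maxInvSubgroups ⊤ A {q} → KConj A Q QT := by
    intro Q hQ
    obtain ⟨⟨hQq, hAQ⟩, -⟩ := mem_maxInvSubgroups_top_iff.mp hQ
    have hQ1 : Q ≠ ⊥ := by
      intro h
      have : QT = Q := hQ.2 QT hQT.1 (by rw [h]; exact bot_le)
      rw [this, h] at hTQT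
      exact hT1 (eq_bot_iff.mpr hTQT)
    obtain ⟨D, hDB, hDr, hDQ⟩ := exists_hyperplane hB hB1
      (not_dvd_card_of_isPGroup hBA hBp hB1 hqA hQq) (hBA.trans hAQ) hQ1
    have hD1 : D ≠ ⊥ := by
      intro h
      rw [h, Subgroup.relIndex_bot_left] at hDr
      rw [hDr] at hBcard
      exact lt_irrefl _ hBcard
    obtain ⟨b, hb, hb1⟩ := exists_mem_ne_one hD1
    have hbZ : b ∈ A ⊓ centralizer (A : Set G) := hBZ (hDB hb)
    refine kconj_of_common_overgroup hG hA hqA hQ hQT (H := centralizer ({b} : Set G))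
      (centralizer_singleton_ne_top hG hb1) (le_centralizer_singleton hbZ) ?_ ?_
    · refine ne_bot_of_le hDQ (le_inf (inf_le_right.trans ?_) inf_le_left)
      exact centralizer_le_centralizer_singleton hb
    · refine ne_bot_of_le hT1 (le_inf (hTC.trans ?_) hTQT)
      exact centralizer_le_centralizer_singleton hbZ.1
  exact (key Q₁ h₁).trans (key Q₂ h₂).symm

end Cfsg.Agent.Helper14.BGTrans
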