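import Mathlib

/-!
# The Baer trick (helper14)

A group `W` of class at most two in which every element has a unique square root carries a
commutative group structure `x ⊕ y = x y [y,x]^{1/2}` preserved by every automorphism of `W`.
-/

set_option autoImplicit false

namespace Cfsg.Agent.Helper14.Baer

open scoped commutatorElement

variable {W : Type*} [Group W]

/-- class at most two -/
def Cl2 (W : Type*) [Group W] : Prop := ∀ x y : W, ⁅x, y⁆ ∈ Subgroup.center W

theorem central_comm {c : W} (hc : c ∈ Subgroup.center W) (g : W) : g * c = c * g :=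
  Subgroup.mem_center_iff.mp hc g

theorem comm_mul_left (hcl : Cl2 W) (x y z : W) : ⁅x * y, z⁆ = ⁅x, z⁆ * ⁅y, z⁆ := by
  have hc := central_comm (hcl y z)
  have h1 : ⁅x * y, z⁆ = x * ⁅y, z⁆ * x⁻¹ * ⁅x, z⁆ := by
    simp only [commutatorElement_def]; group
  rw [h1, hc x, mul_inv_cancel_right]
  exact (hc _).symm

theorem comm_mul_right (hcl : Cl2 W) (x y z : W) : ⁅x, y * z⁆ = ⁅x, y⁆ * ⁅x, z⁆ := by
  rw [← commutatorElement_inv (y * z) x, comm_mul_left hcl, mul_inv_rev, commutatorElement_inv,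
    commutatorElement_inv]
  exact central_comm (hcl x y) _

theorem comm_central_right {c : W} (hc : c ∈ Subgroup.center W) (x : W) : ⁅x, c⁆ = 1 := by
  rw [commutatorElement_def, central_comm hc x]; group

theorem comm_central_left {c : W} (hc : c ∈ Subgroup.center W) (x : W) : ⁅c, x⁆ = 1 := by
  rw [commutatorElement_def, ← central_comm hc x]; group

/-- the Baer operation -/
def bop (k : ℕ) (x y : W) : W := x * y * ⁅y, x⁆ ^ k

theorem bop_assoc (hcl : Cl2 W) (k : ℕ) (x y z : W) :
    bop k (bop k x y) z = bop k x (bop k y z) := by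
  unfold bop
  have hac : ⁅y, x⁆ ^ k ∈ Subgroup.center W := Subgroup.pow_mem _ (hcl y x) k
  have hbc : ⁅z, y⁆ ^ k ∈ Subgroup.center W := Subgroup.pow_mem _ (hcl z y) k
  have h1 : ⁅z, x * y * ⁅y, x⁆ ^ k⁆ = ⁅z, x⁆ * ⁅z, y⁆ := by
    rw [comm_mul_right hcl, comm_mul_right hcl, comm_central_right hac, mul_one]
  have h2 : ⁅y * z * ⁅z, y⁆ ^ k, x⁆ = ⁅y, x⁆ * ⁅z, x⁆ := by
    rw [comm_mul_left hcl, comm_mul_left hcl, comm_central_left hbc, mul_one]
  rw [h1, h2]
  have hcomm1 : Commute ⁅z, x⁆ ⁅z, y⁆ := central_comm (hcl z y) _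
  have hcomm2 : Commute ⁅y, x⁆ ⁅z, x⁆ := central_comm (hcl z x) _
  rw [hcomm1.mul_pow, hcomm2.mul_pow]
  set a := ⁅y, x⁆ ^ k with ha
  set b := ⁅z, y⁆ ^ k with hb
  set u := ⁅z, x⁆ ^ k with hu
  have e1 : a * z = z * a := (central_comm hac z).symm
  have e2 : a * u * b = b * (a * u) := central_comm hbc (a * u)
  calc x * y * a * z * (u * b) = x * y * (a * z) * (u * b) := by group
    _ = x * y * (z * a) * (u * b) := by rw [e1]
    _ = x * y * z * (a * u * b) := by group
    _ = x * y * z * (b * (a * u)) := by rw [e2]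
    _ = x * (y * z * b) * (a * u) := by group

theorem bop_one_left (k : ℕ) (x : W) : bop k 1 x = x := by
  simp [bop]

theorem bop_one_right (k : ℕ) (x : W) : bop k x 1 = x := by
  simp [bop]

theorem bop_inv_left (k : ℕ) (x : W) : bop k x⁻¹ x = 1 := by
  simp [bop, commutatorElement_def]

theorem bop_comm (hcl : Cl2 W) (k : ℕ) (hk : ∀ x : W, (x ^ k) ^ 2 = x) (x y : W) :
    bop k x y = bop k y x := by
  unfold bop
  have hcc := hcl x y
  have h1 : ⁅y, x⁆ = ⁅x, y⁆⁻¹ := (commutatorElement_inv x y).symm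
  have h2 : x * y = ⁅x, y⁆ * (y * x) := by rw [commutatorElement_def]; group
  rw [h1, h2, inv_pow, ← central_comm hcc (y * x)]
  have h3 : ⁅x, y⁆ = ⁅x, y⁆ ^ k * ⁅x, y⁆ ^ k := by
    have := hk ⁅x, y⁆
    rw [pow_two] at this
    exact this.symm
  have h4 : ⁅x, y⁆ * (⁅x, y⁆ ^ k)⁻¹ = ⁅x, y⁆ ^ k := by
    rw [mul_inv_eq_iff_eq_mul]; exact h3
  rw [mul_assoc (y * x), h4]

/-- the underlying set with the Baer operation -/
def BaerT (W : Type*) : Type _ := W

/-- the commutative group structure -/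
@[reducible] def baerCommGroup (hcl : Cl2 W) (k : ℕ) (hk : ∀ x : W, (x ^ k) ^ 2 = x) :
    CommGroup (BaerT W) where
  mul := @bop W _ k
  mul_assoc := @bop_assoc W _ hcl k
  one := (1 : W)
  one_mul := @bop_one_left W _ k
  mul_one := @bop_one_right W _ k
  inv := (show W → W from fun x => x⁻¹)
  inv_mul_cancel := @bop_inv_left W _ k
  mul_comm := @bop_comm W _ hcl k hk

/-- automorphisms of `W` preserve the Baer operation -/
theorem map_bop (k : ℕ) (φ : W ≃* W) (x y : W) : φ (bop k x y) = bop k (φ x) (φ y) := by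
  unfold bop
  rw [map_mul, map_mul, map_pow, map_commutatorElement]

end Cfsg.Agent.Helper14.Baer
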