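import Mathlib
import Cfsg.Agent.Lib.Helper14.BaerA

/-!
# The Baer trick (helper14), part 2: bundled version and the abelian case of the
fixed-point lemma
-/

set_option autoImplicit false

namespace Cfsg.Agent.Helper14.Baer

open scoped commutatorElement

variable {W : Type*} [Group W]

/-- the data needed for the Baer construction -/
structure BData (W : Type*) [Group W] where
  k : ℕ
  hcl : Cl2 W
  hk : ∀ x : W, (x ^ k) ^ 2 = x

/-- the Baer group of `W` -/
def BT (_d : BData W) : Type _ := W

instance (d : BData W) : CommGroup (BT d) := baerCommGroup d.hcl d.k d.hk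

instance [Finite W] (d : BData W) : Finite (BT d) := inferInstanceAs (Finite W)

theorem BT.mul_def (d : BData W) (x y : BT d) : x * y = @bop W _ d.k x y := rfl

/-- an automorphism of `W` is an automorphism of its Baer group -/
def BT.autEquiv (d : BData W) (φ : W ≃* W) : BT d ≃* BT d where
  toFun := φ
  invFun := φ.symm
  left_inv := φ.left_inv
  right_inv := φ.right_inv
  map_mul' := fun x y => map_bop d.k φ x y

theorem BT.autEquiv_apply (d : BData W) (φ : W ≃* W) (x : W) :
    (BT.autEquiv d φ) (show BT d from x) = φ x := rfl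

/-- the homomorphism `Aut W → Aut (Baer W)` -/
def BT.aut (d : BData W) : MulAut W →* MulAut (BT d) where
  toFun := BT.autEquiv d
  map_one' := rfl
  map_mul' := fun _ _ => rfl

theorem BT.aut_apply (d : BData W) (φ : MulAut W) (x : W) :
    (BT.aut d φ) (show BT d from x) = φ x := rfl

/-- **Abelian case.** `A` a `p`-group normalizing the `p'`-group `Y`, both acting on the abelian
`p`-group `V`; if every fixed point of `A` is fixed by `Y` then `Y` acts trivially. -/
theorem abelian_case {V D : Type*} [CommGroup V] [Finite V] [Group D] (act : D →* MulAut V)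
    {p : ℕ} [Fact p.Prime] (hV : IsPGroup p V) (A Y : Subgroup D) [Finite Y]
    (hA : IsPGroup p A) (hY : (Nat.card Y).Coprime p)
    (hAY : A ≤ Subgroup.normalizer (Y : Set D))
    (hfix : ∀ v : V, (∀ a ∈ A, act a v = v) → ∀ y ∈ Y, act y v = v) :
    ∀ y ∈ Y, ∀ v : V, act y v = v := by
  classical
  haveI : Fintype Y := Fintype.ofFinite Y
  let N : V →* V := ∏ y : Y, (act (y : D)).toMonoidHom
  have hN : ∀ v, N v = ∏ y : Y, act (y : D) v := by
    intro v
    simp only [N, MonoidHom.finset_prod_apply]
    rfl
  -- the norm is fixed by `Y`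
  have hNY : ∀ y₀ ∈ Y, ∀ v, act y₀ (N v) = N v := by
    intro y₀ hy₀ v
    rw [hN, map_prod]
    have h1 : ∀ y : Y, act y₀ (act (y : D) v) = act (((⟨y₀, hy₀⟩ : Y) * y : Y) : D) v := by
      intro y
      rw [Subgroup.coe_mul, map_mul]
      rfl
    simp_rw [h1]
    exact Fintype.prod_equiv (Equiv.mulLeft (⟨y₀, hy₀⟩ : Y)) _ (fun y' : Y => act (y' : D) v)
      (fun y => rfl)
  -- the norm commutes with `A`
  have hNA : ∀ a ∈ A, ∀ v, act a (N v) = N (act a v) := by
    intro a ha v
    have han := hAY ha
    have han' : a⁻¹ ∈ Subgroup.normalizer (Y : Set D) := inv_mem han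
    let e : Y ≃ Y :=
      { toFun := fun y => ⟨a * y * a⁻¹, (Subgroup.mem_normalizer_iff.mp han y).mp y.2⟩
        invFun := fun y => ⟨a⁻¹ * y * a, by
          have := (Subgroup.mem_normalizer_iff.mp han' y).mp y.2
          simpa using this⟩
        left_inv := fun y => Subtype.ext (by simp [mul_assoc])
        right_inv := fun y => Subtype.ext (by simp [mul_assoc]) }
    rw [hN, hN, map_prod]
    refine Fintype.prod_equiv e _ _ (fun y => ?_)
    show act a (act (y : D) v) = act (a * y * a⁻¹) (act a v)
    rw [← MulAut.mul_apply, ← MulAut.mul_apply, ← map_mul, ← map_mul]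
    congr 2
    group
  -- the kernel of the norm meets the fixed points of `Y` trivially
  have hker : ∀ v : V, N v = 1 → (∀ y ∈ Y, act y v = v) → v = 1 := by
    intro v hv hvY
    have h1 : N v = v ^ Nat.card Y := by
      rw [hN]
      have : ∀ y : Y, act (y : D) v = v := fun y => hvY y y.2
      simp_rw [this]
      rw [Finset.prod_const, Finset.card_univ, Nat.card_eq_fintype_card]
    rw [h1] at hv
    obtain ⟨m, hm⟩ := hV v
    have h2 : orderOf v ∣ Nat.card Y := orderOf_dvd_of_pow_eq_one hv
    have h3 : orderOf v ∣ p ^ m := orderOf_dvd_of_pow_eq_one hm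
    have h4 : orderOf v = 1 :=
      Nat.eq_one_of_dvd_coprimes (Nat.Coprime.pow_right m hY) h2 h3
    exact orderOf_eq_one_iff.mp h4
  -- the kernel is trivial
  have hT : N.ker = ⊥ := by
    by_contra hne
    letI : MulAction A N.ker :=
      { smul := fun a t => ⟨act (a : D) (t : V), by
          rw [MonoidHom.mem_ker, ← hNA a a.2, MonoidHom.mem_ker.mp t.2, map_one]⟩
        one_smul := fun t => Subtype.ext (by
          show act ((1 : A) : D) (t : V) = t
          rw [Subgroup.coe_one, map_one]; rfl)
        mul_smul := fun a b t => Subtype.ext (by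
          show act ((a * b : A) : D) (t : V) = act (a : D) (act (b : D) (t : V))
          rw [Subgroup.coe_mul, map_mul]; rfl) }
    have hTp : IsPGroup p N.ker := hV.to_subgroup N.ker
    haveI : Nontrivial N.ker := (Subgroup.nontrivial_iff_ne_bot _).mpr hne
    obtain ⟨n, hn0, hn⟩ := hTp.nontrivial_iff_card.mp inferInstance
    have hdvd : p ∣ Nat.card N.ker := by rw [hn]; exact dvd_pow_self p hn0.ne'
    have h1fix : (1 : N.ker) ∈ MulAction.fixedPoints A N.ker := by
      intro a
      apply Subtype.ext
      show act (a : D) ((1 : N.ker) : V) = ((1 : N.ker) : V)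
      rw [Subgroup.coe_one, map_one]
    obtain ⟨t, ht, ht1⟩ := hA.exists_fixed_point_of_prime_dvd_card_of_fixed_point N.ker hdvd h1fix
    apply ht1
    apply Subtype.ext
    rw [Subgroup.coe_one]
    symm
    apply hker t t.2
    apply hfix
    intro a ha
    have := ht ⟨a, ha⟩
    exact congrArg Subtype.val this
  -- so the norm is injective, with image in the fixed points of `Y`
  have hinj : Function.Injective N := (MonoidHom.ker_eq_bot_iff N).mp hT
  intro y hy v
  -- `N` is a bijection of the finite set `V`
  have hsurj : Function.Surjective N := Finite.surjective_of_injective hinj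
  obtain ⟨w, rfl⟩ := hsurj v
  exact hNY y hy w

end Cfsg.Agent.Helper14.Baer
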