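import Mathlib
import Cfsg.Agent.Lib.Helper14.BaerB
import Cfsg.Agent.Lib.Helper7.Coprime

/-!
# A non-commuting version of Thompson's `P × Q` lemma for odd primes (helper14)

`A` a `p`-group normalizing a `p'`-group `Y`, both normalizing the `p`-group `Q`, `p` odd.
If `C_Q(A) ≤ C_Q(Y)` then `Y` centralizes `Q`.
-/

set_option autoImplicit false

namespace Cfsg.Agent.Helper14.Baer

open scoped commutatorElement
open Subgroup

variable {Γ : Type*} [Group Γ]

/-- the class two case, via the Baer trick -/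
theorem le_centralizer_of_class_two [Finite Γ] (p : ℕ) [Fact p.Prime] (hp : p ≠ 2)
    (Q A Y : Subgroup Γ) (hQ : IsPGroup p ↥Q) (hA : IsPGroup p ↥A)
    (hY : (Nat.card ↥Y).Coprime p)
    (hAQ : A ≤ normalizer (Q : Set Γ)) (hYQ : Y ≤ normalizer (Q : Set Γ))
    (hAY : A ≤ normalizer (Y : Set Γ))
    (hC : Q ⊓ centralizer (A : Set Γ) ≤ centralizer (Y : Set Γ))
    (hcl : ⁅Q, Q⁆ ≤ centralizer (Q : Set Γ)) : Q ≤ centralizer (Y : Set Γ) := by
  have hpp := (Fact.out : p.Prime)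
  -- Baer data on `Q`
  have hcl' : Cl2 ↥Q := by
    intro x y
    rw [Subgroup.mem_center_iff]
    intro g
    have h1 : ⁅(x : Γ), (y : Γ)⁆ ∈ ⁅Q, Q⁆ := Subgroup.commutator_mem_commutator x.2 y.2
    have h2 := Subgroup.mem_centralizer_iff.mp (hcl h1) g g.2
    apply Subtype.ext
    have h3 : ((⁅x, y⁆ : ↥Q) : Γ) = ⁅(x : Γ), (y : Γ)⁆ := by simp [commutatorElement_def]
    rw [Subgroup.coe_mul, Subgroup.coe_mul, h3]
    exact h2
  obtain ⟨m, hm⟩ := hQ.exists_card_eq
  have hodd : Odd (Nat.card ↥Q) := by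
    rw [hm]
    exact (hpp.odd_of_ne_two hp).pow
  obtain ⟨k, hk⟩ := hodd
  have hk' : ∀ x : ↥Q, (x ^ (k + 1)) ^ 2 = x := by
    intro x
    rw [← pow_mul]
    have : (k + 1) * 2 = Nat.card ↥Q + 1 := by omega
    rw [this, pow_succ, pow_card_eq_one', one_mul]
  let d : BData ↥Q := ⟨k + 1, hcl', hk'⟩
  set N := normalizer (Q : Set Γ) with hN
  let act : ↥N →* MulAut (BT d) := (BT.aut d).comp Q.normalizerMonoidHom
  have hV : IsPGroup p (BT d) := by
    apply IsPGroup.of_card (n := m)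
    exact hm
  have hA' : IsPGroup p ↥(A.subgroupOf N) := hA.comap_subtype
  have hY' : (Nat.card ↥(Y.subgroupOf N)).Coprime p := by
    rw [Nat.card_congr (Subgroup.subgroupOfEquivOfLe hYQ).toEquiv]
    exact hY
  have hAY' : A.subgroupOf N ≤ normalizer ((Y.subgroupOf N : Subgroup ↥N) : Set ↥N) := by
    intro a ha
    rw [Subgroup.mem_normalizer_iff]
    intro y
    rw [Subgroup.mem_subgroupOf, Subgroup.mem_subgroupOf]
    have := Subgroup.mem_normalizer_iff.mp (hAY (Subgroup.mem_subgroupOf.mp ha)) (y : Γ)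
    simpa using this
  have key := abelian_case act hV (A.subgroupOf N) (Y.subgroupOf N) hA' hY' hAY' (by
    intro v hv y hy
    -- `v` is fixed by `A`, so it lies in `C_Q(A)`
    have hvQ : ((show ↥Q from v) : Γ) ∈ Q ⊓ centralizer (A : Set Γ) := by
      refine Subgroup.mem_inf.mpr ⟨(show ↥Q from v).2, ?_⟩
      rw [Subgroup.mem_centralizer_iff]
      intro a ha
      have h1 := hv ⟨a, hAQ ha⟩ (Subgroup.mem_subgroupOf.mpr ha)
      have h2 := congrArg (fun w : BT d => ((show ↥Q from w) : Γ)) h1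
      have h3 : a * ((show ↥Q from v) : Γ) * a⁻¹ = ((show ↥Q from v) : Γ) := h2
      calc a * ((show ↥Q from v) : Γ) = a * ((show ↥Q from v) : Γ) * a⁻¹ * a := by group
        _ = ((show ↥Q from v) : Γ) * a := by rw [h3]
    have h4 := Subgroup.mem_centralizer_iff.mp (hC hvQ) (y : Γ) (Subgroup.mem_subgroupOf.mp hy)
    apply Subtype.ext
    show (y : Γ) * ((show ↥Q from v) : Γ) * (y : Γ)⁻¹ = ((show ↥Q from v) : Γ)
    rw [h4]; group)
  intro x hx
  rw [Subgroup.mem_centralizer_iff]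
  intro y hy
  have h1 := key ⟨y, hYQ hy⟩ (Subgroup.mem_subgroupOf.mpr hy) (show BT d from ⟨x, hx⟩)
  have h2 := congrArg (fun w : BT d => ((show ↥Q from w) : Γ)) h1
  have h3 : y * x * y⁻¹ = x := h2
  calc y * x = y * x * y⁻¹ * y := by group
    _ = x * y := by rw [h3]

/-- **Non-commuting `P × Q` lemma for odd `p`.** -/
theorem le_centralizer_of_fixed_le [Finite Γ] (p : ℕ) [Fact p.Prime] (hp : p ≠ 2)
    (Q A Y : Subgroup Γ) (hQ : IsPGroup p ↥Q) (hA : IsPGroup p ↥A)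
    (hY : (Nat.card ↥Y).Coprime p)
    (hAQ : A ≤ normalizer (Q : Set Γ)) (hYQ : Y ≤ normalizer (Q : Set Γ))
    (hAY : A ≤ normalizer (Y : Set Γ))
    (hC : Q ⊓ centralizer (A : Set Γ) ≤ centralizer (Y : Set Γ)) :
    Q ≤ centralizer (Y : Set Γ) := by
  induction hn : Nat.card ↥Q using Nat.strong_induction_on generalizing Q with
  | _ n ih =>
    subst hn
    have hYY : Y ≤ normalizer (Y : Set Γ) := Subgroup.le_normalizer
    have hcop : (Nat.card ↥Y).Coprime (Nat.card ↥Q) := by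
      obtain ⟨m, hm⟩ := hQ.exists_card_eq
      rw [hm]
      exact Nat.Coprime.pow_right m hY
    have step : ∀ Q' : Subgroup Γ, Q' ≤ Q → Q' ≠ Q →
        A ≤ normalizer (Q' : Set Γ) → Y ≤ normalizer (Q' : Set Γ) →
        Q' ≤ centralizer (Y : Set Γ) := by
      intro Q' hle hne hA' hY'
      have hlt : Q' < Q := lt_of_le_of_ne hle hne
      have hcard : Nat.card ↥Q' < Nat.card ↥Q := by
        have h1 : Nat.card ↥Q' ∣ Nat.card ↥Q := Subgroup.card_dvd_of_le hle
        have h2 : Nat.card ↥Q' ≤ Nat.card ↥Q := Nat.le_of_dvd Nat.card_pos h1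
        rcases lt_or_eq_of_le h2 with h | h
        · exact h
        · exact absurd (Subgroup.eq_of_le_of_card_ge hle h.ge) hne
      exact ih (Nat.card ↥Q') hcard Q' (hQ.to_le hle) hA' hY' ((inf_le_inf_right _ hle).trans hC) rfl
    by_cases hQ1 : ⁅Q, Y⁆ = Q
    · by_cases hQbot : Q = ⊥
      · rw [hQbot]; exact bot_le
      have hnil : Group.IsNilpotent ↥(Q ⊔ Q) := by
        rw [sup_idem]; exact hQ.isNilpotent
      have hQ2ne : ⁅Q, Q⁆ ≠ Q := Cfsg.Agent.Helper7.commutator_ne_self_of_isNilpotent_sup hnil hQbot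
      have hQ2le : ⁅Q, Q⁆ ≤ Q := Subgroup.commutator_le_self Q
      have hA2 : A ≤ normalizer ((⁅Q, Q⁆ : Subgroup Γ) : Set Γ) :=
        (le_inf hAQ hAQ).trans
          (Cfsg.Agent.Helper7.normalizer_inf_normalizer_le_normalizer_commutator Q Q)
      have hY2 : Y ≤ normalizer ((⁅Q, Q⁆ : Subgroup Γ) : Set Γ) :=
        (le_inf hYQ hYQ).trans
          (Cfsg.Agent.Helper7.normalizer_inf_normalizer_le_normalizer_commutator Q Q)
      have h2 := step ⁅Q, Q⁆ hQ2le hQ2ne hA2 hY2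
      have h3 : ⁅⁅Q, Q⁆, Y⁆ = ⊥ := Subgroup.commutator_eq_bot_iff_le_centralizer.mpr h2
      have h4 : ⁅⁅Y, ⁅Q, Q⁆⁆, Q⁆ = ⊥ := by
        rw [Subgroup.commutator_comm Y, h3, Subgroup.commutator_bot_left]
      have h5 : ⁅⁅⁅Q, Q⁆, Q⁆, Y⁆ = ⊥ := by
        rw [eq_bot_iff, ← h3]
        apply Subgroup.commutator_mono _ le_rfl
        have : Q ≤ normalizer ((⁅Q, Q⁆ : Subgroup Γ) : Set Γ) :=
          (le_inf Subgroup.le_normalizer Subgroup.le_normalizer).trans
            (Cfsg.Agent.Helper7.normalizer_inf_normalizer_le_normalizer_commutator Q Q)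
        exact Cfsg.Agent.Helper7.commutator_le_of_le_normalizer this
      have h6 : ⁅⁅Q, Y⁆, ⁅Q, Q⁆⁆ = ⊥ := Subgroup.commutator_commutator_eq_bot_of_rotate h4 h5
      rw [hQ1, Subgroup.commutator_comm] at h6
      have hcl : ⁅Q, Q⁆ ≤ centralizer (Q : Set Γ) :=
        Subgroup.commutator_eq_bot_iff_le_centralizer.mp h6
      exact le_centralizer_of_class_two p hp Q A Y hQ hA hY hAQ hYQ hAY hC hcl
    · have hQ1le : ⁅Q, Y⁆ ≤ Q := Cfsg.Agent.Helper7.commutator_le_of_le_normalizer hYQ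
      have hA1 : A ≤ normalizer ((⁅Q, Y⁆ : Subgroup Γ) : Set Γ) :=
        (le_inf hAQ hAY).trans
          (Cfsg.Agent.Helper7.normalizer_inf_normalizer_le_normalizer_commutator Q Y)
      have hY1 : Y ≤ normalizer ((⁅Q, Y⁆ : Subgroup Γ) : Set Γ) :=
        (le_inf hYQ hYY).trans
          (Cfsg.Agent.Helper7.normalizer_inf_normalizer_le_normalizer_commutator Q Y)
      have h1 := step ⁅Q, Y⁆ hQ1le hQ1 hA1 hY1
      have h2 : ⁅⁅Q, Y⁆, Y⁆ = ⊥ := Subgroup.commutator_eq_bot_iff_le_centralizer.mpr h1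
      exact Cfsg.Agent.Helper7.le_centralizer_of_commutator_commutator_eq_bot hcop hYQ h2

end Cfsg.Agent.Helper14.Baer
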