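import Mathlib
import Cfsg.Agent.Lib.Helper14.BaerC
import Cfsg.Agent.Lib.Helper10.PSolvBalance

/-!
# Invariant `p'`-subgroups lie in `O_{p'}` (helper14)

`H` `p`-constrained (`p` odd), `A` a `p`-subgroup containing every `p`-element of its
centralizer.  Then every `A`-invariant `p'`-subgroup of `H` lies in `O_{p'}(H)`.
-/

set_option autoImplicit false

namespace Cfsg.Agent.Helper14.BGTrans

open Cfsg Subgroup

variable {H : Type*} [Group H]

theorem le_pPrimeCore_of_inv [Finite H] (p : ℕ) [Fact p.Prime] (hp : p ≠ 2)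
    (hcon : Subgroup.centralizer (pCore p (H ⧸ pPrimeCore p H) : Set (H ⧸ pPrimeCore p H))
      ≤ pCore p (H ⧸ pPrimeCore p H))
    (A Y : Subgroup H) (hA : IsPGroup p ↥A)
    (hfull : ∀ x ∈ Subgroup.centralizer (A : Set H), IsPGroup p ↥(Subgroup.zpowers x) → x ∈ A)
    (hY : (Nat.card ↥Y).Coprime p) (hAY : A ≤ Subgroup.normalizer (Y : Set H)) :
    Y ≤ pPrimeCore p H := by
  classical
  have hpp := (Fact.out : p.Prime)
  set W := pPrimeCore p H with hW
  haveI hWn : W.Normal := Cfsg.Agent.Helper22.pPrimeCore_normal p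
  have hWc : (Nat.card ↥W).Coprime p := Cfsg.Agent.Helper22.card_pPrimeCore_coprime p
  set φ := QuotientGroup.mk' W with hφ
  set Qb := pCore p (H ⧸ W) with hQb
  haveI hQbn : Qb.Normal := Cfsg.pCore_normal p (H ⧸ W)
  have hQbp : IsPGroup p ↥Qb := Cfsg.Agent.Helper7.pCore_isPGroup p
  have hYb : (Nat.card ↥(Y.map φ)).Coprime p :=
    Nat.Coprime.coprime_dvd_left (Subgroup.card_map_dvd Y φ) hY
  -- elements of `Y` map to elements of order prime to `p`
  have hordY : ∀ y ∈ Y, (orderOf (φ y)).Coprime p := fun y hy =>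
    Nat.Coprime.coprime_dvd_left
      ((orderOf_map_dvd φ y).trans (Subgroup.orderOf_dvd_natCard Y hy)) hY
  have key : Qb ≤ Subgroup.centralizer ((Y.map φ : Subgroup (H ⧸ W)) : Set (H ⧸ W)) := by
    apply Cfsg.Agent.Helper14.Baer.le_centralizer_of_fixed_le p hp Qb (A.map φ) (Y.map φ) hQbp
      (hA.map φ) hYb
    · rw [Subgroup.normalizer_eq_top]; exact le_top
    · rw [Subgroup.normalizer_eq_top]; exact le_top
    · exact (Subgroup.map_mono hAY).trans (Subgroup.le_normalizer_map φ)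
    · rintro ub ⟨hubQ, hubC⟩
      have hubC' : ub ∈ Subgroup.centralizer ((A.map φ : Subgroup (H ⧸ W)) : Set (H ⧸ W)) := hubC
      rw [Cfsg.Agent.Helper7.centralizer_map_mk'_eq hA hWc] at hubC'
      obtain ⟨u, hu, rfl⟩ := hubC'
      -- the `p`-part of `u` lies in `A`
      have hn0 : orderOf u ≠ 0 := (orderOf_pos u).ne'
      obtain ⟨e, m, hm, hem⟩ := Nat.exists_eq_pow_mul_and_not_dvd hn0 p hpp.ne_one
      have hum : u ^ m ∈ A := by
        apply hfull
        · exact Subgroup.pow_mem _ hu m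
        · have h1 : orderOf (u ^ m) ∣ p ^ e := by
            apply orderOf_dvd_of_pow_eq_one
            rw [← pow_mul, mul_comm, ← hem, pow_orderOf_eq_one]
          obtain ⟨j, -, hje⟩ := (Nat.dvd_prime_pow hpp).mp h1
          apply IsPGroup.of_card (n := j)
          rw [Nat.card_zpowers]
          exact hje
      -- `φ u` is a power of `φ (u ^ m)`
      have hφu : φ u ∈ A.map φ := by
        obtain ⟨k, hk⟩ := (IsPGroup.iff_orderOf.mp hQbp) ⟨φ u, hubQ⟩
        rw [Subgroup.orderOf_mk] at hk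
        have hcop : m.Coprime (orderOf (φ u)) := by
          rw [hk]
          exact Nat.Coprime.pow_right k ((Nat.Prime.coprime_iff_not_dvd hpp).mpr hm).symm
        obtain ⟨j, hj⟩ := exists_pow_eq_self_of_coprime hcop
        rw [← hj, ← map_pow]
        have hmem : φ (u ^ m) ∈ A.map φ := ⟨u ^ m, hum, rfl⟩
        exact Subgroup.pow_mem _ hmem j
      obtain ⟨a, ha, hau⟩ := hφu
      rw [← hau]
      rw [Subgroup.mem_centralizer_iff]
      rintro _ ⟨y, hy, rfl⟩
      -- the commutator of `a` and `y` lies in `Y` and maps into `Qb`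
      have h1 : a * y * a⁻¹ ∈ Y := (Subgroup.mem_normalizer_iff.mp (hAY ha) y).mp hy
      have h2 : a * y * a⁻¹ * y⁻¹ ∈ Y := Y.mul_mem h1 (Y.inv_mem hy)
      have h3 : (orderOf (φ (a * y * a⁻¹ * y⁻¹))).Coprime p := hordY _ h2
      have h4 : φ (a * y * a⁻¹ * y⁻¹) ∈ Qb := by
        have e : φ (a * y * a⁻¹ * y⁻¹) = φ a * (φ y * (φ a)⁻¹ * (φ y)⁻¹) := by
          simp only [map_mul, map_inv]; group
        rw [e, hau]
        exact Qb.mul_mem hubQ (hQbn.conj_mem _ (Qb.inv_mem hubQ) (φ y))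
      have h5 : φ (a * y * a⁻¹ * y⁻¹) = 1 :=
        Cfsg.Agent.Helper7.eq_one_of_isPGroup_of_coprime hQbp h4 h3
      have e : φ a * φ y = φ (a * y * a⁻¹ * y⁻¹) * (φ y * φ a) := by
        simp only [map_mul, map_inv]; group
      rw [e, h5, one_mul]
  intro y hy
  have hcent : φ y ∈ Subgroup.centralizer (Qb : Set (H ⧸ W)) := by
    rw [Subgroup.mem_centralizer_iff]
    intro ub hub
    exact ((Subgroup.mem_centralizer_iff.mp (key hub)) (φ y) ⟨y, hy, rfl⟩).symm
  have hmem : φ y ∈ Qb := hcon hcent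
  have hone : φ y = 1 := Cfsg.Agent.Helper7.eq_one_of_isPGroup_of_coprime hQbp hmem (hordY y hy)
  exact (QuotientGroup.eq_one_iff y).mp hone

end Cfsg.Agent.Helper14.BGTrans
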