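import Mathlib
import Cfsg.Agent.Lib.Helper14.BGTransF
import Cfsg.Agent.Lib.Helper14.BGTransC
import Cfsg.Agent.S1462

/-!
# BG Theorem 7.6: subgroups satisfying the transitivity hypothesis (helper14)
-/

set_option autoImplicit false

namespace Cfsg.Agent.Helper14.BGTrans

open Cfsg Subgroup
open Cfsg.Agent.Helper10 (IsPiNum)
open Cfsg.Agent.Helper15 (mem_map_conj_iff map_conj_eq_of_mem_normalizer)

variable {G : Type*} [Group G]

/-- if `A` is self-centralizing normal in a Sylow `p`-subgroup, every `p`-element of `C_G(A)`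
lies in `A` -/
theorem mem_of_mem_centralizer_of_scn [Finite G] {p : ℕ} [Fact p.Prime] (P : Sylow p G)
    {A : Subgroup G} (hscn : IsSCN (P : Subgroup G) A) {x : G}
    (hx : x ∈ centralizer (A : Set G)) (hxp : IsPGroup p ↥(zpowers x)) : x ∈ A := by
  obtain ⟨hAP, hPA, hPC⟩ := hscn
  have hAp : IsPGroup p ↥A := P.isPGroup'.to_le hAP
  set N := normalizer (A : Set G) with hN
  have hxN : zpowers x ≤ N := Subgroup.zpowers_le.mpr (Subgroup.centralizer_le_normalizer _ hx)
  have hB : IsPGroup p ↥(A ⊔ zpowers x : Subgroup G) := hAp.to_sup_of_normal_left' hxp hxN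
  have hBN : A ⊔ zpowers x ≤ N := sup_le Subgroup.le_normalizer hxN
  obtain ⟨T, hBT, hT⟩ := Cfsg.Agent.Helper15.exists_isSylowIn_ge hB hBN
  have hPsyl := Cfsg.Agent.Helper15.isSylowIn_of_sylow_le P hPA
  obtain ⟨n, hn, hTn⟩ := hT.exists_conj hPsyl
  -- `n x n⁻¹ ∈ P ∩ C(A) = A`
  have h1 : n * x * n⁻¹ ∈ (P : Subgroup G) := by
    rw [← hTn]
    exact ⟨x, hBT (Subgroup.mem_sup_right (Subgroup.mem_zpowers x)), by simp⟩
  have hn' : n⁻¹ ∈ N := Subgroup.inv_mem _ hn
  have h2 : n * x * n⁻¹ ∈ centralizer (A : Set G) := by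
    rw [Subgroup.mem_centralizer_iff]
    intro a ha
    have ha' : n⁻¹ * a * n ∈ A := by
      have := (Subgroup.mem_normalizer_iff.mp hn' a).mp ha
      simpa using this
    have hc := (Subgroup.mem_centralizer_iff.mp hx) _ ha'
    calc a * (n * x * n⁻¹) = n * ((n⁻¹ * a * n) * x) * n⁻¹ := by group
      _ = n * (x * (n⁻¹ * a * n)) * n⁻¹ := by rw [hc]
      _ = n * x * n⁻¹ * a := by group
  have h3 : n * x * n⁻¹ ∈ A := by
    rw [← hPC]
    exact Subgroup.mem_inf.mpr ⟨h1, h2⟩
  have h4 := (Subgroup.mem_normalizer_iff.mp hn' (n * x * n⁻¹)).mp h3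
  have h5 : n⁻¹ * (n * x * n⁻¹) * n⁻¹⁻¹ = x := by group
  rwa [h5] at h4

theorem isPiNum_primesNotDvd_card_iff [Finite G] {p : ℕ} [Fact p.Prime] {A : Subgroup G}
    (hAp : IsPGroup p ↥A) (hA1 : A ≠ ⊥) {m : ℕ} :
    IsPiNum (primesNotDvd (Nat.card ↥A)) m ↔ m.Coprime p := by
  rw [isPiNum_primesNotDvd_iff]
  obtain ⟨k, hk⟩ := hAp.exists_card_eq
  have hk0 : 0 < k := by
    rcases Nat.eq_zero_or_pos k with h0 | h0
    · rw [h0, pow_zero] at hk
      exact absurd (Subgroup.card_eq_one.mp hk) hA1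
    · exact h0
  rw [hk, Nat.coprime_pow_right_iff hk0]

/-- reduction of the transitivity hypothesis for a `p`-group to a statement inside each proper
overgroup -/
theorem transitivityHypothesis_of_forall [Finite G] (hG : IsMinSimpleOddOrder G) {p : ℕ}
    [Fact p.Prime] {A : Subgroup G} (hAp : IsPGroup p ↥A) (hA1 : A ≠ ⊥)
    (h : ∀ X : Subgroup G, X ≠ ⊤ → A ≤ X → ∀ Y : Subgroup ↥X, (Nat.card ↥Y).Coprime p →
      A.subgroupOf X ≤ normalizer (Y : Set ↥X) → Y ≤ pPrimeCore p ↥X) :
    TransitivityHypothesis A := by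
  refine ⟨hA1, ne_top_of_isPGroup hG hAp, ?_⟩
  intro X hX hAX
  apply le_antisymm
  · apply sSup_le
    rintro Y ⟨hYX, hYπ, hAY⟩
    have hYc : (Nat.card ↥Y).Coprime p := (isPiNum_primesNotDvd_card_iff hAp hA1).mp hYπ
    have h1 := h X hX hAX (Y.subgroupOf X)
      (by rw [Nat.card_congr (Subgroup.subgroupOfEquivOfLe hYX).toEquiv]; exact hYc)
      (by
        intro a ha
        rw [Subgroup.mem_normalizer_iff]
        intro y
        rw [Subgroup.mem_subgroupOf, Subgroup.mem_subgroupOf]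
        have := Subgroup.mem_normalizer_iff.mp (hAY (Subgroup.mem_subgroupOf.mp ha)) (y : G)
        simpa using this)
    have h2 : pPrimeCore p ↥X ≤ piCore (primesNotDvd (Nat.card ↥A)) ↥X := by
      apply Cfsg.Agent.Helper10.le_piCore _ (Cfsg.Agent.Helper22.pPrimeCore_normal p)
      exact (isPiNum_primesNotDvd_card_iff hAp hA1).mpr
        (Cfsg.Agent.Helper22.card_pPrimeCore_coprime p)
    have h3 := Subgroup.map_mono (f := X.subtype) (h1.trans h2)
    rwa [Subgroup.map_subgroupOf_eq_of_le hYX] at h3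
  · exact le_sSup ⟨piCoreOf_le _ _, card_piCoreOf _ _, hAX.trans (le_normalizer_piCoreOf _ _)⟩

theorem prime_ne_two_of_dvd (hG : IsMinSimpleOddOrder G) {p : ℕ} (hp : p ∣ Nat.card G) :
    p ≠ 2 := by
  intro h
  subst h
  have := hG.1
  rw [Nat.odd_iff] at this
  omega

/-- **BG Theorem 7.6** -/
theorem transitivityHypothesis_of_76 [Finite G] (hG : IsMinSimpleOddOrder G)
    (p : ℕ) [Fact p.Prime] (hp : p ∣ Nat.card G) (A : Subgroup G) (hAp : IsPGroup p ↥A)
    (hAc : IsMulCommutative ↥A)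
    (h : (∀ x ∈ centralizer (A : Set G), x ^ p = 1 ↔ x ∈ A) ∧
        (∀ H : Subgroup G, H ≠ ⊤ → PLengthLE p 1 ↥H) ∨
      ∃ P : Sylow p G, IsSCN (P : Subgroup G) A ∧ ¬ PRankLE p 1 ↥A) :
    TransitivityHypothesis A := by
  have hp2 := prime_ne_two_of_dvd hG hp
  have hAcomm : ∀ a ∈ A, ∀ b ∈ A, a * b = b * a := by
    intro a ha b hb
    exact congrArg Subtype.val (mul_comm' (⟨a, ha⟩ : ↥A) ⟨b, hb⟩)
  have hAC : A ≤ centralizer (A : Set G) := by
    intro a ha
    rw [Subgroup.mem_centralizer_iff]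
    intro b hb
    exact hAcomm b hb a ha
  -- centralizer in a subgroup
  have hcentX : ∀ (X : Subgroup G), A ≤ X → ∀ x : ↥X,
      x ∈ centralizer ((A.subgroupOf X : Subgroup ↥X) : Set ↥X) →
      (x : G) ∈ centralizer (A : Set G) := by
    intro X hAX x hx
    rw [Subgroup.mem_centralizer_iff] at hx ⊢
    intro a ha
    have := hx ⟨a, hAX ha⟩ (Subgroup.mem_subgroupOf.mpr ha)
    exact congrArg Subtype.val this
  rcases h with ⟨h1, h2⟩ | ⟨P, hscn, hrk⟩
  · -- case (1)
    have hA1 : A ≠ ⊥ := by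
      intro hbot
      obtain ⟨x, hx⟩ := exists_prime_orderOf_dvd_card' p hp
      have hxc : x ∈ centralizer (A : Set G) := by
        rw [Subgroup.mem_centralizer_iff]
        intro a ha
        rw [hbot] at ha
        have ha1 : a = 1 := Subgroup.mem_bot.mp ha
        rw [ha1, one_mul, mul_one]
      have hxA : x ∈ A := (h1 x hxc).mp (by rw [← hx, pow_orderOf_eq_one])
      rw [hbot, Subgroup.mem_bot] at hxA
      rw [hxA, orderOf_one] at hx
      exact (Fact.out : p.Prime).one_lt.ne hx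
    apply transitivityHypothesis_of_forall hG hAp hA1
    intro X hX hAX Y hY hAY
    haveI : Group.IsSolvable ↥X := isSolvable_of_ne_top hG hX
    apply Cfsg.Agent.S1462.result p hp2 (h2 X hX) (A.subgroupOf X) Y ⟨?_, ?_⟩ ?_ hY hAY
    · exact Subgroup.subgroupOf_isMulCommutative X A
    · intro a ha
      have h3 := (h1 (a : G) (hAC (Subgroup.mem_subgroupOf.mp ha))).mpr (Subgroup.mem_subgroupOf.mp ha)
      exact Subtype.ext (by simpa using h3)
    · intro B hB hAB
      apply le_antisymm _ hAB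
      intro b hb
      have hbc : b ∈ centralizer ((A.subgroupOf X : Subgroup ↥X) : Set ↥X) := by
        rw [Subgroup.mem_centralizer_iff]
        intro a ha
        haveI := hB.1
        exact congrArg Subtype.val (mul_comm' (⟨a, hAB ha⟩ : ↥B) ⟨b, hb⟩)
      have hbp : (b : G) ^ p = 1 := by
        have := hB.2 b hb
        have h4 := congrArg Subtype.val this
        simpa using h4
      exact Subgroup.mem_subgroupOf.mpr ((h1 (b : G) (hcentX X hAX b hbc)).mp hbp)
  · -- case (2)
    have hA1 : A ≠ ⊥ := by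
      intro hbot
      apply hrk
      intro B _ _
      have h3 : Nat.card ↥B ≤ Nat.card ↥A := Nat.card_le_card_of_injective _ B.subtype_injective
      have h4 : Nat.card ↥A = 1 := Subgroup.card_eq_one.mpr hbot
      rw [h4] at h3
      exact h3.trans (Nat.one_le_pow _ _ (Fact.out : p.Prime).pos)
    apply transitivityHypothesis_of_forall hG hAp hA1
    intro X hX hAX Y hY hAY
    have hsolv : Group.IsSolvable ↥X := isSolvable_of_ne_top hG hX
    apply le_pPrimeCore_of_inv p hp2
      (Cfsg.Agent.Helper10.centralizer_pCore_quotient_le_of_isSolvable p hsolv)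
      (A.subgroupOf X) Y hAp.comap_subtype ?_ hY hAY
    intro x hx hxp
    rw [Subgroup.mem_subgroupOf]
    apply mem_of_mem_centralizer_of_scn P hscn (hcentX X hAX x hx)
    have hord : orderOf (x : G) = orderOf x := Subgroup.orderOf_coe x
    obtain ⟨j, hj⟩ := hxp.exists_card_eq
    rw [Nat.card_zpowers] at hj
    apply IsPGroup.of_card (n := j)
    rw [Nat.card_zpowers, hord, hj]

end Cfsg.Agent.Helper14.BGTrans
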