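import Mathlib
import Cfsg.Agent.Lib.Helper14.BGTransC
import Cfsg.Agent.Lib.Helper1.Glauberman

/-!
# Transitivity theorems (helper14): tools for passing to an overgroup
-/

set_option autoImplicit false

namespace Cfsg.Agent.Helper14.BGTrans

open Cfsg Subgroup
open Cfsg.Agent.Helper10 (IsPiNum)
open Cfsg.Agent.Helper15 (mem_map_conj_iff conj_mem_map_conj map_conj_map_conj map_conj_one
  map_conj_inv_map_conj map_conj_map_conj_inv map_conj_mono card_map_conj isPGroup_map_conj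
  map_conj_eq_of_mem_normalizer mem_normalizer_of_map_conj_eq)

variable {G : Type*} [Group G]

theorem normalizer_le_normalizer_centralizer [Finite G] (A : Subgroup G) :
    normalizer (A : Set G) ≤ normalizer ((centralizer (A : Set G) : Subgroup G) : Set G) := by
  intro g hg
  apply Cfsg.Agent.Helper7.mem_normalizer_of_forall_conj_mem
  intro c hc
  rw [Subgroup.mem_centralizer_iff]
  intro a ha
  have ha' : g⁻¹ * a * g ∈ A := by
    have := (Subgroup.mem_normalizer_iff.mp (inv_mem hg) a).mp ha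
    simpa using this
  have hc' := (Subgroup.mem_centralizer_iff.mp hc) _ ha'
  calc a * (g * c * g⁻¹) = g * ((g⁻¹ * a * g) * c) * g⁻¹ := by group
    _ = g * (c * (g⁻¹ * a * g)) * g⁻¹ := by rw [hc']
    _ = g * c * g⁻¹ * a := by group

theorem map_conj_piCoreOf_le [Finite G] (π : Set ℕ) (X : Subgroup G) (g : G) :
    (piCoreOf π X).map (MulAut.conj g).toMonoidHom ≤
      piCoreOf π (X.map (MulAut.conj g).toMonoidHom) := by
  apply le_piCoreOf π (map_conj_mono (piCoreOf_le π X) g)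
  · exact map_conj_le_normalizer_map_conj (le_normalizer_piCoreOf π X) g
  · rw [card_map_conj]; exact card_piCoreOf π X

theorem normalizer_le_normalizer_piCoreOf [Finite G] (π : Set ℕ) (X : Subgroup G) :
    normalizer (X : Set G) ≤ normalizer ((piCoreOf π X : Subgroup G) : Set G) := by
  intro g hg
  apply mem_normalizer_of_map_conj_eq
  rw [Cfsg.Agent.Helper15.map_conj_eq_iff_le]
  have := map_conj_piCoreOf_le π X g
  rwa [map_conj_eq_of_mem_normalizer hg] at this

theorem normalizer_le_normalizer_KK [Finite G] (A : Subgroup G) :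
    normalizer (A : Set G) ≤ normalizer ((KK A : Subgroup G) : Set G) :=
  (normalizer_le_normalizer_centralizer A).trans (normalizer_le_normalizer_piCoreOf _ _)

theorem coprime_card_of_pi [Finite G] {A P Y : Subgroup G}
    (hPπ : ∀ r : ℕ, r.Prime → r ∣ Nat.card ↥P → r ∣ Nat.card ↥A)
    (hY : (Nat.card ↥Y).Coprime (Nat.card ↥A)) : (Nat.card ↥P).Coprime (Nat.card ↥Y) :=
  Nat.coprime_of_dvd (fun r hr hrP hrY => by
    have := Nat.dvd_gcd hrY (hPπ r hr hrP)
    rw [hY] at this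
    exact hr.one_lt.ne' (Nat.dvd_one.mp this))

/-- conjugation action of a subgroup on the subgroups of `G` -/
@[reducible] def conjMulAction (N : Subgroup G) : MulAction ↥N (Subgroup G) where
  smul n Q := Q.map (MulAut.conj (n : G)).toMonoidHom
  one_smul Q := map_conj_one Q
  mul_smul a b Q := (map_conj_map_conj Q (a : G) (b : G)).symm

/-- **Glauberman**: some `K`-conjugate of a maximal `A`-invariant `q`-subgroup is
`P`-invariant. -/
theorem exists_fixed [Finite G] (hG : IsMinSimpleOddOrder G) {A : Subgroup G}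
    {q : ℕ} [Fact q.Prime] {P : Subgroup G} (hP : P ≠ ⊤)
    (hPπ : ∀ r : ℕ, r.Prime → r ∣ Nat.card ↥P → r ∣ Nat.card ↥A)
    (hPA : P ≤ normalizer (A : Set G))
    (htr : ∀ Q₁ ∈ maxInvSubgroups ⊤ A {q}, ∀ Q₂ ∈ maxInvSubgroups ⊤ A {q}, KConj A Q₁ Q₂)
    {Q : Subgroup G} (hQ : Q ∈ maxInvSubgroups ⊤ A {q}) :
    ∃ k ∈ KK A, P ≤ normalizer ((Q.map (MulAut.conj k).toMonoidHom : Subgroup G) : Set G) := by
  set N := normalizer (A : Set G) with hN
  letI := conjMulAction N
  have hKN : KK A ≤ N := KK_le_normalizer A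
  have hNK : N ≤ normalizer ((KK A : Subgroup G) : Set G) := normalizer_le_normalizer_KK A
  haveI : ((KK A).subgroupOf N).Normal :=
    (Subgroup.normal_subgroupOf_iff_le_normalizer hKN).mpr hNK
  have hcop : (Nat.card ↥(P.subgroupOf N)).Coprime (Nat.card ↥((KK A).subgroupOf N)) := by
    rw [Nat.card_congr (Subgroup.subgroupOfEquivOfLe hPA).toEquiv,
      Nat.card_congr (Subgroup.subgroupOfEquivOfLe hKN).toEquiv]
    exact coprime_card_of_pi hPπ (card_KK_coprime A)
  have hsolv : Group.IsSolvable ↥(P.subgroupOf N) := by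
    haveI := isSolvable_of_ne_top hG hP
    exact Group.isSolvable_of_isSolvable_injective
      (f := (Subgroup.subgroupOfEquivOfLe hPA).toMonoidHom)
      (Subgroup.subgroupOfEquivOfLe hPA).injective
  obtain ⟨k, hk, hfix⟩ := Cfsg.Agent.Helper1.glauberman_exists_fixed (P.subgroupOf N)
    ((KK A).subgroupOf N) hcop (Or.inl hsolv) (Ω := Subgroup G) Q (by
      intro a _
      have h1 : Q.map (MulAut.conj (a : G)).toMonoidHom ∈ maxInvSubgroups ⊤ A {q} :=
        maxInv_map_conj hQ a.2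
      obtain ⟨k, hk, hkQ⟩ := htr Q hQ _ h1
      exact ⟨⟨k, hKN hk⟩, Subgroup.mem_subgroupOf.mpr hk, hkQ.symm⟩)
  refine ⟨(k : G), Subgroup.mem_subgroupOf.mp hk, ?_⟩
  intro a ha
  have := hfix ⟨a, hPA ha⟩ (Subgroup.mem_subgroupOf.mpr ha)
  exact mem_normalizer_of_map_conj_eq this

/-- **Glauberman**: two `P`-invariant maximal `A`-invariant `q`-subgroups are conjugate under
`C_K(P)`. -/
theorem fixed_conj [Finite G] (hG : IsMinSimpleOddOrder G) {A : Subgroup G}
    {q : ℕ} [Fact q.Prime] {P : Subgroup G} (hP : P ≠ ⊤)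
    (hPπ : ∀ r : ℕ, r.Prime → r ∣ Nat.card ↥P → r ∣ Nat.card ↥A)
    (hPA : P ≤ normalizer (A : Set G))
    (htr : ∀ Q₁ ∈ maxInvSubgroups ⊤ A {q}, ∀ Q₂ ∈ maxInvSubgroups ⊤ A {q}, KConj A Q₁ Q₂)
    {Q Q' : Subgroup G} (hQ : Q ∈ maxInvSubgroups ⊤ A {q}) (hQ' : Q' ∈ maxInvSubgroups ⊤ A {q})
    (hPQ : P ≤ normalizer (Q : Set G)) (hPQ' : P ≤ normalizer (Q' : Set G)) :
    ∃ c ∈ KK A ⊓ centralizer (P : Set G), Q.map (MulAut.conj c).toMonoidHom = Q' := by
  set N := normalizer (A : Set G) with hN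
  letI := conjMulAction N
  have hKN : KK A ≤ N := KK_le_normalizer A
  have hNK : N ≤ normalizer ((KK A : Subgroup G) : Set G) := normalizer_le_normalizer_KK A
  haveI : ((KK A).subgroupOf N).Normal :=
    (Subgroup.normal_subgroupOf_iff_le_normalizer hKN).mpr hNK
  have hcop : (Nat.card ↥(P.subgroupOf N)).Coprime (Nat.card ↥((KK A).subgroupOf N)) := by
    rw [Nat.card_congr (Subgroup.subgroupOfEquivOfLe hPA).toEquiv,
      Nat.card_congr (Subgroup.subgroupOfEquivOfLe hKN).toEquiv]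
    exact coprime_card_of_pi hPπ (card_KK_coprime A)
  have hsolv : Group.IsSolvable ↥(P.subgroupOf N) := by
    haveI := isSolvable_of_ne_top hG hP
    exact Group.isSolvable_of_isSolvable_injective
      (f := (Subgroup.subgroupOfEquivOfLe hPA).toMonoidHom)
      (Subgroup.subgroupOfEquivOfLe hPA).injective
  have hAK : P.subgroupOf N ≤ normalizer (((KK A).subgroupOf N : Subgroup ↥N) : Set ↥N) := by
    rw [Subgroup.normalizer_eq_top]; exact le_top
  obtain ⟨k, hk, hkQ⟩ := htr Q hQ Q' hQ'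
  obtain ⟨c, hc, hcQ⟩ := Cfsg.Agent.Helper1.glauberman_fixed_conj (P.subgroupOf N)
    ((KK A).subgroupOf N) hAK hcop (Or.inl hsolv) (Ω := Subgroup G) Q
    (by
      intro a ha
      exact map_conj_eq_of_mem_normalizer (hPQ (Subgroup.mem_subgroupOf.mp ha)))
    ⟨k, hKN hk⟩ (Subgroup.mem_subgroupOf.mpr hk)
    (by
      intro a ha
      show (Q.map (MulAut.conj k).toMonoidHom).map (MulAut.conj (a : G)).toMonoidHom =
        Q.map (MulAut.conj k).toMonoidHom
      rw [hkQ]
      exact map_conj_eq_of_mem_normalizer (hPQ' (Subgroup.mem_subgroupOf.mp ha)))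
  obtain ⟨hc1, hc2⟩ := Subgroup.mem_inf.mp hc
  refine ⟨(c : G), Subgroup.mem_inf.mpr ⟨Subgroup.mem_subgroupOf.mp hc1, ?_⟩, ?_⟩
  · rw [Subgroup.mem_centralizer_iff]
    intro x hx
    have := (Subgroup.mem_centralizer_iff.mp hc2) ⟨x, hPA hx⟩ (Subgroup.mem_subgroupOf.mpr hx)
    exact congrArg Subtype.val this
  · have : Q.map (MulAut.conj (c : G)).toMonoidHom = Q.map (MulAut.conj k).toMonoidHom := hcQ
    rw [this, hkQ]

/-- focal-subgroup type lemma: if `N = M Y` with `Y` normal in `N`, then an element of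
`M ∩ N'` of order prime to `|Y|` lies in `M'`. -/
theorem mem_commutator_of_frattini [Finite G] {N Y M : Subgroup G} (hYN : Y ≤ N) (hMN : M ≤ N)
    (hNY : N ≤ normalizer (Y : Set G))
    (hfr : ∀ n ∈ N, ∃ m ∈ M, ∃ y ∈ Y, n = m * y) {x : G} (hxM : x ∈ M) (hxN : x ∈ ⁅N, N⁆)
    (hcop : (orderOf x).Coprime (Nat.card ↥Y)) : x ∈ ⁅M, M⁆ := by
  haveI : (Y.subgroupOf N).Normal := (Subgroup.normal_subgroupOf_iff_le_normalizer hYN).mpr hNY
  let φ : ↥M →* ↥N ⧸ Y.subgroupOf N :=
    (QuotientGroup.mk' (Y.subgroupOf N)).comp (Subgroup.inclusion hMN)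
  have hφ : ∀ m : ↥M, φ m = QuotientGroup.mk' (Y.subgroupOf N) (Subgroup.inclusion hMN m) :=
    fun _ => rfl
  have hφsurj : Function.Surjective φ := by
    intro t
    obtain ⟨n, rfl⟩ := QuotientGroup.mk'_surjective _ t
    obtain ⟨m, hm, y, hy, hnmy⟩ := hfr n n.2
    refine ⟨⟨m, hm⟩, ?_⟩
    rw [hφ, QuotientGroup.mk'_apply, QuotientGroup.mk'_apply, QuotientGroup.eq,
      Subgroup.mem_subgroupOf]
    have : ((Subgroup.inclusion hMN ⟨m, hm⟩)⁻¹ * n : ↥N) = (⟨m, hMN hm⟩ : ↥N)⁻¹ * n := rfl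
    rw [this]
    push_cast
    rw [hnmy]
    simpa using hy
  have hxN' : x ∈ (commutator ↥N).map N.subtype := by
    rw [Subgroup.map_subtype_commutator]; exact hxN
  obtain ⟨x', hx'c, hx'x⟩ := hxN'
  have h1 : QuotientGroup.mk' (Y.subgroupOf N) x' ∈ commutator (↥N ⧸ Y.subgroupOf N) := by
    have : (commutator ↥N).map (QuotientGroup.mk' (Y.subgroupOf N)) ≤
        commutator (↥N ⧸ Y.subgroupOf N) := by
      rw [commutator_def, commutator_def, Subgroup.map_commutator]
      exact Subgroup.commutator_mono le_top le_top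
    exact this ⟨x', hx'c, rfl⟩
  have h2 : commutator (↥N ⧸ Y.subgroupOf N) = (commutator ↥M).map φ := by
    rw [commutator_def, commutator_def, Subgroup.map_commutator, ← MonoidHom.range_eq_map,
      MonoidHom.range_eq_top.mpr hφsurj]
  rw [h2] at h1
  obtain ⟨m', hm'c, hm'⟩ := h1
  have hx'eq : x' = Subgroup.inclusion hMN ⟨x, hxM⟩ := Subtype.ext hx'x
  set z : ↥M := m'⁻¹ * ⟨x, hxM⟩ with hz
  have hzY : (z : G) ∈ Y := by
    have h3 : φ z = 1 := by
      rw [hz, map_mul, map_inv, hm', hφ ⟨x, hxM⟩, ← hx'eq, inv_mul_cancel]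
    rw [hφ, QuotientGroup.mk'_apply, QuotientGroup.eq_one_iff, Subgroup.mem_subgroupOf] at h3
    exact h3
  have h4 : Abelianization.of (⟨x, hxM⟩ : ↥M) = Abelianization.of z := by
    have hm1 : Abelianization.of m' = 1 := by
      rw [← MonoidHom.mem_ker, Abelianization.ker_of]; exact hm'c
    rw [hz, map_mul, map_inv, hm1, inv_one, one_mul]
  have h5 : orderOf (Abelianization.of (⟨x, hxM⟩ : ↥M)) ∣ orderOf x := by
    have := orderOf_map_dvd (Abelianization.of (G := ↥M)) (⟨x, hxM⟩ : ↥M)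
    rwa [Subgroup.orderOf_mk] at this
  have h6 : orderOf (Abelianization.of z) ∣ Nat.card ↥Y := by
    have h7 := orderOf_map_dvd (Abelianization.of (G := ↥M)) z
    have h8 : orderOf z = orderOf (⟨(z : G), hzY⟩ : ↥Y) := by
      rw [← Subgroup.orderOf_coe z, ← Subgroup.orderOf_coe (⟨(z : G), hzY⟩ : ↥Y)]
    rw [h8] at h7
    exact h7.trans (orderOf_dvd_natCard _)
  rw [← h4] at h6
  have h9 := (Nat.Coprime.coprime_dvd_left h5 hcop).eq_one_of_dvd h6
  rw [orderOf_eq_one_iff, ← MonoidHom.mem_ker, Abelianization.ker_of] at h9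
  rw [← Subgroup.map_subtype_commutator]
  exact ⟨⟨x, hxM⟩, h9, rfl⟩

end Cfsg.Agent.Helper14.BGTrans
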