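import Mathlib
import Cfsg.Agent.Lib.Helper14.BGTransD

/-!
# Transitivity theorems (helper14): passing to a subnormal overgroup (BG 7.5)
-/

set_option autoImplicit false

namespace Cfsg.Agent.Helper14.BGTrans

open Cfsg Subgroup
open Cfsg.Agent.Helper10 (IsPiNum)
open Cfsg.Agent.Helper15 (mem_map_conj_iff conj_mem_map_conj map_conj_map_conj map_conj_one
  map_conj_inv_map_conj map_conj_map_conj_inv map_conj_mono card_map_conj isPGroup_map_conj
  map_conj_eq_of_mem_normalizer mem_normalizer_of_map_conj_eq)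

variable {G : Type*} [Group G]

/-- the conclusion of BG Theorem 7.5 -/
def Concl (A P : Subgroup G) (q : ℕ) (π : Set ℕ) : Prop :=
  piCoreOf π (centralizer (A : Set G)) ⊓ centralizer (P : Set G) =
      piCoreOf π (centralizer (P : Set G)) ∧
    (∀ Q₁ ∈ maxInvSubgroups ⊤ P {q}, ∀ Q₂ ∈ maxInvSubgroups ⊤ P {q},
      ∃ k ∈ piCoreOf π (centralizer (P : Set G)), Q₂ = Q₁.map (MulAut.conj k).toMonoidHom) ∧
    maxInvSubgroups ⊤ P {q} ⊆ maxInvSubgroups ⊤ A {q} ∧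
    ∀ Q ∈ maxInvSubgroups ⊤ P {q},
      P ⊓ ⁅normalizer (P : Set G), normalizer (P : Set G)⁆ ≤
          ⁅normalizer (Q : Set G), normalizer (Q : Set G)⁆ ∧
        normalizer (P : Set G) = piCoreOf π (centralizer (P : Set G)) ⊔
          (normalizer (P : Set G) ⊓ normalizer (Q : Set G))

/-- part (a) -/
theorem KK_inf_centralizer_eq [Finite G] (hG : IsMinSimpleOddOrder G) {A : Subgroup G}
    (hA : TransitivityHypothesis A) {P : Subgroup G} (hAP : A ≤ P) :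
    KK A ⊓ centralizer (P : Set G) =
      piCoreOf (primesNotDvd (Nat.card ↥A)) (centralizer (P : Set G)) := by
  have hCC : centralizer (P : Set G) ≤ centralizer (A : Set G) := Subgroup.centralizer_le hAP
  apply le_antisymm
  · apply le_piCoreOf _ inf_le_right
    · have h1 : centralizer (P : Set G) ≤ normalizer ((KK A : Subgroup G) : Set G) :=
        hCC.trans (le_normalizer_piCoreOf _ _)
      exact (le_inf h1 Subgroup.le_normalizer).trans Subgroup.inf_normalizer_le_normalizer_inf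
    · exact (card_piCoreOf _ _).of_dvd (Subgroup.card_dvd_of_le inf_le_left)
  · apply le_inf _ (piCoreOf_le _ _)
    exact le_KK_of_le_centralizer hG hA ((piCoreOf_le _ _).trans hCC)
      (isPiNum_primesNotDvd_iff.mp (card_piCoreOf _ _))

/-- part (c) in the normal case -/
theorem maxInv_mem_of_normal [Finite G] (hG : IsMinSimpleOddOrder G) {A : Subgroup G}
    (hA : TransitivityHypothesis A) {q : ℕ} [Fact q.Prime] (hqA : ¬ q ∣ Nat.card ↥A)
    {P : Subgroup G} (hP : P ≠ ⊤)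
    (hPπ : ∀ r : ℕ, r.Prime → r ∣ Nat.card ↥P → r ∣ Nat.card ↥A)
    (hAP : A ≤ P) (hPA : P ≤ normalizer (A : Set G))
    (htr : ∀ Q₁ ∈ maxInvSubgroups ⊤ A {q}, ∀ Q₂ ∈ maxInvSubgroups ⊤ A {q}, KConj A Q₁ Q₂)
    {R : Subgroup G} (hR : R ∈ maxInvSubgroups ⊤ P {q}) : R ∈ maxInvSubgroups ⊤ A {q} := by
  obtain ⟨⟨hRq, hPR⟩, hRmax⟩ := mem_maxInvSubgroups_top_iff.mp hR
  have hAR : A ≤ normalizer (R : Set G) := hAP.trans hPR
  obtain ⟨Q₁, hQ₁, hRQ₁⟩ := exists_maxInv_ge hRq hAR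
  by_cases hRQ : R = Q₁
  · rw [hRQ]; exact hQ₁
  exfalso
  have hlt : R < Q₁ := lt_of_le_of_ne hRQ₁ hRQ
  obtain ⟨⟨hQ₁q, hAQ₁⟩, hQ₁max⟩ := mem_maxInvSubgroups_top_iff.mp hQ₁
  by_cases hR1 : R = ⊥
  · obtain ⟨k, hk, hPk⟩ := exists_fixed hG hP hPπ hPA htr hQ₁
    have h1 := hRmax _ (isPGroup_map_conj hQ₁q k) hPk (by rw [hR1]; exact bot_le)
    have : Q₁ = ⊥ := by
      have h2 : Nat.card ↥(Q₁.map (MulAut.conj k).toMonoidHom) = 1 := by
        rw [h1, hR1, Subgroup.card_bot]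
      rw [card_map_conj] at h2
      exact Subgroup.card_eq_one.mp h2
    rw [this, hR1] at hlt
    exact lt_irrefl _ hlt
  · set X := normalizer (R : Set G) with hX
    have hXtop : X ≠ ⊤ := normalizer_ne_top_of_isPGroup hG hRq hR1
    obtain ⟨g, hgQ, hgR, hgN⟩ := Cfsg.Agent.Helper12.exists_mem_normalizer_not_mem Q₁ hQ₁q R hlt
    set U := Q₁ ⊓ X with hU
    have hRU : R ≤ U := le_inf hRQ₁ Subgroup.le_normalizer
    have hgU : g ∈ U := Subgroup.mem_inf.mpr ⟨hgQ, hgN⟩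
    have hAU : A ≤ normalizer (U : Set G) :=
      (le_inf hAQ₁ (hAR.trans Subgroup.le_normalizer)).trans
        Subgroup.inf_normalizer_le_normalizer_inf
    have hUq : IsPGroup q ↥U := hQ₁q.to_le inf_le_left
    set L := piCoreOf (primesNotDvd (Nat.card ↥A)) X with hL
    have hUL : U ≤ L := le_piCoreOf_of_inv hA hXtop hAR inf_le_right
      (isPiNum_primesNotDvd_iff.mp (isPiNum_primesNotDvd_of_isPGroup hqA hUq)) hAU
    have hPL : P ≤ normalizer (L : Set G) := hPR.trans (le_normalizer_piCoreOf _ _)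
    have hcop : (Nat.card ↥P).Coprime (Nat.card ↥L) :=
      coprime_card_of_pi hPπ (isPiNum_primesNotDvd_iff.mp (card_piCoreOf _ _))
    obtain ⟨S, hRS, hPS⟩ := Cfsg.Agent.S0025.result P L hPL hcop
      (Or.inl (isSolvable_of_ne_top hG hP)) q R (hRU.trans hUL) hRq hPR
    have hSR : (S : Subgroup ↥L).map L.subtype = R := hRmax _ (S.isPGroup'.map _) hPS hRS
    have hsyl := Cfsg.Agent.Helper15.isSylowIn_map_subtype S
    rw [hSR] at hsyl
    have hUR := hsyl.eq_of_le hUq hRU hUL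
    rw [hUR] at hgU
    exact hgR hgU

/-- BG Theorem 7.5 when `A` is normal in `P` -/
theorem normal_case [Finite G] (hG : IsMinSimpleOddOrder G) {A : Subgroup G}
    (hA : TransitivityHypothesis A) {q : ℕ} [Fact q.Prime] (hqA : ¬ q ∣ Nat.card ↥A)
    {P : Subgroup G} (hP : P ≠ ⊤)
    (hPπ : ∀ r : ℕ, r.Prime → r ∣ Nat.card ↥P → r ∣ Nat.card ↥A)
    (hAP : A ≤ P) (hPA : P ≤ normalizer (A : Set G))
    (htr : ∀ Q₁ ∈ maxInvSubgroups ⊤ A {q}, ∀ Q₂ ∈ maxInvSubgroups ⊤ A {q}, KConj A Q₁ Q₂) :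
    Concl A P q (primesNotDvd (Nat.card ↥A)) := by
  have ha := KK_inf_centralizer_eq hG hA hAP
  have hc : maxInvSubgroups ⊤ P {q} ⊆ maxInvSubgroups ⊤ A {q} :=
    fun R hR => maxInv_mem_of_normal hG hA hqA hP hPπ hAP hPA htr hR
  have hb : ∀ Q₁ ∈ maxInvSubgroups ⊤ P {q}, ∀ Q₂ ∈ maxInvSubgroups ⊤ P {q},
      ∃ k ∈ piCoreOf (primesNotDvd (Nat.card ↥A)) (centralizer (P : Set G)),
        Q₂ = Q₁.map (MulAut.conj k).toMonoidHom := by
    intro Q₁ h₁ Q₂ h₂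
    obtain ⟨⟨-, hPQ₁⟩, -⟩ := mem_maxInvSubgroups_top_iff.mp h₁
    obtain ⟨⟨-, hPQ₂⟩, -⟩ := mem_maxInvSubgroups_top_iff.mp h₂
    obtain ⟨c, hc', hcQ⟩ := fixed_conj hG hP hPπ hPA htr (hc h₁) (hc h₂) hPQ₁ hPQ₂
    rw [ha] at hc'
    exact ⟨c, hc', hcQ.symm⟩
  refine ⟨ha, hb, hc, ?_⟩
  intro Q hQ
  obtain ⟨⟨hQq, hPQ⟩, -⟩ := mem_maxInvSubgroups_top_iff.mp hQ
  set Y := piCoreOf (primesNotDvd (Nat.card ↥A)) (centralizer (P : Set G)) with hY
  set NP := normalizer (P : Set G) with hNP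
  set M := NP ⊓ normalizer (Q : Set G) with hM
  have hYNP : Y ≤ NP := (piCoreOf_le _ _).trans (Subgroup.centralizer_le_normalizer _)
  have hNPY : NP ≤ normalizer (Y : Set G) :=
    (normalizer_le_normalizer_centralizer P).trans (normalizer_le_normalizer_piCoreOf _ _)
  have hfr : ∀ n ∈ NP, ∃ m ∈ M, ∃ y ∈ Y, n = m * y := by
    intro n hn
    have hn' : n⁻¹ ∈ NP := Subgroup.inv_mem _ hn
    obtain ⟨k, hk, hkQ⟩ := hb _ (maxInv_map_conj hQ hn') Q hQ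
    rw [map_conj_map_conj] at hkQ
    have h1 : k * n⁻¹ ∈ normalizer (Q : Set G) := mem_normalizer_of_map_conj_eq hkQ.symm
    have h2 : n * k⁻¹ ∈ normalizer (Q : Set G) := by
      have := Subgroup.inv_mem _ h1
      simpa using this
    refine ⟨n * k⁻¹, Subgroup.mem_inf.mpr ⟨?_, h2⟩, k, hk, by group⟩
    exact Subgroup.mul_mem _ hn (Subgroup.inv_mem _ (hYNP hk))
  constructor
  · intro x hx
    obtain ⟨hxP, hxN⟩ := Subgroup.mem_inf.mp hx
    have hxM : x ∈ M := Subgroup.mem_inf.mpr ⟨Subgroup.le_normalizer hxP, hPQ hxP⟩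
    have hcop : (orderOf x).Coprime (Nat.card ↥Y) := by
      have h1 : orderOf x ∣ Nat.card ↥P := Subgroup.orderOf_dvd_natCard P hxP
      exact Nat.Coprime.coprime_dvd_left h1
        (coprime_card_of_pi hPπ (isPiNum_primesNotDvd_iff.mp (card_piCoreOf _ _)))
    have := mem_commutator_of_frattini hYNP inf_le_left hNPY hfr hxM hxN hcop
    exact Subgroup.commutator_mono inf_le_right inf_le_right this
  · apply le_antisymm
    · intro n hn
      obtain ⟨m, hm, y, hy, rfl⟩ := hfr n hn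
      exact Subgroup.mul_mem _ (Subgroup.mem_sup_right hm) (Subgroup.mem_sup_left hy)
    · exact sup_le hYNP inf_le_left

theorem primesNotDvd_eq_of [Finite G] {A A₁ P : Subgroup G} (hAA₁ : A ≤ A₁) (hA₁P : A₁ ≤ P)
    (hPπ : ∀ r : ℕ, r.Prime → r ∣ Nat.card ↥P → r ∣ Nat.card ↥A) :
    primesNotDvd (Nat.card ↥A₁) = primesNotDvd (Nat.card ↥A) := by
  ext r
  constructor
  · rintro ⟨hr, h⟩
    exact ⟨hr, fun h' => h (h'.trans (Subgroup.card_dvd_of_le hAA₁))⟩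
  · rintro ⟨hr, h⟩
    exact ⟨hr, fun h' => h (hPπ r hr (h'.trans (Subgroup.card_dvd_of_le hA₁P)))⟩

/-- the transitivity hypothesis passes to `π(A)`-overgroups -/
theorem transitivityHypothesis_of_le [Finite G] {A A₁ P : Subgroup G}
    (hA : TransitivityHypothesis A) (hAA₁ : A ≤ A₁) (hA₁P : A₁ ≤ P) (hP : P ≠ ⊤)
    (hPπ : ∀ r : ℕ, r.Prime → r ∣ Nat.card ↥P → r ∣ Nat.card ↥A) :
    TransitivityHypothesis A₁ := by
  refine ⟨fun h => hA.1 (eq_bot_iff.mpr (h ▸ hAA₁)), fun h => hP (eq_top_iff.mpr (h ▸ hA₁P)), ?_⟩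
  intro X hX hA₁X
  rw [primesNotDvd_eq_of hAA₁ hA₁P hPπ]
  apply le_antisymm
  · rw [← hA.2.2 X hX (hAA₁.trans hA₁X)]
    apply sSup_le
    rintro Y ⟨h1, h2, h3⟩
    exact le_sSup ⟨h1, h2, hAA₁.trans h3⟩
  · exact le_sSup ⟨piCoreOf_le _ _, card_piCoreOf _ _, hA₁X.trans (le_normalizer_piCoreOf _ _)⟩

/-- BG Theorem 7.5, by induction along a subnormal series -/
theorem subnormal_case [Finite G] (hG : IsMinSimpleOddOrder G) {q : ℕ} [Fact q.Prime]
    {P : Subgroup G} (hP : P ≠ ⊤) (H : Subgroup ↥P) (hH : H.IsSubnormal) :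
    ∀ A : Subgroup G, A = H.map P.subtype → TransitivityHypothesis A → ¬ q ∣ Nat.card ↥A →
      (∀ r : ℕ, r.Prime → r ∣ Nat.card ↥P → r ∣ Nat.card ↥A) →
      (∀ Q₁ ∈ maxInvSubgroups ⊤ A {q}, ∀ Q₂ ∈ maxInvSubgroups ⊤ A {q}, KConj A Q₁ Q₂) →
      Concl A P q (primesNotDvd (Nat.card ↥A)) := by
  induction hH with
  | top =>
    intro A hAeq hA hqA hPπ htr
    have hAP : A = P := by
      rw [hAeq, ← MonoidHom.range_eq_map, Subgroup.range_subtype]
    subst hAP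
    exact normal_case hG hA hqA hP hPπ le_rfl Subgroup.le_normalizer htr
  | step H K hle hK hN ih =>
    intro A hAeq hA hqA hPπ htr
    set A₁ := K.map P.subtype with hA₁
    have hAA₁ : A ≤ A₁ := by rw [hAeq]; exact Subgroup.map_mono hle
    have hA₁P : A₁ ≤ P := Subgroup.map_subtype_le _
    have hA₁A : A₁ ≤ normalizer (A : Set G) := by
      have h1 : K ≤ normalizer (H : Set ↥P) :=
        (Subgroup.normal_subgroupOf_iff_le_normalizer hle).mp hN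
      rintro _ ⟨k, hk, rfl⟩
      have h2 := h1 hk
      apply Cfsg.Agent.Helper7.mem_normalizer_of_forall_conj_mem
      rw [hAeq]
      rintro _ ⟨h, hh, rfl⟩
      exact ⟨k * h * k⁻¹, (Subgroup.mem_normalizer_iff.mp h2 h).mp hh, by simp⟩
    have hA₁top : A₁ ≠ ⊤ := fun h => hP (eq_top_iff.mpr (h ▸ hA₁P))
    have hPπ₁ : ∀ r : ℕ, r.Prime → r ∣ Nat.card ↥A₁ → r ∣ Nat.card ↥A :=
      fun r hr h => hPπ r hr (h.trans (Subgroup.card_dvd_of_le hA₁P))
    obtain ⟨ha₁, hb₁, hc₁, -⟩ := normal_case hG hA hqA hA₁top hPπ₁ hAA₁ hA₁A htr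
    have hπeq := primesNotDvd_eq_of hAA₁ hA₁P hPπ
    have hA₁hyp := transitivityHypothesis_of_le hA hAA₁ hA₁P hP hPπ
    have hqA₁ : ¬ q ∣ Nat.card ↥A₁ :=
      fun h => hqA (hPπ q Fact.out (h.trans (Subgroup.card_dvd_of_le hA₁P)))
    have hPπ' : ∀ r : ℕ, r.Prime → r ∣ Nat.card ↥P → r ∣ Nat.card ↥A₁ :=
      fun r hr h => (hPπ r hr h).trans (Subgroup.card_dvd_of_le hAA₁)
    have htr₁ : ∀ Q₁ ∈ maxInvSubgroups ⊤ A₁ {q}, ∀ Q₂ ∈ maxInvSubgroups ⊤ A₁ {q},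
        KConj A₁ Q₁ Q₂ := by
      intro Q₁ h₁ Q₂ h₂
      obtain ⟨k, hk, hkQ⟩ := hb₁ Q₁ h₁ Q₂ h₂
      refine ⟨k, ?_, hkQ.symm⟩
      unfold KK
      rw [hπeq]
      exact hk
    have h2 := ih A₁ rfl hA₁hyp hqA₁ hPπ' htr₁
    rw [hπeq] at h2
    obtain ⟨ha₂, hb₂, hc₂, hd₂⟩ := h2
    refine ⟨?_, hb₂, hc₂.trans hc₁, hd₂⟩
    rw [← ha₂, ← ha₁]
    have hCC : centralizer (P : Set G) ≤ centralizer (A₁ : Set G) := Subgroup.centralizer_le hA₁P
    rw [inf_assoc, inf_eq_right.mpr hCC]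

end Cfsg.Agent.Helper14.BGTrans
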