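import Mathlib
import Cfsg.Agent.Lib.Helper8.FitPrime3
import Cfsg.Agent.Lib.Helper14.BGTransD

/-!
# Bender's method for the uniqueness theorem, I: Fitting subgroup facts (helper14)

For a subgroup `H` of `G`: `F(H)` as a subgroup of `G`, the subgroups `O_p(H)` and
`dP p H = Z(O_p(H))`, all seen inside `G`.
-/

set_option autoImplicit false

namespace Cfsg.Agent.Helper14.BGUniq

open Cfsg Subgroup
open Cfsg.Agent.Helper8.FitPrime (pCoreOf_le pCoreOf_isPGroup fittingOf_eq_iSup fittingOf_le)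
open Cfsg.Agent.Helper8 (FitPrime.pCoreOf)

universe u

variable {G : Type u} [Group G] [Finite G]

theorem le_normalizer_map_subtype (H : Subgroup G) (N : Subgroup ↥H) [hN : N.Normal] :
    H ≤ normalizer ((N.map H.subtype : Subgroup G) : Set G) := by
  intro h hh
  rw [Subgroup.mem_normalizer_iff]
  intro x
  constructor
  · rintro ⟨y, hy, rfl⟩
    exact ⟨⟨h, hh⟩ * y * ⟨h, hh⟩⁻¹, hN.conj_mem y hy ⟨h, hh⟩, by simp⟩
  · rintro ⟨y, hy, hyx⟩
    have h1 := hN.conj_mem y hy (⟨h, hh⟩⁻¹ : ↥H)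
    refine ⟨(⟨h, hh⟩⁻¹ : ↥H) * y * (⟨h, hh⟩⁻¹ : ↥H)⁻¹, h1, ?_⟩
    have : (y : G) = h * x * h⁻¹ := hyx
    simp only [inv_inv, Subgroup.coe_subtype, Subgroup.coe_mul, Subgroup.coe_inv, this]
    group

theorem le_normalizer_fittingOf (H : Subgroup G) :
    H ≤ normalizer ((fittingOf H : Subgroup G) : Set G) := by
  haveI : (fittingSubgroup ↥H).Normal := Cfsg.Agent.Helper7.fittingSubgroup_normal'
  exact le_normalizer_map_subtype H _

theorem isNilpotent_fittingOf (H : Subgroup G) : Group.IsNilpotent ↥(fittingOf H) := by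
  have h : Group.IsNilpotent ↥(fittingSubgroup ↥H) := Cfsg.Agent.Helper7.fittingSubgroup_isNilpotent
  exact Cfsg.Agent.Helper7.isNilpotent_map_subtype _ h

theorem le_normalizer_pCoreOf (p : ℕ) (H : Subgroup G) :
    H ≤ normalizer ((FitPrime.pCoreOf p H : Subgroup G) : Set G) := by
  haveI : (pCore p ↥H).Normal := Cfsg.pCore_normal p ↥H
  exact le_normalizer_map_subtype H _

theorem pCoreOf_le_fittingOf (p : ℕ) [Fact p.Prime] (H : Subgroup G) :
    FitPrime.pCoreOf p H ≤ fittingOf H :=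
  Subgroup.map_mono (Cfsg.Agent.Helper7.pCore_le_fittingSubgroup p)

/-- `p`-elements of `F(H)` lie in `O_p(H)` -/
theorem mem_pCoreOf_of_mem_fittingOf (p : ℕ) [Fact p.Prime] {H : Subgroup G} {x : G}
    (hx : x ∈ fittingOf H) (hp : ∃ k : ℕ, x ^ (p ^ k) = 1) : x ∈ FitPrime.pCoreOf p H := by
  obtain ⟨y, hy, rfl⟩ := hx
  refine ⟨y, Cfsg.Agent.Helper7.mem_pCore_of_mem_fittingSubgroup p hy ?_, rfl⟩
  obtain ⟨k, hk⟩ := hp
  exact ⟨k, Subtype.ext (by simpa using hk)⟩

theorem pCoreOf_ne_bot_of_dvd (p : ℕ) [Fact p.Prime] {H : Subgroup G}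
    (h : p ∣ Nat.card ↥(fittingOf H)) : FitPrime.pCoreOf p H ≠ ⊥ := by
  obtain ⟨x, hx⟩ := exists_prime_orderOf_dvd_card' (G := ↥(fittingOf H)) p h
  have hx1 : (x : G) ∈ FitPrime.pCoreOf p H := by
    apply mem_pCoreOf_of_mem_fittingOf p x.2
    refine ⟨1, ?_⟩
    have : x ^ p = 1 := by rw [← hx]; exact pow_orderOf_eq_one x
    rw [pow_one]
    have h2 := congrArg Subtype.val this
    simpa using h2
  intro hbot
  rw [hbot, Subgroup.mem_bot] at hx1
  have : x = 1 := Subtype.ext hx1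
  rw [this, orderOf_one] at hx
  exact (Fact.out : p.Prime).one_lt.ne hx

theorem pCoreOf_eq_bot_of_not_dvd (p : ℕ) [Fact p.Prime] {H : Subgroup G}
    (h : ¬ p ∣ Nat.card ↥(fittingOf H)) : FitPrime.pCoreOf p H = ⊥ := by
  by_contra hne
  apply h
  have h1 : Nat.card ↥(FitPrime.pCoreOf p H) ∣ Nat.card ↥(fittingOf H) :=
    Subgroup.card_dvd_of_le (pCoreOf_le_fittingOf p H)
  rcases (pCoreOf_isPGroup p H).card_eq_or_dvd with h2 | h2
  · exact absurd (Subgroup.card_eq_one.mp h2) hne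
  · exact h2.trans h1

/-- the centre of `O_p(H)` as a subgroup of `G` -/
def dP (p : ℕ) (H : Subgroup G) : Subgroup G :=
  FitPrime.pCoreOf p H ⊓ centralizer ((FitPrime.pCoreOf p H : Subgroup G) : Set G)

theorem dP_le_pCoreOf (p : ℕ) (H : Subgroup G) : dP p H ≤ FitPrime.pCoreOf p H := inf_le_left

theorem dP_le (p : ℕ) (H : Subgroup G) : dP p H ≤ H := (dP_le_pCoreOf p H).trans (pCoreOf_le p H)

theorem dP_isPGroup (p : ℕ) [Fact p.Prime] (H : Subgroup G) : IsPGroup p ↥(dP p H) :=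
  (pCoreOf_isPGroup p H).to_le (dP_le_pCoreOf p H)

theorem le_normalizer_dP (p : ℕ) (H : Subgroup G) :
    H ≤ normalizer ((dP p H : Subgroup G) : Set G) := by
  have h1 := le_normalizer_pCoreOf p H
  have h2 : H ≤ normalizer ((centralizer ((FitPrime.pCoreOf p H : Subgroup G) : Set G) : Subgroup G) : Set G) :=
    h1.trans (Cfsg.Agent.Helper14.BGTrans.normalizer_le_normalizer_centralizer _)
  exact (le_inf h1 h2).trans Subgroup.inf_normalizer_le_normalizer_inf

end Cfsg.Agent.Helper14.BGUniq
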