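import Mathlib
import Cfsg.Agent.Lib.Helper14.BGUniqA
import Cfsg.Agent.Lib.Helper7.FStar3
import Cfsg.Agent.S1442

/-!
# Bender's method for the uniqueness theorem, II (helper14)

`dP p H = Z(O_p(H))` is central in `F(H)`; the local-maximality hypothesis `IsLocMax`;
invariant subgroups of order prime to `|F(H)|` meet `H` trivially.
-/

set_option autoImplicit false

namespace Cfsg.Agent.Helper14.BGUniq

open Cfsg Subgroup
open Cfsg.Agent.Helper8.FitPrime (pCoreOf_le pCoreOf_isPGroup fittingOf_eq_iSup fittingOf_le)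
open Cfsg.Agent.Helper8 (FitPrime.pCoreOf)

universe u

variable {G : Type u} [Group G] [Finite G]

theorem dP_ne_bot (p : ℕ) [Fact p.Prime] {H : Subgroup G} (h : FitPrime.pCoreOf p H ≠ ⊥) :
    dP p H ≠ ⊥ := by
  have hnt : Nontrivial ↥(FitPrime.pCoreOf p H) := (Subgroup.nontrivial_iff_ne_bot _).mpr h
  have hcn : Nontrivial ↥(Subgroup.center ↥(FitPrime.pCoreOf p H)) :=
    (pCoreOf_isPGroup p H).center_nontrivial
  obtain ⟨z, hz⟩ := @exists_ne _ hcn (1 : ↥(Subgroup.center ↥(FitPrime.pCoreOf p H)))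
  intro hbot
  apply hz
  have hmem : ((z : ↥(FitPrime.pCoreOf p H)) : G) ∈ dP p H := by
    refine Subgroup.mem_inf.mpr ⟨(z : ↥(FitPrime.pCoreOf p H)).2, ?_⟩
    rw [Subgroup.mem_centralizer_iff]
    intro y hy
    have := (Subgroup.mem_center_iff.mp z.2) ⟨y, hy⟩
    exact congrArg Subtype.val this
  rw [hbot, Subgroup.mem_bot] at hmem
  exact Subtype.ext (Subtype.ext hmem)

theorem pCoreOf_le_centralizer_pCoreOf {r s : ℕ} [Fact r.Prime] [Fact s.Prime] (hrs : r ≠ s)
    (H : Subgroup G) : FitPrime.pCoreOf r H ≤ centralizer ((FitPrime.pCoreOf s H : Subgroup G) : Set G) := by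
  have h := Cfsg.Agent.Helper7.pCore_commutator_pCore_of_ne (H := ↥H) hrs
  rw [Subgroup.commutator_eq_bot_iff_le_centralizer] at h
  rintro _ ⟨x, hx, rfl⟩
  rw [Subgroup.mem_centralizer_iff]
  rintro _ ⟨y, hy, rfl⟩
  have := (Subgroup.mem_centralizer_iff.mp (h hx)) y hy
  exact congrArg Subtype.val this

theorem fittingOf_le_centralizer_dP (p : ℕ) [Fact p.Prime] (H : Subgroup G) :
    fittingOf H ≤ centralizer ((dP p H : Subgroup G) : Set G) := by
  rw [fittingOf_eq_iSup]
  apply iSup_le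
  intro ℓ
  haveI : Fact (ℓ : ℕ).Prime := ⟨ℓ.2⟩
  by_cases hℓ : (ℓ : ℕ) = p
  · rw [hℓ]
    rw [← Subgroup.le_centralizer_iff]
    exact inf_le_right
  · exact (pCoreOf_le_centralizer_pCoreOf hℓ H).trans
      (Subgroup.centralizer_le (dP_le_pCoreOf p H))

theorem dP_le_centralizer_fittingOf (p : ℕ) [Fact p.Prime] (H : Subgroup G) :
    dP p H ≤ centralizer ((fittingOf H : Subgroup G) : Set G) :=
  Subgroup.le_centralizer_iff.mp (fittingOf_le_centralizer_dP p H)

theorem dP_le_fittingOf (p : ℕ) [Fact p.Prime] (H : Subgroup G) : dP p H ≤ fittingOf H :=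
  (dP_le_pCoreOf p H).trans (pCoreOf_le_fittingOf p H)

theorem dP_le_centralizer_dP (p r : ℕ) [Fact p.Prime] [Fact r.Prime] (H : Subgroup G) :
    dP p H ≤ centralizer ((dP r H : Subgroup G) : Set G) :=
  (dP_le_fittingOf p H).trans (fittingOf_le_centralizer_dP r H)

/-- `dP p H` lies in any `M ≤ F(H)` containing `C_{F(H)}(M)` -/
theorem dP_le_of_centralizer_le (p : ℕ) [Fact p.Prime] {H M : Subgroup G} (hM : M ≤ fittingOf H)
    (hCM : fittingOf H ⊓ centralizer (M : Set G) ≤ M) : dP p H ≤ M :=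
  (le_inf (dP_le_fittingOf p H)
    ((dP_le_centralizer_fittingOf p H).trans (Subgroup.centralizer_le hM))).trans hCM

/-- the maximality hypothesis: normalizers of nontrivial `H`-invariant `p`-subgroups lie in `H` -/
def IsLocMax (H : Subgroup G) : Prop :=
  ∀ (p : ℕ) (D : Subgroup G), p.Prime → IsPGroup p ↥D → D ≠ ⊥ →
    H ≤ normalizer (D : Set G) → normalizer (D : Set G) ≤ H

theorem IsLocMax.normalizer_dP_le {H : Subgroup G} (hH : IsLocMax H) (p : ℕ) [Fact p.Prime]
    (hp : p ∣ Nat.card ↥(fittingOf H)) : normalizer ((dP p H : Subgroup G) : Set G) ≤ H :=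
  hH p _ Fact.out (dP_isPGroup p H) (dP_ne_bot p (pCoreOf_ne_bot_of_dvd p hp)) (le_normalizer_dP p H)

theorem IsLocMax.centralizer_dP_le {H : Subgroup G} (hH : IsLocMax H) (p : ℕ) [Fact p.Prime]
    (hp : p ∣ Nat.card ↥(fittingOf H)) : centralizer ((dP p H : Subgroup G) : Set G) ≤ H :=
  (Subgroup.centralizer_le_normalizer _).trans (hH.normalizer_dP_le p hp)

theorem isLocMax_of_isLocalSubgroup {H : Subgroup G}
    (hHmax : ∀ L : Subgroup G, IsLocalSubgroup L → H ≤ L → L = H) : IsLocMax H := by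
  intro p D hp hD hD1 hHD
  exact (hHmax _ ⟨p, D, hp, hD, hD1, rfl⟩ hHD).le

/-- a solvable subgroup `R` normalized by `X = C_H(F(H))` meets `X` inside `F(H)` -/
theorem inf_centralizer_fittingOf_le {H R : Subgroup G} (hR : Group.IsSolvable ↥R)
    (hXR : H ⊓ centralizer ((fittingOf H : Subgroup G) : Set G) ≤ normalizer (R : Set G)) :
    R ⊓ (H ⊓ centralizer ((fittingOf H : Subgroup G) : Set G)) ≤ fittingOf H := by
  set X := H ⊓ centralizer ((fittingOf H : Subgroup G) : Set G) with hX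
  set N : Subgroup ↥H := (R ⊓ X).subgroupOf H with hN
  have hXH : X ≤ H := inf_le_left
  have hmemX : ∀ c : ↥H, c ∈ centralizer ((fittingSubgroup ↥H : Subgroup ↥H) : Set ↥H) →
      (c : G) ∈ X := by
    intro c hc
    refine Subgroup.mem_inf.mpr ⟨c.2, ?_⟩
    rw [Subgroup.mem_centralizer_iff]
    rintro _ ⟨f, hf, rfl⟩
    have := (Subgroup.mem_centralizer_iff.mp hc) f hf
    exact congrArg Subtype.val this
  have h1 : N ≤ centralizer ((fittingSubgroup ↥H : Subgroup ↥H) : Set ↥H) := by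
    intro n hn
    have hn' : (n : G) ∈ R ⊓ X := Subgroup.mem_subgroupOf.mp hn
    have hnX : (n : G) ∈ centralizer ((fittingOf H : Subgroup G) : Set G) :=
      (Subgroup.mem_inf.mp (Subgroup.mem_inf.mp hn').2).2
    rw [Subgroup.mem_centralizer_iff]
    intro f hf
    have := (Subgroup.mem_centralizer_iff.mp hnX) (f : G) ⟨f, hf, rfl⟩
    exact Subtype.ext this
  have h2 : centralizer ((fittingSubgroup ↥H : Subgroup ↥H) : Set ↥H) ≤ normalizer (N : Set ↥H) := by
    intro c hc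
    have hcX := hmemX c hc
    have hcn : (c : G) ∈ normalizer ((R ⊓ X : Subgroup G) : Set G) :=
      Subgroup.inf_normalizer_le_normalizer_inf
        (Subgroup.mem_inf.mpr ⟨hXR hcX, Subgroup.le_normalizer hcX⟩)
    rw [Subgroup.mem_normalizer_iff]
    intro y
    rw [hN, Subgroup.mem_subgroupOf, Subgroup.mem_subgroupOf]
    have := Subgroup.mem_normalizer_iff.mp hcn (y : G)
    simpa using this
  have h3 : Group.IsSolvable ↥N := by
    have hle : R ⊓ X ≤ H := inf_le_right.trans hXH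
    have hRX : R ⊓ X ≤ R := inf_le_left
    have hinj : Function.Injective
        ((Subgroup.inclusion hRX).comp
          (Subgroup.subgroupOfEquivOfLe hle).toMonoidHom) :=
      (Subgroup.inclusion_injective hRX).comp (Subgroup.subgroupOfEquivOfLe hle).injective
    exact Group.isSolvable_of_isSolvable_injective hinj
  have h4 := Cfsg.Agent.Helper7.solvable_le_center_fittingSubgroup N h1 h2 h3
  intro x hx
  have hxH : x ∈ H := hXH (Subgroup.mem_inf.mp hx).2
  have hxN : (⟨x, hxH⟩ : ↥H) ∈ N := Subgroup.mem_subgroupOf.mpr hx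
  obtain ⟨z, -, hz⟩ := h4 hxN
  refine ⟨⟨x, hxH⟩, ?_, rfl⟩
  rw [← hz]
  exact z.2

/-- **Key lemma**: an `M`-invariant subgroup of `R`, of order prime to `|F(H)|`, meets `H`
trivially. -/
theorem inf_eq_bot_of_inv {H M R Y : Subgroup G} (hM : M ≤ fittingOf H)
    (hCM : fittingOf H ⊓ centralizer (M : Set G) ≤ M)
    (hR : Group.IsSolvable ↥R)
    (hXR : H ⊓ centralizer ((fittingOf H : Subgroup G) : Set G) ≤ normalizer (R : Set G))
    (hYR : Y ≤ R) (hMY : M ≤ normalizer (Y : Set G))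
    (hcop : (Nat.card ↥Y).Coprime (Nat.card ↥(fittingOf H))) : Y ⊓ H = ⊥ := by
  set F := fittingOf H with hF
  set Y₁ := Y ⊓ H with hY₁
  have hFH : F ≤ H := fittingOf_le H
  have hMH : M ≤ H := hM.trans hFH
  have hcop₁ : (Nat.card ↥Y₁).Coprime (Nat.card ↥F) :=
    Nat.Coprime.coprime_dvd_left (Subgroup.card_dvd_of_le inf_le_left) hcop
  have hdisj : Y₁ ⊓ F = ⊥ := Subgroup.inf_eq_bot_of_coprime hcop₁
  have hMY₁ : M ≤ normalizer (Y₁ : Set G) :=
    (le_inf hMY (hMH.trans Subgroup.le_normalizer)).trans Subgroup.inf_normalizer_le_normalizer_inf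
  have hY₁F : Y₁ ≤ normalizer (F : Set G) := inf_le_right.trans (le_normalizer_fittingOf H)
  -- `Y₁` centralizes `M`
  have hcent : M ≤ centralizer (Y₁ : Set G) := by
    intro m hm
    rw [Subgroup.mem_centralizer_iff]
    intro y hy
    have h1 : y * m * y⁻¹ * m⁻¹ ∈ F := by
      have := (Subgroup.mem_normalizer_iff.mp (hY₁F hy) m).mp (hM hm)
      exact F.mul_mem this (F.inv_mem (hM hm))
    have h2 : y * m * y⁻¹ * m⁻¹ ∈ Y₁ := by
      have := (Subgroup.mem_normalizer_iff.mp (hMY₁ hm) y⁻¹).mp (Y₁.inv_mem hy)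
      have e : y * m * y⁻¹ * m⁻¹ = y * (m * y⁻¹ * m⁻¹) := by group
      rw [e]
      exact Y₁.mul_mem hy this
    have h3 : y * m * y⁻¹ * m⁻¹ ∈ Y₁ ⊓ F := Subgroup.mem_inf.mpr ⟨h2, h1⟩
    rw [hdisj, Subgroup.mem_bot] at h3
    calc y * m = (y * m * y⁻¹ * m⁻¹) * (m * y) := by group
      _ = m * y := by rw [h3, one_mul]
  -- Thompson's lemma
  have hcentF : Y₁ ≤ centralizer (F : Set G) := by
    apply Cfsg.Agent.S1442.result F Y₁ (isNilpotent_fittingOf H) hY₁F hcop₁
    have hMC : M ≤ F ⊓ centralizer (Y₁ : Set G) := le_inf hM hcent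
    exact (inf_le_inf_left F (Subgroup.centralizer_le hMC)).trans (hCM.trans hMC)
  have h5 : Y₁ ≤ R ⊓ (H ⊓ centralizer ((fittingOf H : Subgroup G) : Set G)) :=
    le_inf (inf_le_left.trans hYR) (le_inf inf_le_right hcentF)
  have h6 : Y₁ ≤ F := h5.trans (inf_centralizer_fittingOf_le hR hXR)
  have h7 : Y₁ ≤ Y₁ ⊓ F := le_inf le_rfl h6
  rw [hdisj] at h7
  exact le_bot_iff.mp h7

end Cfsg.Agent.Helper14.BGUniq
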