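import Mathlib
import Cfsg.Agent.Lib.Helper14.BGUniqB
import Cfsg.Agent.Lib.Helper14.BGTransF
import Cfsg.Agent.Lib.Helper7.Signalizer
import Cfsg.Agent.S0026
import Cfsg.Agent.S0028

/-!
# Bender's method for the uniqueness theorem, III (helper14)

The core `P × Q` argument: in a solvable group `T`, commuting `p`- and `r`-subgroups `Zp`, `Zr`
such that commutators of `C_T(Zp)` with `Zr` are `r`-elements: then `Zr ≤ O_{p'}(T)`.
Consequence: invariant subgroups of order prime to `|F(H)|` lie in `O_{π(F(H))'}(R)`.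
-/

set_option autoImplicit false

namespace Cfsg.Agent.Helper14.BGUniq

open Cfsg Subgroup
open Cfsg.Agent.Helper10 (IsPiNum)

section Core

variable {T : Type*} [Group T] [Finite T]

theorem le_pPrimeCore_of_comm (hsolv : Group.IsSolvable T)
    (p r : ℕ) [Fact p.Prime] [Fact r.Prime] (hpr : p ≠ r) (Zp Zr : Subgroup T)
    (hZp : IsPGroup p ↥Zp) (hZr : IsPGroup r ↥Zr) (hcomm : Zp ≤ centralizer (Zr : Set T))
    (h : ∀ x ∈ centralizer (Zp : Set T), ∀ z ∈ Zr, ∃ k : ℕ, (x * z * x⁻¹ * z⁻¹) ^ (r ^ k) = 1) :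
    Zr ≤ pPrimeCore p T := by
  classical
  have hpp := (Fact.out : p.Prime)
  have hrp := (Fact.out : r.Prime)
  set W := pPrimeCore p T with hW
  haveI hWn : W.Normal := Cfsg.Agent.Helper22.pPrimeCore_normal p
  have hWc : (Nat.card ↥W).Coprime p := Cfsg.Agent.Helper22.card_pPrimeCore_coprime p
  set φ := QuotientGroup.mk' W with hφ
  set Qb := pCore p (T ⧸ W) with hQb
  haveI hQbn : Qb.Normal := Cfsg.pCore_normal p (T ⧸ W)
  have hQbp : IsPGroup p ↥Qb := Cfsg.Agent.Helper7.pCore_isPGroup p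
  have hrcop : ∀ k : ℕ, (r ^ k).Coprime p := fun k =>
    Nat.Coprime.pow_left k ((Nat.coprime_primes hrp hpp).mpr (Ne.symm hpr))
  have hZrcop : (Nat.card ↥(Zr.map φ)).Coprime p := by
    obtain ⟨k, hk⟩ := hZr.exists_card_eq
    have := Subgroup.card_map_dvd Zr φ
    rw [hk] at this
    exact Nat.Coprime.coprime_dvd_left this (hrcop k)
  have key : Zr.map φ ≤ centralizer (Qb : Set (T ⧸ W)) := by
    apply Cfsg.Agent.S0028.result p (Zp.map φ) (Zr.map φ) Qb (hZp.map φ) hZrcop hQbp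
    · rintro _ ⟨a, ha, rfl⟩
      rw [Subgroup.mem_centralizer_iff]
      rintro _ ⟨b, hb, rfl⟩
      have := (Subgroup.mem_centralizer_iff.mp (hcomm ha)) b hb
      rw [← map_mul, ← map_mul, this]
    · rw [Subgroup.normalizer_eq_top]; exact le_top
    · rw [Subgroup.normalizer_eq_top]; exact le_top
    · rintro ub ⟨hubQ, hubC⟩
      have hubC' : ub ∈ centralizer ((Zp.map φ : Subgroup (T ⧸ W)) : Set (T ⧸ W)) := hubC
      rw [Cfsg.Agent.Helper7.centralizer_map_mk'_eq hZp hWc] at hubC'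
      obtain ⟨u, hu, rfl⟩ := hubC'
      have hn0 : orderOf u ≠ 0 := (orderOf_pos u).ne'
      obtain ⟨e, m, hm, hem⟩ := Nat.exists_eq_pow_mul_and_not_dvd hn0 p hpp.ne_one
      have hum : u ^ m ∈ centralizer (Zp : Set T) := Subgroup.pow_mem _ hu m
      -- `φ u` is a power of `φ (u ^ m)`
      obtain ⟨k, hk⟩ := (IsPGroup.iff_orderOf.mp hQbp) ⟨φ u, hubQ⟩
      rw [Subgroup.orderOf_mk] at hk
      have hcop : m.Coprime (orderOf (φ u)) := by
        rw [hk]
        exact Nat.Coprime.pow_right k ((Nat.Prime.coprime_iff_not_dvd hpp).mpr hm).symm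
      obtain ⟨j, hj⟩ := exists_pow_eq_self_of_coprime hcop
      have humQ : φ (u ^ m) ∈ Qb := by
        rw [map_pow]; exact Subgroup.pow_mem _ hubQ m
      rw [Subgroup.mem_centralizer_iff]
      rintro _ ⟨z, hz, rfl⟩
      obtain ⟨k', hk'⟩ := h (u ^ m) hum z hz
      set c := u ^ m * z * (u ^ m)⁻¹ * z⁻¹ with hc
      have h3 : (orderOf (φ c)).Coprime p := by
        have h4 : orderOf (φ c) ∣ r ^ k' := by
          apply orderOf_dvd_of_pow_eq_one
          rw [← map_pow, hk', map_one]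
        exact Nat.Coprime.coprime_dvd_left h4 (hrcop k')
      have h4 : φ c ∈ Qb := by
        have e : φ c = φ (u ^ m) * (φ z * (φ (u ^ m))⁻¹ * (φ z)⁻¹) := by
          rw [hc]; simp only [map_mul, map_inv]; group
        rw [e]
        exact Qb.mul_mem humQ (hQbn.conj_mem _ (Qb.inv_mem humQ) (φ z))
      have h5 : φ c = 1 := Cfsg.Agent.Helper7.eq_one_of_isPGroup_of_coprime hQbp h4 h3
      have h6 : φ (u ^ m) * φ z = φ z * φ (u ^ m) := by
        have e : φ (u ^ m) * φ z = φ c * (φ z * φ (u ^ m)) := by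
          rw [hc]; simp only [map_mul, map_inv]; group
        rw [e, h5, one_mul]
      -- now for `φ u`
      have h7 : Commute (φ (u ^ m)) (φ z) := h6
      have h8 : Commute ((φ (u ^ m)) ^ j) (φ z) := h7.pow_left j
      have h9 : (φ (u ^ m)) ^ j = φ u := by
        rw [map_pow]; exact hj
      rw [h9] at h8
      exact h8.eq.symm
  intro z hz
  have hcent : φ z ∈ centralizer (Qb : Set (T ⧸ W)) := key ⟨z, hz, rfl⟩
  have hmem : φ z ∈ Qb :=
    Cfsg.Agent.Helper10.centralizer_pCore_quotient_le_of_isSolvable p hsolv hcent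
  have hord : (orderOf (φ z)).Coprime p := by
    obtain ⟨k, hk⟩ := hZr.exists_card_eq
    have h1 : orderOf (φ z) ∣ r ^ k := by
      rw [← hk]
      exact (orderOf_map_dvd φ z).trans (Subgroup.orderOf_dvd_natCard Zr hz)
    exact Nat.Coprime.coprime_dvd_left h1 (hrcop k)
  have hone : φ z = 1 := Cfsg.Agent.Helper7.eq_one_of_isPGroup_of_coprime hQbp hmem hord
  exact (QuotientGroup.eq_one_iff z).mp hone

end Core

universe u

variable {G : Type u} [Group G] [Finite G]

/-- subgroup version of the core lemma -/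
theorem le_pPrimeCore_map_of_comm {T : Subgroup G} (hsolv : Group.IsSolvable ↥T)
    (p r : ℕ) [Fact p.Prime] [Fact r.Prime] (hpr : p ≠ r) (Zp Zr : Subgroup G)
    (hZpT : Zp ≤ T) (hZrT : Zr ≤ T)
    (hZp : IsPGroup p ↥Zp) (hZr : IsPGroup r ↥Zr) (hcomm : Zp ≤ centralizer (Zr : Set G))
    (h : ∀ x ∈ T ⊓ centralizer (Zp : Set G), ∀ z ∈ Zr,
      ∃ k : ℕ, (x * z * x⁻¹ * z⁻¹) ^ (r ^ k) = 1) :
    Zr ≤ (pPrimeCore p ↥T).map T.subtype := by
  have key := le_pPrimeCore_of_comm hsolv p r hpr (Zp.subgroupOf T) (Zr.subgroupOf T)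
    hZp.comap_subtype hZr.comap_subtype
    (by
      intro a ha
      rw [Subgroup.mem_centralizer_iff]
      intro b hb
      have := (Subgroup.mem_centralizer_iff.mp (hcomm (Subgroup.mem_subgroupOf.mp ha)))
        (b : G) (Subgroup.mem_subgroupOf.mp hb)
      exact Subtype.ext this)
    (by
      intro x hx z hz
      have hxc : (x : G) ∈ centralizer (Zp : Set G) := by
        rw [Subgroup.mem_centralizer_iff]
        intro a ha
        have := (Subgroup.mem_centralizer_iff.mp hx) ⟨a, hZpT ha⟩ (Subgroup.mem_subgroupOf.mpr ha)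
        exact congrArg Subtype.val this
      obtain ⟨k, hk⟩ := h (x : G) (Subgroup.mem_inf.mpr ⟨x.2, hxc⟩) (z : G)
        (Subgroup.mem_subgroupOf.mp hz)
      exact ⟨k, Subtype.ext (by simpa using hk)⟩)
  intro z hz
  exact ⟨⟨z, hZrT hz⟩, key (Subgroup.mem_subgroupOf.mpr hz), rfl⟩

theorem card_pPrimeCore_map_coprime (p : ℕ) [Fact p.Prime] (T : Subgroup G) :
    (Nat.card ↥((pPrimeCore p ↥T).map T.subtype)).Coprime p := by
  rw [Subgroup.card_map_of_injective T.subtype_injective]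
  exact Cfsg.Agent.Helper22.card_pPrimeCore_coprime p

theorem le_normalizer_pPrimeCore_map (p : ℕ) [Fact p.Prime] (T : Subgroup G) :
    T ≤ normalizer (((pPrimeCore p ↥T).map T.subtype : Subgroup G) : Set G) := by
  haveI : (pPrimeCore p ↥T).Normal := Cfsg.Agent.Helper22.pPrimeCore_normal p
  exact le_normalizer_map_subtype T _

/-- a subgroup contained, for each prime `p ∣ n`, in an `R`-invariant `p'`-subgroup lies in
`O_{π'}(R)`, `π` the set of primes dividing `n` -/
theorem le_piCoreOf_of_forall {R Y : Subgroup G} (n : ℕ) (hYR : Y ≤ R)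
    (h : ∀ p : ℕ, p.Prime → p ∣ n → ∃ W : Subgroup G, Y ≤ W ∧ R ≤ normalizer (W : Set G) ∧
      (Nat.card ↥W).Coprime p) :
    Y ≤ piCoreOf (primesNotDvd n) R := by
  classical
  by_cases hn : n = 0
  · -- every prime divides `0`
    subst hn
    have hY1 : Y = ⊥ := by
      by_contra hne
      have hc : Nat.card ↥Y ≠ 1 := fun h1 => hne (Subgroup.card_eq_one.mp h1)
      obtain ⟨p, hp, hpY⟩ := Nat.exists_prime_and_dvd hc
      obtain ⟨W, hYW, -, hWp⟩ := h p hp (dvd_zero p)
      have h2 : p ∣ Nat.card ↥W := hpY.trans (Subgroup.card_dvd_of_le hYW)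
      have h3 := Nat.dvd_gcd h2 dvd_rfl
      rw [hWp] at h3
      exact hp.one_lt.ne' (Nat.dvd_one.mp h3)
    rw [hY1]; exact bot_le
  have key : ∀ S : Finset ℕ, S ⊆ n.primeFactors → ∃ N : Subgroup G, Y ≤ N ∧ N ≤ R ∧
      R ≤ normalizer (N : Set G) ∧ ∀ p ∈ S, (Nat.card ↥N).Coprime p := by
    intro S
    induction S using Finset.induction_on with
    | empty => intro _; exact ⟨R, hYR, le_rfl, Subgroup.le_normalizer, by simp⟩
    | insert p S hpS ih =>
      intro hS
      obtain ⟨N, hYN, hNR, hRN, hN⟩ := ih ((Finset.subset_insert p S).trans hS)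
      have hp : p ∈ n.primeFactors := hS (Finset.mem_insert_self p S)
      obtain ⟨W, hYW, hRW, hWp⟩ := h p (Nat.prime_of_mem_primeFactors hp)
        (Nat.dvd_of_mem_primeFactors hp)
      refine ⟨N ⊓ W, le_inf hYN hYW, inf_le_left.trans hNR,
        (le_inf hRN hRW).trans Subgroup.inf_normalizer_le_normalizer_inf, ?_⟩
      intro q hq
      rcases Finset.mem_insert.mp hq with rfl | hq
      · exact Nat.Coprime.coprime_dvd_left (Subgroup.card_dvd_of_le inf_le_right) hWp
      · exact Nat.Coprime.coprime_dvd_left (Subgroup.card_dvd_of_le inf_le_left) (hN q hq)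
  obtain ⟨N, hYN, hNR, hRN, hN⟩ := key n.primeFactors le_rfl
  refine hYN.trans (Cfsg.Agent.Helper14.BGTrans.le_piCoreOf _ hNR hRN ?_)
  rw [Cfsg.Agent.Helper14.BGTrans.isPiNum_primesNotDvd_iff]
  apply Nat.coprime_of_dvd
  intro k hk hkN hkn
  have h1 := hN k (Nat.mem_primeFactors.mpr ⟨hk, hkn, hn⟩)
  have h2 := Nat.dvd_gcd hkN dvd_rfl
  rw [h1] at h2
  exact hk.one_lt.ne' (Nat.dvd_one.mp h2)

end Cfsg.Agent.Helper14.BGUniq
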