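import Mathlib
import Cfsg.Agent.Lib.Helper14.BGUniqC
import Cfsg.Agent.S0023
import Cfsg.Agent.S0024
import Cfsg.Agent.S0025

/-!
# Bender's method for the uniqueness theorem, IV (helper14)

`le_piCoreOf_of_inv`: for `H` "locally maximal" with `|π(F(H))| ≥ 2`, `M ≤ F(H)` with
`C_{F(H)}(M) ≤ M`, every `M`-invariant `π(F(H))'`-subgroup of a solvable `R` normalized by `M`
and `C_H(F(H))` lies in `O_{π(F(H))'}(R)`; uniqueness of the maximal `M`-invariant `q`-subgroups.
-/

set_option autoImplicit false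

namespace Cfsg.Agent.Helper14.BGUniq

open Cfsg Subgroup
open Cfsg.Agent.Helper10 (IsPiNum)

universe u

variable {G : Type u} [Group G] [Finite G]

/-- "at least two primes divide `n`" in a usable form -/
def TwoPrimes (n : ℕ) : Prop :=
  ∀ p : ℕ, p.Prime → p ∣ n → ∃ r : ℕ, r.Prime ∧ r ∣ n ∧ r ≠ p

theorem twoPrimes_of_card {n : ℕ} (h : 2 ≤ n.primeFactors.card) : TwoPrimes n := by
  intro p _ _
  by_contra hcon
  push_neg at hcon
  have hsub : n.primeFactors ⊆ {p} := by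
    intro r hr
    rw [Finset.mem_singleton]
    exact hcon r (Nat.prime_of_mem_primeFactors hr) (Nat.dvd_of_mem_primeFactors hr)
  have := Finset.card_le_card hsub
  rw [Finset.card_singleton] at this
  omega

theorem exists_prime_dvd_of_twoPrimes {n : ℕ} (hn : n ≠ 1) (_h : TwoPrimes n) :
    ∃ r : ℕ, r.Prime ∧ r ∣ n := Nat.exists_prime_and_dvd hn

theorem isSolvable_of_le_fittingOf {H M : Subgroup G} (hM : M ≤ fittingOf H) :
    Group.IsSolvable ↥M := by
  haveI : Group.IsNilpotent ↥M := Cfsg.Agent.Helper7.isNilpotent_of_le hM (isNilpotent_fittingOf H)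
  infer_instance

theorem isSolvable_of_isPGroup {p : ℕ} [Fact p.Prime] {D : Subgroup G} (hD : IsPGroup p ↥D) :
    Group.IsSolvable ↥D := by
  haveI : Group.IsNilpotent ↥D := hD.isNilpotent
  infer_instance

/-- **Main lemma (Bender)** -/
theorem le_piCoreOf_of_inv {H M R Y : Subgroup G} (hH : IsLocMax H)
    (hF2 : TwoPrimes (Nat.card ↥(fittingOf H)))
    (hM : M ≤ fittingOf H) (hCM : fittingOf H ⊓ centralizer (M : Set G) ≤ M)
    (hR : Group.IsSolvable ↥R) (hMR : M ≤ normalizer (R : Set G))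
    (hXR : H ⊓ centralizer ((fittingOf H : Subgroup G) : Set G) ≤ normalizer (R : Set G))
    (hYR : Y ≤ R) (hMY : M ≤ normalizer (Y : Set G))
    (hcop : (Nat.card ↥Y).Coprime (Nat.card ↥(fittingOf H))) :
    Y ≤ piCoreOf (primesNotDvd (Nat.card ↥(fittingOf H))) R := by
  apply le_piCoreOf_of_forall _ hYR
  intro p hp hpF
  obtain ⟨r, hr, hrF, hrp⟩ := hF2 p hp hpF
  haveI : Fact p.Prime := ⟨hp⟩
  haveI : Fact r.Prime := ⟨hr⟩
  set T := R ⊔ M with hT
  have hRT : R ≤ T := le_sup_left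
  have hMT : M ≤ T := le_sup_right
  have hTsolv : Group.IsSolvable ↥T :=
    Cfsg.Agent.Helper7.isSolvable_sup_of_le_normalizer hMR hR (isSolvable_of_le_fittingOf hM)
  have hDpM : dP p H ≤ M := dP_le_of_centralizer_le p hM hCM
  have hDrM : dP r H ≤ M := dP_le_of_centralizer_le r hM hCM
  have hDrp : IsPGroup r ↥(dP r H) := dP_isPGroup r H
  set W := (pPrimeCore p ↥T).map T.subtype with hW
  have hDrW : dP r H ≤ W := by
    apply le_pPrimeCore_map_of_comm hTsolv p r hrp.symm (dP p H) (dP r H) (hDpM.trans hMT)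
      (hDrM.trans hMT) (dP_isPGroup p H) hDrp (dP_le_centralizer_dP p r H)
    intro x hx z hz
    have hxH : x ∈ H := hH.centralizer_dP_le p hpF (Subgroup.mem_inf.mp hx).2
    have h1 : x * z * x⁻¹ ∈ dP r H :=
      (Subgroup.mem_normalizer_iff.mp (le_normalizer_dP r H hxH) z).mp hz
    have h2 : x * z * x⁻¹ * z⁻¹ ∈ dP r H := (dP r H).mul_mem h1 ((dP r H).inv_mem hz)
    obtain ⟨k, hk⟩ := hDrp ⟨_, h2⟩
    exact ⟨k, by simpa using congrArg Subtype.val hk⟩
  have hTW : T ≤ normalizer (W : Set G) := le_normalizer_pPrimeCore_map p T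
  refine ⟨W, ?_, hRT.trans hTW, card_pPrimeCore_map_coprime p T⟩
  have hYH : Y ⊓ H = ⊥ := inf_eq_bot_of_inv hM hCM hR hXR hYR hMY hcop
  have hYC : Y ⊓ centralizer ((dP r H : Subgroup G) : Set G) = ⊥ := by
    rw [eq_bot_iff, ← hYH]
    exact inf_le_inf_left Y (hH.centralizer_dP_le r hrF)
  have hcop' : (Nat.card ↥(dP r H)).Coprime (Nat.card ↥Y) :=
    (Nat.Coprime.coprime_dvd_right (Subgroup.card_dvd_of_le (dP_le_fittingOf r H)) hcop).symm
  have hdec := Cfsg.Agent.S0026.result (dP r H) Y (hDrM.trans hMY) hcop'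
    (Or.inl (isSolvable_of_isPGroup hDrp))
  rw [hYC, sup_bot_eq] at hdec
  rw [← hdec]
  rw [Subgroup.commutator_le]
  intro y hy d hd
  have hyT : y ∈ T := hRT (hYR hy)
  have hdW : d ∈ W := hDrW hd
  have h1 : y * d * y⁻¹ ∈ W := (Subgroup.mem_normalizer_iff.mp (hTW hyT) d).mp hdW
  rw [commutatorElement_def]
  exact W.mul_mem h1 (W.inv_mem hdW)

/-- the `M`-fixed points of `O_{π'}(R)` are trivial -/
theorem piCoreOf_inf_centralizer_eq_bot {H M R : Subgroup G} (hH : IsLocMax H)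
    (hF1 : Nat.card ↥(fittingOf H) ≠ 1)
    (hM : M ≤ fittingOf H) (hCM : fittingOf H ⊓ centralizer (M : Set G) ≤ M)
    (hR : Group.IsSolvable ↥R)
    (hXR : H ⊓ centralizer ((fittingOf H : Subgroup G) : Set G) ≤ normalizer (R : Set G)) :
    piCoreOf (primesNotDvd (Nat.card ↥(fittingOf H))) R ⊓ centralizer (M : Set G) = ⊥ := by
  set O := piCoreOf (primesNotDvd (Nat.card ↥(fittingOf H))) R with hO
  set C₀ := O ⊓ centralizer (M : Set G) with hC₀
  obtain ⟨r, hr, hrF⟩ := Nat.exists_prime_and_dvd hF1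
  haveI : Fact r.Prime := ⟨hr⟩
  have hOR : O ≤ R := Cfsg.Agent.Helper14.BGTrans.piCoreOf_le _ _
  have hOc : (Nat.card ↥O).Coprime (Nat.card ↥(fittingOf H)) :=
    Cfsg.Agent.Helper14.BGTrans.isPiNum_primesNotDvd_iff.mp
      (Cfsg.Agent.Helper14.BGTrans.card_piCoreOf _ _)
  have h1 : M ≤ normalizer (C₀ : Set G) := by
    have : M ≤ centralizer (C₀ : Set G) := Subgroup.le_centralizer_iff.mp inf_le_right
    exact this.trans (Subgroup.centralizer_le_normalizer _)
  have h2 : C₀ ⊓ H = ⊥ :=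
    inf_eq_bot_of_inv hM hCM hR hXR (inf_le_left.trans hOR) h1
      (Nat.Coprime.coprime_dvd_left (Subgroup.card_dvd_of_le inf_le_left) hOc)
  have h3 : C₀ ≤ H :=
    (inf_le_right.trans (Subgroup.centralizer_le (dP_le_of_centralizer_le r hM hCM))).trans
      (hH.centralizer_dP_le r hrF)
  have h4 : C₀ ≤ C₀ ⊓ H := le_inf le_rfl h3
  rw [h2] at h4
  exact le_bot_iff.mp h4

end Cfsg.Agent.Helper14.BGUniq
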