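import Mathlib
import Cfsg.Agent.Lib.Helper14.BGUniqD
import Cfsg.Agent.S0028
import Cfsg.Agent.S1312
import Cfsg.Agent.Lib.Helper1.FittingSolvable

/-!
# Bender's method for the uniqueness theorem, V (helper14)

`eq_of_le_of_inv_eq_bot`: in a minimal simple group of odd order, a maximal subgroup `H` with
`|π(F(H))| ≥ 2` is the only maximal subgroup containing `M`, where `Z(F(H)) ≤ M ≤ F(H)` and all
`M`-invariant `π(F(H))'`-subgroups are trivial.
-/

set_option autoImplicit false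

namespace Cfsg.Agent.Helper14.BGUniq

open Cfsg Subgroup
open Cfsg.Agent.Helper10 (IsPiNum)
open Cfsg.Agent.Helper8 (FitPrime.pCoreOf)
open Cfsg.Agent.Helper8.FitPrime (pCoreOf_le pCoreOf_isPGroup fittingOf_eq_iSup fittingOf_le)

universe u

variable {G : Type u} [Group G] [Finite G]

theorem isLocMax_of_isCoatom (hG : IsMinSimpleOddOrder G) {H : Subgroup G} (hH : IsCoatom H) :
    IsLocMax H := by
  intro p D hp hD hD1 hHN
  haveI : Fact p.Prime := ⟨hp⟩
  have hne : normalizer (D : Set G) ≠ ⊤ :=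
    Cfsg.Agent.Helper14.BGTrans.normalizer_ne_top_of_isPGroup hG hD hD1
  rcases eq_or_lt_of_le hHN with h | h
  · exact h.symm.le
  · exact absurd (hH.2 _ h) hne

/-- `Z(O_r(H))` centralizes `O_p(L)` when `Z(O_p(H)), Z(O_r(H)) ≤ L` -/
theorem dP_le_centralizer_pCoreOf {H L : Subgroup G} (hH : IsLocMax H) {p r : ℕ} [Fact p.Prime]
    [Fact r.Prime] (hpr : p ≠ r) (hpF : p ∣ Nat.card ↥(fittingOf H))
    (hpL : dP p H ≤ L) (hrL : dP r H ≤ L) :
    dP r H ≤ centralizer ((FitPrime.pCoreOf p L : Subgroup G) : Set G) := by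
  have hDr : IsPGroup r ↥(dP r H) := dP_isPGroup r H
  have hU : IsPGroup p ↥(FitPrime.pCoreOf p L) := pCoreOf_isPGroup p L
  have hcop : (Nat.card ↥(dP r H)).Coprime p := by
    obtain ⟨k, hk⟩ := hDr.exists_card_eq
    rw [hk]
    exact Nat.Coprime.pow_left k ((Nat.coprime_primes Fact.out Fact.out).mpr hpr.symm)
  apply Cfsg.Agent.S0028.result p (dP p H) (dP r H) (FitPrime.pCoreOf p L) (dP_isPGroup p H) hcop hU
    (dP_le_centralizer_dP p r H) (hpL.trans (le_normalizer_pCoreOf p L))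
    (hrL.trans (le_normalizer_pCoreOf p L))
  intro x hx
  have hxU : x ∈ FitPrime.pCoreOf p L := (Subgroup.mem_inf.mp hx).1
  have hxH : x ∈ H := hH.centralizer_dP_le p hpF (Subgroup.mem_inf.mp hx).2
  rw [Subgroup.mem_centralizer_iff]
  intro z hz
  have hz' : z ∈ dP r H := hz
  have h1 : x * z * x⁻¹ ∈ dP r H :=
    (Subgroup.mem_normalizer_iff.mp (le_normalizer_dP r H hxH) z).mp hz'
  have h2 : x * z * x⁻¹ * z⁻¹ ∈ dP r H := (dP r H).mul_mem h1 ((dP r H).inv_mem hz')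
  have h3 : z * x⁻¹ * z⁻¹ ∈ FitPrime.pCoreOf p L :=
    (Subgroup.mem_normalizer_iff.mp (le_normalizer_pCoreOf p L (hrL hz')) x⁻¹).mp
      ((FitPrime.pCoreOf p L).inv_mem hxU)
  have h4 : x * z * x⁻¹ * z⁻¹ ∈ FitPrime.pCoreOf p L := by
    have : x * z * x⁻¹ * z⁻¹ = x * (z * x⁻¹ * z⁻¹) := by group
    rw [this]
    exact (FitPrime.pCoreOf p L).mul_mem hxU h3
  have hdisj : Disjoint (FitPrime.pCoreOf p L) (dP r H) :=
    IsPGroup.disjoint_of_ne p r hpr _ _ hU hDr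
  have h5 : x * z * x⁻¹ * z⁻¹ = 1 := by
    have := Subgroup.disjoint_def.mp hdisj h4 h2
    exact this
  have : x * z = z * x := by
    have h6 : x * z * x⁻¹ = z := by
      have := congrArg (· * z) h5
      simpa using this
    calc x * z = x * z * x⁻¹ * x := by group
      _ = z * x := by rw [h6]
  exact this.symm

theorem pCoreOf_le_of_two {H L : Subgroup G} (hH : IsLocMax H) {p r : ℕ} [Fact p.Prime]
    [Fact r.Prime] (hpr : p ≠ r) (hpF : p ∣ Nat.card ↥(fittingOf H))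
    (hrF : r ∣ Nat.card ↥(fittingOf H))
    (hpL : dP p H ≤ L) (hrL : dP r H ≤ L) : FitPrime.pCoreOf p L ≤ H := by
  have h1 := dP_le_centralizer_pCoreOf hH hpr hpF hpL hrL
  have h2 : FitPrime.pCoreOf p L ≤ centralizer ((dP r H : Subgroup G) : Set G) :=
    Subgroup.le_centralizer_iff.mp h1
  exact h2.trans (hH.centralizer_dP_le r hrF)

/-- in a solvable subgroup, `C_L(F(L)) ≤ F(L)` -/
theorem inf_centralizer_fittingOf_le_self {L : Subgroup G} (hL : Group.IsSolvable ↥L) :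
    L ⊓ centralizer ((fittingOf L : Subgroup G) : Set G) ≤ fittingOf L := by
  have h := inf_centralizer_fittingOf_le (H := L) (R := L) hL
    (inf_le_left.trans Subgroup.le_normalizer)
  intro x hx
  exact h (Subgroup.mem_inf.mpr ⟨(Subgroup.mem_inf.mp hx).1, hx⟩)

theorem prime_eq_of_dvd_card_of_isPGroup {p q : ℕ} (hq : q.Prime) {F : Subgroup G}
    (hF : IsPGroup p ↥F) [Fact p.Prime] (hqd : q ∣ Nat.card ↥F) : q = p := by
  obtain ⟨k, hk⟩ := hF.exists_card_eq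
  rw [hk] at hqd
  exact (Nat.prime_dvd_prime_iff_eq hq Fact.out).mp (hq.dvd_of_dvd_pow hqd)

/-- **Bender's uniqueness lemma** (trivial signalizer case) -/
theorem eq_of_le_of_inv_eq_bot (hG : IsMinSimpleOddOrder G) {H L M : Subgroup G}
    (hH : IsCoatom H) (hL : IsCoatom L)
    (hF2 : TwoPrimes (Nat.card ↥(fittingOf H))) (hF1 : Nat.card ↥(fittingOf H) ≠ 1)
    (hZM : fittingOf H ⊓ centralizer ((fittingOf H : Subgroup G) : Set G) ≤ M)
    (hinv : ∀ Y : Subgroup G, M ≤ normalizer (Y : Set G) →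
      (Nat.card ↥Y).Coprime (Nat.card ↥(fittingOf H)) → Y = ⊥)
    (hML : M ≤ L) : L = H := by
  have hHloc : IsLocMax H := isLocMax_of_isCoatom hG hH
  have hLloc : IsLocMax L := isLocMax_of_isCoatom hG hL
  have hLsolv : Group.IsSolvable ↥L := Cfsg.Agent.Helper14.BGTrans.isSolvable_of_ne_top hG hL.1
  have hHsolv : Group.IsSolvable ↥H := Cfsg.Agent.Helper14.BGTrans.isSolvable_of_ne_top hG hH.1
  have hdM : ∀ (p : ℕ) [Fact p.Prime], dP p H ≤ M := fun p _ =>
    (le_inf (dP_le_fittingOf p H) (dP_le_centralizer_fittingOf p H)).trans hZM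
  -- C1
  have hC1 : ∀ (s : ℕ) [Fact s.Prime], ¬ s ∣ Nat.card ↥(fittingOf H) →
      FitPrime.pCoreOf s L = ⊥ := by
    intro s _ hs
    apply hinv _ (hML.trans (le_normalizer_pCoreOf s L))
    obtain ⟨k, hk⟩ := (pCoreOf_isPGroup s L).exists_card_eq
    rw [hk]
    exact Nat.Coprime.pow_left k ((Nat.Prime.coprime_iff_not_dvd Fact.out).mpr hs)
  -- C2
  have hC2 : ∀ (p : ℕ) [Fact p.Prime], p ∣ Nat.card ↥(fittingOf H) →
      FitPrime.pCoreOf p L ≤ H := by
    intro p _ hp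
    obtain ⟨r, hr, hrF, hrp⟩ := hF2 p Fact.out hp
    haveI : Fact r.Prime := ⟨hr⟩
    exact pCoreOf_le_of_two hHloc hrp.symm hp hrF ((hdM p).trans hML) ((hdM r).trans hML)
  have hFLH : fittingOf L ≤ H := by
    rw [fittingOf_eq_iSup]
    apply iSup_le
    intro ℓ
    haveI : Fact (ℓ : ℕ).Prime := ⟨ℓ.2⟩
    by_cases hℓ : (ℓ : ℕ) ∣ Nat.card ↥(fittingOf H)
    · exact hC2 ℓ hℓ
    · rw [hC1 ℓ hℓ]; exact bot_le
  -- C3
  have hC3 : ∀ (r : ℕ) [Fact r.Prime], r ∣ Nat.card ↥(fittingOf H) →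
      FitPrime.pCoreOf r L ≠ ⊥ := by
    intro r _ hrF hbot
    have h1 : fittingOf L ≤ centralizer ((dP r H : Subgroup G) : Set G) := by
      rw [fittingOf_eq_iSup]
      apply iSup_le
      intro ℓ
      haveI : Fact (ℓ : ℕ).Prime := ⟨ℓ.2⟩
      by_cases hℓ : (ℓ : ℕ) ∣ Nat.card ↥(fittingOf H)
      · by_cases hℓr : (ℓ : ℕ) = r
        · have : FitPrime.pCoreOf (ℓ : ℕ) L = ⊥ := by rw [hℓr]; exact hbot
          rw [this]; exact bot_le
        · exact Subgroup.le_centralizer_iff.mp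
            (dP_le_centralizer_pCoreOf hHloc hℓr hℓ ((hdM ℓ).trans hML) ((hdM r).trans hML))
      · rw [hC1 ℓ hℓ]; exact bot_le
    have h2 : dP r H ≤ fittingOf L := by
      refine le_trans ?_ (inf_centralizer_fittingOf_le_self hLsolv)
      exact le_inf ((hdM r).trans hML) (Subgroup.le_centralizer_iff.mp h1)
    have h3 : dP r H ≤ FitPrime.pCoreOf r L := by
      intro x hx
      apply mem_pCoreOf_of_mem_fittingOf r (h2 hx)
      obtain ⟨k, hk⟩ := (dP_isPGroup r H) ⟨x, hx⟩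
      exact ⟨k, by simpa using congrArg Subtype.val hk⟩
    rw [hbot] at h3
    exact dP_ne_bot r (pCoreOf_ne_bot_of_dvd r hrF) (le_bot_iff.mp h3)
  have hrFL : ∀ (r : ℕ) [Fact r.Prime], r ∣ Nat.card ↥(fittingOf H) →
      r ∣ Nat.card ↥(fittingOf L) := by
    intro r _ hrF
    have h1 : Nat.card ↥(FitPrime.pCoreOf r L) ∣ Nat.card ↥(fittingOf L) :=
      Subgroup.card_dvd_of_le (pCoreOf_le_fittingOf r L)
    rcases (pCoreOf_isPGroup r L).card_eq_or_dvd with h2 | h2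
    · exact absurd (Subgroup.card_eq_one.mp h2) (hC3 r hrF)
    · exact h2.trans h1
  -- C4
  have hC4 : ∀ (r : ℕ) [Fact r.Prime], r ∣ Nat.card ↥(fittingOf H) →
      FitPrime.pCoreOf r H ≤ L := by
    intro r _ hrF
    obtain ⟨p, hp, hpF, hpr⟩ := hF2 r Fact.out hrF
    haveI : Fact p.Prime := ⟨hp⟩
    exact pCoreOf_le_of_two hLloc hpr.symm (hrFL r hrF) (hrFL p hpF)
      ((dP_le_fittingOf r L).trans hFLH) ((dP_le_fittingOf p L).trans hFLH)
  have hFHL : fittingOf H ≤ L := by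
    rw [fittingOf_eq_iSup]
    apply iSup_le
    intro ℓ
    haveI : Fact (ℓ : ℕ).Prime := ⟨ℓ.2⟩
    by_cases hℓ : (ℓ : ℕ) ∣ Nat.card ↥(fittingOf H)
    · exact hC4 ℓ hℓ
    · rw [pCoreOf_eq_bot_of_not_dvd ℓ hℓ]; exact bot_le
  -- C5
  by_contra hne
  haveI : IsSimpleGroup G := hG.2.1
  have hgH : generalizedFittingSubgroup ↥H = fittingSubgroup ↥H := by
    unfold generalizedFittingSubgroup
    rw [Cfsg.Agent.Helper1.layer_eq_bot_of_isSolvable, bot_sup_eq]
  have hgL : generalizedFittingSubgroup ↥L = fittingSubgroup ↥L := by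
    unfold generalizedFittingSubgroup
    rw [Cfsg.Agent.Helper1.layer_eq_bot_of_isSolvable, bot_sup_eq]
  obtain ⟨p, hp, hpH, -⟩ := Cfsg.Agent.S1312.result hG.2.2.1 H L hH hL (Ne.symm hne)
    (by rw [hgH]; exact hFHL) (by rw [hgL]; exact hFLH)
  haveI : Fact p.Prime := ⟨hp⟩
  rw [hgH] at hpH
  have hpF : IsPGroup p ↥(fittingOf H) := hpH.map H.subtype
  obtain ⟨q, hq, hqF⟩ := Nat.exists_prime_and_dvd hF1
  obtain ⟨r, hr, hrF, hrq⟩ := hF2 q hq hqF
  have e1 := prime_eq_of_dvd_card_of_isPGroup hq hpF hqF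
  have e2 := prime_eq_of_dvd_card_of_isPGroup hr hpF hrF
  exact hrq (e2.trans e1.symm)

end Cfsg.Agent.Helper14.BGUniq
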