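import Mathlib
import Cfsg.Prelude.Def_LocalStructure
import Cfsg.Agent.Lib.Helper14.StronglyEmbedded
import Cfsg.Agent.Lib.Helper14.Normalize

set_option autoImplicit false

namespace Cfsg.Agent.Helper14

open Cfsg

variable {H : Type*} [Group H]

/-- In a finite group the intersection of a family of subnormal subgroups is subnormal. -/
theorem isSubnormal_sInf [Finite H] {S : Set (Subgroup H)} (h : ∀ K ∈ S, K.IsSubnormal) :
    (sInf S).IsSubnormal := by
  classical
  have hfin : S.Finite := Set.toFinite S
  have e : sInf S = hfin.toFinset.inf id := by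
    rw [Finset.inf_id_eq_sInf]; simp
  rw [e]
  have : ∀ s : Finset (Subgroup H), (∀ K ∈ s, K.IsSubnormal) → (s.inf id).IsSubnormal := by
    intro s
    induction s using Finset.induction_on with
    | empty => intro _; simp
    | insert a s _ ih =>
      intro hs
      rw [Finset.inf_insert]
      exact (hs a (Finset.mem_insert_self a s)).inf (ih (fun K hK => hs K (Finset.mem_insert_of_mem hK)))
  apply this
  intro K hK
  exact h K (hfin.mem_toFinset.mp hK)

/-- Every subgroup of a finite nilpotent group is subnormal. -/
theorem isSubnormal_of_isNilpotent [Finite H] [Group.IsNilpotent H] (K : Subgroup H) : K.IsSubnormal := by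
  induction K using WellFoundedGT.induction with
  | ind K ih =>
    by_cases hK : K = ⊤
    · rw [hK]; exact Subgroup.IsSubnormal.top
    · have hlt : K < Subgroup.normalizer (K : Set H) :=
        Group.normalizerCondition_of_isNilpotent K (lt_top_iff_ne_top.mpr hK)
      exact Subgroup.IsSubnormal.step K _ Subgroup.le_normalizer (ih _ hlt) Subgroup.normal_in_normalizer

theorem le_subnormalClosure (A : Subgroup H) : A ≤ subnormalClosure A :=
  le_sInf (fun _ hK => hK.1)

theorem subnormalClosure_le {A K : Subgroup H} (hAK : A ≤ K) (hK : K.IsSubnormal) : subnormalClosure A ≤ K :=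
  sInf_le ⟨hAK, hK⟩

theorem subnormalClosure_isSubnormal [Finite H] (A : Subgroup H) : (subnormalClosure A).IsSubnormal :=
  isSubnormal_sInf (fun _ hK => hK.2)

/-- `N_H(A)` normalizes the subnormal closure of `A`. -/
theorem normalizer_le_normalizer_subnormalClosure [Finite H] (A : Subgroup H) :
    Subgroup.normalizer (A : Set H) ≤ Subgroup.normalizer (subnormalClosure A : Set H) := by
  apply le_normalizer_of_map_conj_le
  intro g hg
  have hg' : g⁻¹ ∈ Subgroup.normalizer (A : Set H) := Subgroup.inv_mem _ hg
  have h1 : subnormalClosure A ≤ (subnormalClosure A).map (MulAut.conj g⁻¹).toMonoidHom := by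
    apply subnormalClosure_le
    · have := Subgroup.map_mono (f := (MulAut.conj g⁻¹).toMonoidHom) (le_subnormalClosure A)
      rwa [map_conj_eq_self_of_le_normalizer le_rfl hg'] at this
    · exact (subnormalClosure_isSubnormal A).map (MulAut.conj g⁻¹).surjective
  have h2 := Subgroup.map_mono (f := (MulAut.conj g).toMonoidHom) h1
  rwa [map_conj_map_conj_inv] at h2

end Cfsg.Agent.Helper14
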