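import Mathlib
import Cfsg.Agent.Lib.Helper14.BGUniqE
import Cfsg.Agent.Lib.Helper14.BGTransE
import Cfsg.Agent.Lib.Helper14.SubnormalClosure
import Cfsg.Agent.S1393
import Cfsg.Agent.S1395

/-!
# Bender's method for the uniqueness theorem, VI (helper14)

`inv_eq_bot_of_transitivity`: for a maximal subgroup `M` of a minimal simple group of odd order
and `A ≤ F(M)` with `C_{F(M)}(A) ≤ A`, satisfying the transitivity hypothesis and with `Z(A)` of
rank at least `3`, every `A`-invariant `π(F(M))'`-subgroup is trivial.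
-/

set_option autoImplicit false

namespace Cfsg.Agent.Helper14.BGUniq

open Cfsg Subgroup
open Cfsg.Agent.Helper10 (IsPiNum)
open Cfsg.Agent.Helper8 (FitPrime.pCoreOf)
open Cfsg.Agent.Helper8.FitPrime (pCoreOf_le pCoreOf_isPGroup fittingOf_eq_iSup fittingOf_le)
open Cfsg.Agent.Helper14.BGTrans

universe u

variable {G : Type u} [Group G] [Finite G]

theorem mem_normalizer_of_map_conj_eq {Q : Subgroup G} {g : G}
    (h : Q.map (MulAut.conj g).toMonoidHom = Q) : g ∈ normalizer (Q : Set G) := by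
  rw [Subgroup.mem_normalizer_iff]
  intro n
  constructor
  · intro hn
    rw [← h]
    exact ⟨n, hn, by simp⟩
  · intro hn
    rw [← h] at hn
    obtain ⟨y, hy, hyn⟩ := hn
    have : y = n := by
      have h1 : g * y * g⁻¹ = g * n * g⁻¹ := by simpa using hyn
      have h2 := congrArg (fun t => g⁻¹ * t * g) h1
      simpa [mul_assoc] using h2
    rw [← this]; exact hy

/-- primes dividing `|F(M)|` divide `|A|` when `C_{F(M)}(A) ≤ A ≤ F(M)` -/
theorem dvd_card_of_dvd_card_fittingOf {M A : Subgroup G} (hAF : A ≤ fittingOf M)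
    (hCA : fittingOf M ⊓ centralizer (A : Set G) ≤ A) (r : ℕ) (hr : r.Prime)
    (hrF : r ∣ Nat.card ↥(fittingOf M)) : r ∣ Nat.card ↥A := by
  haveI : Fact r.Prime := ⟨hr⟩
  have h1 : dP r M ≤ A := dP_le_of_centralizer_le r hAF hCA
  have h2 : dP r M ≠ ⊥ := dP_ne_bot r (pCoreOf_ne_bot_of_dvd r hrF)
  rcases (dP_isPGroup r M).card_eq_or_dvd with h3 | h3
  · exact absurd (Subgroup.card_eq_one.mp h3) h2
  · exact h3.trans (Subgroup.card_dvd_of_le h1)

theorem inv_eq_bot_of_transitivity (hG : IsMinSimpleOddOrder G) {M A : Subgroup G}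
    (hM : IsCoatom M) (hAF : A ≤ fittingOf M)
    (hCA : fittingOf M ⊓ centralizer (A : Set G) ≤ A)
    (hTH : TransitivityHypothesis A)
    (hZ : ¬ RankLE 2 ↥(A ⊓ centralizer (A : Set G)))
    {Y : Subgroup G} (hAY : A ≤ normalizer (Y : Set G))
    (hcop : (Nat.card ↥Y).Coprime (Nat.card ↥(fittingOf M))) : Y = ⊥ := by
  classical
  set F := fittingOf M with hF
  have hMloc : IsLocMax M := isLocMax_of_isCoatom hG hM
  have hMsolv : Group.IsSolvable ↥M := isSolvable_of_ne_top hG hM.1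
  have hFM : F ≤ M := fittingOf_le M
  have hF1 : Nat.card ↥F ≠ 1 := by
    intro h1
    have : F = ⊥ := Subgroup.card_eq_one.mp h1
    apply hTH.1
    rw [eq_bot_iff, ← this]; exact hAF
  have hπ : ∀ r : ℕ, r.Prime → r ∣ Nat.card ↥F → r ∣ Nat.card ↥A :=
    dvd_card_of_dvd_card_fittingOf hAF hCA
  have hπeq : primesNotDvd (Nat.card ↥F) = primesNotDvd (Nat.card ↥A) :=
    primesNotDvd_eq_of hAF le_rfl hπ
  have hXM : M ⊓ centralizer ((F : Subgroup G) : Set G) ≤ normalizer (M : Set G) :=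
    inf_le_left.trans Subgroup.le_normalizer
  have hFtop : F ≠ ⊤ := fun h => hM.1 (eq_top_iff.mpr (h ▸ hFM))
  have hsn : (A.subgroupOf F).IsSubnormal := by
    haveI : Group.IsNilpotent ↥F := isNilpotent_fittingOf M
    exact Cfsg.Agent.Helper14.isSubnormal_of_isNilpotent _
  -- K is trivial
  have hK : piCoreOf (primesNotDvd (Nat.card ↥A)) (centralizer (A : Set G)) = ⊥ := by
    set K := piCoreOf (primesNotDvd (Nat.card ↥A)) (centralizer (A : Set G)) with hKdef
    have hKC : K ≤ centralizer (A : Set G) := piCoreOf_le _ _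
    obtain ⟨r, hr, hrF⟩ := Nat.exists_prime_and_dvd hF1
    haveI : Fact r.Prime := ⟨hr⟩
    have hKM : K ≤ M :=
      (hKC.trans (Subgroup.centralizer_le (dP_le_of_centralizer_le r hAF hCA))).trans
        (hMloc.centralizer_dP_le r hrF)
    have hAK : A ≤ normalizer (K : Set G) :=
      (Subgroup.le_centralizer_iff.mp hKC).trans (Subgroup.centralizer_le_normalizer _)
    have hKc : (Nat.card ↥K).Coprime (Nat.card ↥F) := by
      have h0 : IsPiNum (primesNotDvd (Nat.card ↥A)) (Nat.card ↥K) :=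
        card_piCoreOf (primesNotDvd (Nat.card ↥A)) (centralizer (A : Set G))
      rw [← hπeq] at h0
      exact isPiNum_primesNotDvd_iff.mp h0
    have h1 : K ⊓ M = ⊥ := inf_eq_bot_of_inv hAF hCA hMsolv hXM hKM hAK hKc
    rw [eq_bot_iff, ← h1]
    exact le_inf le_rfl hKM
  -- the q-case
  have hq_case : ∀ (q : ℕ) [Fact q.Prime], ¬ q ∣ Nat.card ↥F → ∀ U : Subgroup G,
      IsPGroup q ↥U → A ≤ normalizer (U : Set G) → U = ⊥ := by
    intro q _ hqF U hU hAU
    have hq : q.Prime := Fact.out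
    have hqA : ¬ q ∣ Nat.card ↥A := fun h => hqF (h.trans (Subgroup.card_dvd_of_le hAF))
    have htr := Cfsg.Agent.S1393.result hG A hTH hZ q hq hqA
    obtain ⟨ha, hb, hc, -⟩ := Cfsg.Agent.S1395.result hG A hTH q hq hqA F hFtop hπ hAF hsn htr
    rw [hK, bot_inf_eq] at ha
    obtain ⟨Q₀, hQ₀, -⟩ := exists_maxInv_ge (q := q) (A := F) (U := ⊥)
      IsPGroup.of_bot (by
        intro x _
        rw [Subgroup.mem_normalizer_iff]
        intro n
        simp only [Subgroup.mem_bot]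
        constructor
        · intro h; rw [h]; simp
        · intro h
          have h2 := congrArg (fun t => x⁻¹ * t * x) h
          simpa [mul_assoc] using h2)
    have hQ₀' := mem_maxInvSubgroups_top_iff.mp hQ₀
    have hMQ₀ : M ≤ normalizer (Q₀ : Set G) := by
      intro m hm
      have hmF : m ∈ normalizer ((F : Subgroup G) : Set G) := le_normalizer_fittingOf M hm
      obtain ⟨k, hk, hkQ⟩ := hb Q₀ hQ₀ _ (maxInv_map_conj hQ₀ hmF)
      rw [← ha, Subgroup.mem_bot] at hk
      subst hk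
      apply mem_normalizer_of_map_conj_eq
      rw [hkQ]
      ext x
      simp
    have hQ₀c : (Nat.card ↥Q₀).Coprime (Nat.card ↥F) := by
      obtain ⟨k, hk⟩ := hQ₀'.1.1.exists_card_eq
      rw [hk]
      exact Nat.Coprime.pow_left k ((Nat.Prime.coprime_iff_not_dvd hq).mpr hqF)
    have hQ₀bot : Q₀ = ⊥ := by
      by_contra hne
      have h1 : normalizer (Q₀ : Set G) ≤ M := hMloc q Q₀ hq hQ₀'.1.1 hne hMQ₀
      have h2 : Q₀ ≤ M := Subgroup.le_normalizer.trans h1
      have h3 : Q₀ ⊓ M = ⊥ :=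
        inf_eq_bot_of_inv hAF hCA hMsolv hXM h2 ((hAF.trans hFM).trans hMQ₀) hQ₀c
      apply hne
      rw [eq_bot_iff, ← h3]
      exact le_inf le_rfl h2
    have hbotA : (⊥ : Subgroup G) ∈ maxInvSubgroups ⊤ A {q} := hQ₀bot ▸ hc hQ₀
    obtain ⟨Q, hQ, hUQ⟩ := exists_maxInv_ge (q := q) (A := A) hU hAU
    obtain ⟨k, -, hkQ⟩ := htr ⊥ hbotA Q hQ
    rw [Subgroup.map_bot] at hkQ
    rw [eq_bot_iff, ← hkQ]
    exact hUQ
  -- the general case
  by_contra hYne
  have hY1 : Nat.card ↥Y ≠ 1 := fun h => hYne (Subgroup.card_eq_one.mp h)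
  obtain ⟨q, hq, hqY⟩ := Nat.exists_prime_and_dvd hY1
  haveI : Fact q.Prime := ⟨hq⟩
  have hqF : ¬ q ∣ Nat.card ↥F := by
    intro h
    have := Nat.Coprime.eq_one_of_dvd (Nat.Coprime.coprime_dvd_left hqY hcop) h
    exact hq.one_lt.ne' this
  have hAsolv : Group.IsSolvable ↥A := isSolvable_of_le_fittingOf hAF
  have hcopAY : (Nat.card ↥A).Coprime (Nat.card ↥Y) :=
    (Nat.Coprime.coprime_dvd_right (Subgroup.card_dvd_of_le hAF) hcop).symm
  obtain ⟨P, hP⟩ := Cfsg.Agent.S0023.result A Y hAY hcopAY (Or.inl hAsolv) q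
  have hPp : IsPGroup q ↥((P : Subgroup ↥Y).map Y.subtype) := P.isPGroup'.map _
  have hPbot := hq_case q hqF _ hPp hP
  have hPne : (P : Subgroup ↥Y) ≠ ⊥ := by
    intro h
    have h1 : Nat.card ↥(P : Subgroup ↥Y) = 1 := by rw [h]; exact Subgroup.card_bot
    have h2 := P.card_eq_multiplicity
    rw [h1] at h2
    have h3 : q ∣ q ^ (Nat.card ↥Y).factorization q := by
      apply dvd_pow_self
      have := (hq.factorization_pos_of_dvd Nat.card_pos.ne' hqY)
      omega
    rw [← h2] at h3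
    exact hq.one_lt.ne' (Nat.dvd_one.mp h3)
  apply hPne
  have := (Subgroup.map_eq_bot_iff_of_injective _ Y.subtype_injective).mp hPbot
  exact this

end Cfsg.Agent.Helper14.BGUniq
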