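import Mathlib
import Cfsg.Agent.Lib.Helper14.BGUniqF

/-!
# Bender's method for the uniqueness theorem, VII (helper14)

BG Theorem 8.1(a): if `F(M)` is not a `p`-group and `A₀ ≤ F(M)` is elementary abelian of order at
least `p ^ 3`, then `C_{F(M)}(A₀)` lies in a unique maximal subgroup.
-/

set_option autoImplicit false

namespace Cfsg.Agent.Helper14.BGUniq

open Cfsg Subgroup
open Cfsg.Agent.Helper10 (IsPiNum)
open Cfsg.Agent.Helper8 (FitPrime.pCoreOf)
open Cfsg.Agent.Helper8.FitPrime (pCoreOf_le pCoreOf_isPGroup fittingOf_eq_iSup fittingOf_le)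
open Cfsg.Agent.Helper14.BGTrans

universe u

variable {G : Type u} [Group G] [Finite G]

theorem isPGroup_of_isElementaryAbelian {p : ℕ} {A₀ : Subgroup G}
    (he : IsElementaryAbelian p A₀) : IsPGroup p ↥A₀ := by
  intro a
  refine ⟨1, ?_⟩
  rw [pow_one]
  exact Subtype.ext (by simpa using he.2 a a.2)

theorem not_rankLE_of_le {p k : ℕ} [Fact p.Prime] {Z A₀ : Subgroup G} (hle : A₀ ≤ Z)
    (he : IsElementaryAbelian p A₀) (hcard : p ^ (k + 1) ≤ Nat.card ↥A₀) : ¬ RankLE k ↥Z := by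
  intro h
  have hp : p.Prime := Fact.out
  have hcomm : IsMulCommutative ↥(A₀.subgroupOf Z) := by
    haveI := he.1
    refine ⟨⟨fun a b => ?_⟩⟩
    have ha : ((a : ↥Z) : G) ∈ A₀ := Subgroup.mem_subgroupOf.mp a.2
    have hb : ((b : ↥Z) : G) ∈ A₀ := Subgroup.mem_subgroupOf.mp b.2
    have := mul_comm' (⟨_, ha⟩ : ↥A₀) ⟨_, hb⟩
    have h2 : ((a : ↥Z) : G) * ((b : ↥Z) : G) = ((b : ↥Z) : G) * ((a : ↥Z) : G) :=
      congrArg Subtype.val this
    apply Subtype.ext
    apply Subtype.ext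
    simpa using h2
  have h1 := h p hp (A₀.subgroupOf Z) hcomm (by
    intro a ha
    have ha' : (a : G) ∈ A₀ := Subgroup.mem_subgroupOf.mp ha
    apply Subtype.ext
    simpa using he.2 _ ha')
  rw [Nat.card_congr (Subgroup.subgroupOfEquivOfLe hle).toEquiv] at h1
  have h2 : p ^ k < p ^ (k + 1) := Nat.pow_lt_pow_right hp.one_lt (Nat.lt_succ_self k)
  omega

theorem le_centralizer_self_of_isElementaryAbelian {p : ℕ} {A₀ : Subgroup G}
    (he : IsElementaryAbelian p A₀) : A₀ ≤ centralizer (A₀ : Set G) := by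
  haveI := he.1
  intro a ha
  rw [Subgroup.mem_centralizer_iff]
  intro b hb
  have := mul_comm' (⟨b, hb⟩ : ↥A₀) ⟨a, ha⟩
  exact congrArg Subtype.val this

/-- **BG Theorem 8.1(a)** -/
theorem inUniqueMaximal_of_not_isPGroup (hG : IsMinSimpleOddOrder G) {M : Subgroup G}
    (hM : IsCoatom M) (p : ℕ) [Fact p.Prime] {A₀ : Subgroup G} (hA₀ : A₀ ≤ fittingOf M)
    (hA₀e : IsElementaryAbelian p A₀) (hA₀3 : p ^ 3 ≤ Nat.card ↥A₀)
    (hnp : ¬ IsPGroup p ↥(fittingOf M)) :
    InUniqueMaximal (fittingOf M ⊓ centralizer (A₀ : Set G)) := by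
  classical
  have hp : p.Prime := Fact.out
  set F := fittingOf M with hF
  set A := F ⊓ centralizer (A₀ : Set G) with hA
  have hMloc : IsLocMax M := isLocMax_of_isCoatom hG hM
  have hMsolv : Group.IsSolvable ↥M := isSolvable_of_ne_top hG hM.1
  have hFM : F ≤ M := fittingOf_le M
  have hA₀A : A₀ ≤ A := le_inf hA₀ (le_centralizer_self_of_isElementaryAbelian hA₀e)
  have hAF : A ≤ F := inf_le_left
  have hCA : F ⊓ centralizer (A : Set G) ≤ A :=
    inf_le_inf_left F (Subgroup.centralizer_le hA₀A)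
  have hZA : F ⊓ centralizer ((F : Subgroup G) : Set G) ≤ A :=
    inf_le_inf_left F (Subgroup.centralizer_le hA₀)
  have hA₀p : IsPGroup p ↥A₀ := isPGroup_of_isElementaryAbelian hA₀e
  have hA₀1 : A₀ ≠ ⊥ := by
    intro h
    rw [h, Subgroup.card_bot] at hA₀3
    have : 1 < p ^ 3 := Nat.one_lt_pow (by norm_num) hp.one_lt
    omega
  have hpF : p ∣ Nat.card ↥F := by
    rcases hA₀p.card_eq_or_dvd with h | h
    · exact absurd (Subgroup.card_eq_one.mp h) hA₀1
    · exact h.trans (Subgroup.card_dvd_of_le hA₀)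
  have hF1 : Nat.card ↥F ≠ 1 := by
    intro h
    rw [h] at hpF
    exact hp.one_lt.ne' (Nat.dvd_one.mp hpF)
  have hTwo : TwoPrimes (Nat.card ↥F) := by
    intro s hs hsF
    by_cases hsp : s = p
    · subst hsp
      by_contra hcon
      push Not at hcon
      apply hnp
      have h0 : Nat.card ↥F ≠ 0 := Nat.card_pos.ne'
      have := Nat.eq_prime_pow_of_unique_prime_dvd (p := s) h0 (by
        intro r hr hrF
        exact hcon r hr hrF)
      exact IsPGroup.of_card this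
    · exact ⟨p, hp, hpF, fun h => hsp h.symm⟩
  have hπ : ∀ r : ℕ, r.Prime → r ∣ Nat.card ↥F → r ∣ Nat.card ↥A :=
    dvd_card_of_dvd_card_fittingOf hAF hCA
  have hπeq : primesNotDvd (Nat.card ↥F) = primesNotDvd (Nat.card ↥A) :=
    primesNotDvd_eq_of hAF le_rfl hπ
  have hA1 : A ≠ ⊥ := fun h => hA₀1 (eq_bot_iff.mpr (h ▸ hA₀A))
  have hAtop : A ≠ ⊤ := fun h => hM.1 (eq_top_iff.mpr (h ▸ hAF.trans hFM))
  have hTH : TransitivityHypothesis A := by
    refine ⟨hA1, hAtop, ?_⟩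
    intro X hX hAX
    apply le_antisymm
    · apply sSup_le
      rintro Y ⟨hYX, hYπ, hAY⟩
      rw [← hπeq] at hYπ ⊢
      have hcop : (Nat.card ↥Y).Coprime (Nat.card ↥F) := isPiNum_primesNotDvd_iff.mp hYπ
      have hXR : M ⊓ centralizer ((F : Subgroup G) : Set G) ≤ normalizer (X : Set G) := by
        have h1 : M ⊓ centralizer ((F : Subgroup G) : Set G) ≤ F :=
          inf_centralizer_fittingOf_le_self hMsolv
        have h2 : M ⊓ centralizer ((F : Subgroup G) : Set G) ≤ A :=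
          (le_inf h1 inf_le_right).trans hZA
        exact (h2.trans hAX).trans Subgroup.le_normalizer
      exact le_piCoreOf_of_inv hMloc hTwo hAF hCA (isSolvable_of_ne_top hG hX)
        (hAX.trans Subgroup.le_normalizer) hXR hYX hAY hcop
    · exact le_sSup ⟨piCoreOf_le _ _, card_piCoreOf _ _, hAX.trans (le_normalizer_piCoreOf _ _)⟩
  have hZ : ¬ RankLE 2 ↥(A ⊓ centralizer (A : Set G)) := by
    apply not_rankLE_of_le (p := p) (A₀ := A₀) _ hA₀e hA₀3
    refine le_inf hA₀A ?_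
    exact Subgroup.le_centralizer_iff.mp inf_le_right
  refine ⟨M, ⟨hM, hAF.trans hFM⟩, ?_⟩
  rintro L ⟨hL, hAL⟩
  apply eq_of_le_of_inv_eq_bot hG hM hL hTwo hF1 hZA _ hAL
  intro Y hAY hcop
  exact inv_eq_bot_of_transitivity hG hM hAF hCA hTH hZ hAY hcop

end Cfsg.Agent.Helper14.BGUniq
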