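import Mathlib
import Cfsg.Agent.Lib.Helper14.BGUniqG
import Cfsg.Agent.Lib.Helper14.BGTransG
import Cfsg.Agent.Lib.Helper8.PuigOdd
import Cfsg.Agent.Lib.Helper15.SylowIn
import Cfsg.Agent.Lib.Helper15.ZStarMin1
import Cfsg.Agent.Lib.Helper7.PLocal7
import Cfsg.Agent.S1466

/-!
# Bender's method for the uniqueness theorem, VIII (helper14)

`inUniqueMaximal_of_pPrimeCore_eq_bot`: a nontrivial `p`-subgroup `A` of a minimal simple group of
odd order such that every maximal subgroup containing `A` has trivial `p'`-core lies in a unique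
maximal subgroup (via Puig's `Z(L(S))`).
-/

set_option autoImplicit false

namespace Cfsg.Agent.Helper14.BGUniq

open Cfsg Subgroup
open Cfsg.Agent.Helper15 (IsSylowIn exists_isSylowIn_ge)
open Cfsg.Agent.Helper15.ZStarMin (isSylowIn_top_of_normalizer)
open Cfsg.Agent.Helper8.Puig (ZL)
open Cfsg.Agent.Helper14.BGTrans

universe u

variable {G : Type u} [Group G] [Finite G]

theorem ZL_le (H : Subgroup G) : ZL H ≤ H :=
  inf_le_left.trans (Cfsg.Agent.Helper8.Puig.Lu_le_self H)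

theorem ZL_ne_bot {p : ℕ} [Fact p.Prime] {H : Subgroup G} (hH : IsPGroup p ↥H) (hH1 : H ≠ ⊥) :
    ZL H ≠ ⊥ := by
  haveI : Nontrivial ↥H := (Subgroup.nontrivial_iff_ne_bot H).mpr hH1
  obtain ⟨-, -, -, hL, -⟩ := Cfsg.Agent.S1466.result (R := ↥H) p hH
  haveI : Nontrivial ↥(puigSubgroup ↥H) := (Subgroup.nontrivial_iff_ne_bot _).mpr hL
  have hLp : IsPGroup p ↥(puigSubgroup ↥H) := hH.to_subgroup _
  haveI : Nontrivial ↥(Subgroup.center ↥(puigSubgroup ↥H)) := hLp.center_nontrivial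
  have hc : Subgroup.center ↥(puigSubgroup ↥H) ≠ ⊥ := (Subgroup.nontrivial_iff_ne_bot _).mp ‹_›
  rw [← Cfsg.Agent.Helper8.Puig.map_center_puigSubgroup]
  intro h
  have h1 := (Subgroup.map_eq_bot_iff_of_injective _ H.subtype_injective).mp h
  have h2 := (Subgroup.map_eq_bot_iff_of_injective _ (puigSubgroup ↥H).subtype_injective).mp h1
  exact hc h2

/-- Puig: in a maximal subgroup `L` with `O_{p'}(L) = 1`, `L = N_G(Z(L(S)))` for a Sylow
`p`-subgroup `S ≠ 1` of `L`, and `S` is a Sylow `p`-subgroup of `G`. -/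
theorem normalizer_ZL_eq (hG : IsMinSimpleOddOrder G) {L S : Subgroup G} (hL : IsCoatom L)
    {p : ℕ} [Fact p.Prime] (hO : pPrimeCore p ↥L = ⊥) (hS : IsSylowIn p S L) (hS1 : S ≠ ⊥) :
    normalizer ((ZL S : Subgroup G) : Set G) = L ∧ IsSylowIn p S ⊤ := by
  have hp : p.Prime := Fact.out
  haveI : Group.IsSolvable ↥L := isSolvable_of_ne_top hG hL.1
  have hSp : IsPGroup p ↥S := hS.isPGroup
  have hpS : p ∣ Nat.card ↥S := by
    rcases hSp.card_eq_or_dvd with h | h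
    · exact absurd (Subgroup.card_eq_one.mp h) hS1
    · exact h
  have hpG : p ∣ Nat.card G := hpS.trans (Subgroup.card_subgroup_dvd_card S)
  have hp2 : p ≠ 2 := prime_ne_two_of_dvd hG hpG
  have hodd : Odd (Nat.card ↥L) := by
    have h1 : Nat.card ↥L ∣ Nat.card G := Subgroup.card_subgroup_dvd_card L
    exact Odd.of_dvd_nat hG.1 h1
  have hn := Cfsg.Agent.Helper8.Puig.ZL_normal_of_pPrimeCore_eq_bot hodd p hp2 hO hS.toSylow
  have hmap : (ZL (hS.toSylow : Subgroup ↥L)).map L.subtype = ZL S := by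
    rw [Cfsg.Agent.Helper8.Puig.map_ZL_of_injOn L.subtype _
      (fun a _ b _ h => L.subtype_injective h), hS.map_toSylow]
  have hLN : L ≤ normalizer ((ZL S : Subgroup G) : Set G) := by
    rw [← hmap]
    exact le_normalizer_map_subtype L _
  have hZp : IsPGroup p ↥(ZL S) := hSp.to_le (ZL_le S)
  have hN : normalizer ((ZL S : Subgroup G) : Set G) = L := by
    have hne := normalizer_ne_top_of_isPGroup hG hZp (ZL_ne_bot hSp hS1)
    rcases eq_or_lt_of_le hLN with h | h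
    · exact h.symm
    · exact absurd (hL.2 _ h) hne
  refine ⟨hN, ?_⟩
  apply isSylowIn_top_of_normalizer
  apply hS.of_le Subgroup.le_normalizer
  rw [← hN]
  exact Cfsg.Agent.Helper8.Puig.normalizer_le_normalizer_ZL S

theorem exists_isCoatom_ge {N : Subgroup G} (hN : N ≠ ⊤) : ∃ L : Subgroup G, IsCoatom L ∧ N ≤ L := by
  rcases eq_top_or_exists_le_coatom N with h | ⟨L, hL, hNL⟩
  · exact absurd h hN
  · exact ⟨L, hL, hNL⟩

theorem normalizer_ZL_eq_of_sylow_aux (hG : IsMinSimpleOddOrder G) {p : ℕ} [Fact p.Prime]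
    {A : Subgroup G} (hA1 : A ≠ ⊥)
    (hO : ∀ L : Subgroup G, IsCoatom L → A ≤ L → pPrimeCore p ↥L = ⊥) :
    ∀ (n : ℕ) (S₁ S₂ : Subgroup G), IsSylowIn p S₁ ⊤ → IsSylowIn p S₂ ⊤ → A ≤ S₁ → A ≤ S₂ →
      Nat.card ↥S₁ - Nat.card ↥(S₁ ⊓ S₂ : Subgroup G) = n →
      normalizer ((ZL S₁ : Subgroup G) : Set G) = normalizer ((ZL S₂ : Subgroup G) : Set G) := by
  intro n
  induction n using Nat.strong_induction_on with
  | _ n ih =>
    intro S₁ S₂ hS₁ hS₂ hAS₁ hAS₂ hn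
    by_cases h12 : S₁ = S₂
    · rw [h12]
    set D := S₁ ⊓ S₂ with hD
    have hcard : Nat.card ↥S₁ = Nat.card ↥S₂ := by rw [hS₁.card_eq, hS₂.card_eq]
    have hD1 : D < S₁ := by
      refine lt_of_le_of_ne inf_le_left ?_
      intro h
      have h1 : S₁ ≤ S₂ := h ▸ inf_le_right
      exact h12 (hS₁.eq_of_le hS₂.isPGroup h1 le_top).symm
    have hD2 : D < S₂ := by
      refine lt_of_le_of_ne inf_le_right ?_
      intro h
      have h1 : S₂ ≤ S₁ := h ▸ inf_le_left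
      exact h12 (hS₂.eq_of_le hS₁.isPGroup h1 le_top)
    have hAD : A ≤ D := le_inf hAS₁ hAS₂
    have hDne : D ≠ ⊥ := fun h => hA1 (eq_bot_iff.mpr (h ▸ hAD))
    have hDp : IsPGroup p ↥D := hS₁.isPGroup.to_le inf_le_left
    obtain ⟨L₃, hL₃, hNL₃⟩ := exists_isCoatom_ge (normalizer_ne_top_of_isPGroup hG hDp hDne)
    have hAL₃ : A ≤ L₃ := (hAD.trans Subgroup.le_normalizer).trans hNL₃
    have hO₃ := hO L₃ hL₃ hAL₃
    -- a general step
    have step : ∀ S : Subgroup G, IsSylowIn p S ⊤ → D < S → Nat.card ↥S = Nat.card ↥S₁ →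
        normalizer ((ZL S : Subgroup G) : Set G) = L₃ := by
      intro S hS hDS hcS
      have hlt : D < S ⊓ normalizer (D : Set G) :=
        Cfsg.Agent.Helper7.lt_inf_normalizer_of_lt p hS.isPGroup hDS
      obtain ⟨T, hNT, hT⟩ := exists_isSylowIn_ge (hS.isPGroup.to_le inf_le_left)
        (inf_le_right.trans hNL₃ : S ⊓ normalizer (D : Set G) ≤ L₃)
      have hDT : D ≤ T := hlt.le.trans hNT
      have hT1 : T ≠ ⊥ := fun h => hDne (eq_bot_iff.mpr (h ▸ hDT))
      obtain ⟨hfT, hTtop⟩ := normalizer_ZL_eq hG hL₃ hO₃ hT hT1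
      have hcT : Nat.card ↥T = Nat.card ↥S := by rw [hTtop.card_eq, hS.card_eq]
      have h1 : Nat.card ↥D < Nat.card ↥(T ⊓ S : Subgroup G) := by
        have h2 : S ⊓ normalizer (D : Set G) ≤ T ⊓ S := le_inf hNT inf_le_left
        have h3 := Nat.le_of_dvd Nat.card_pos (Subgroup.card_dvd_of_le h2)
        have h4 : Nat.card ↥D < Nat.card ↥(S ⊓ normalizer (D : Set G) : Subgroup G) := by
          rcases lt_or_ge (Nat.card ↥D) (Nat.card ↥(S ⊓ normalizer (D : Set G) : Subgroup G))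
            with h5 | h5
          · exact h5
          · exact absurd (Subgroup.eq_of_le_of_card_ge hlt.le h5) hlt.ne
        omega
      have h5 : Nat.card ↥(T ⊓ S : Subgroup G) ≤ Nat.card ↥T :=
        Nat.le_of_dvd Nat.card_pos (Subgroup.card_dvd_of_le inf_le_left)
      have h6 : Nat.card ↥D ≤ Nat.card ↥S₁ :=
        Nat.le_of_dvd Nat.card_pos (Subgroup.card_dvd_of_le inf_le_left)
      have := ih (Nat.card ↥T - Nat.card ↥(T ⊓ S : Subgroup G)) (by omega) T S hTtop hS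
        (hAD.trans hDT) (hAD.trans hDS.le) rfl
      rw [← this]
      exact hfT
    rw [step S₁ hS₁ hD1 rfl, step S₂ hS₂ hD2 hcard.symm]

/-- a nontrivial `p`-subgroup such that every maximal subgroup containing it has trivial
`p'`-core lies in a unique maximal subgroup -/
theorem inUniqueMaximal_of_pPrimeCore_eq_bot (hG : IsMinSimpleOddOrder G) {p : ℕ} [Fact p.Prime]
    {A : Subgroup G} (hAp : IsPGroup p ↥A) (hA1 : A ≠ ⊥)
    (hO : ∀ L : Subgroup G, IsCoatom L → A ≤ L → pPrimeCore p ↥L = ⊥) : InUniqueMaximal A := by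
  have key : ∀ L : Subgroup G, IsCoatom L → A ≤ L → ∃ S : Subgroup G, IsSylowIn p S ⊤ ∧ A ≤ S ∧
      normalizer ((ZL S : Subgroup G) : Set G) = L := by
    intro L hL hAL
    obtain ⟨S, hAS, hS⟩ := exists_isSylowIn_ge hAp hAL
    have hS1 : S ≠ ⊥ := fun h => hA1 (eq_bot_iff.mpr (h ▸ hAS))
    obtain ⟨h1, h2⟩ := normalizer_ZL_eq hG hL (hO L hL hAL) hS hS1
    exact ⟨S, h2, hAS, h1⟩
  obtain ⟨L₀, hL₀, hAL₀⟩ := exists_isCoatom_ge (ne_top_of_isPGroup hG hAp)
  refine ⟨L₀, ⟨hL₀, hAL₀⟩, ?_⟩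
  rintro L ⟨hL, hAL⟩
  obtain ⟨S, hS, hAS, hfS⟩ := key L hL hAL
  obtain ⟨S₀, hS₀, hAS₀, hfS₀⟩ := key L₀ hL₀ hAL₀
  rw [← hfS, ← hfS₀]
  exact normalizer_ZL_eq_of_sylow_aux hG hA1 hO _ S S₀ hS hS₀ hAS hAS₀ rfl

end Cfsg.Agent.Helper14.BGUniq
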