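import Mathlib
import Cfsg.Agent.Lib.Helper14.BGUniqH
import Cfsg.Agent.Lib.Helper7.FStarP
import Cfsg.Agent.Lib.Helper7.QPrimeCore
import Cfsg.Agent.Lib.Helper20.PSolvableCore
import Cfsg.Agent.S1396
import Cfsg.Agent.S1457

/-!
# Bender's method for the uniqueness theorem, IX (helper14)

BG Theorem 8.1(b): if `F(M)` is a `p`-group and `P` is a Sylow `p`-subgroup of `M`, then `P` is a
Sylow `p`-subgroup of `G` and every `A ∈ SCN₃(P)` lies in `F(M)` and in a unique maximal subgroup.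
-/

set_option autoImplicit false

namespace Cfsg.Agent.Helper14.BGUniq

open Cfsg Subgroup
open Cfsg.Agent.Helper15 (IsSylowIn exists_isSylowIn_ge isSylowIn_map_subtype)
open Cfsg.Agent.Helper8.Puig (ZL)
open Cfsg.Agent.Helper14.BGTrans

universe u

variable {G : Type u} [Group G] [Finite G]

/-- if `F(M)` is a `p`-group (`M` solvable) then `O_{p'}(M) = 1` -/
theorem pPrimeCore_eq_bot_of_isPGroup_fittingOf {M : Subgroup G} (hMsolv : Group.IsSolvable ↥M)
    (p : ℕ) [Fact p.Prime] (hFp : IsPGroup p ↥(fittingOf M)) : pPrimeCore p ↥M = ⊥ := by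
  apply Cfsg.Agent.Helper7.pPrimeCore_eq_bot_of_generalizedFittingSubgroup_eq_pCore p
  have h1 : generalizedFittingSubgroup ↥M = fittingSubgroup ↥M := by
    unfold generalizedFittingSubgroup
    rw [Cfsg.Agent.Helper1.layer_eq_bot_of_isSolvable, bot_sup_eq]
  rw [h1]
  have hFp' : IsPGroup p ↥(fittingSubgroup ↥M) := by
    have e := Subgroup.equivMapOfInjective (fittingSubgroup ↥M) M.subtype M.subtype_injective
    exact hFp.of_equiv e.symm
  apply le_antisymm
  · exact Cfsg.Agent.Helper7.le_pCore Cfsg.Agent.Helper7.fittingSubgroup_normal' hFp'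
  · exact Cfsg.Agent.Helper7.pCore_le_fittingSubgroup p

/-- if `O_{p'}(X) = 1` then `O_{p',p}(X) ≤ O_p(X)` -/
theorem pPrimePCore_le_pCore_of_pPrimeCore_eq_bot {X : Type u} [Group X] [Finite X] (p : ℕ)
    [Fact p.Prime] (hO : pPrimeCore p X = ⊥) : pPrimePCore p X ≤ pCore p X := by
  haveI : (pPrimePCore p X).Characteristic := Cfsg.Agent.Helper7.pPrimePCore_characteristic p
  apply Cfsg.Agent.Helper7.le_pCore inferInstance
  intro x
  obtain ⟨j, hj⟩ := Cfsg.Agent.Helper20.exists_pow_mem_pPrimeCore p x.2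
  rw [hO, Subgroup.mem_bot] at hj
  exact ⟨j, Subtype.ext (by simpa using hj)⟩

theorem fittingOf_le_sylow {M : Subgroup G} (p : ℕ) [Fact p.Prime]
    (hFp : IsPGroup p ↥(fittingOf M)) (P : Sylow p ↥M) :
    fittingOf M ≤ (P : Subgroup ↥M).map M.subtype := by
  have hFp' : IsPGroup p ↥(fittingSubgroup ↥M) := by
    have e := Subgroup.equivMapOfInjective (fittingSubgroup ↥M) M.subtype M.subtype_injective
    exact hFp.of_equiv e.symm
  haveI : (fittingSubgroup ↥M).Normal := Cfsg.Agent.Helper7.fittingSubgroup_normal'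
  exact Subgroup.map_mono (hFp'.le_sylow_of_normal P)

/-- **BG Theorem 8.1(b)** -/
theorem sylow_of_isPGroup_fittingOf (hG : IsMinSimpleOddOrder G) {M : Subgroup G}
    (hM : IsCoatom M) (p : ℕ) [Fact p.Prime] (hpF : p ∣ Nat.card ↥(fittingOf M))
    (hFp : IsPGroup p ↥(fittingOf M)) (P : Sylow p ↥M) :
    ¬ p ∣ ((P : Subgroup ↥M).map M.subtype).index ∧
      ∀ A : Subgroup G, IsSCN ((P : Subgroup ↥M).map M.subtype) A → ¬ PRankLE p 2 ↥A →
        A ≤ fittingOf M ∧ InUniqueMaximal A := by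
  classical
  have hp : p.Prime := Fact.out
  set F := fittingOf M with hF
  set P' := (P : Subgroup ↥M).map M.subtype with hP'def
  haveI hMsolv : Group.IsSolvable ↥M := isSolvable_of_ne_top hG hM.1
  have hOM : pPrimeCore p ↥M = ⊥ := pPrimeCore_eq_bot_of_isPGroup_fittingOf hMsolv p hFp
  have hP' : IsSylowIn p P' M := isSylowIn_map_subtype P
  have hFP' : F ≤ P' := fittingOf_le_sylow p hFp P
  have hF1 : F ≠ ⊥ := by
    intro h
    rw [h, Subgroup.card_bot] at hpF
    exact hp.one_lt.ne' (Nat.dvd_one.mp hpF)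
  have hP'1 : P' ≠ ⊥ := fun h => hF1 (eq_bot_iff.mpr (h ▸ hFP'))
  obtain ⟨-, hP'top⟩ := normalizer_ZL_eq hG hM hOM hP' hP'1
  have hpG : p ∣ Nat.card G := hpF.trans (Subgroup.card_subgroup_dvd_card F)
  have hoddM : Odd (Nat.card ↥M) :=
    Odd.of_dvd_nat hG.1 (Subgroup.card_subgroup_dvd_card M)
  refine ⟨?_, ?_⟩
  · have := hP'top.not_dvd_relIndex
    rwa [Subgroup.relIndex_top_right] at this
  intro A hscn hrk
  obtain ⟨hAP', hP'A, hCPA⟩ := hscn
  have hAC : A ≤ centralizer (A : Set G) := by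
    have : A ≤ P' ⊓ centralizer (A : Set G) := hCPA.symm.le
    exact this.trans inf_le_right
  have hAc : IsMulCommutative ↥A := by
    refine ⟨⟨fun a b => ?_⟩⟩
    have := (Subgroup.mem_centralizer_iff.mp (hAC a.2)) b b.2
    exact Subtype.ext this.symm
  have hAM : A ≤ M := hAP'.trans hP'.le
  have hAp : IsPGroup p ↥A := hP'.isPGroup.to_le hAP'
  -- A ≤ F(M)
  have hAF : A ≤ F := by
    have h1 : A.subgroupOf M ≤ (P : Subgroup ↥M) := by
      intro a ha
      obtain ⟨y, hy, hya⟩ := hAP' (Subgroup.mem_subgroupOf.mp ha)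
      have : y = a := Subtype.ext hya
      rwa [← this]
    have h2 : IsMulCommutative ↥(A.subgroupOf M) := by
      refine ⟨⟨fun a b => ?_⟩⟩
      have ha : ((a : ↥M) : G) ∈ A := Subgroup.mem_subgroupOf.mp a.2
      have hb : ((b : ↥M) : G) ∈ A := Subgroup.mem_subgroupOf.mp b.2
      have := (Subgroup.mem_centralizer_iff.mp (hAC ha)) _ hb
      apply Subtype.ext
      apply Subtype.ext
      simpa using this.symm
    have h3 : (P : Subgroup ↥M) ≤ normalizer ((A.subgroupOf M : Subgroup ↥M) : Set ↥M) := by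
      intro x hx
      have hxP' : (x : G) ∈ P' := ⟨x, hx, rfl⟩
      have hn := hP'A hxP'
      rw [Subgroup.mem_normalizer_iff] at hn ⊢
      intro y
      rw [Subgroup.mem_subgroupOf, Subgroup.mem_subgroupOf]
      simpa using hn (y : G)
    have h4 := Cfsg.Agent.S1457.result hoddM p P (A.subgroupOf M) h1 h2 h3
    have h5 : A.subgroupOf M ≤ fittingSubgroup ↥M :=
      (h4.trans (pPrimePCore_le_pCore_of_pPrimeCore_eq_bot p hOM)).trans
        (Cfsg.Agent.Helper7.pCore_le_fittingSubgroup p)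
    intro a ha
    exact ⟨⟨a, hAM ha⟩, h5 (Subgroup.mem_subgroupOf.mpr ha), rfl⟩
  refine ⟨hAF, ?_⟩
  have hA1 : A ≠ ⊥ := by
    intro h
    apply hrk
    intro B _ _
    have h1 : Nat.card ↥A = 1 := by rw [h]; exact Subgroup.card_bot
    have h2 : Nat.card ↥B ∣ Nat.card ↥A := Subgroup.card_subgroup_dvd_card B
    rw [h1] at h2
    rw [Nat.dvd_one.mp h2]
    exact Nat.one_le_pow _ _ hp.pos
  have hrk1 : ¬ PRankLE p 1 ↥A := by
    intro h
    apply hrk
    intro B hB1 hB2
    exact (h B hB1 hB2).trans (Nat.pow_le_pow_right hp.pos (by norm_num))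
  have hTH : TransitivityHypothesis A :=
    Cfsg.Agent.S1396.result hG p hpG A hAp hAc
      (Or.inr ⟨hP'top.sylowOfTop, ⟨hAP', hP'A, hCPA⟩, hrk1⟩)
  have hZ : ¬ RankLE 2 ↥(A ⊓ centralizer (A : Set G)) := by
    have e : A ⊓ centralizer (A : Set G) = A := inf_eq_left.mpr hAC
    rw [e]
    intro h
    exact hrk (h p hp)
  have hCA : F ⊓ centralizer (A : Set G) ≤ A := by
    exact (inf_le_inf_right _ hFP').trans hCPA.le
  have hO : ∀ L : Subgroup G, IsCoatom L → A ≤ L → pPrimeCore p ↥L = ⊥ := by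
    intro L hL hAL
    haveI : (pPrimeCore p ↥L).Normal := Cfsg.Agent.Helper22.pPrimeCore_normal p
    have hAY : A ≤ normalizer (((pPrimeCore p ↥L).map L.subtype : Subgroup G) : Set G) :=
      hAL.trans (le_normalizer_map_subtype L _)
    have hcop : (Nat.card ↥((pPrimeCore p ↥L).map L.subtype)).Coprime (Nat.card ↥F) := by
      rw [Nat.card_congr
        (Subgroup.equivMapOfInjective (pPrimeCore p ↥L) L.subtype L.subtype_injective).symm.toEquiv]
      obtain ⟨k, hk⟩ := hFp.exists_card_eq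
      rw [hk]
      exact Nat.Coprime.pow_right k (Cfsg.Agent.Helper22.card_pPrimeCore_coprime p)
    have := inv_eq_bot_of_transitivity hG hM hAF hCA hTH hZ hAY hcop
    exact (Subgroup.map_eq_bot_iff_of_injective _ L.subtype_injective).mp this
  exact inUniqueMaximal_of_pPrimeCore_eq_bot hG hAp hA1 hO

end Cfsg.Agent.Helper14.BGUniq
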