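import Mathlib
import Cfsg.Agent.Lib.Helper14.BGUniqI
import Cfsg.Agent.Lib.Helper14.BGTransF
import Cfsg.Agent.Lib.Helper14.BGTransC
import Cfsg.Agent.S1337
import Cfsg.Agent.S1452
import Cfsg.Agent.S1451

/-!
# Bender's method for the uniqueness theorem, X (helper14)

Preparations for BG Lemma 9.1: invariant `p'`-subgroups under a Sylow subgroup, existence of
`SCN₃`, rank lemmas.
-/

set_option autoImplicit false

namespace Cfsg.Agent.Helper14.BGUniq

open Cfsg Subgroup
open Cfsg.Agent.Helper15 (IsSylowIn exists_isSylowIn_ge isSylowIn_map_subtype)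
open Cfsg.Agent.Helper15.ZStarMin (isSylowIn_top_of_normalizer)
open Cfsg.Agent.Helper8.Puig (ZL)
open Cfsg.Agent.Helper14.BGTrans

universe u

variable {G : Type u} [Group G] [Finite G]

theorem pRankLE_of_injective' {p k : ℕ} {Y Z : Type*} [Group Y] [Group Z] (f : Y →* Z)
    (hf : Function.Injective f) (h : PRankLE p k Z) : PRankLE p k Y := by
  intro E hEc hEe
  have h1 := h (E.map f) ?_ ?_
  · rwa [Subgroup.card_map_of_injective hf] at h1
  · rw [isMulCommutative_iff_of_setLike] at hEc ⊢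
    rintro _ ⟨a, ha, rfl⟩ _ ⟨b, hb, rfl⟩
    rw [← map_mul, ← map_mul, hEc a ha b hb]
  · rintro _ ⟨a, ha, rfl⟩
    rw [← map_pow, hEe a ha, map_one]

theorem not_pRankLE_of_le {p k : ℕ} {Z A₀ : Subgroup G} (hle : A₀ ≤ Z)
    (he : IsElementaryAbelian p A₀) (hcard : p ^ k < Nat.card ↥A₀) : ¬ PRankLE p k ↥Z := by
  intro h
  have h2 : PRankLE p k ↥A₀ :=
    pRankLE_of_injective' (Subgroup.inclusion hle) (Subgroup.inclusion_injective hle) h
  have h3 := h2 ⊤ (by haveI := he.1; infer_instance) (by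
    intro a _
    exact Subtype.ext (by simpa using he.2 a a.2))
  rw [Subgroup.card_top] at h3
  omega

theorem pow_three_le_card_of_lt {p : ℕ} [Fact p.Prime] {A₀ : Subgroup G}
    (he : IsElementaryAbelian p A₀) (hcard : p ^ 2 < Nat.card ↥A₀) : p ^ 3 ≤ Nat.card ↥A₀ := by
  have hp : p.Prime := Fact.out
  obtain ⟨k, hk⟩ := (isPGroup_of_isElementaryAbelian he).exists_card_eq
  rw [hk] at hcard ⊢
  have h1 : 2 < k := (Nat.pow_lt_pow_iff_right hp.one_lt).mp hcard
  exact Nat.pow_le_pow_right hp.pos h1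

/-- a `P`-invariant `p'`-subgroup of a proper subgroup `M`, `P` a Sylow `p`-subgroup of `M`, lies
in `O_{p'}(M)` -/
theorem le_pPrimeCore_map_of_sylow_inv (hG : IsMinSimpleOddOrder G) {M P Y : Subgroup G}
    (hM : M ≠ ⊤) {p : ℕ} [Fact p.Prime] (hpG : p ∣ Nat.card G)
    (hP : IsSylowIn p P M) (hYM : Y ≤ M) (hY : (Nat.card ↥Y).Coprime p)
    (hPY : P ≤ normalizer (Y : Set G)) : Y ≤ (pPrimeCore p ↥M).map M.subtype := by
  have hsolv : Group.IsSolvable ↥M := isSolvable_of_ne_top hG hM
  have hp2 : p ≠ 2 := prime_ne_two_of_dvd hG hpG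
  have h1 : Y.subgroupOf M ≤ pPrimeCore p ↥M := by
    apply le_pPrimeCore_of_inv p hp2
      (Cfsg.Agent.Helper10.centralizer_pCore_quotient_le_of_isSolvable p hsolv)
      (P.subgroupOf M) (Y.subgroupOf M) hP.isPGroup.comap_subtype
    · intro x hx hxp
      have h2 := hxp.inf_normalizer_sylow hP.toSylow
      have hx1 := h2.le (Subgroup.mem_inf.mpr ⟨Subgroup.mem_zpowers x,
        Subgroup.centralizer_le_normalizer _ hx⟩)
      exact (Subgroup.mem_inf.mp hx1).2
    · rw [Nat.card_congr (Subgroup.subgroupOfEquivOfLe hYM).toEquiv]; exact hY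
    · intro a ha
      rw [Subgroup.mem_normalizer_iff]
      intro y
      rw [Subgroup.mem_subgroupOf, Subgroup.mem_subgroupOf]
      have := Subgroup.mem_normalizer_iff.mp (hPY (Subgroup.mem_subgroupOf.mp ha)) (y : G)
      simpa using this
  have h3 := Subgroup.map_mono (f := M.subtype) h1
  rwa [Subgroup.map_subgroupOf_eq_of_le hYM] at h3

/-- if all `P`-invariant `p'`-subgroups lie in the maximal subgroup `M` (`P ∈ Syl_p(M)`), then
`N_G(P) ≤ M` and `P` is a Sylow subgroup of `G` -/
theorem normalizer_le_of_sylow_inv (hG : IsMinSimpleOddOrder G) {M P : Subgroup G}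
    (hM : IsCoatom M) {p : ℕ} [Fact p.Prime] (hP : IsSylowIn p P M) (hP1 : P ≠ ⊥)
    (hinv : ∀ Y : Subgroup G, (Nat.card ↥Y).Coprime p → P ≤ normalizer (Y : Set G) → Y ≤ M) :
    normalizer (P : Set G) ≤ M ∧ IsSylowIn p P ⊤ := by
  have hp : p.Prime := Fact.out
  have hPp : IsPGroup p ↥P := hP.isPGroup
  have hpG : p ∣ Nat.card G := by
    rcases hPp.card_eq_or_dvd with h | h
    · exact absurd (Subgroup.card_eq_one.mp h) hP1
    · exact h.trans (Subgroup.card_subgroup_dvd_card P)
  have hNM : normalizer (P : Set G) ≤ M := by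
    by_cases hO : pPrimeCore p ↥M = ⊥
    · obtain ⟨h1, -⟩ := normalizer_ZL_eq hG hM hO hP hP1
      rw [← h1]
      exact Cfsg.Agent.Helper8.Puig.normalizer_le_normalizer_ZL P
    · set O' := (pPrimeCore p ↥M).map M.subtype with hO'
      haveI : (pPrimeCore p ↥M).Normal := Cfsg.Agent.Helper22.pPrimeCore_normal p
      have hMO' : M ≤ normalizer (O' : Set G) := le_normalizer_map_subtype M _
      have hO'1 : O' ≠ ⊥ := fun h =>
        hO ((Subgroup.map_eq_bot_iff_of_injective _ M.subtype_injective).mp h)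
      have hO'M : O' ≤ M := Subgroup.map_subtype_le _
      have hNO' : normalizer (O' : Set G) = M := by
        have hne : normalizer (O' : Set G) ≠ ⊤ := by
          intro h
          have hn : O'.Normal := Subgroup.normalizer_eq_top_iff.mp h
          haveI := hG.2.1
          rcases hn.eq_bot_or_eq_top with h1 | h1
          · exact hO'1 h1
          · exact hM.1 (eq_top_iff.mpr (h1 ▸ hO'M))
        rcases eq_or_lt_of_le hMO' with h | h
        · exact h.symm
        · exact absurd (hM.2 _ h) hne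
      have hO'c : (Nat.card ↥O').Coprime p := by
        rw [hO', Nat.card_congr (Subgroup.equivMapOfInjective (pPrimeCore p ↥M) M.subtype
          M.subtype_injective).symm.toEquiv]
        exact Cfsg.Agent.Helper22.card_pPrimeCore_coprime p
      rw [← hNO']
      intro g hg
      set Y := O'.map (MulAut.conj g).toMonoidHom with hYdef
      have hYcard : Nat.card ↥Y = Nat.card ↥O' :=
        Subgroup.card_map_of_injective (MulAut.conj g).injective
      have hYc : (Nat.card ↥Y).Coprime p := by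
        rw [hYcard]; exact hO'c
      have hPY : P ≤ normalizer (Y : Set G) := by
        have h1 := map_conj_le_normalizer_map_conj (hP.le.trans hMO') g
        rwa [Cfsg.Agent.Helper15.map_conj_eq_of_mem_normalizer hg] at h1
      have hYM : Y ≤ M := hinv Y hYc hPY
      have hYO' : Y ≤ O' := le_pPrimeCore_map_of_sylow_inv hG hM.1 hpG hP hYM hYc hPY
      have hcard : Nat.card ↥O' ≤ Nat.card ↥Y := hYcard.ge
      apply mem_normalizer_of_map_conj_eq
      exact Subgroup.eq_of_le_of_card_ge hYO' hcard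
  refine ⟨hNM, ?_⟩
  apply isSylowIn_top_of_normalizer
  exact hP.of_le Subgroup.le_normalizer hNM

/-- a Sylow subgroup of `N_H(R)` which is `R` itself is a Sylow subgroup of `H` -/
theorem isSylowIn_of_inf_normalizer {H R : Subgroup G} {p : ℕ} [Fact p.Prime]
    (h : IsSylowIn p R (H ⊓ normalizer (R : Set G))) : IsSylowIn p R H := by
  obtain ⟨S, hRS, hS⟩ := exists_isSylowIn_ge h.isPGroup (h.le.trans inf_le_left)
  have h1 : S ⊓ normalizer (R : Set G) = R :=
    h.eq_of_le (hS.isPGroup.to_le inf_le_left) (le_inf hRS Subgroup.le_normalizer)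
      (inf_le_inf_right _ hS.le)
  have h2 : S = R := Cfsg.Agent.Helper15.eq_of_inf_normalizer_eq hS.isPGroup hRS h1
  rw [← h2]; exact hS

/-- `SCN₃(Q) ≠ ∅` for a `q`-group `Q` of rank at least `3`, `q` odd -/
theorem exists_isSCN_of_not_pRankLE {Q : Subgroup G} {q : ℕ} [Fact q.Prime] (hq2 : q ≠ 2)
    (hQ : IsPGroup q ↥Q) (hrk : ¬ PRankLE q 2 ↥Q) :
    ∃ A : Subgroup G, IsSCN Q A ∧ ¬ PRankLE q 2 ↥A := by
  obtain ⟨U, hUn, hUe, hU2, -⟩ := Cfsg.Agent.S1337.result (P := ↥Q) q hQ hrk
  haveI := hUn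
  obtain ⟨A, -, hAn, hAC, hA3⟩ := Cfsg.Agent.S1452.result (R := ↥Q) q hq2 hQ hrk U hUe hU2
  haveI := hAn
  refine ⟨A.map Q.subtype, ⟨Subgroup.map_subtype_le _, le_normalizer_map_subtype Q A, ?_⟩, ?_⟩
  · ext x
    constructor
    · rintro ⟨hxQ, hxC⟩
      have hxC' : x ∈ centralizer ((A.map Q.subtype : Subgroup G) : Set G) := hxC
      have : (⟨x, hxQ⟩ : ↥Q) ∈ centralizer (A : Set ↥Q) := by
        rw [Subgroup.mem_centralizer_iff] at hxC' ⊢
        intro a ha
        have := hxC' (a : G) ⟨a, ha, rfl⟩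
        exact Subtype.ext this
      rw [hAC] at this
      exact ⟨⟨x, hxQ⟩, this, rfl⟩
    · rintro ⟨y, hy, rfl⟩
      refine Subgroup.mem_inf.mpr ⟨y.2, ?_⟩
      have hyC : y ∈ centralizer (A : Set ↥Q) := by rw [hAC]; exact hy
      rw [Subgroup.mem_centralizer_iff] at hyC
      show (y : G) ∈ centralizer ((A.map Q.subtype : Subgroup G) : Set G)
      rw [Subgroup.mem_centralizer_iff]
      rintro _ ⟨a, ha, rfl⟩
      exact congrArg Subtype.val (hyC a ha)
  · intro h
    apply hA3
    have e := Subgroup.equivMapOfInjective A Q.subtype Q.subtype_injective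
    exact pRankLE_of_injective' e.toMonoidHom e.injective h

end Cfsg.Agent.Helper14.BGUniq
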