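import Mathlib
import Cfsg.Agent.Lib.Helper14.BGUniqJ
import Cfsg.Agent.Lib.Helper14.Basic

/-!
# Bender's method for the uniqueness theorem, XI (helper14)

BG Lemma 9.1(b): a nontrivial `p`-subgroup `B` of a maximal subgroup `M` such that every
`B`-invariant `p'`-subgroup of `G` lies in `M` is contained in no other maximal subgroup.
-/

set_option autoImplicit false

namespace Cfsg.Agent.Helper14.BGUniq

open Cfsg Subgroup
open Cfsg.Agent.Helper15 (IsSylowIn exists_isSylowIn_ge exists_isSylowIn isSylowIn_map_subtype)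
open Cfsg.Agent.Helper15.ZStarMin (isSylowIn_top_of_normalizer)
open Cfsg.Agent.Helper8 (FitPrime.pCoreOf)
open Cfsg.Agent.Helper8.FitPrime (pCoreOf_le pCoreOf_isPGroup fittingOf_eq_iSup fittingOf_le)
open Cfsg.Agent.Helper14.BGTrans
open scoped commutatorElement

universe u

variable {G : Type u} [Group G] [Finite G]

theorem pCoreOf_le_of_isSylowIn {H R : Subgroup G} {p : ℕ} [Fact p.Prime]
    (hR : IsSylowIn p R H) : FitPrime.pCoreOf p H ≤ R := by
  have h1 : pCore p ↥H ≤ (hR.toSylow : Subgroup ↥H) := Cfsg.Agent.Helper14.pCore_le_sylow _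
  have h2 := Subgroup.map_mono (f := H.subtype) h1
  rwa [hR.map_toSylow] at h2

theorem map_conj_mul' (R : Subgroup G) (k h : G) :
    (R.map (MulAut.conj h).toMonoidHom).map (MulAut.conj k).toMonoidHom =
      R.map (MulAut.conj (k * h)).toMonoidHom := by
  rw [Subgroup.map_map]
  congr 1
  ext x
  simp [mul_assoc]

/-- Frattini argument: `H' ≤ K ≤ H`-type statement, by hand -/
theorem le_of_frattini {H K M R : Subgroup G} {p : ℕ} [Fact p.Prime] (hKH : K ≤ H) (hKM : K ≤ M)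
    (hHK : H ≤ normalizer (K : Set G)) (hR : IsSylowIn p R K)
    (hNR : normalizer (R : Set G) ≤ M) : H ≤ M := by
  intro h hh
  have h1 : IsSylowIn p (R.map (MulAut.conj h).toMonoidHom) K :=
    hR.map_conj_of_mem_normalizer (hHK hh)
  obtain ⟨k, hk, hkR⟩ := h1.exists_conj hR
  rw [map_conj_mul'] at hkR
  have h2 : k * h ∈ M := hNR (mem_normalizer_of_map_conj_eq hkR)
  have h3 : h = k⁻¹ * (k * h) := by group
  rw [h3]
  exact M.mul_mem (M.inv_mem (hKM hk)) h2

/-- **BG Lemma 9.1(b)**, for an arbitrary nontrivial `p`-subgroup -/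
theorem eq_of_inv_le (hG : IsMinSimpleOddOrder G) {M B : Subgroup G} (hM : IsCoatom M) {p : ℕ}
    [Fact p.Prime] (hBp : IsPGroup p ↥B) (hB1 : B ≠ ⊥) (hBM : B ≤ M)
    (hinv : ∀ Y : Subgroup G, (Nat.card ↥Y).Coprime p → B ≤ normalizer (Y : Set G) → Y ≤ M) :
    ∀ H : Subgroup G, IsCoatom H → B ≤ H → H = M := by
  classical
  have hp : p.Prime := Fact.out
  by_contra hcon
  push Not at hcon
  obtain ⟨H₀, hH₀, hBH₀, hH₀M⟩ := hcon
  set 𝒮 : Set (Subgroup G) := {H | IsCoatom H ∧ B ≤ H ∧ H ≠ M} with h𝒮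
  set f : Subgroup G → ℕ := fun H => (Nat.card ↥(H ⊓ M : Subgroup G)).factorization p with hf
  obtain ⟨H, ⟨hH, hBH, hHM⟩, hmax⟩ :=
    Set.exists_max_image 𝒮 f (Set.toFinite _) ⟨H₀, hH₀, hBH₀, hH₀M⟩
  obtain ⟨R, hBR, hR⟩ := exists_isSylowIn_ge hBp (le_inf hBH hBM)
  obtain ⟨P, hRP, hP⟩ := exists_isSylowIn_ge hR.isPGroup (hR.le.trans inf_le_right)
  have hR1 : R ≠ ⊥ := fun h => hB1 (eq_bot_iff.mpr (h ▸ hBR))
  have hP1 : P ≠ ⊥ := fun h => hR1 (eq_bot_iff.mpr (h ▸ hRP))
  obtain ⟨hNP, hPtop⟩ := normalizer_le_of_sylow_inv hG hM hP hP1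
    (fun Y hY hPY => hinv Y hY ((hBR.trans hRP).trans hPY))
  -- Step C
  have hC : normalizer (R : Set G) ≤ M ∧ IsSylowIn p R H := by
    by_cases hRP' : R = P
    · rw [hRP']
      refine ⟨hNP, hPtop.of_le ?_ le_top⟩
      rw [← hRP']; exact hR.le.trans inf_le_left
    · have hlt : R < P := lt_of_le_of_ne hRP hRP'
      have hlt2 : R < P ⊓ normalizer (R : Set G) :=
        Cfsg.Agent.Helper7.lt_inf_normalizer_of_lt p hP.isPGroup hlt
      obtain ⟨H₁, hH₁, hNH₁⟩ :=
        exists_isCoatom_ge (normalizer_ne_top_of_isPGroup hG hR.isPGroup hR1)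
      have hH₁M : H₁ = M := by
        by_contra hne
        have h1 : f H₁ ≤ f H := hmax H₁ ⟨hH₁, (hBR.trans Subgroup.le_normalizer).trans hNH₁, hne⟩
        have hN₁p : IsPGroup p ↥(P ⊓ normalizer (R : Set G) : Subgroup G) :=
          hP.isPGroup.to_le inf_le_left
        obtain ⟨j, hj⟩ := hN₁p.exists_card_eq
        have hle : P ⊓ normalizer (R : Set G) ≤ H₁ ⊓ M :=
          le_inf (inf_le_right.trans hNH₁) (inf_le_left.trans hP.le)
        have h2 : p ^ j ∣ Nat.card ↥(H₁ ⊓ M : Subgroup G) := by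
          rw [← hj]; exact Subgroup.card_dvd_of_le hle
        have h3 : j ≤ f H₁ :=
          (hp.pow_dvd_iff_le_factorization Nat.card_pos.ne').mp h2
        have h4 : Nat.card ↥R = p ^ f H := hR.card_eq
        have h5 : Nat.card ↥R < Nat.card ↥(P ⊓ normalizer (R : Set G) : Subgroup G) := by
          rcases lt_or_ge (Nat.card ↥R) (Nat.card ↥(P ⊓ normalizer (R : Set G) : Subgroup G))
            with h6 | h6
          · exact h6
          · exact absurd (Subgroup.eq_of_le_of_card_ge hlt2.le h6) hlt2.ne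
        rw [h4, hj] at h5
        have h6 : f H < j := (Nat.pow_lt_pow_iff_right hp.one_lt).mp h5
        omega
      have hNR : normalizer (R : Set G) ≤ M := hH₁M ▸ hNH₁
      refine ⟨hNR, ?_⟩
      apply isSylowIn_of_inf_normalizer
      exact hR.of_le (le_inf (hR.le.trans inf_le_left) Subgroup.le_normalizer)
        (inf_le_inf_left H hNR)
  obtain ⟨hNR, hRH⟩ := hC
  -- Step D
  have hFHM : fittingOf H ≤ M := by
    rw [fittingOf_eq_iSup]
    apply iSup_le
    intro ℓ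
    haveI : Fact (ℓ : ℕ).Prime := ⟨ℓ.2⟩
    by_cases hℓ : (ℓ : ℕ) = p
    · rw [hℓ]
      exact (pCoreOf_le_of_isSylowIn hRH).trans (hR.le.trans inf_le_right)
    · apply hinv _ _ (hBH.trans (le_normalizer_pCoreOf ℓ H))
      obtain ⟨k, hk⟩ := (Cfsg.Agent.Helper8.FitPrime.pCoreOf_isPGroup (ℓ : ℕ) H).exists_card_eq
      rw [hk]
      exact Nat.Coprime.pow_left k ((Nat.coprime_primes ℓ.2 hp).mpr hℓ)
  haveI hHsolv : Group.IsSolvable ↥H := isSolvable_of_ne_top hG hH.1
  have hoddH : Odd (Nat.card ↥H) :=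
    Odd.of_dvd_nat hG.1 (Subgroup.card_subgroup_dvd_card H)
  by_cases hr : RankLE 2 ↥(fittingSubgroup ↥H)
  · -- Step F
    obtain ⟨hnil, -, -⟩ := Cfsg.Agent.S1451.result hoddH (Or.inr hr)
    have hcomm : commutator ↥H ≤ fittingSubgroup ↥H :=
      Cfsg.Agent.Helper7.le_fittingSubgroup _ hnil
    have hcomm' : ∀ x ∈ H, ∀ y ∈ H, x * y * x⁻¹ * y⁻¹ ∈ fittingOf H := by
      intro x hx y hy
      have h1 : ⁅(⟨x, hx⟩ : ↥H), ⟨y, hy⟩⁆ ∈ commutator ↥H := by
        rw [_root_.commutator_def]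
        exact Subgroup.commutator_mem_commutator (Subgroup.mem_top _) (Subgroup.mem_top _)
      refine ⟨_, hcomm h1, ?_⟩
      simp [commutatorElement_def]
    set K := H ⊓ M with hK
    have hconjK : ∀ h ∈ H, ∀ x ∈ K, h * x * h⁻¹ ∈ K := by
      intro h hh x hx
      have hxH : x ∈ H := (Subgroup.mem_inf.mp hx).1
      have h1 : h * x * h⁻¹ * x⁻¹ ∈ K :=
        Subgroup.mem_inf.mpr ⟨fittingOf_le H (hcomm' h hh x hxH), hFHM (hcomm' h hh x hxH)⟩
      have h2 : h * x * h⁻¹ = h * x * h⁻¹ * x⁻¹ * x := by group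
      rw [h2]
      exact K.mul_mem h1 hx
    have hHK : H ≤ normalizer (K : Set G) := by
      intro h hh
      rw [Subgroup.mem_normalizer_iff]
      intro x
      refine ⟨hconjK h hh x, fun hx => ?_⟩
      have := hconjK h⁻¹ (H.inv_mem hh) _ hx
      have e : h⁻¹ * (h * x * h⁻¹) * h⁻¹⁻¹ = x := by group
      rwa [e] at this
    have hHM' : H ≤ M := le_of_frattini inf_le_left inf_le_right hHK hR hNR
    rcases eq_or_lt_of_le hHM' with h | h
    · exact hHM h
    · exact hM.1 (hH.2 M h)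
  · -- Step E
    obtain ⟨q, hq, B_H, hB_HF, hB_He, hB_Hc⟩ := exists_elemAb_of_not_rankLE (G := ↥H) hr
    haveI : Fact q.Prime := ⟨hq⟩
    set A₀ := B_H.map H.subtype with hA₀
    have hA₀F : A₀ ≤ fittingOf H := Subgroup.map_mono hB_HF
    have hA₀e : IsElementaryAbelian q A₀ := by
      refine ⟨?_, ?_⟩
      · haveI := hB_He.1
        exact Subgroup.map_isMulCommutative B_H H.subtype
      · rintro _ ⟨a, ha, rfl⟩
        have := hB_He.2 a ha
        have h2 := congrArg Subtype.val this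
        simpa using h2
    have hA₀c : q ^ 2 < Nat.card ↥A₀ := by
      rw [hA₀, Subgroup.card_map_of_injective H.subtype_injective]; exact hB_Hc
    have hA₀3 : q ^ 3 ≤ Nat.card ↥A₀ := pow_three_le_card_of_lt hA₀e hA₀c
    by_cases hFq : IsPGroup q ↥(fittingOf H)
    · have hA₀p : IsPGroup q ↥A₀ := isPGroup_of_isElementaryAbelian hA₀e
      have hA₀1 : A₀ ≠ ⊥ := by
        intro h
        rw [h, Subgroup.card_bot] at hA₀c
        have : 1 ≤ q ^ 2 := Nat.one_le_pow _ _ hq.pos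
        omega
      have hqA₀ : q ∣ Nat.card ↥A₀ := by
        rcases hA₀p.card_eq_or_dvd with h | h
        · exact absurd (Subgroup.card_eq_one.mp h) hA₀1
        · exact h
      have hqF : q ∣ Nat.card ↥(fittingOf H) := hqA₀.trans (Subgroup.card_dvd_of_le hA₀F)
      have hqG : q ∣ Nat.card G := hqF.trans (Subgroup.card_subgroup_dvd_card _)
      have hq2 : q ≠ 2 := prime_ne_two_of_dvd hG hqG
      obtain ⟨Q', hQ'⟩ := exists_isSylowIn (p := q) H
      have key := (sylow_of_isPGroup_fittingOf hG hH q hqF hFq hQ'.toSylow).2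
      have hFQ' := fittingOf_le_sylow q hFq hQ'.toSylow
      rw [hQ'.map_toSylow] at key hFQ'
      have hrkQ' : ¬ PRankLE q 2 ↥Q' := not_pRankLE_of_le (hA₀F.trans hFQ') hA₀e hA₀c
      obtain ⟨A, hscn, hA3⟩ := exists_isSCN_of_not_pRankLE hq2 hQ'.isPGroup hrkQ'
      obtain ⟨hAF, ⟨L, -, huniq⟩⟩ := key A hscn hA3
      have e1 : H = L := huniq H ⟨hH, hAF.trans (fittingOf_le H)⟩
      have e2 : M = L := huniq M ⟨hM, hAF.trans hFHM⟩
      exact hHM (e1.trans e2.symm)
    · obtain ⟨L, -, huniq⟩ := inUniqueMaximal_of_not_isPGroup hG hH q hA₀F hA₀e hA₀3 hFq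
      have e1 : H = L := huniq H ⟨hH, inf_le_left.trans (fittingOf_le H)⟩
      have e2 : M = L := huniq M ⟨hM, inf_le_left.trans hFHM⟩
      exact hHM (e1.trans e2.symm)

end Cfsg.Agent.Helper14.BGUniq
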