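import Mathlib
import Cfsg.Agent.Lib.Helper14.BGUniqK

/-!
# Bender's method for the uniqueness theorem, XII (helper14)

Basic facts on uniqueness subgroups: `⊥` is not one; normalizers of uniqueness subgroups.
-/

set_option autoImplicit false

namespace Cfsg.Agent.Helper14.BGUniq

open Cfsg Subgroup
open Cfsg.Agent.Helper14.BGTrans

universe u

variable {G : Type u} [Group G] [Finite G]

theorem isCoatom_map_conj {M : Subgroup G} (hM : IsCoatom M) (g : G) :
    IsCoatom (M.map (MulAut.conj g).toMonoidHom) := by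
  have := (OrderIso.isCoatom_iff (MulEquiv.mapSubgroup (MulAut.conj g)) M).mpr hM
  exact this

theorem not_inUniqueMaximal_bot (hG : IsMinSimpleOddOrder G) :
    ¬ InUniqueMaximal (⊥ : Subgroup G) := by
  rintro ⟨M, ⟨hM, -⟩, huniq⟩
  have hn : M.Normal := by
    rw [← Subgroup.normalizer_eq_top_iff, eq_top_iff]
    intro g _
    apply mem_normalizer_of_map_conj_eq
    exact huniq _ ⟨isCoatom_map_conj hM g, bot_le⟩
  haveI := hG.2.1
  rcases hn.eq_bot_or_eq_top with h | h
  · subst h
    have hG1 : Nat.card G ≠ 1 := by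
      intro h1
      haveI : Subsingleton G := (Nat.card_eq_one_iff_unique.mp h1).1
      exact hM.1 (Subsingleton.elim _ _)
    obtain ⟨p, hp, hpG⟩ := Nat.exists_prime_and_dvd hG1
    haveI : Fact p.Prime := ⟨hp⟩
    obtain ⟨x, hx⟩ := exists_prime_orderOf_dvd_card' (G := G) p hpG
    have hzp : IsPGroup p ↥(Subgroup.zpowers x) := by
      apply IsPGroup.of_card (n := 1)
      rw [Nat.card_zpowers, hx, pow_one]
    have h1 : (⊥ : Subgroup G) < Subgroup.zpowers x := by
      rw [bot_lt_iff_ne_bot]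
      intro h
      rw [Subgroup.zpowers_eq_bot] at h
      rw [h, orderOf_one] at hx
      exact hp.one_lt.ne hx
    exact ne_top_of_isPGroup hG hzp (hM.2 _ h1)
  · exact hM.1 h

/-- the normalizer of a uniqueness subgroup lies in the maximal subgroup -/
theorem normalizer_le_of_inUniqueMaximal (hG : IsMinSimpleOddOrder G) {L M : Subgroup G}
    (hM : IsCoatom M) (hLM : L ≤ M)
    (huniq : ∀ H : Subgroup G, IsCoatom H ∧ L ≤ H → H = M) :
    normalizer (L : Set G) ≤ M := by
  have hL1 : L ≠ ⊥ := by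
    intro h
    apply not_inUniqueMaximal_bot hG
    exact ⟨M, ⟨hM, bot_le⟩, fun H hH => huniq H ⟨hH.1, h ▸ bot_le⟩⟩
  have hne : normalizer (L : Set G) ≠ ⊤ := by
    intro h
    have hn : L.Normal := Subgroup.normalizer_eq_top_iff.mp h
    haveI := hG.2.1
    rcases hn.eq_bot_or_eq_top with h1 | h1
    · exact hL1 h1
    · exact hM.1 (eq_top_iff.mpr (h1 ▸ hLM))
  obtain ⟨H, hH, hNH⟩ := exists_isCoatom_ge hne
  have := huniq H ⟨hH, Subgroup.le_normalizer.trans hNH⟩
  rw [← this]; exact hNH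

/-- any proper subgroup containing a uniqueness subgroup lies in the maximal subgroup -/
theorem le_of_inUniqueMaximal {L M X : Subgroup G} (hX : X ≠ ⊤) (hLX : L ≤ X)
    (huniq : ∀ H : Subgroup G, IsCoatom H ∧ L ≤ H → H = M) : X ≤ M := by
  obtain ⟨H, hH, hXH⟩ := exists_isCoatom_ge hX
  have := huniq H ⟨hH, hLX.trans hXH⟩
  rw [← this]; exact hXH

/-- overgroups of uniqueness subgroups inside the maximal subgroup are uniqueness subgroups -/
theorem inUniqueMaximal_of_le {B K M : Subgroup G} (hM : IsCoatom M) (hKM : K ≤ M) (hBK : B ≤ K)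
    (hB : InUniqueMaximal B) : InUniqueMaximal K := by
  obtain ⟨M', -, hu⟩ := hB
  refine ⟨M, ⟨hM, hKM⟩, ?_⟩
  rintro H ⟨hH, hKH⟩
  rw [hu H ⟨hH, hBK.trans hKH⟩, hu M ⟨hM, hBK.trans hKM⟩]

theorem not_isCyclic_of_isElementaryAbelian {p : ℕ} [Fact p.Prime] {B : Subgroup G}
    (hBe : IsElementaryAbelian p B) (hBc : p < Nat.card ↥B) : ¬ IsCyclic ↥B := by
  intro hcyc
  obtain ⟨g, hg⟩ := hcyc.exists_generator
  have h1 : Nat.card ↥B = orderOf g := by
    rw [← Nat.card_zpowers]
    have : Subgroup.zpowers g = ⊤ := by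
      rw [eq_top_iff]; intro x _; exact hg x
    rw [this, Subgroup.card_top]
  have h2 : g ^ p = 1 := Subtype.ext (by simpa using hBe.2 g g.2)
  have h3 : orderOf g ∣ p := orderOf_dvd_of_pow_eq_one h2
  have h4 := Nat.le_of_dvd (Fact.out : p.Prime).pos h3
  omega

end Cfsg.Agent.Helper14.BGUniq
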