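import Mathlib
import Cfsg.Agent.Lib.Helper14.BGUniqL
import Cfsg.Agent.Lib.Helper1.MaxAbelianBound
import Cfsg.Agent.Lib.Helper22.OddCyclicMax
import Cfsg.Agent.Lib.Helper7.CoprimeGen2

/-!
# Bender's method for the uniqueness theorem, XIII (helper14)

Preparations for BG Lemma 9.3: conjugates of uniqueness subgroups, centralizers of normal
subgroups of order `p ^ 2` in `p`-groups, elementary abelian subgroups of order `p ^ 2` in
noncyclic `p`-groups.
-/

set_option autoImplicit false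

namespace Cfsg.Agent.Helper14.BGUniq

open Cfsg Subgroup
open Cfsg.Agent.Helper14.BGTrans
open Cfsg.Agent.Helper15 (map_conj_inv_map_conj map_conj_map_conj_inv map_conj_mono)

universe u

variable {G : Type u} [Group G] [Finite G]

theorem inUniqueMaximal_map_conj {A : Subgroup G} (hA : InUniqueMaximal A) (g : G) :
    InUniqueMaximal (A.map (MulAut.conj g).toMonoidHom) := by
  obtain ⟨M, ⟨hM, hAM⟩, huniq⟩ := hA
  refine ⟨M.map (MulAut.conj g).toMonoidHom, ⟨isCoatom_map_conj hM g, map_conj_mono hAM g⟩, ?_⟩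
  rintro H ⟨hH, hAH⟩
  have h1 : A ≤ H.map (MulAut.conj g⁻¹).toMonoidHom := by
    have := map_conj_mono hAH g⁻¹
    rwa [map_conj_inv_map_conj] at this
  have h2 := huniq _ ⟨isCoatom_map_conj hH g⁻¹, h1⟩
  rw [← h2, map_conj_map_conj_inv]

theorem exists_elemAb_of_not_pRankLE {Z : Subgroup G} {p k : ℕ} (h : ¬ PRankLE p k ↥Z) :
    ∃ B : Subgroup G, B ≤ Z ∧ IsElementaryAbelian p B ∧ p ^ k < Nat.card ↥B := by
  unfold PRankLE at h
  push Not at h
  obtain ⟨B₀, hB₀c, hB₀p, hcard⟩ := h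
  refine ⟨B₀.map Z.subtype, Subgroup.map_subtype_le _, ⟨?_, ?_⟩, ?_⟩
  · haveI := hB₀c
    exact Subgroup.map_isMulCommutative B₀ Z.subtype
  · rintro _ ⟨a, ha, rfl⟩
    have := hB₀p a ha
    have h2 := congrArg Subtype.val this
    simpa using h2
  · rw [Subgroup.card_map_of_injective Z.subtype_injective]
    exact hcard

theorem not_rankLE_of_lt {p k : ℕ} [Fact p.Prime] {Z A₀ : Subgroup G} (hle : A₀ ≤ Z)
    (he : IsElementaryAbelian p A₀) (hcard : p ^ k < Nat.card ↥A₀) : ¬ RankLE k ↥Z :=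
  fun h => not_pRankLE_of_le hle he hcard (h p Fact.out)

theorem isElementaryAbelian_of_le {p : ℕ} {A₀ A₁ : Subgroup G} (h : A₁ ≤ A₀)
    (he : IsElementaryAbelian p A₀) : IsElementaryAbelian p A₁ := by
  refine ⟨?_, fun a ha => he.2 a (h ha)⟩
  haveI := he.1
  refine ⟨⟨fun a b => ?_⟩⟩
  have := mul_comm' (⟨a, h a.2⟩ : ↥A₀) ⟨b, h b.2⟩
  have h2 : (a : G) * (b : G) = (b : G) * (a : G) := congrArg Subtype.val this
  exact Subtype.ext h2

/-- `|P : C_P(E)| ≤ p` for a normal subgroup `E` of order `p ^ 2` of the `p`-group `P` -/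
theorem relIndex_centralizer_le {p : ℕ} [Fact p.Prime] {P E : Subgroup G} (hP : IsPGroup p ↥P)
    (hEP : E ≤ P) (hPE : P ≤ normalizer (E : Set G)) (hcard : Nat.card ↥E = p ^ 2) :
    (centralizer (E : Set G)).relIndex P ≤ p := by
  haveI hn : (E.subgroupOf P).Normal := by
    refine ⟨fun n hn g => ?_⟩
    rw [Subgroup.mem_subgroupOf] at hn ⊢
    have := (Subgroup.mem_normalizer_iff.mp (hPE g.2) (n : G)).mp hn
    simpa using this
  have hc : Nat.card ↥(E.subgroupOf P) = p ^ 2 := by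
    rw [Nat.card_congr (Subgroup.subgroupOfEquivOfLe hEP).toEquiv]; exact hcard
  have h1 := Cfsg.Agent.Helper1.index_centralizer_le hP (E.subgroupOf P) 2 hc
  have h2 : centralizer ((E.subgroupOf P : Subgroup ↥P) : Set ↥P) =
      (centralizer (E : Set G)).subgroupOf P := by
    ext x
    rw [Subgroup.mem_subgroupOf, Subgroup.mem_centralizer_iff, Subgroup.mem_centralizer_iff]
    constructor
    · intro h e he
      have := h ⟨e, hEP he⟩ (Subgroup.mem_subgroupOf.mpr he)
      exact congrArg Subtype.val this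
    · intro h e he
      exact Subtype.ext (h (e : G) (Subgroup.mem_subgroupOf.mp he))
  rw [h2] at h1
  simpa [Subgroup.relIndex] using h1

/-- intersecting with the centralizer of such an `E` drops the order by at most `p` -/
theorem card_le_mul_card_inf_centralizer {p : ℕ} [Fact p.Prime] {P E A₁ : Subgroup G}
    (hP : IsPGroup p ↥P) (hEP : E ≤ P) (hPE : P ≤ normalizer (E : Set G))
    (hcard : Nat.card ↥E = p ^ 2) (hA₁P : A₁ ≤ P) :
    Nat.card ↥A₁ ≤ p * Nat.card ↥(A₁ ⊓ centralizer (E : Set G) : Subgroup G) := by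
  have h1 := relIndex_centralizer_le hP hEP hPE hcard
  have h2 : (centralizer (E : Set G)).relIndex A₁ ≤ (centralizer (E : Set G)).relIndex P := by
    apply Subgroup.relIndex_le_of_le_right hA₁P
    intro h0
    rw [h0] at h1
    have h3 : (centralizer (E : Set G)).relIndex P ≠ 0 := by
      unfold Subgroup.relIndex
      exact Subgroup.index_ne_zero_of_finite
    exact h3 h0
  have h3 := Cfsg.Agent.Helper7.relIndex_mul_card_of_le
    (inf_le_left : A₁ ⊓ centralizer (E : Set G) ≤ A₁)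
  rw [Subgroup.inf_relIndex_left] at h3
  calc Nat.card ↥A₁ = (centralizer (E : Set G)).relIndex A₁ *
        Nat.card ↥(A₁ ⊓ centralizer (E : Set G) : Subgroup G) := h3.symm
    _ ≤ p * Nat.card ↥(A₁ ⊓ centralizer (E : Set G) : Subgroup G) :=
        Nat.mul_le_mul_right _ (h2.trans h1)

/-- a noncyclic `p`-group, `p` odd, has a normal elementary abelian subgroup of order `p ^ 2` -/
theorem exists_normal_elemAb_sq {p : ℕ} [Fact p.Prime] (hp2 : p ≠ 2) {P : Subgroup G}
    (hP : IsPGroup p ↥P) (hnc : ¬ IsCyclic ↥P) :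
    ∃ E : Subgroup G, E ≤ P ∧ P ≤ normalizer (E : Set G) ∧ IsElementaryAbelian p E ∧
      Nat.card ↥E = p ^ 2 := by
  have hnc' : ¬ IsCyclic ↥(⊤ : Subgroup ↥P) := by
    intro h
    apply hnc
    exact isCyclic_of_surjective (Subgroup.topEquiv : (⊤ : Subgroup ↥P) ≃* ↥P)
      Subgroup.topEquiv.surjective
  obtain ⟨E, -, hEn, hEe, hEc⟩ :=
    Cfsg.Agent.Helper22.exists_normal_elementary_sq (R := ↥P) hp2 hP ⊤ hnc'
  haveI := hEn
  refine ⟨E.map P.subtype, Subgroup.map_subtype_le _, le_normalizer_map_subtype P E, ⟨?_, ?_⟩, ?_⟩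
  · haveI := hEe.1
    exact Subgroup.map_isMulCommutative E P.subtype
  · rintro _ ⟨a, ha, rfl⟩
    have := hEe.2 a ha
    have h2 := congrArg Subtype.val this
    simpa using h2
  · rw [Subgroup.card_map_of_injective P.subtype_injective]; exact hEc

end Cfsg.Agent.Helper14.BGUniq
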