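import Mathlib
import Cfsg.Agent.Lib.Helper14.BGUniqM
import Cfsg.Agent.S1399

/-!
# Bender's method for the uniqueness theorem, XIV (helper14)

BG Lemma 9.3.
-/

set_option autoImplicit false

namespace Cfsg.Agent.Helper14.BGUniq

open Cfsg Subgroup
open Cfsg.Agent.Helper14.BGTrans
open Cfsg.Agent.Helper15 (map_conj_inv_map_conj map_conj_map_conj_inv map_conj_mono
  isPGroup_map_conj)

universe u

variable {G : Type u} [Group G] [Finite G]

theorem lt_card_of_mul {p a b : ℕ} (hp : 0 < p) (h1 : p ^ 2 < a) (h2 : a ≤ p * b) : p ^ 1 < b := by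
  rw [pow_one]
  by_contra h
  push Not at h
  have : p * b ≤ p * p := Nat.mul_le_mul_left p h
  rw [sq] at h1
  omega

/-- **BG Lemma 9.3** -/
theorem inUniqueMaximal_of_centralizer_rank (hG : IsMinSimpleOddOrder G) (p : ℕ) [Fact p.Prime]
    {A B : Subgroup G} (hAp : IsPGroup p ↥A) (hAc : IsMulCommutative ↥A)
    (hA3 : ¬ PRankLE p 2 ↥A) (hAU : InUniqueMaximal A) (hBp : IsPGroup p ↥B)
    (hBnc : ¬ IsCyclic ↥B) (hB3 : ¬ PRankLE p 2 ↥(centralizer (B : Set G))) :
    InUniqueMaximal B := by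
  classical
  have hp : p.Prime := Fact.out
  have hB1 : B ≠ ⊥ := by
    intro hb
    apply hBnc
    rw [hb]
    exact isCyclic_of_subsingleton
  have hpG : p ∣ Nat.card G := by
    rcases hBp.card_eq_or_dvd with h | h
    · exact absurd (Subgroup.card_eq_one.mp h) hB1
    · exact h.trans (Subgroup.card_subgroup_dvd_card B)
  have hp2 : p ≠ 2 := prime_ne_two_of_dvd hG hpG
  -- `D₁ ≤ C(B)` elementary abelian of order `> p ^ 2`
  obtain ⟨D₁, hD₁C, hD₁e, hD₁c⟩ := exists_elemAb_of_not_pRankLE hB3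
  have hD₁p : IsPGroup p ↥D₁ := isPGroup_of_isElementaryAbelian hD₁e
  have hBD : IsPGroup p ↥(D₁ ⊔ B : Subgroup G) :=
    IsPGroup.to_sup_of_normal_right' hD₁p hBp (hD₁C.trans (Subgroup.centralizer_le_normalizer _))
  obtain ⟨P, hBDP⟩ := hBD.exists_le_sylow
  have hBP : B ≤ (P : Subgroup G) := le_sup_right.trans hBDP
  have hD₁P : D₁ ≤ (P : Subgroup G) := le_sup_left.trans hBDP
  -- conjugate `A` into `P`
  obtain ⟨P_A, hAP_A⟩ := hAp.exists_le_sylow
  obtain ⟨g, hg⟩ := MulAction.exists_smul_eq G P_A P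
  set A' := A.map (MulAut.conj g).toMonoidHom with hA'
  have hA'P : A' ≤ (P : Subgroup G) := by
    have h1 : A' ≤ (P_A : Subgroup G).map (MulAut.conj g).toMonoidHom := Subgroup.map_mono hAP_A
    have h2 : ((g • P_A : Sylow p G) : Subgroup G) =
        (P_A : Subgroup G).map (MulAut.conj g).toMonoidHom := rfl
    rw [← h2, hg] at h1
    exact h1
  have hA'U : InUniqueMaximal A' := inUniqueMaximal_map_conj hAU g
  have hA'3 : ¬ PRankLE p 2 ↥A' := by
    intro h
    apply hA3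
    have e := Subgroup.equivMapOfInjective A (MulAut.conj g).toMonoidHom (MulAut.conj g).injective
    exact pRankLE_of_injective' e.toMonoidHom e.injective h
  have hA'c : ∀ a ∈ A', ∀ b ∈ A', a * b = b * a := by
    rintro _ ⟨a, ha, rfl⟩ _ ⟨b, hb, rfl⟩
    have := mul_comm' (⟨a, ha⟩ : ↥A) ⟨b, hb⟩
    have h2 : a * b = b * a := congrArg Subtype.val this
    rw [← map_mul, ← map_mul, h2]
  obtain ⟨A₁, hA₁A', hA₁e, hA₁c⟩ := exists_elemAb_of_not_pRankLE hA'3
  -- `E`
  have hPp : IsPGroup p ↥(P : Subgroup G) := P.isPGroup'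
  have hPnc : ¬ IsCyclic ↥(P : Subgroup G) := by
    intro h
    apply hBnc
    haveI := h
    have h1 : IsCyclic ↥(B.subgroupOf (P : Subgroup G)) := inferInstance
    exact isCyclic_of_surjective (Subgroup.subgroupOfEquivOfLe hBP)
      (Subgroup.subgroupOfEquivOfLe hBP).surjective
  obtain ⟨E, hEP, hPE, hEe, hEc⟩ := exists_normal_elemAb_sq hp2 hPp hPnc
  -- `K₁ = C_{A₁}(E)`
  set K₁ := A₁ ⊓ centralizer (E : Set G) with hK₁
  have hK₁c : p ^ 1 < Nat.card ↥K₁ :=
    lt_card_of_mul hp.pos hA₁c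
      (card_le_mul_card_inf_centralizer hPp hEP hPE hEc (hA₁A'.trans hA'P))
  have hK₁e : IsElementaryAbelian p K₁ := isElementaryAbelian_of_le inf_le_left hA₁e
  have hK₁A' : K₁ ≤ centralizer (A' : Set G) := by
    intro x hx
    rw [Subgroup.mem_centralizer_iff]
    intro a ha
    exact hA'c a ha x (hA₁A' (Subgroup.mem_inf.mp hx).1)
  have hK₁U : InUniqueMaximal K₁ :=
    Cfsg.Agent.S1399.result hG A' K₁ hA'U hK₁A' (not_rankLE_of_lt le_rfl hK₁e hK₁c)
  -- `E`
  have hEK₁ : E ≤ centralizer (K₁ : Set G) :=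
    Subgroup.le_centralizer_iff.mp inf_le_right
  have hEU : InUniqueMaximal E := by
    apply Cfsg.Agent.S1399.result hG K₁ E hK₁U hEK₁
    apply not_rankLE_of_lt le_rfl hEe
    rw [hEc, pow_one]
    calc p = p ^ 1 := (pow_one p).symm
      _ < p ^ 2 := Nat.pow_lt_pow_right hp.one_lt (by norm_num)
  -- `K₂ = C_{D₁}(E)`
  set K₂ := D₁ ⊓ centralizer (E : Set G) with hK₂
  have hK₂c : p ^ 1 < Nat.card ↥K₂ :=
    lt_card_of_mul hp.pos hD₁c (card_le_mul_card_inf_centralizer hPp hEP hPE hEc hD₁P)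
  have hK₂e : IsElementaryAbelian p K₂ := isElementaryAbelian_of_le inf_le_left hD₁e
  have hK₂U : InUniqueMaximal K₂ :=
    Cfsg.Agent.S1399.result hG E K₂ hEU inf_le_right (not_rankLE_of_lt le_rfl hK₂e hK₂c)
  -- `B`
  have hBK₂ : B ≤ centralizer (K₂ : Set G) :=
    Subgroup.le_centralizer_iff.mp (inf_le_left.trans hD₁C)
  apply Cfsg.Agent.S1399.result hG K₂ B hK₂U hBK₂
  obtain ⟨E_B, hE_BB, -, hE_Be, hE_Bc⟩ := exists_normal_elemAb_sq hp2 hBp hBnc
  apply not_rankLE_of_lt hE_BB hE_Be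
  rw [hE_Bc, pow_one]
  calc p = p ^ 1 := (pow_one p).symm
    _ < p ^ 2 := Nat.pow_lt_pow_right hp.one_lt (by norm_num)

end Cfsg.Agent.Helper14.BGUniq
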