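import Mathlib
import Cfsg.Agent.Lib.Helper14.BGUniqN

/-!
# Bender's method for the uniqueness theorem, XV (helper14)

BG Lemma 9.4.
-/

set_option autoImplicit false

namespace Cfsg.Agent.Helper14.BGUniq

open Cfsg Subgroup
open Cfsg.Agent.Helper14.BGTrans
open Cfsg.Agent.Helper15 (IsSylowIn exists_isSylowIn_ge exists_isSylowIn isSylowIn_map_subtype)

universe u

variable {G : Type u} [Group G] [Finite G]

theorem not_isCyclic_of_le {p : ℕ} [Fact p.Prime] {A A₁ : Subgroup G} (hle : A₁ ≤ A)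
    (he : IsElementaryAbelian p A₁) (hc : p < Nat.card ↥A₁) : ¬ IsCyclic ↥A := by
  intro h
  haveI := h
  have h1 : IsCyclic ↥(A₁.subgroupOf A) := inferInstance
  have h2 : IsCyclic ↥A₁ := isCyclic_of_surjective (Subgroup.subgroupOfEquivOfLe hle)
    (Subgroup.subgroupOfEquivOfLe hle).surjective
  exact not_isCyclic_of_isElementaryAbelian he hc h2

/-- a maximal subgroup `M` with `r_p(F(M)) ≥ 3` yields an abelian `p`-subgroup of rank at least
`3` lying in a unique maximal subgroup -/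
theorem exists_abelian_inUniqueMaximal (hG : IsMinSimpleOddOrder G) {M : Subgroup G}
    (hM : IsCoatom M) (p : ℕ) [Fact p.Prime] (hF : ¬ PRankLE p 2 ↥(fittingOf M)) :
    ∃ A : Subgroup G, IsPGroup p ↥A ∧ IsMulCommutative ↥A ∧ ¬ PRankLE p 2 ↥A ∧
      InUniqueMaximal A := by
  classical
  have hp : p.Prime := Fact.out
  obtain ⟨A₀, hA₀F, hA₀e, hA₀c⟩ := exists_elemAb_of_not_pRankLE hF
  have hA₀3 : p ^ 3 ≤ Nat.card ↥A₀ := pow_three_le_card_of_lt hA₀e hA₀c
  have hA₀p : IsPGroup p ↥A₀ := isPGroup_of_isElementaryAbelian hA₀e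
  have hA₀1 : A₀ ≠ ⊥ := by
    intro h
    rw [h, Subgroup.card_bot] at hA₀c
    have : 1 ≤ p ^ 2 := Nat.one_le_pow _ _ hp.pos
    omega
  have hpF : p ∣ Nat.card ↥(fittingOf M) := by
    rcases hA₀p.card_eq_or_dvd with h | h
    · exact absurd (Subgroup.card_eq_one.mp h) hA₀1
    · exact h.trans (Subgroup.card_dvd_of_le hA₀F)
  have hpG : p ∣ Nat.card G := hpF.trans (Subgroup.card_subgroup_dvd_card _)
  have hp2 : p ≠ 2 := prime_ne_two_of_dvd hG hpG
  by_cases hFp : IsPGroup p ↥(fittingOf M)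
  · obtain ⟨Q', hQ'⟩ := exists_isSylowIn (p := p) M
    have key := (sylow_of_isPGroup_fittingOf hG hM p hpF hFp hQ'.toSylow).2
    have hFQ' := fittingOf_le_sylow p hFp hQ'.toSylow
    rw [hQ'.map_toSylow] at key hFQ'
    have hrkQ' : ¬ PRankLE p 2 ↥Q' := not_pRankLE_of_le (hA₀F.trans hFQ') hA₀e hA₀c
    obtain ⟨A, hscn, hA3⟩ := exists_isSCN_of_not_pRankLE hp2 hQ'.isPGroup hrkQ'
    obtain ⟨-, hAU⟩ := key A hscn hA3
    obtain ⟨hAQ', -, hCA⟩ := hscn
    refine ⟨A, hQ'.isPGroup.to_le hAQ', ?_, hA3, hAU⟩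
    have hAC : A ≤ centralizer (A : Set G) := by
      have : A ≤ Q' ⊓ centralizer (A : Set G) := hCA.symm.le
      exact this.trans inf_le_right
    refine ⟨⟨fun a b => ?_⟩⟩
    have := (Subgroup.mem_centralizer_iff.mp (hAC a.2)) b b.2
    exact Subtype.ext this.symm
  · have h1 := inUniqueMaximal_of_not_isPGroup hG hM p hA₀F hA₀e hA₀3 hFp
    have h2 : A₀ ≤ centralizer ((fittingOf M ⊓ centralizer (A₀ : Set G) : Subgroup G) : Set G) :=
      Subgroup.le_centralizer_iff.mp inf_le_right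
    have h3 : ¬ RankLE 1 ↥A₀ := by
      apply not_rankLE_of_lt le_rfl hA₀e
      calc p ^ 1 < p ^ 2 := Nat.pow_lt_pow_right hp.one_lt (by norm_num)
        _ < Nat.card ↥A₀ := hA₀c
    have h4 := Cfsg.Agent.S1399.result hG _ A₀ h1 h2 h3
    exact ⟨A₀, hA₀p, hA₀e.1, not_pRankLE_of_le le_rfl hA₀e hA₀c, h4⟩

/-- **BG Lemma 9.4** -/
theorem inUniqueMaximal_of_rank_fittingOf (hG : IsMinSimpleOddOrder G) {M : Subgroup G}
    (hM : IsCoatom M) (p : ℕ) [Fact p.Prime] (hF : ¬ PRankLE p 2 ↥(fittingOf M))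
    {A : Subgroup G} (hAp : IsPGroup p ↥A) (hAc : IsMulCommutative ↥A)
    (hA3 : ¬ PRankLE p 2 ↥A) : InUniqueMaximal A := by
  have hp : p.Prime := Fact.out
  obtain ⟨A', hA'p, hA'c, hA'3, hA'U⟩ := exists_abelian_inUniqueMaximal hG hM p hF
  obtain ⟨A₁, hA₁A, hA₁e, hA₁c⟩ := exists_elemAb_of_not_pRankLE hA3
  have hAC : A ≤ centralizer (A : Set G) := by
    intro a ha
    rw [Subgroup.mem_centralizer_iff]
    intro b hb
    exact congrArg Subtype.val (mul_comm' (⟨b, hb⟩ : ↥A) ⟨a, ha⟩)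
  apply inUniqueMaximal_of_centralizer_rank hG p hA'p hA'c hA'3 hA'U hAp
  · apply not_isCyclic_of_le hA₁A hA₁e
    calc p = p ^ 1 := (pow_one p).symm
      _ < p ^ 2 := Nat.pow_lt_pow_right hp.one_lt (by norm_num)
      _ < Nat.card ↥A₁ := hA₁c
  · exact not_pRankLE_of_le (hA₁A.trans hAC) hA₁e hA₁c

end Cfsg.Agent.Helper14.BGUniq
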