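import Mathlib

/-!
# `SL₂(F)` acting on `F²`: stabilizers of vectors (helper14)
-/

set_option autoImplicit false

namespace Cfsg.Agent.Helper14.SL2Vec

open scoped Matrix

variable {F : Type*} [Field F]

/-- the determinant form on `F²` -/
def dt (u v : Fin 2 → F) : F := u 0 * v 1 - u 1 * v 0

theorem dt_self (u : Fin 2 → F) : dt u u = 0 := by unfold dt; ring

theorem dt_add_right (u v w : Fin 2 → F) : dt u (v + w) = dt u v + dt u w := by
  unfold dt; simp only [Pi.add_apply]; ring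

theorem dt_sub_right (u v w : Fin 2 → F) : dt u (v - w) = dt u v - dt u w := by
  unfold dt; simp only [Pi.sub_apply]; ring

theorem dt_smul_right (u v : Fin 2 → F) (c : F) : dt u (c • v) = c * dt u v := by
  unfold dt; simp only [Pi.smul_apply, smul_eq_mul]; ring

theorem dt_mulVec (g : Matrix.SpecialLinearGroup (Fin 2) F) (u v : Fin 2 → F) :
    dt ((g : Matrix (Fin 2) (Fin 2) F) *ᵥ u) ((g : Matrix (Fin 2) (Fin 2) F) *ᵥ v) = dt u v := by
  have hdet := g.det_coe
  rw [Matrix.det_fin_two] at hdet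
  unfold dt
  simp only [Matrix.mulVec, dotProduct, Fin.sum_univ_two]
  linear_combination (u 0 * v 1 - u 1 * v 0) * hdet

theorem eq_smul_of_dt_eq_zero {u v : Fin 2 → F} (hu : u ≠ 0) (h : dt u v = 0) :
    ∃ c : F, v = c • u := by
  unfold dt at h
  by_cases h0 : u 0 = 0
  · have h1 : u 1 ≠ 0 := by
      intro h1
      apply hu
      ext i; fin_cases i <;> simp [h0, h1]
    refine ⟨v 1 / u 1, ?_⟩
    ext i
    fin_cases i
    · simp only [Fin.zero_eta, Pi.smul_apply, smul_eq_mul, h0, mul_zero]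
      rw [h0, zero_mul, zero_sub, neg_eq_zero] at h
      rcases mul_eq_zero.mp h with h | h
      · exact absurd h h1
      · exact h
    · simp only [Fin.mk_one, Pi.smul_apply, smul_eq_mul]
      field_simp
  · refine ⟨v 0 / u 0, ?_⟩
    ext i
    fin_cases i
    · simp only [Fin.zero_eta, Pi.smul_apply, smul_eq_mul]
      field_simp
    · simp only [Fin.mk_one, Pi.smul_apply, smul_eq_mul]
      field_simp
      linear_combination h

/-- Cramer's rule in `F²` (division-free) -/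
theorem cramer (u v w : Fin 2 → F) :
    dt u v • w = dt w v • u + dt u w • v := by
  unfold dt
  ext i
  fin_cases i
  · simp only [Fin.zero_eta, Pi.add_apply, Pi.smul_apply, smul_eq_mul]
    ring
  · simp only [Fin.mk_one, Pi.add_apply, Pi.smul_apply, smul_eq_mul]
    ring

/-- an element of `SL₂` fixing `v₀` moves every vector along `v₀` -/
theorem exists_smul_of_fix {g : Matrix.SpecialLinearGroup (Fin 2) F} {v₀ : Fin 2 → F} (hv₀ : v₀ ≠ 0)
    (hg : (g : Matrix (Fin 2) (Fin 2) F) *ᵥ v₀ = v₀) (v : Fin 2 → F) :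
    ∃ c : F, (g : Matrix (Fin 2) (Fin 2) F) *ᵥ v - v = c • v₀ := by
  apply eq_smul_of_dt_eq_zero hv₀
  rw [dt_sub_right]
  have := dt_mulVec g v₀ v
  rw [hg] at this
  rw [this, sub_self]

/-- a matrix is determined by its action on a basis -/
theorem eq_one_of_fix {g : Matrix.SpecialLinearGroup (Fin 2) F} {u v : Fin 2 → F} (hd : dt u v ≠ 0)
    (hu : (g : Matrix (Fin 2) (Fin 2) F) *ᵥ u = u) (hv : (g : Matrix (Fin 2) (Fin 2) F) *ᵥ v = v) :
    g = 1 := by
  have hall : ∀ w : Fin 2 → F, (g : Matrix (Fin 2) (Fin 2) F) *ᵥ w = w := by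
    intro w
    have h1 : (g : Matrix (Fin 2) (Fin 2) F) *ᵥ (dt u v • w) = dt u v • w := by
      rw [cramer u v w, Matrix.mulVec_add, Matrix.mulVec_smul, Matrix.mulVec_smul, hu, hv]
    rw [Matrix.mulVec_smul] at h1
    exact smul_right_injective _ hd h1
  apply Subtype.ext
  ext i j
  have := congrFun (hall (Pi.single j 1)) i
  rw [Matrix.mulVec_single_one] at this
  simpa [Matrix.one_apply, Pi.single_apply, eq_comm] using this

theorem eq_of_mulVec_eq {g h : Matrix.SpecialLinearGroup (Fin 2) F} {u v : Fin 2 → F} (hd : dt u v ≠ 0)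
    (hu : (g : Matrix (Fin 2) (Fin 2) F) *ᵥ u = (h : Matrix (Fin 2) (Fin 2) F) *ᵥ u)
    (hv : (g : Matrix (Fin 2) (Fin 2) F) *ᵥ v = (h : Matrix (Fin 2) (Fin 2) F) *ᵥ v) : g = h := by
  have key : h⁻¹ * g = 1 := by
    apply eq_one_of_fix hd
    · rw [Matrix.SpecialLinearGroup.coe_mul, ← Matrix.mulVec_mulVec, hu, Matrix.mulVec_mulVec,
        ← Matrix.SpecialLinearGroup.coe_mul, inv_mul_cancel, Matrix.SpecialLinearGroup.coe_one, Matrix.one_mulVec]
    · rw [Matrix.SpecialLinearGroup.coe_mul, ← Matrix.mulVec_mulVec, hv, Matrix.mulVec_mulVec,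
        ← Matrix.SpecialLinearGroup.coe_mul, inv_mul_cancel, Matrix.SpecialLinearGroup.coe_one, Matrix.one_mulVec]
  calc g = h * (h⁻¹ * g) := by group
    _ = h := by rw [key, mul_one]

/-- a complementary vector -/
theorem exists_dt_eq_one {v₀ : Fin 2 → F} (hv₀ : v₀ ≠ 0) : ∃ w₀ : Fin 2 → F, dt v₀ w₀ = 1 := by
  by_cases h0 : v₀ 0 = 0
  · have h1 : v₀ 1 ≠ 0 := by
      intro h1
      apply hv₀
      ext i; fin_cases i <;> simp [h0, h1]
    refine ⟨![-(v₀ 1)⁻¹, 0], ?_⟩
    unfold dt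
    simp only [Matrix.cons_val_zero, Matrix.cons_val_one]
    field_simp
    ring
  · refine ⟨![0, (v₀ 0)⁻¹], ?_⟩
    unfold dt
    simp only [Matrix.cons_val_zero, Matrix.cons_val_one]
    field_simp
    ring

/-- powers of an element fixing `v₀` -/
theorem pow_mulVec_of_fix {g : Matrix.SpecialLinearGroup (Fin 2) F} {v₀ : Fin 2 → F}
    (hg : (g : Matrix (Fin 2) (Fin 2) F) *ᵥ v₀ = v₀) {v : Fin 2 → F} {c : F}
    (hc : (g : Matrix (Fin 2) (Fin 2) F) *ᵥ v - v = c • v₀) (k : ℕ) :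
    ((g ^ k : Matrix.SpecialLinearGroup (Fin 2) F) : Matrix (Fin 2) (Fin 2) F) *ᵥ v
      = v + ((k : F) * c) • v₀ := by
  induction k with
  | zero => simp
  | succ k ih =>
    have hgv : (g : Matrix (Fin 2) (Fin 2) F) *ᵥ v = v + c • v₀ := by
      rw [← hc]; abel
    rw [pow_succ', Matrix.SpecialLinearGroup.coe_mul, ← Matrix.mulVec_mulVec, ih, Matrix.mulVec_add,
      Matrix.mulVec_smul, hg, hgv]
    rw [add_assoc, ← add_smul]
    congr 2
    push_cast
    ring

/-- the torus element scaling `v₀` by `a` and `w₀` by `a⁻¹` -/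
theorem exists_torus {v₀ w₀ : Fin 2 → F} (hd : dt v₀ w₀ = 1) {a : F} (ha : a ≠ 0) :
    ∃ h : Matrix.SpecialLinearGroup (Fin 2) F,
      (h : Matrix (Fin 2) (Fin 2) F) *ᵥ v₀ = a • v₀ ∧
      (h : Matrix (Fin 2) (Fin 2) F) *ᵥ w₀ = a⁻¹ • w₀ := by
  unfold dt at hd
  -- h = P diag(a, a⁻¹) P⁻¹ computed explicitly
  refine ⟨⟨!![a * v₀ 0 * w₀ 1 - a⁻¹ * w₀ 0 * v₀ 1, (a⁻¹ - a) * v₀ 0 * w₀ 0;
            (a - a⁻¹) * v₀ 1 * w₀ 1, a⁻¹ * v₀ 0 * w₀ 1 - a * w₀ 0 * v₀ 1], ?_⟩, ?_, ?_⟩
  · rw [Matrix.det_fin_two_of]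
    have : a * a⁻¹ = 1 := mul_inv_cancel₀ ha
    linear_combination (a * a⁻¹ * (v₀ 0 * w₀ 1 - v₀ 1 * w₀ 0) + a * a⁻¹) * hd + this
  · ext i
    fin_cases i
    · simp only [Fin.zero_eta, Matrix.mulVec, dotProduct, Fin.sum_univ_two, Matrix.of_apply,
        Matrix.cons_val', Matrix.cons_val_zero, Matrix.cons_val_one, Matrix.cons_val_fin_one,
        Pi.smul_apply, smul_eq_mul]
      linear_combination (a * v₀ 0) * hd
    · simp only [Fin.mk_one, Matrix.mulVec, dotProduct, Fin.sum_univ_two, Matrix.of_apply,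
        Matrix.cons_val', Matrix.cons_val_zero, Matrix.cons_val_one, Matrix.cons_val_fin_one,
        Pi.smul_apply, smul_eq_mul]
      linear_combination (a * v₀ 1) * hd
  · ext i
    fin_cases i
    · simp only [Fin.zero_eta, Matrix.mulVec, dotProduct, Fin.sum_univ_two, Matrix.of_apply,
        Matrix.cons_val', Matrix.cons_val_zero, Matrix.cons_val_one, Matrix.cons_val_fin_one,
        Pi.smul_apply, smul_eq_mul]
      linear_combination (a⁻¹ * w₀ 0) * hd
    · simp only [Fin.mk_one, Matrix.mulVec, dotProduct, Fin.sum_univ_two, Matrix.of_apply,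
        Matrix.cons_val', Matrix.cons_val_zero, Matrix.cons_val_one, Matrix.cons_val_fin_one,
        Pi.smul_apply, smul_eq_mul]
      linear_combination (a⁻¹ * w₀ 1) * hd

end Cfsg.Agent.Helper14.SL2Vec
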