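import Mathlib
import Cfsg.Prelude.Def_LocalEven
import Cfsg.Agent.Lib.Helper14.SL2Vec
import Cfsg.Agent.Lib.Helper12.SL2Upper
import Cfsg.Agent.Lib.Lead.SimpleTools

/-!
# Natural `SL₂(F)`-modules inside an ambient group (helper14)
-/

set_option autoImplicit false

namespace Cfsg.Agent.Helper14.NatSL2

open scoped Matrix commutatorElement
open Cfsg.Agent.Helper14.SL2Vec

/-- `SL₂(F)` acting on column vectors -/
def vecAction (F : Type*) [Field F] :
    MulAction (Matrix.SpecialLinearGroup (Fin 2) F) (Fin 2 → F) where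
  smul g v := (g : Matrix (Fin 2) (Fin 2) F) *ᵥ v
  one_smul v := by
    show ((1 : Matrix.SpecialLinearGroup (Fin 2) F) : Matrix (Fin 2) (Fin 2) F) *ᵥ v = v
    rw [Matrix.SpecialLinearGroup.coe_one, Matrix.one_mulVec]
  mul_smul g h v := by
    show ((g * h : Matrix.SpecialLinearGroup (Fin 2) F) : Matrix (Fin 2) (Fin 2) F) *ᵥ v =
      (g : Matrix (Fin 2) (Fin 2) F) *ᵥ ((h : Matrix (Fin 2) (Fin 2) F) *ᵥ v)
    rw [Matrix.SpecialLinearGroup.coe_mul, Matrix.mulVec_mulVec]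

section transport

variable {G : Type*} [Group G] {F : Type*} [Field F] {V L : Subgroup G}
  (ρ : ↥L →* Matrix.SpecialLinearGroup (Fin 2) F) (ψ : Additive ↥V ≃+ (Fin 2 → F))

/-- the coordinate map -/
def θ (v : ↥V) : Fin 2 → F := ψ (Additive.ofMul v)

theorem θ_mul (v w : ↥V) : θ ψ (v * w) = θ ψ v + θ ψ w := by
  unfold θ
  rw [ofMul_mul, map_add]

theorem θ_one : θ ψ (1 : ↥V) = 0 := by
  unfold θ
  rw [ofMul_one, map_zero]

theorem θ_inv (v : ↥V) : θ ψ v⁻¹ = - θ ψ v := by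
  unfold θ
  rw [ofMul_inv, map_neg]

theorem θ_injective : Function.Injective (θ ψ) := by
  intro v w h
  unfold θ at h
  exact Additive.ofMul.injective (ψ.injective h)

theorem θ_surjective : Function.Surjective (θ ψ) := by
  intro x
  obtain ⟨a, ha⟩ := ψ.surjective x
  exact ⟨Additive.toMul a, ha⟩

variable (hact : ∀ (l : ↥L) (v : ↥V), ∃ w : ↥V, (w : G) = (l : G) * (v : G) * (l : G)⁻¹ ∧
  ψ (Additive.ofMul w) =
    ((ρ l : Matrix.SpecialLinearGroup (Fin 2) F) : Matrix (Fin 2) (Fin 2) F) *ᵥ (ψ (Additive.ofMul v)))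

include hact

theorem conj_mem (l : ↥L) (v : ↥V) : (l : G) * (v : G) * (l : G)⁻¹ ∈ V := by
  obtain ⟨w, hw, -⟩ := hact l v
  rw [← hw]; exact w.2

theorem θ_conj (l : ↥L) (v : ↥V) :
    θ ψ ⟨(l : G) * (v : G) * (l : G)⁻¹, conj_mem ρ ψ hact l v⟩ =
      ((ρ l : Matrix.SpecialLinearGroup (Fin 2) F) : Matrix (Fin 2) (Fin 2) F) *ᵥ θ ψ v := by
  obtain ⟨w, hw, hw2⟩ := hact l v
  have : (⟨(l : G) * (v : G) * (l : G)⁻¹, conj_mem ρ ψ hact l v⟩ : ↥V) = w := Subtype.ext hw.symm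
  rw [this]
  exact hw2

/-- `l` commutes with `v` iff `ρ l` fixes the coordinates of `v` -/
theorem commute_iff (l : ↥L) (v : ↥V) :
    (v : G) * (l : G) = (l : G) * (v : G) ↔
      ((ρ l : Matrix.SpecialLinearGroup (Fin 2) F) : Matrix (Fin 2) (Fin 2) F) *ᵥ θ ψ v = θ ψ v := by
  rw [← θ_conj ρ ψ hact l v]
  constructor
  · intro h
    congr 1
    apply Subtype.ext
    show (l : G) * (v : G) * (l : G)⁻¹ = v
    rw [← h]; group
  · intro h
    have h2 := θ_injective ψ h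
    have h3 : (l : G) * (v : G) * (l : G)⁻¹ = v := congrArg Subtype.val h2
    calc (v : G) * (l : G) = ((l : G) * (v : G) * (l : G)⁻¹) * (l : G) := by rw [h3]
      _ = (l : G) * (v : G) := by group

theorem commutator_mem (v : ↥V) (l : ↥L) : ⁅(v : G), (l : G)⁆ ∈ V := by
  have h1 := conj_mem ρ ψ hact l v
  have : ⁅(v : G), (l : G)⁆ = (v : G) * ((l : G) * (v : G) * (l : G)⁻¹)⁻¹ := by
    rw [commutatorElement_def]; group
  rw [this]
  exact V.mul_mem v.2 (V.inv_mem h1)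

theorem θ_commutator (v : ↥V) (l : ↥L) :
    θ ψ ⟨⁅(v : G), (l : G)⁆, commutator_mem ρ ψ hact v l⟩ =
      θ ψ v - ((ρ l : Matrix.SpecialLinearGroup (Fin 2) F) : Matrix (Fin 2) (Fin 2) F) *ᵥ θ ψ v := by
  have : (⟨⁅(v : G), (l : G)⁆, commutator_mem ρ ψ hact v l⟩ : ↥V) =
      v * (⟨(l : G) * (v : G) * (l : G)⁻¹, conj_mem ρ ψ hact l v⟩ : ↥V)⁻¹ := by
    apply Subtype.ext
    show ⁅(v : G), (l : G)⁆ = (v : G) * ((l : G) * (v : G) * (l : G)⁻¹)⁻¹
    rw [commutatorElement_def]; group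
  rw [this, θ_mul, θ_inv, θ_conj ρ ψ hact, sub_eq_add_neg]

end transport

section sylow

variable {G : Type*} [Group G] [Finite G] {p : ℕ} [Fact p.Prime] {F : Type*} [Field F] [Fintype F]
  {V L : Subgroup G}
  (ρ : ↥L →* Matrix.SpecialLinearGroup (Fin 2) F) (ψ : Additive ↥V ≃+ (Fin 2 → F))
  (n : ℕ) (hF : Fintype.card F = p ^ n)

include hF in
theorem one_le_n : 1 ≤ n := by
  by_contra h
  have h0 : n = 0 := by omega
  rw [h0, pow_zero] at hF
  have := Fintype.one_lt_card (α := F)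
  omega

variable (hρs : Function.Surjective ρ) (hρi : Function.Injective ρ) (S : Sylow p ↥L)

include hF hρs hρi in
theorem card_sylow : Nat.card (S : Subgroup ↥L) = p ^ n := by
  have hpp : p.Prime := Fact.out
  have hn := one_le_n n hF
  have h1 : Nat.card ↥L = p ^ n * ((p ^ n) ^ 2 - 1) := by
    rw [Nat.card_congr (Equiv.ofBijective ρ ⟨hρi, hρs⟩), Cfsg.Agent.Helper12.card_SL2, hF]
  have h2 : ¬ p ∣ (p ^ n) ^ 2 - 1 := by
    intro hdvd
    have h3 : p ∣ (p ^ n) ^ 2 := by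
      rw [← pow_mul]
      exact dvd_pow_self p (by omega)
    have h4 : 1 ≤ (p ^ n) ^ 2 := Nat.one_le_pow _ _ (pow_pos hpp.pos n)
    have h5 : p ∣ (p ^ n) ^ 2 - ((p ^ n) ^ 2 - 1) := Nat.dvd_sub h3 hdvd
    rw [Nat.sub_sub_self h4] at h5
    exact hpp.one_lt.ne' (Nat.dvd_one.mp h5)
  exact (Cfsg.Agent.Lead.sylow_facts h1 h2).1 S

include hF in
/-- a Sylow `p`-subgroup fixes a nonzero vector -/
theorem exists_fixed_vector : ∃ v₀ : Fin 2 → F, v₀ ≠ 0 ∧ ∀ s ∈ (S : Subgroup ↥L),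
    ((ρ s : Matrix.SpecialLinearGroup (Fin 2) F) : Matrix (Fin 2) (Fin 2) F) *ᵥ v₀ = v₀ := by
  have hpp : p.Prime := Fact.out
  have hn := one_le_n n hF
  letI : MulAction (Matrix.SpecialLinearGroup (Fin 2) F) (Fin 2 → F) := vecAction F
  letI : MulAction ↥(S : Subgroup ↥L) (Fin 2 → F) :=
    MulAction.compHom (Fin 2 → F) (ρ.comp (S : Subgroup ↥L).subtype)
  have hcard : p ∣ Nat.card (Fin 2 → F) := by
    rw [Nat.card_eq_fintype_card, Fintype.card_fun, Fintype.card_fin, hF, ← pow_mul]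
    exact dvd_pow_self p (by omega)
  have h0 : (0 : Fin 2 → F) ∈ MulAction.fixedPoints ↥(S : Subgroup ↥L) (Fin 2 → F) := by
    intro s
    show ((ρ (s : ↥L) : Matrix.SpecialLinearGroup (Fin 2) F) : Matrix (Fin 2) (Fin 2) F) *ᵥ 0 = 0
    exact Matrix.mulVec_zero _
  obtain ⟨b, hb, hb0⟩ := S.isPGroup'.exists_fixed_point_of_prime_dvd_card_of_fixed_point
    (Fin 2 → F) hcard h0
  refine ⟨b, fun h => hb0 h.symm, fun s hs => ?_⟩
  exact hb ⟨s, hs⟩

variable (hact : ∀ (l : ↥L) (v : ↥V), ∃ w : ↥V, (w : G) = (l : G) * (v : G) * (l : G)⁻¹ ∧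
  ψ (Additive.ofMul w) =
    ((ρ l : Matrix.SpecialLinearGroup (Fin 2) F) : Matrix (Fin 2) (Fin 2) F) *ᵥ (ψ (Additive.ofMul v)))
  {v₀ : Fin 2 → F} (hv₀ : v₀ ≠ 0)
  (hfix : ∀ s ∈ (S : Subgroup ↥L),
    ((ρ s : Matrix.SpecialLinearGroup (Fin 2) F) : Matrix (Fin 2) (Fin 2) F) *ᵥ v₀ = v₀)

include hF hρs hρi hv₀ hfix in
/-- the Sylow subgroup moves a vector outside `F v₀` by every multiple of `v₀` -/
theorem exists_mem_sylow {u : Fin 2 → F} (hu : dt v₀ u ≠ 0) (c : F) :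
    ∃ s ∈ (S : Subgroup ↥L),
      ((ρ s : Matrix.SpecialLinearGroup (Fin 2) F) : Matrix (Fin 2) (Fin 2) F) *ᵥ u - u = c • v₀ := by
  have hex : ∀ s : ↥(S : Subgroup ↥L), ∃ c : F,
      ((ρ (s : ↥L) : Matrix.SpecialLinearGroup (Fin 2) F) : Matrix (Fin 2) (Fin 2) F) *ᵥ u - u
        = c • v₀ := fun s => exists_smul_of_fix hv₀ (hfix s s.2) u
  set f : ↥(S : Subgroup ↥L) → F := fun s => Classical.choose (hex s) with hf
  have hfs : ∀ s : ↥(S : Subgroup ↥L), ((ρ (s : ↥L) : Matrix.SpecialLinearGroup (Fin 2) F) :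
      Matrix (Fin 2) (Fin 2) F) *ᵥ u - u = f s • v₀ := fun s => Classical.choose_spec (hex s)
  have hinj : Function.Injective f := by
    intro s s' hss
    have h1 : ((ρ (s : ↥L) : Matrix.SpecialLinearGroup (Fin 2) F) :
        Matrix (Fin 2) (Fin 2) F) *ᵥ u = ((ρ (s' : ↥L) : Matrix.SpecialLinearGroup (Fin 2) F) :
        Matrix (Fin 2) (Fin 2) F) *ᵥ u := by
      have e1 := hfs s
      have e2 := hfs s'
      rw [hss] at e1
      have := e1.trans e2.symm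
      exact sub_left_injective this
    have h2 := eq_of_mulVec_eq hu ((hfix s s.2).trans (hfix s' s'.2).symm) h1
    exact Subtype.ext (hρi h2)
  have hbij : Function.Bijective f := by
    apply hinj.bijective_of_nat_card_le
    rw [card_sylow ρ n hF hρs hρi S, Nat.card_eq_fintype_card, hF]
  obtain ⟨s, hs⟩ := hbij.2 c
  exact ⟨s, s.2, by rw [← hs]; exact hfs s⟩

include hF hρs hρi hact hv₀ hfix in
/-- `C_V(T)` in coordinates -/
theorem mem_centralizer_iff (v : ↥V) :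
    (v : G) ∈ Subgroup.centralizer (((S : Subgroup ↥L).map L.subtype : Subgroup G) : Set G) ↔
      ∃ c : F, θ ψ v = c • v₀ := by
  constructor
  · intro hv
    have hall : ∀ s ∈ (S : Subgroup ↥L),
        ((ρ s : Matrix.SpecialLinearGroup (Fin 2) F) : Matrix (Fin 2) (Fin 2) F) *ᵥ θ ψ v = θ ψ v := by
      intro s hs
      rw [← commute_iff ρ ψ hact s v]
      exact ((Subgroup.mem_centralizer_iff.mp hv) (s : G) (Subgroup.mem_map_of_mem _ hs)).symm
    apply eq_smul_of_dt_eq_zero hv₀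
    by_contra hd
    have hS1 : ∀ s ∈ (S : Subgroup ↥L), s = 1 := by
      intro s hs
      apply hρi
      rw [map_one]
      exact eq_one_of_fix hd (hfix s hs) (hall s hs)
    have hSbot : (S : Subgroup ↥L) = ⊥ := (Subgroup.eq_bot_iff_forall _).mpr hS1
    have hc := card_sylow ρ n hF hρs hρi S
    rw [hSbot, Subgroup.card_bot] at hc
    have hpp : p.Prime := Fact.out
    have hn := one_le_n n hF
    have : 1 < p ^ n := Nat.one_lt_pow (by omega) hpp.one_lt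
    omega
  · rintro ⟨c, hc⟩
    rw [Subgroup.mem_centralizer_iff]
    rintro _ ⟨s, hs, rfl⟩
    symm
    show (v : G) * ((s : ↥L) : G) = ((s : ↥L) : G) * (v : G)
    rw [commute_iff ρ ψ hact s v, hc, Matrix.mulVec_smul, hfix s hs]

end sylow

end Cfsg.Agent.Helper14.NatSL2
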