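import Mathlib
import Cfsg.Agent.S2761

/-!
# The affine group `F² ⋊ SL₂(F)` inside `SL₃(F)` (helper14)
-/

set_option autoImplicit false

namespace Cfsg.Agent.Helper14.Qd

open scoped Matrix
open Cfsg.Agent.S2761

variable {R : Type*} [CommRing R]

/-- the upper left block -/
def blk (M : Matrix (Fin 3) (Fin 3) R) : Matrix (Fin 2) (Fin 2) R :=
  !![M 0 0, M 0 1; M 1 0, M 1 1]

theorem det_blk {M : Matrix.SpecialLinearGroup (Fin 3) R} (h : LastRow M) :
    (blk (M : Matrix (Fin 3) (Fin 3) R)).det = 1 := by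
  obtain ⟨h0, h1, h2⟩ := h
  have hd := M.2
  rw [Matrix.det_fin_three, h0, h1, h2] at hd
  rw [blk, Matrix.det_fin_two_of]
  linear_combination hd

theorem blk_mul {M N : Matrix (Fin 3) (Fin 3) R} (h0 : N 2 0 = 0) (h1 : N 2 1 = 0) :
    blk (M * N) = blk M * blk N := by
  ext i j
  fin_cases i <;> fin_cases j <;>
    simp [blk, Matrix.mul_apply, Fin.sum_univ_three, Fin.sum_univ_two, h0, h1]

/-- the projection onto `SL₂` -/
def proj (R : Type*) [CommRing R] : ↥(affSubgroup R) →* Matrix.SpecialLinearGroup (Fin 2) R where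
  toFun M := ⟨blk (M.1 : Matrix (Fin 3) (Fin 3) R), det_blk M.2⟩
  map_one' := by
    apply Subtype.ext
    ext i j
    fin_cases i <;> fin_cases j <;> simp [blk]
  map_mul' M N := by
    apply Subtype.ext
    show blk ((M.1 * N.1 : Matrix.SpecialLinearGroup (Fin 3) R) : Matrix (Fin 3) (Fin 3) R) = _
    rw [Matrix.SpecialLinearGroup.coe_mul, blk_mul N.2.1 N.2.2.1]
    rfl

theorem proj_coe (M : ↥(affSubgroup R)) :
    ((proj R M : Matrix.SpecialLinearGroup (Fin 2) R) : Matrix (Fin 2) (Fin 2) R) =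
      blk (M.1 : Matrix (Fin 3) (Fin 3) R) := rfl

theorem proj_apply (M : ↥(affSubgroup R)) (i j : Fin 2) :
    ((proj R M : Matrix.SpecialLinearGroup (Fin 2) R) : Matrix (Fin 2) (Fin 2) R) i j =
      (M.1 : Matrix (Fin 3) (Fin 3) R) (Fin.castSucc i) (Fin.castSucc j) := by
  fin_cases i <;> fin_cases j <;> rfl

/-- the block matrix of an element of `SL₂` and a translation vector -/
def affMat (B : Matrix (Fin 2) (Fin 2) R) (u : Fin 2 → R) : Matrix (Fin 3) (Fin 3) R :=
  !![B 0 0, B 0 1, u 0; B 1 0, B 1 1, u 1; 0, 0, 1]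

theorem det_affMat (B : Matrix (Fin 2) (Fin 2) R) (u : Fin 2 → R) :
    (affMat B u).det = B.det := by
  rw [Matrix.det_fin_three, Matrix.det_fin_two]
  simp [affMat]

/-- the general element of the affine group -/
def aff (B : Matrix.SpecialLinearGroup (Fin 2) R) (u : Fin 2 → R) : ↥(affSubgroup R) :=
  ⟨⟨affMat (B : Matrix (Fin 2) (Fin 2) R) u, by rw [det_affMat]; exact B.2⟩,
    by refine ⟨?_, ?_, ?_⟩ <;> simp [affMat]⟩

theorem aff_coe (B : Matrix.SpecialLinearGroup (Fin 2) R) (u : Fin 2 → R) :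
    ((aff B u).1 : Matrix (Fin 3) (Fin 3) R) = affMat (B : Matrix (Fin 2) (Fin 2) R) u := rfl

theorem affMat_mul (B C : Matrix (Fin 2) (Fin 2) R) (u v : Fin 2 → R) :
    affMat B u * affMat C v = affMat (B * C) (B *ᵥ v + u) := by
  ext i j
  fin_cases i <;> fin_cases j <;>
    simp [affMat, Matrix.mul_apply, Fin.sum_univ_three, Fin.sum_univ_two]

theorem aff_mul (B C : Matrix.SpecialLinearGroup (Fin 2) R) (u v : Fin 2 → R) :
    aff B u * aff C v = aff (B * C) ((B : Matrix (Fin 2) (Fin 2) R) *ᵥ v + u) := by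
  apply Subtype.ext
  apply Subtype.ext
  show ((aff B u).1 : Matrix (Fin 3) (Fin 3) R) * ((aff C v).1 : Matrix (Fin 3) (Fin 3) R) = _
  rw [aff_coe, aff_coe, affMat_mul]
  rfl

theorem aff_one : aff (1 : Matrix.SpecialLinearGroup (Fin 2) R) 0 = 1 := by
  apply Subtype.ext
  apply Subtype.ext
  ext i j
  fin_cases i <;> fin_cases j <;> simp [aff, affMat]

/-- every element is of the form `aff B u` -/
theorem eq_aff (M : ↥(affSubgroup R)) :
    M = aff (proj R M) ![(M.1 : Matrix (Fin 3) (Fin 3) R) 0 2, (M.1 : Matrix (Fin 3) (Fin 3) R) 1 2] := by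
  obtain ⟨h0, h1, h2⟩ := M.2
  apply Subtype.ext
  apply Subtype.ext
  ext i j
  fin_cases i <;> fin_cases j <;> simp [aff, affMat, proj_coe, blk, h0, h1, h2]

theorem proj_aff (B : Matrix.SpecialLinearGroup (Fin 2) R) (u : Fin 2 → R) : proj R (aff B u) = B := by
  apply Subtype.ext
  ext i j
  fin_cases i <;> fin_cases j <;> simp [aff, affMat, proj_coe, blk]

theorem aff_injective {B C : Matrix.SpecialLinearGroup (Fin 2) R} {u v : Fin 2 → R}
    (h : aff B u = aff C v) : B = C ∧ u = v := by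
  refine ⟨by rw [← proj_aff B u, h, proj_aff], ?_⟩
  have h1 : ((aff B u).1 : Matrix (Fin 3) (Fin 3) R) = ((aff C v).1 : Matrix (Fin 3) (Fin 3) R) := by
    rw [h]
  rw [aff_coe, aff_coe] at h1
  ext i
  fin_cases i
  · simpa [affMat] using congrFun (congrFun h1 0) 2
  · simpa [affMat] using congrFun (congrFun h1 1) 2

theorem proj_surjective : Function.Surjective (proj R) := fun B => ⟨aff B 0, proj_aff B 0⟩

/-- the linear part as a homomorphism -/
def linHom (R : Type*) [CommRing R] : Matrix.SpecialLinearGroup (Fin 2) R →* ↥(affSubgroup R) where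
  toFun B := aff B 0
  map_one' := aff_one
  map_mul' B C := by
    rw [aff_mul, Matrix.mulVec_zero, add_zero]

theorem linHom_apply (B : Matrix.SpecialLinearGroup (Fin 2) R) : linHom R B = aff B 0 := rfl

theorem linHom_injective : Function.Injective (linHom R) := fun _ _ h => (aff_injective h).1

theorem proj_linHom (B : Matrix.SpecialLinearGroup (Fin 2) R) : proj R (linHom R B) = B := proj_aff B 0

/-- translations -/
def trans (u : Fin 2 → R) : ↥(affSubgroup R) := aff 1 u

theorem trans_mul (u v : Fin 2 → R) : trans u * trans v = trans (u + v) := by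
  unfold trans
  rw [aff_mul, Matrix.SpecialLinearGroup.coe_one, Matrix.one_mulVec, mul_one, add_comm]

theorem trans_zero : trans (0 : Fin 2 → R) = 1 := aff_one

theorem trans_injective : Function.Injective (trans (R := R)) := fun _ _ h => (aff_injective h).2

theorem trans_pow (u : Fin 2 → R) (n : ℕ) : trans u ^ n = trans (n • u) := by
  induction n with
  | zero => rw [pow_zero, zero_smul, trans_zero]
  | succ n ih => rw [pow_succ, ih, trans_mul, succ_nsmul]

theorem trans_inv (u : Fin 2 → R) : (trans u)⁻¹ = trans (-u) := by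
  apply inv_eq_of_mul_eq_one_right
  rw [trans_mul, add_neg_cancel, trans_zero]

theorem aff_eq_trans_mul (B : Matrix.SpecialLinearGroup (Fin 2) R) (u : Fin 2 → R) :
    aff B u = trans u * linHom R B := by
  unfold trans
  rw [linHom_apply, aff_mul, one_mul, Matrix.SpecialLinearGroup.coe_one, Matrix.one_mulVec, zero_add]

theorem linHom_mul_trans (B : Matrix.SpecialLinearGroup (Fin 2) R) (u : Fin 2 → R) :
    linHom R B * trans u = trans ((B : Matrix (Fin 2) (Fin 2) R) *ᵥ u) * linHom R B := by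
  rw [← aff_eq_trans_mul, linHom_apply]
  unfold trans
  rw [aff_mul, mul_one, add_zero]

theorem conj_trans (B : Matrix.SpecialLinearGroup (Fin 2) R) (u : Fin 2 → R) :
    linHom R B * trans u * (linHom R B)⁻¹ = trans ((B : Matrix (Fin 2) (Fin 2) R) *ᵥ u) := by
  rw [linHom_mul_trans, mul_inv_cancel_right]

/-- the translation subgroup -/
def transSubgroup (R : Type*) [CommRing R] : Subgroup ↥(affSubgroup R) := (proj R).ker

theorem transSubgroup_normal : (transSubgroup R).Normal := MonoidHom.normal_ker _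

theorem trans_mem (u : Fin 2 → R) : trans u ∈ transSubgroup R := by
  unfold transSubgroup trans
  rw [MonoidHom.mem_ker, proj_aff]

theorem mem_transSubgroup_iff_exists (M : ↥(affSubgroup R)) :
    M ∈ transSubgroup R ↔ ∃ u, M = trans u := by
  constructor
  · intro h
    unfold transSubgroup at h
    rw [MonoidHom.mem_ker] at h
    refine ⟨![(M.1 : Matrix (Fin 3) (Fin 3) R) 0 2, (M.1 : Matrix (Fin 3) (Fin 3) R) 1 2], ?_⟩
    have := eq_aff M
    rw [h] at this
    exact this
  · rintro ⟨u, rfl⟩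
    exact trans_mem u

theorem mem_transSubgroup_iff (M : ↥(affSubgroup R)) :
    M ∈ transSubgroup R ↔ (M.1 : Matrix (Fin 3) (Fin 3) R) 0 0 = 1 ∧
      (M.1 : Matrix (Fin 3) (Fin 3) R) 0 1 = 0 ∧ (M.1 : Matrix (Fin 3) (Fin 3) R) 1 0 = 0 ∧
      (M.1 : Matrix (Fin 3) (Fin 3) R) 1 1 = 1 := by
  unfold transSubgroup
  rw [MonoidHom.mem_ker]
  constructor
  · intro h
    have h1 : ((proj R M : Matrix.SpecialLinearGroup (Fin 2) R) : Matrix (Fin 2) (Fin 2) R) = 1 := by
      rw [h]; rfl
    rw [proj_coe] at h1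
    refine ⟨?_, ?_, ?_, ?_⟩
    · simpa [blk] using congrFun (congrFun h1 0) 0
    · simpa [blk] using congrFun (congrFun h1 0) 1
    · simpa [blk] using congrFun (congrFun h1 1) 0
    · simpa [blk] using congrFun (congrFun h1 1) 1
  · rintro ⟨h00, h01, h10, h11⟩
    apply Subtype.ext
    rw [proj_coe]
    ext i j
    fin_cases i <;> fin_cases j <;> simp [blk, h00, h01, h10, h11]

/-- the complement -/
def linSubgroup (R : Type*) [CommRing R] : Subgroup ↥(affSubgroup R) := (linHom R).range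

theorem mem_linSubgroup_iff (M : ↥(affSubgroup R)) :
    M ∈ linSubgroup R ↔ (M.1 : Matrix (Fin 3) (Fin 3) R) 0 2 = 0 ∧
      (M.1 : Matrix (Fin 3) (Fin 3) R) 1 2 = 0 := by
  constructor
  · rintro ⟨B, rfl⟩
    rw [linHom_apply, aff_coe]
    simp [affMat]
  · rintro ⟨h0, h1⟩
    refine ⟨proj R M, ?_⟩
    rw [linHom_apply]
    have := eq_aff M
    rw [h0, h1] at this
    conv_rhs => rw [this]
    congr 1
    ext i
    fin_cases i <;> simp

theorem linSubgroup_inf_transSubgroup : linSubgroup R ⊓ transSubgroup R = ⊥ := by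
  rw [eq_bot_iff]
  intro M hM
  rw [Subgroup.mem_inf] at hM
  obtain ⟨⟨B, rfl⟩, h2⟩ := hM
  rw [mem_transSubgroup_iff_exists] at h2
  obtain ⟨u, hu⟩ := h2
  rw [linHom_apply] at hu
  unfold trans at hu
  obtain ⟨h1, -⟩ := aff_injective hu
  rw [Subgroup.mem_bot, h1, map_one]

theorem linSubgroup_sup_transSubgroup : linSubgroup R ⊔ transSubgroup R = ⊤ := by
  rw [eq_top_iff]
  intro M _
  rw [eq_aff M, aff_eq_trans_mul, sup_comm]
  exact Subgroup.mul_mem_sup (trans_mem _) ⟨_, rfl⟩

end Cfsg.Agent.Helper14.Qd
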