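import Mathlib
import Cfsg.Agent.Lib.Helper14.QdAff
import Cfsg.Agent.Lib.Helper14.NaturalSL2
import Cfsg.Agent.Lib.Helper14.Basic

/-!
# The affine group `F² ⋊ SL₂(F)`: `O_p` and the natural module (helper14)
-/

set_option autoImplicit false

namespace Cfsg.Agent.Helper14.Qd

open scoped Matrix
open Cfsg.Agent.S2761 Cfsg.Agent.Helper14.SL2Vec Cfsg.Agent.Helper14.NatSL2

section field

variable {F : Type*} [Field F]

/-- the upper transvection -/
def upperT (F : Type*) [Field F] : Matrix.SpecialLinearGroup (Fin 2) F :=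
  ⟨!![1, 1; 0, 1], by rw [Matrix.det_fin_two_of]; ring⟩

/-- the lower transvection -/
def lowerT (F : Type*) [Field F] : Matrix.SpecialLinearGroup (Fin 2) F :=
  ⟨!![1, 0; 1, 1], by rw [Matrix.det_fin_two_of]; ring⟩

theorem dt_upperT (v : Fin 2 → F) :
    dt v ((upperT F : Matrix (Fin 2) (Fin 2) F) *ᵥ v) = -(v 1 * v 1) := by
  unfold dt upperT
  simp [Matrix.mulVec, dotProduct, Fin.sum_univ_two]
  ring

theorem dt_lowerT (v : Fin 2 → F) :
    dt v ((lowerT F : Matrix (Fin 2) (Fin 2) F) *ᵥ v) = v 0 * v 0 := by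
  unfold dt lowerT
  simp [Matrix.mulVec, dotProduct, Fin.sum_univ_two]
  ring

/-- every nonzero vector is moved off its line by some element of `SL₂` -/
theorem exists_dt_mulVec_ne_zero {v : Fin 2 → F} (hv : v ≠ 0) :
    ∃ g : Matrix.SpecialLinearGroup (Fin 2) F, dt v ((g : Matrix (Fin 2) (Fin 2) F) *ᵥ v) ≠ 0 := by
  by_cases h0 : v 0 = 0
  · have h1 : v 1 ≠ 0 := by
      intro h1
      apply hv
      ext i; fin_cases i <;> simp [h0, h1]
    refine ⟨upperT F, ?_⟩
    rw [dt_upperT]
    exact neg_ne_zero.mpr (mul_ne_zero h1 h1)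
  · refine ⟨lowerT F, ?_⟩
    rw [dt_lowerT]
    exact mul_ne_zero h0 h0

end field

section finite

variable {F : Type*} [Field F] [Fintype F] {p : ℕ} [Fact p.Prime] [CharP F p]

/-- `O_p(SL₂(F)) = 1` -/
theorem eq_bot_of_normal_of_isPGroup (N : Subgroup (Matrix.SpecialLinearGroup (Fin 2) F))
    (hN : N.Normal) (hp : IsPGroup p N) : N = ⊥ := by
  have hpp : p.Prime := Fact.out
  letI : MulAction (Matrix.SpecialLinearGroup (Fin 2) F) (Fin 2 → F) := vecAction F
  letI : MulAction ↥N (Fin 2 → F) := MulAction.compHom (Fin 2 → F) N.subtype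
  have hcard : p ∣ Nat.card (Fin 2 → F) := by
    obtain ⟨n, hn, hFn⟩ := FiniteField.card F p
    rw [Nat.card_eq_fintype_card, Fintype.card_fun, Fintype.card_fin, hFn]
    have : 0 < (n : ℕ) := n.pos
    exact dvd_pow (dvd_pow_self p (by omega)) (by norm_num)
  have h0 : (0 : Fin 2 → F) ∈ MulAction.fixedPoints ↥N (Fin 2 → F) := by
    intro s
    show ((s : Matrix.SpecialLinearGroup (Fin 2) F) : Matrix (Fin 2) (Fin 2) F) *ᵥ 0 = 0
    exact Matrix.mulVec_zero _
  obtain ⟨v, hv, hv0⟩ := hp.exists_fixed_point_of_prime_dvd_card_of_fixed_point (Fin 2 → F) hcard h0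
  have hvne : v ≠ 0 := fun h => hv0 h.symm
  have hfix : ∀ s ∈ N, ((s : Matrix.SpecialLinearGroup (Fin 2) F) : Matrix (Fin 2) (Fin 2) F) *ᵥ v = v :=
    fun s hs => hv ⟨s, hs⟩
  obtain ⟨g, hg⟩ := exists_dt_mulVec_ne_zero hvne
  rw [eq_bot_iff]
  intro s hs
  rw [Subgroup.mem_bot]
  apply eq_one_of_fix hg (hfix s hs)
  have h1 : g⁻¹ * s * g ∈ N := by
    have := hN.conj_mem s hs g⁻¹
    rwa [inv_inv] at this
  have h2 := hfix _ h1
  have h3 : s * g = g * (g⁻¹ * s * g) := by group
  rw [Matrix.mulVec_mulVec, ← Matrix.SpecialLinearGroup.coe_mul, h3,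
    Matrix.SpecialLinearGroup.coe_mul, ← Matrix.mulVec_mulVec, h2]

/-- the translation subgroup is a `p`-group -/
theorem isPGroup_transSubgroup : IsPGroup p ↥(transSubgroup F) := by
  intro g
  refine ⟨1, ?_⟩
  obtain ⟨u, hu⟩ := (mem_transSubgroup_iff_exists g.1).mp g.2
  apply Subtype.ext
  rw [pow_one, Subgroup.coe_pow, hu, trans_pow]
  have : p • u = 0 := by
    ext i
    simp [CharP.cast_eq_zero F p]
  rw [this, trans_zero]
  rfl

/-- `O_p` of the affine group is the translation subgroup -/
theorem pCore_eq_transSubgroup : Cfsg.pCore p ↥(affSubgroup F) = transSubgroup F := by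
  apply le_antisymm
  · set P := Cfsg.pCore p ↥(affSubgroup F) with hP
    have hPn : P.Normal := Subgroup.sSup_normal _ (fun _ h => h.1)
    have h1 : (P.map (proj F)).Normal := hPn.map _ proj_surjective
    have h2 : IsPGroup p ↥(P.map (proj F)) := (pCore_isPGroup p _).map _
    have h3 := eq_bot_of_normal_of_isPGroup _ h1 h2
    intro x hx
    unfold transSubgroup
    rw [MonoidHom.mem_ker]
    have : proj F x ∈ P.map (proj F) := Subgroup.mem_map_of_mem _ hx
    rwa [h3, Subgroup.mem_bot] at this
  · exact le_pCore transSubgroup_normal isPGroup_transSubgroup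

end finite

section natural

variable {F : Type*} [Field F]

/-- the translations as an additive isomorphism -/
noncomputable def transEquiv (F : Type*) [Field F] :
    (Fin 2 → F) ≃+ Additive ↥(transSubgroup F) :=
  AddEquiv.ofBijective
    ({ toFun := fun u => Additive.ofMul (⟨trans u, trans_mem u⟩ : ↥(transSubgroup F))
       map_zero' := by
         show Additive.ofMul (⟨trans (0 : Fin 2 → F), trans_mem 0⟩ : ↥(transSubgroup F)) = 0
         rw [← ofMul_one]
         congr 1
         exact Subtype.ext trans_zero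
       map_add' := fun u v => by
         show Additive.ofMul (⟨trans (u + v), trans_mem (u + v)⟩ : ↥(transSubgroup F)) =
           Additive.ofMul (⟨trans u, trans_mem u⟩ : ↥(transSubgroup F)) +
           Additive.ofMul (⟨trans v, trans_mem v⟩ : ↥(transSubgroup F))
         rw [← ofMul_mul]
         congr 1
         exact Subtype.ext (trans_mul u v).symm } : (Fin 2 → F) →+ Additive ↥(transSubgroup F))
    (by
      constructor
      · intro u v h
        have h1 : (⟨trans u, trans_mem u⟩ : ↥(transSubgroup F)) = ⟨trans v, trans_mem v⟩ :=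
          Additive.ofMul.injective h
        exact trans_injective (congrArg Subtype.val h1)
      · intro x
        obtain ⟨u, hu⟩ := (mem_transSubgroup_iff_exists (Additive.toMul x).1).mp (Additive.toMul x).2
        refine ⟨u, ?_⟩
        show Additive.ofMul (⟨trans u, trans_mem u⟩ : ↥(transSubgroup F)) = x
        rw [← ofMul_toMul x]
        congr 1
        exact Subtype.ext hu.symm)

theorem transEquiv_apply (u : Fin 2 → F) :
    transEquiv F u = Additive.ofMul (⟨trans u, trans_mem u⟩ : ↥(transSubgroup F)) := rfl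

theorem transEquiv_symm_trans (u : Fin 2 → F) :
    (transEquiv F).symm (Additive.ofMul (⟨trans u, trans_mem u⟩ : ↥(transSubgroup F))) = u := by
  rw [← transEquiv_apply, AddEquiv.symm_apply_apply]

/-- the affine group is a natural module situation -/
theorem isNaturalSL2Module : Cfsg.IsNaturalSL2Module F (transSubgroup F) (linSubgroup F) := by
  haveI := transSubgroup_normal (R := F)
  refine ⟨?_, (proj F).comp (linSubgroup F).subtype, (transEquiv F).symm, ?_, ?_, ?_⟩
  · rw [Subgroup.normalizer_eq_top]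
    exact le_top
  · intro B
    exact ⟨⟨linHom F B, ⟨B, rfl⟩⟩, proj_linHom B⟩
  · have h1 : ((proj F).comp (linSubgroup F).subtype).ker = ⊥ := by
      rw [eq_bot_iff]
      rintro ⟨_, ⟨B, rfl⟩⟩ h
      rw [MonoidHom.mem_ker] at h
      have h2 : proj F (linHom F B) = 1 := h
      rw [proj_linHom] at h2
      rw [Subgroup.mem_bot]
      apply Subtype.ext
      show linHom F B = 1
      rw [h2, map_one]
    have h2 : (Subgroup.centralizer (transSubgroup F : Set ↥(affSubgroup F))).subgroupOf
        (linSubgroup F) = ⊥ := by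
      rw [eq_bot_iff]
      rintro ⟨_, ⟨B, rfl⟩⟩ h
      rw [Subgroup.mem_subgroupOf, Subgroup.mem_centralizer_iff] at h
      have hB : ∀ u : Fin 2 → F, (B : Matrix (Fin 2) (Fin 2) F) *ᵥ u = u := by
        intro u
        have h3 := h (trans u) (trans_mem u)
        have h4 : trans u * linHom F B = linHom F B * trans u := h3
        rw [linHom_mul_trans] at h4
        exact (trans_injective (mul_right_cancel h4)).symm
      have hB1 : B = 1 := by
        apply Subtype.ext
        ext i j
        have := congrFun (hB (Pi.single j 1)) i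
        rw [Matrix.mulVec_single_one] at this
        simpa [Matrix.one_apply, Pi.single_apply, eq_comm] using this
      rw [Subgroup.mem_bot]
      apply Subtype.ext
      show linHom F B = 1
      rw [hB1, map_one]
    rw [h1, h2]
  · rintro ⟨_, ⟨B, rfl⟩⟩ ⟨v, hv⟩
    obtain ⟨u, rfl⟩ := (mem_transSubgroup_iff_exists v).mp hv
    refine ⟨⟨trans ((B : Matrix (Fin 2) (Fin 2) F) *ᵥ u), trans_mem _⟩, ?_, ?_⟩
    · exact (conj_trans B u).symm
    · rw [transEquiv_symm_trans, transEquiv_symm_trans]
      show _ = ((proj F (linHom F B) : Matrix.SpecialLinearGroup (Fin 2) F) :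
        Matrix (Fin 2) (Fin 2) F) *ᵥ u
      rw [proj_linHom]

end natural

end Cfsg.Agent.Helper14.Qd
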