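import Mathlib
import Cfsg.Agent.Lib.Helper14.QdAff2
import Cfsg.Agent.S2780

/-!
# Sylow `p`-subgroups of the affine group `F² ⋊ SL₂(F)` (helper14)
-/

set_option autoImplicit false

namespace Cfsg.Agent.Helper14.Qd

open scoped Matrix
open Cfsg.Agent.S2761 Cfsg.Agent.Helper14.SL2Vec Cfsg.Agent.Helper14.NatSL2
open Cfsg.Agent.S2780 (inv_mulVec_mulVec mulVec_inv_mulVec inv_scale dt_smul_left)

section field

variable {F : Type*} [Field F]

/-- the transvection `w ↦ w + c * dt v w • v` -/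
def transv (v : Fin 2 → F) (c : F) : Matrix.SpecialLinearGroup (Fin 2) F :=
  ⟨!![1 - c * v 0 * v 1, c * v 0 * v 0; -(c * v 1 * v 1), 1 + c * v 0 * v 1], by
    rw [Matrix.det_fin_two_of]; ring⟩

theorem transv_mulVec (v w : Fin 2 → F) (c : F) :
    (transv v c : Matrix (Fin 2) (Fin 2) F) *ᵥ w = w + (c * dt v w) • v := by
  ext i
  fin_cases i
  · simp [transv, dt, Matrix.mulVec, dotProduct, Fin.sum_univ_two]
    ring
  · simp [transv, dt, Matrix.mulVec, dotProduct, Fin.sum_univ_two]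
    ring

theorem transv_mulVec_self (v : Fin 2 → F) (c : F) :
    (transv v c : Matrix (Fin 2) (Fin 2) F) *ᵥ v = v := by
  rw [transv_mulVec, dt_self, mul_zero, zero_smul, add_zero]

theorem transv_mul {v w₀ : Fin 2 → F} (hd : dt v w₀ = 1) (c c' : F) :
    transv v c * transv v c' = transv v (c + c') := by
  have hd' : dt v w₀ ≠ 0 := by rw [hd]; exact one_ne_zero
  apply eq_of_mulVec_eq hd'
  · rw [Matrix.SpecialLinearGroup.coe_mul, ← Matrix.mulVec_mulVec, transv_mulVec_self,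
      transv_mulVec_self, transv_mulVec_self]
  · have h1 : (transv v c' : Matrix (Fin 2) (Fin 2) F) *ᵥ w₀ = w₀ + c' • v := by
      rw [transv_mulVec, hd, mul_one]
    have h2 : (transv v c : Matrix (Fin 2) (Fin 2) F) *ᵥ w₀ = w₀ + c • v := by
      rw [transv_mulVec, hd, mul_one]
    have h3 : (transv v (c + c') : Matrix (Fin 2) (Fin 2) F) *ᵥ w₀ = w₀ + (c + c') • v := by
      rw [transv_mulVec, hd, mul_one]
    rw [Matrix.SpecialLinearGroup.coe_mul, ← Matrix.mulVec_mulVec, h1, Matrix.mulVec_add,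
      Matrix.mulVec_smul, transv_mulVec_self, h2, h3, add_assoc, ← add_smul]

theorem transv_eq_of_fix {v w₀ : Fin 2 → F} (hd : dt v w₀ = 1)
    {B : Matrix.SpecialLinearGroup (Fin 2) F}
    (hB : (B : Matrix (Fin 2) (Fin 2) F) *ᵥ v = v) :
    B = transv v (dt ((B : Matrix (Fin 2) (Fin 2) F) *ᵥ w₀) w₀) := by
  have hd' : dt v w₀ ≠ 0 := by rw [hd]; exact one_ne_zero
  have hv : v ≠ 0 := by
    rintro rfl
    apply hd'
    unfold dt
    simp
  apply eq_of_mulVec_eq hd'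
  · rw [hB, transv_mulVec_self]
  · rw [transv_mulVec, hd, mul_one]
    obtain ⟨c, hc⟩ := exists_smul_of_fix hv hB w₀
    have h1 : (B : Matrix (Fin 2) (Fin 2) F) *ᵥ w₀ = w₀ + c • v := by rw [← hc]; abel
    rw [h1]
    congr 2
    unfold dt at hd ⊢
    simp only [Pi.add_apply, Pi.smul_apply, smul_eq_mul]
    linear_combination (-c) * hd

/-- the stabilizer of a vector under the linear part -/
def stab (v : Fin 2 → F) : Subgroup ↥(affSubgroup F) where
  carrier := {x | ((proj F x : Matrix.SpecialLinearGroup (Fin 2) F) : Matrix (Fin 2) (Fin 2) F) *ᵥ v = v}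
  one_mem' := by
    show ((proj F 1 : Matrix.SpecialLinearGroup (Fin 2) F) : Matrix (Fin 2) (Fin 2) F) *ᵥ v = v
    rw [map_one, Matrix.SpecialLinearGroup.coe_one, Matrix.one_mulVec]
  mul_mem' := by
    intro x y hx hy
    show ((proj F (x * y) : Matrix.SpecialLinearGroup (Fin 2) F) : Matrix (Fin 2) (Fin 2) F) *ᵥ v = v
    rw [map_mul, Matrix.SpecialLinearGroup.coe_mul, ← Matrix.mulVec_mulVec]
    have hx' : ((proj F x : Matrix.SpecialLinearGroup (Fin 2) F) : Matrix (Fin 2) (Fin 2) F) *ᵥ v = v := hx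
    have hy' : ((proj F y : Matrix.SpecialLinearGroup (Fin 2) F) : Matrix (Fin 2) (Fin 2) F) *ᵥ v = v := hy
    rw [hy', hx']
  inv_mem' := by
    intro x hx
    show ((proj F x⁻¹ : Matrix.SpecialLinearGroup (Fin 2) F) : Matrix (Fin 2) (Fin 2) F) *ᵥ v = v
    have hx' : ((proj F x : Matrix.SpecialLinearGroup (Fin 2) F) : Matrix (Fin 2) (Fin 2) F) *ᵥ v = v := hx
    rw [map_inv]
    have := inv_mulVec_mulVec (proj F x) v
    rw [hx'] at this
    exact this

theorem mem_stab_iff (v : Fin 2 → F) (x : ↥(affSubgroup F)) :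
    x ∈ stab v ↔
      ((proj F x : Matrix.SpecialLinearGroup (Fin 2) F) : Matrix (Fin 2) (Fin 2) F) *ᵥ v = v :=
  Iff.rfl

theorem transSubgroup_le_stab (v : Fin 2 → F) : transSubgroup F ≤ stab v := by
  intro x hx
  unfold transSubgroup at hx
  rw [MonoidHom.mem_ker] at hx
  rw [mem_stab_iff, hx, Matrix.SpecialLinearGroup.coe_one, Matrix.one_mulVec]

/-- conjugation of a translation -/
theorem conj_trans_gen (g : ↥(affSubgroup F)) (u : Fin 2 → F) :
    g * trans u * g⁻¹ =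
      trans (((proj F g : Matrix.SpecialLinearGroup (Fin 2) F) : Matrix (Fin 2) (Fin 2) F) *ᵥ u) := by
  have h1 := eq_aff g
  rw [aff_eq_trans_mul] at h1
  set w := ![(g.1 : Matrix (Fin 3) (Fin 3) F) 0 2, (g.1 : Matrix (Fin 3) (Fin 3) F) 1 2] with hw
  set B := proj F g with hB
  calc g * trans u * g⁻¹ = (trans w * linHom F B) * trans u * (trans w * linHom F B)⁻¹ := by rw [← h1]
    _ = trans w * (linHom F B * trans u * (linHom F B)⁻¹) * (trans w)⁻¹ := by group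
    _ = trans ((B : Matrix (Fin 2) (Fin 2) F) *ᵥ u) := by
        rw [conj_trans, trans_inv, trans_mul, trans_mul]
        congr 1
        abel

theorem centralizer_transSubgroup_le :
    Subgroup.centralizer (transSubgroup F : Set ↥(affSubgroup F)) ≤ transSubgroup F := by
  intro g hg
  rw [Subgroup.mem_centralizer_iff] at hg
  have hB : ∀ u : Fin 2 → F,
      ((proj F g : Matrix.SpecialLinearGroup (Fin 2) F) : Matrix (Fin 2) (Fin 2) F) *ᵥ u = u := by
    intro u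
    have h3 := hg (trans u) (trans_mem u)
    have h4 : g * trans u * g⁻¹ = trans u := by rw [← h3]; group
    rw [conj_trans_gen] at h4
    exact trans_injective h4
  unfold transSubgroup
  rw [MonoidHom.mem_ker]
  apply Subtype.ext
  ext i j
  have := congrFun (hB (Pi.single j 1)) i
  rw [Matrix.mulVec_single_one] at this
  simpa [Matrix.one_apply, Pi.single_apply, eq_comm] using this

/-- elements whose linear part scales `v₀` normalize the stabilizer -/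
theorem mem_normalizer_stab_of_scale {v₀ : Fin 2 → F} (hv₀ : v₀ ≠ 0) {g : ↥(affSubgroup F)} {c : F}
    (h : ((proj F g : Matrix.SpecialLinearGroup (Fin 2) F) : Matrix (Fin 2) (Fin 2) F) *ᵥ v₀ = c • v₀) :
    g ∈ Subgroup.normalizer (stab v₀ : Set ↥(affSubgroup F)) := by
  obtain ⟨hc, hinv⟩ := inv_scale hv₀ h
  have key : ∀ (g : ↥(affSubgroup F)) (c : F), c ≠ 0 →
      ((proj F g : Matrix.SpecialLinearGroup (Fin 2) F) : Matrix (Fin 2) (Fin 2) F) *ᵥ v₀ = c • v₀ →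
      ((proj F g⁻¹ : Matrix.SpecialLinearGroup (Fin 2) F) : Matrix (Fin 2) (Fin 2) F) *ᵥ v₀ = c⁻¹ • v₀ →
      ∀ x ∈ stab v₀, g * x * g⁻¹ ∈ stab v₀ := by
    intro g c hc h hinv x hx
    rw [mem_stab_iff] at hx ⊢
    rw [map_mul, map_mul, Matrix.SpecialLinearGroup.coe_mul, Matrix.SpecialLinearGroup.coe_mul,
      ← Matrix.mulVec_mulVec, ← Matrix.mulVec_mulVec, hinv, Matrix.mulVec_smul, hx,
      Matrix.mulVec_smul, h, smul_smul, inv_mul_cancel₀ hc, one_smul]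
  rw [← map_inv] at hinv
  rw [Subgroup.mem_normalizer_iff]
  intro x
  constructor
  · exact key g c hc h hinv x
  · intro hx
    have h2 : ((proj F g⁻¹⁻¹ : Matrix.SpecialLinearGroup (Fin 2) F) : Matrix (Fin 2) (Fin 2) F) *ᵥ v₀
        = c⁻¹⁻¹ • v₀ := by rw [inv_inv, inv_inv]; exact h
    have := key g⁻¹ c⁻¹ (inv_ne_zero hc) hinv h2 _ hx
    have e : g⁻¹ * (g * x * g⁻¹) * g⁻¹⁻¹ = x := by group
    rwa [e] at this

end field

section finite

variable {F : Type*} [Field F] [Fintype F] {p : ℕ} [Fact p.Prime] [CharP F p]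

/-- a `p`-subgroup of `SL₂(F)` fixes a nonzero vector -/
theorem exists_fixed_vector_of_isPGroup (N : Subgroup (Matrix.SpecialLinearGroup (Fin 2) F))
    (hp : IsPGroup p N) : ∃ v : Fin 2 → F, v ≠ 0 ∧ ∀ s ∈ N,
      ((s : Matrix.SpecialLinearGroup (Fin 2) F) : Matrix (Fin 2) (Fin 2) F) *ᵥ v = v := by
  have hpp : p.Prime := Fact.out
  letI : MulAction (Matrix.SpecialLinearGroup (Fin 2) F) (Fin 2 → F) := vecAction F
  letI : MulAction ↥N (Fin 2 → F) := MulAction.compHom (Fin 2 → F) N.subtype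
  have hcard : p ∣ Nat.card (Fin 2 → F) := by
    obtain ⟨n, hn, hFn⟩ := FiniteField.card F p
    rw [Nat.card_eq_fintype_card, Fintype.card_fun, Fintype.card_fin, hFn]
    have : 0 < (n : ℕ) := n.pos
    exact dvd_pow (dvd_pow_self p (by omega)) (by norm_num)
  have h0 : (0 : Fin 2 → F) ∈ MulAction.fixedPoints ↥N (Fin 2 → F) := by
    intro s
    show ((s : Matrix.SpecialLinearGroup (Fin 2) F) : Matrix (Fin 2) (Fin 2) F) *ᵥ 0 = 0
    exact Matrix.mulVec_zero _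
  obtain ⟨v, hv, hv0⟩ := hp.exists_fixed_point_of_prime_dvd_card_of_fixed_point (Fin 2 → F) hcard h0
  exact ⟨v, fun h => hv0 h.symm, fun s hs => hv ⟨s, hs⟩⟩

omit [Fintype F] [Fact p.Prime] in
/-- an element of `SL₂(F)` fixing a nonzero vector has `p`-th power one -/
theorem pow_char_eq_one_of_fix {v : Fin 2 → F} (hv : v ≠ 0)
    {B : Matrix.SpecialLinearGroup (Fin 2) F}
    (hB : (B : Matrix (Fin 2) (Fin 2) F) *ᵥ v = v) : B ^ p = 1 := by
  obtain ⟨w₀, hw₀⟩ := exists_dt_eq_one hv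
  have hd : dt v w₀ ≠ 0 := by rw [hw₀]; exact one_ne_zero
  obtain ⟨c, hc⟩ := exists_smul_of_fix hv hB w₀
  have h0 : (B : Matrix (Fin 2) (Fin 2) F) *ᵥ v - v = (0 : F) • v := by
    rw [hB, sub_self, zero_smul]
  apply eq_one_of_fix hd
  · rw [pow_mulVec_of_fix hB h0, mul_zero, zero_smul, add_zero]
  · rw [pow_mulVec_of_fix hB hc, CharP.cast_eq_zero F p, zero_mul, zero_smul, add_zero]

omit [Fintype F] in
/-- the stabilizer of a nonzero vector is a `p`-group -/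
theorem isPGroup_stab {v : Fin 2 → F} (hv : v ≠ 0) : IsPGroup p ↥(stab v) := by
  intro x
  refine ⟨2, ?_⟩
  have hx : ((proj F x.1 : Matrix.SpecialLinearGroup (Fin 2) F) : Matrix (Fin 2) (Fin 2) F) *ᵥ v = v := x.2
  have h1 : proj F (x.1 ^ p) = 1 := by
    rw [map_pow]
    exact pow_char_eq_one_of_fix hv hx
  have h2 : x.1 ^ p ∈ transSubgroup F := by
    unfold transSubgroup
    rw [MonoidHom.mem_ker]; exact h1
  obtain ⟨u, hu⟩ := (mem_transSubgroup_iff_exists _).mp h2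
  apply Subtype.ext
  rw [Subgroup.coe_pow, pow_two, pow_mul, hu, trans_pow]
  have : p • u = 0 := by
    ext i
    simp [CharP.cast_eq_zero F p]
  rw [this, trans_zero]
  rfl

/-- every Sylow `p`-subgroup of the affine group is a vector stabilizer -/
theorem sylow_eq_stab (S : Sylow p ↥(affSubgroup F)) :
    ∃ v₀ : Fin 2 → F, v₀ ≠ 0 ∧ (S : Subgroup ↥(affSubgroup F)) = stab v₀ := by
  obtain ⟨v₀, hv₀, hfix⟩ := exists_fixed_vector_of_isPGroup
    ((S : Subgroup ↥(affSubgroup F)).map (proj F)) (S.2.map _)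
  refine ⟨v₀, hv₀, ?_⟩
  have hle : (S : Subgroup ↥(affSubgroup F)) ≤ stab v₀ := by
    intro x hx
    rw [mem_stab_iff]
    exact hfix _ (Subgroup.mem_map_of_mem _ hx)
  exact (S.is_maximal' (isPGroup_stab hv₀) hle).symm

end finite

section heis

variable {F : Type*} [Field F] {v₀ w₀ : Fin 2 → F}

theorem dt_lin_right (v₀ w₀ : Fin 2 → F) (a b : F) : dt v₀ (a • v₀ + b • w₀) = b * dt v₀ w₀ := by
  unfold dt
  simp only [Pi.add_apply, Pi.smul_apply, smul_eq_mul]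
  ring

theorem dt_lin_left (v₀ w₀ : Fin 2 → F) (a b : F) : dt (a • v₀ + b • w₀) w₀ = a * dt v₀ w₀ := by
  unfold dt
  simp only [Pi.add_apply, Pi.smul_apply, smul_eq_mul]
  ring

/-- Heisenberg coordinates on the stabilizer of `v₀` -/
def hmk (v₀ w₀ : Fin 2 → F) (c b a : F) : ↥(affSubgroup F) :=
  aff (transv v₀ c) (a • v₀ + b • w₀)

theorem hmk_mem_stab (c b a : F) : hmk v₀ w₀ c b a ∈ stab v₀ := by
  rw [mem_stab_iff]
  unfold hmk
  rw [proj_aff, transv_mulVec_self]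

theorem hmk_mul (hd : dt v₀ w₀ = 1) (c b a c' b' a' : F) :
    hmk v₀ w₀ c b a * hmk v₀ w₀ c' b' a' = hmk v₀ w₀ (c + c') (b + b') (a + a' + c * b') := by
  unfold hmk
  rw [aff_mul, transv_mul hd]
  congr 1
  rw [Matrix.mulVec_add, Matrix.mulVec_smul, Matrix.mulVec_smul, transv_mulVec_self,
    transv_mulVec, hd, mul_one]
  module

/-- the coordinates -/
def cC (w₀ : Fin 2 → F) (x : ↥(affSubgroup F)) : F :=
  dt (((proj F x : Matrix.SpecialLinearGroup (Fin 2) F) : Matrix (Fin 2) (Fin 2) F) *ᵥ w₀) w₀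

def cB (v₀ : Fin 2 → F) (x : ↥(affSubgroup F)) : F :=
  dt v₀ ![(x.1 : Matrix (Fin 3) (Fin 3) F) 0 2, (x.1 : Matrix (Fin 3) (Fin 3) F) 1 2]

def cA (w₀ : Fin 2 → F) (x : ↥(affSubgroup F)) : F :=
  dt ![(x.1 : Matrix (Fin 3) (Fin 3) F) 0 2, (x.1 : Matrix (Fin 3) (Fin 3) F) 1 2] w₀

theorem eq_hmk_coords (hd : dt v₀ w₀ = 1) {x : ↥(affSubgroup F)} (hx : x ∈ stab v₀) :
    x = hmk v₀ w₀ (cC w₀ x) (cB v₀ x) (cA w₀ x) := by
  have h1 := eq_aff x
  have hB := transv_eq_of_fix hd ((mem_stab_iff v₀ x).mp hx)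
  have hcr := cramer v₀ w₀ ![(x.1 : Matrix (Fin 3) (Fin 3) F) 0 2, (x.1 : Matrix (Fin 3) (Fin 3) F) 1 2]
  rw [hd, one_smul] at hcr
  unfold hmk cC cB cA
  rw [← hB, ← hcr]
  exact h1

theorem hmk_injective (hd : dt v₀ w₀ = 1) {c b a c' b' a' : F}
    (h : hmk v₀ w₀ c b a = hmk v₀ w₀ c' b' a') : c = c' ∧ b = b' ∧ a = a' := by
  unfold hmk at h
  obtain ⟨h1, h2⟩ := aff_injective h
  refine ⟨?_, ?_, ?_⟩
  · have h3 := congrArg (fun B : Matrix.SpecialLinearGroup (Fin 2) F =>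
      dt ((B : Matrix (Fin 2) (Fin 2) F) *ᵥ w₀) w₀) h1
    simp only [transv_mulVec, hd, mul_one] at h3
    have e : ∀ c : F, dt (w₀ + c • v₀) w₀ = c := by
      intro c
      have := dt_lin_left v₀ w₀ c 1
      rw [hd, mul_one, one_smul, add_comm] at this
      exact this
    rwa [e, e] at h3
  · have h3 := congrArg (fun u => dt v₀ u) h2
    simp only [dt_lin_right, hd, mul_one] at h3
    exact h3
  · have h3 := congrArg (fun u => dt u w₀) h2
    simp only [dt_lin_left, hd, mul_one] at h3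
    exact h3

theorem hmk_mem_transSubgroup_iff (hd : dt v₀ w₀ = 1) (c b a : F) :
    hmk v₀ w₀ c b a ∈ transSubgroup F ↔ c = 0 := by
  unfold transSubgroup hmk
  rw [MonoidHom.mem_ker, proj_aff]
  constructor
  · intro h
    have h3 := congrArg (fun B : Matrix.SpecialLinearGroup (Fin 2) F =>
      dt ((B : Matrix (Fin 2) (Fin 2) F) *ᵥ w₀) w₀) h
    simp only [transv_mulVec, hd, mul_one, Matrix.SpecialLinearGroup.coe_one, Matrix.one_mulVec,
      dt_self] at h3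
    have := dt_lin_left v₀ w₀ c 1
    rw [hd, mul_one, one_smul, add_comm] at this
    rw [this] at h3
    exact h3
  · rintro rfl
    have hd' : dt v₀ w₀ ≠ 0 := by rw [hd]; exact one_ne_zero
    apply eq_one_of_fix hd'
    · exact transv_mulVec_self _ _
    · rw [transv_mulVec, zero_mul, zero_smul, add_zero]

/-- the flip `(c, b, a) ↦ (b, c, c b - a)` -/
def flipFun (v₀ w₀ : Fin 2 → F) (x : ↥(stab v₀)) : ↥(stab v₀) :=
  ⟨hmk v₀ w₀ (cB v₀ x.1) (cC w₀ x.1) (cC w₀ x.1 * cB v₀ x.1 - cA w₀ x.1), hmk_mem_stab _ _ _⟩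

theorem flipFun_hmk (hd : dt v₀ w₀ = 1) (c b a : F) :
    flipFun v₀ w₀ ⟨hmk v₀ w₀ c b a, hmk_mem_stab c b a⟩ =
      ⟨hmk v₀ w₀ b c (c * b - a), hmk_mem_stab _ _ _⟩ := by
  have h1 := eq_hmk_coords hd (hmk_mem_stab (v₀ := v₀) (w₀ := w₀) c b a)
  obtain ⟨hc, hb, ha⟩ := hmk_injective hd h1
  unfold flipFun
  apply Subtype.ext
  show hmk v₀ w₀ (cB v₀ (hmk v₀ w₀ c b a)) (cC w₀ (hmk v₀ w₀ c b a))
    (cC w₀ (hmk v₀ w₀ c b a) * cB v₀ (hmk v₀ w₀ c b a) - cA w₀ (hmk v₀ w₀ c b a)) = _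
  rw [← hc, ← hb, ← ha]

theorem flipFun_flipFun (hd : dt v₀ w₀ = 1) (x : ↥(stab v₀)) :
    flipFun v₀ w₀ (flipFun v₀ w₀ x) = x := by
  have h1 := eq_hmk_coords hd x.2
  have hx : x = ⟨hmk v₀ w₀ (cC w₀ x.1) (cB v₀ x.1) (cA w₀ x.1), hmk_mem_stab _ _ _⟩ :=
    Subtype.ext h1
  rw [hx, flipFun_hmk hd, flipFun_hmk hd]
  apply Subtype.ext
  show hmk v₀ w₀ _ _ _ = hmk v₀ w₀ _ _ _
  congr 1
  ring

theorem flipFun_mul (hd : dt v₀ w₀ = 1) (x y : ↥(stab v₀)) :
    flipFun v₀ w₀ (x * y) = flipFun v₀ w₀ x * flipFun v₀ w₀ y := by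
  have hx : x = ⟨hmk v₀ w₀ (cC w₀ x.1) (cB v₀ x.1) (cA w₀ x.1), hmk_mem_stab _ _ _⟩ :=
    Subtype.ext (eq_hmk_coords hd x.2)
  have hy : y = ⟨hmk v₀ w₀ (cC w₀ y.1) (cB v₀ y.1) (cA w₀ y.1), hmk_mem_stab _ _ _⟩ :=
    Subtype.ext (eq_hmk_coords hd y.2)
  set c := cC w₀ x.1
  set b := cB v₀ x.1
  set a := cA w₀ x.1
  set c' := cC w₀ y.1
  set b' := cB v₀ y.1
  set a' := cA w₀ y.1
  have hxy : x * y = ⟨hmk v₀ w₀ (c + c') (b + b') (a + a' + c * b'), hmk_mem_stab _ _ _⟩ := by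
    rw [hx, hy]
    apply Subtype.ext
    exact hmk_mul hd c b a c' b' a'
  rw [hxy, flipFun_hmk hd, hx, hy, flipFun_hmk hd, flipFun_hmk hd]
  apply Subtype.ext
  show hmk v₀ w₀ _ _ _ = hmk v₀ w₀ _ _ _ * hmk v₀ w₀ _ _ _
  rw [hmk_mul hd]
  congr 1
  ring

/-- the flip automorphism of the stabilizer -/
def flip (hd : dt v₀ w₀ = 1) : ↥(stab v₀) ≃* ↥(stab v₀) where
  toFun := flipFun v₀ w₀
  invFun := flipFun v₀ w₀
  left_inv := flipFun_flipFun hd
  right_inv := flipFun_flipFun hd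
  map_mul' := flipFun_mul hd

/-- the translation subgroup is not characteristic in the stabilizer -/
theorem not_characteristic_transSubgroup (hv₀ : v₀ ≠ 0) :
    ¬ ((transSubgroup F).subgroupOf (stab v₀)).Characteristic := by
  intro hchar
  obtain ⟨w₀, hd⟩ := exists_dt_eq_one hv₀
  have h1 := Subgroup.characteristic_iff_map_eq.mp hchar (flip hd)
  have hx : (⟨hmk v₀ w₀ 0 1 0, hmk_mem_stab _ _ _⟩ : ↥(stab v₀)) ∈
      (transSubgroup F).subgroupOf (stab v₀) := by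
    rw [Subgroup.mem_subgroupOf]
    exact (hmk_mem_transSubgroup_iff hd 0 1 0).mpr rfl
  have h2 : flip hd ⟨hmk v₀ w₀ 0 1 0, hmk_mem_stab _ _ _⟩ ∈
      (transSubgroup F).subgroupOf (stab v₀) := by
    rw [← h1]
    exact Subgroup.mem_map_of_mem _ hx
  have h3 : flip hd ⟨hmk v₀ w₀ 0 1 0, hmk_mem_stab _ _ _⟩ =
      ⟨hmk v₀ w₀ 1 0 (0 * 1 - 0), hmk_mem_stab _ _ _⟩ := flipFun_hmk hd 0 1 0
  rw [h3, Subgroup.mem_subgroupOf] at h2
  have := (hmk_mem_transSubgroup_iff hd 1 0 (0 * 1 - 0)).mp h2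
  exact one_ne_zero this

end heis

end Cfsg.Agent.Helper14.Qd
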