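import Mathlib
import Cfsg.Prelude.Def_Transfer
import Cfsg.Agent.Lib.Helper25.StronglyEmbedded2

/-!
# Strongly p-embedded subgroups and commuting p-elements; extraspecial basics (helper14)
-/

set_option autoImplicit false

namespace Cfsg.Agent.Helper14.FusExtra

open Cfsg
open scoped commutatorElement

section SE

variable {X : Type*} [Group X] [Finite X]

theorem mem_of_mem_conj (p : ℕ) [Fact p.Prime] {H : Subgroup X} (R : Sylow p X)
    (hR : kGeneratedCore p 1 (R : Subgroup X) ≤ H) {x y r : X} (hr1 : r ≠ 1)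
    (hx : x⁻¹ * r * x ∈ (R : Subgroup X)) (hy : y⁻¹ * r * y ∈ (R : Subgroup X)) :
    x⁻¹ * y ∈ H := by
  apply Cfsg.Agent.Helper25.mem_of_inf_conjBy_ne_bot p (Cfsg.Agent.Helper25.isSylowIn_top_of_sylow R)
    (fun Q hQR hQ => Cfsg.Agent.Helper25.normalizer_le_of_kGeneratedCore_le p R hR hQR hQ)
  intro hbot
  have hmem : x⁻¹ * r * x ∈ (R : Subgroup X) ⊓ Cfsg.conjBy (R : Subgroup X) (x⁻¹ * y) := by
    refine ⟨hx, ?_⟩
    refine ⟨y⁻¹ * r * y, hy, ?_⟩
    show (x⁻¹ * y) * (y⁻¹ * r * y) * (x⁻¹ * y)⁻¹ = x⁻¹ * r * x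
    group
  rw [hbot, Subgroup.mem_bot] at hmem
  apply hr1
  have : r = x * (x⁻¹ * r * x) * x⁻¹ := by group
  rw [this, hmem]
  group

theorem mem_sylow_smul_iff (p : ℕ) (R : Sylow p X) (x t : X) :
    t ∈ ((x • R : Sylow p X) : Subgroup X) ↔ x⁻¹ * t * x ∈ (R : Subgroup X) := by
  rw [Sylow.coe_subgroup_smul, Subgroup.mem_pointwise_smul_iff_inv_smul_mem]
  simp [MulAut.smul_def]

theorem false_of_commuting (p : ℕ) [Fact p.Prime] {H : Subgroup X} (hH : IsStronglyPEmbedded p H)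
    (T : Subgroup X) (hT : IsPGroup p T)
    (h : ∀ g : X, ∃ t ∈ T, ∃ t' ∈ T, t ≠ 1 ∧ t' ≠ 1 ∧ Commute t (g * t' * g⁻¹)) : False := by
  obtain ⟨_, hne, R, hR⟩ := hH
  obtain ⟨R', hTR'⟩ := hT.exists_le_sylow
  obtain ⟨x, hx⟩ := MulAction.exists_smul_eq X R R'
  have hTx : ∀ t ∈ T, x⁻¹ * t * x ∈ (R : Subgroup X) := by
    intro t ht
    rw [← mem_sylow_smul_iff, hx]
    exact hTR' ht
  apply hne
  rw [eq_top_iff]
  intro g₀ _
  obtain ⟨t, ht, t', ht', ht1, ht'1, hc⟩ := h (x * g₀ * x⁻¹)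
  set g := x * g₀ * x⁻¹ with hg
  set u := g * t' * g⁻¹ with hu
  have hu1 : u ≠ 1 := by
    intro h1
    apply ht'1
    have : t' = g⁻¹ * u * g := by rw [hu]; group
    rw [this, h1]; group
  -- the p-group generated by t and u
  have htp : IsPGroup p (Subgroup.zpowers t) := hT.to_le (by
    rw [Subgroup.zpowers_le]; exact ht)
  have hup : IsPGroup p (Subgroup.zpowers u) := by
    have h1 : IsPGroup p (Subgroup.zpowers t') := hT.to_le (by
      rw [Subgroup.zpowers_le]; exact ht')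
    have h2 : Subgroup.zpowers u = (Subgroup.zpowers t').map (MulAut.conj g).toMonoidHom := by
      rw [MonoidHom.map_zpowers]
      rfl
    rw [h2]
    exact h1.map _
  have hnorm : Subgroup.zpowers t ≤ Subgroup.normalizer ((Subgroup.zpowers u : Subgroup X) : Set X) := by
    rw [Subgroup.zpowers_le]
    rw [Subgroup.mem_normalizer_iff]
    intro w
    have key : ∀ w, w ∈ Subgroup.zpowers u → t * w * t⁻¹ = w := by
      intro w hw
      obtain ⟨k, rfl⟩ := Subgroup.mem_zpowers_iff.mp hw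
      have := (hc.zpow_right k).eq
      rw [this]; group
    constructor
    · intro hw; rw [key w hw]; exact hw
    · intro hw
      have h4 := key _ hw
      have h5 : t * w * t⁻¹ = w := by
        have := congrArg (fun z => t⁻¹ * z * t) h4
        simpa [mul_assoc] using this
      rw [← h5]; exact hw
  have hAp : IsPGroup p ↥(Subgroup.zpowers t ⊔ Subgroup.zpowers u) :=
    htp.to_sup_of_normal_right' hup hnorm
  obtain ⟨R'', hAR''⟩ := hAp.exists_le_sylow
  obtain ⟨y, hy⟩ := MulAction.exists_smul_eq X R R''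
  have hAy : ∀ a ∈ Subgroup.zpowers t ⊔ Subgroup.zpowers u, y⁻¹ * a * y ∈ (R : Subgroup X) := by
    intro a ha
    rw [← mem_sylow_smul_iff, hy]
    exact hAR'' ha
  have h1 : x⁻¹ * y ∈ H := mem_of_mem_conj p R hR ht1 (hTx t ht)
    (hAy t (le_sup_left (a := Subgroup.zpowers t) (Subgroup.mem_zpowers t)))
  have h2 : y⁻¹ * (g * x) ∈ H := by
    refine mem_of_mem_conj p R hR hu1
      (hAy u (le_sup_right (b := Subgroup.zpowers u) (Subgroup.mem_zpowers u))) ?_
    have : (g * x)⁻¹ * u * (g * x) = x⁻¹ * t' * x := by rw [hu]; group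
    rw [this]
    exact hTx t' ht'
  have : g₀ = (x⁻¹ * y) * (y⁻¹ * (g * x)) := by rw [hg]; group
  rw [this]
  exact H.mul_mem h1 h2

end SE

section Extra

variable {Ω : Type*} [Group Ω]

/-- The centre of `Q` as a subgroup of the ambient group. -/
def zQ (Q : Subgroup Ω) : Subgroup Ω := (Subgroup.center ↥Q).map Q.subtype

theorem mem_zQ_iff {Q : Subgroup Ω} {z : Ω} :
    z ∈ zQ Q ↔ z ∈ Q ∧ ∀ q ∈ Q, q * z = z * q := by
  constructor
  · rintro ⟨w, hw, rfl⟩
    refine ⟨w.2, fun q hq => ?_⟩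
    have := Subgroup.mem_center_iff.mp hw ⟨q, hq⟩
    exact congrArg Subtype.val this
  · rintro ⟨hz, hc⟩
    refine ⟨⟨z, hz⟩, ?_, rfl⟩
    show (⟨z, hz⟩ : Q) ∈ Subgroup.center ↥Q
    rw [Subgroup.mem_center_iff]
    intro q
    exact Subtype.ext (hc q q.2)

theorem zQ_le (Q : Subgroup Ω) : zQ Q ≤ Q := fun _ h => (mem_zQ_iff.mp h).1

theorem zQ_comm {Q : Subgroup Ω} {z q : Ω} (hz : z ∈ zQ Q) (hq : q ∈ Q) : q * z = z * q :=
  (mem_zQ_iff.mp hz).2 q hq

theorem card_zQ {Q : Subgroup Ω} {p : ℕ} (hQ : IsExtraspecial p ↥Q) : Nat.card (zQ Q) = p := by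
  rw [← hQ.2]
  exact Nat.card_congr
    ((Subgroup.center ↥Q).equivMapOfInjective Q.subtype Q.subtype_injective).symm.toEquiv

theorem comm_mem_zQ {Q : Subgroup Ω} {p : ℕ} (hQ : IsExtraspecial p ↥Q) {a b : Ω} (ha : a ∈ Q)
    (hb : b ∈ Q) : a * b * a⁻¹ * b⁻¹ ∈ zQ Q := by
  have h1 : ⁅(⟨a, ha⟩ : Q), ⟨b, hb⟩⁆ ∈ commutator ↥Q :=
    Subgroup.commutator_mem_commutator (Subgroup.mem_top _) (Subgroup.mem_top _)
  rw [hQ.1.2.2] at h1
  exact ⟨_, h1, by simp [commutatorElement_def]⟩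

/-- For `y ∈ Q` extraspecial, centralizers of `y` in subgroups of `Q` have index at most `p`. -/
theorem card_le_mul_card_centralizer {Q : Subgroup Ω} [Finite Q] {p : ℕ} (hQ : IsExtraspecial p ↥Q)
    {B : Subgroup Ω} (hB : B ≤ Q) {y : Ω} (hy : y ∈ Q) :
    Nat.card B ≤ p * Nat.card ↥(B ⊓ Subgroup.centralizer {y}) := by
  haveI : Finite B := Finite.of_injective (Subgroup.inclusion hB) (Subgroup.inclusion_injective hB)
  let f : B →* zQ Q :=
    { toFun := fun b => ⟨b * y * (b : Ω)⁻¹ * y⁻¹, comm_mem_zQ hQ (hB b.2) hy⟩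
      map_one' := by apply Subtype.ext; simp
      map_mul' := by
        intro b₁ b₂
        apply Subtype.ext
        show ((b₁ : Ω) * b₂) * y * ((b₁ : Ω) * b₂)⁻¹ * y⁻¹ =
          (b₁ * y * (b₁ : Ω)⁻¹ * y⁻¹) * (b₂ * y * (b₂ : Ω)⁻¹ * y⁻¹)
        have hz₂ : (b₂ : Ω) * y * (b₂ : Ω)⁻¹ * y⁻¹ ∈ zQ Q := comm_mem_zQ hQ (hB b₂.2) hy
        have hz₁ : (b₁ : Ω) * y * (b₁ : Ω)⁻¹ * y⁻¹ ∈ zQ Q := comm_mem_zQ hQ (hB b₁.2) hy
        have c1 := zQ_comm hz₂ (hB b₁.2)
        have c2 := zQ_comm hz₂ (zQ_le Q hz₁)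
        set z₂ := (b₂ : Ω) * y * (b₂ : Ω)⁻¹ * y⁻¹ with hz₂def
        have e1 : ((b₁ : Ω) * b₂) * y * ((b₁ : Ω) * b₂)⁻¹ * y⁻¹ =
            (b₁ : Ω) * z₂ * y * (b₁ : Ω)⁻¹ * y⁻¹ := by rw [hz₂def]; group
        rw [e1, c1, c2]
        group }
  have hker : Nat.card f.ker = Nat.card ↥(B ⊓ Subgroup.centralizer {y}) := by
    have : (f.ker).map B.subtype = B ⊓ Subgroup.centralizer {y} := by
      ext b
      constructor
      · rintro ⟨w, hw, rfl⟩
        refine Subgroup.mem_inf.mpr ⟨w.2, ?_⟩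
        refine Subgroup.mem_centralizer_iff.mpr ?_
        intro v hv
        rw [Set.mem_singleton_iff] at hv
        subst hv
        have h1 : f w = 1 := hw
        have h2 : (w : Ω) * v * (w : Ω)⁻¹ * v⁻¹ = 1 := congrArg Subtype.val h1
        show v * (w : Ω) = (w : Ω) * v
        have : (w : Ω) * v = (w * v * (w : Ω)⁻¹ * v⁻¹) * (v * w) := by group
        rw [this, h2, one_mul]
      · intro hbc
        obtain ⟨hb, hc⟩ := Subgroup.mem_inf.mp hbc
        refine ⟨⟨b, hb⟩, ?_, rfl⟩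
        show (⟨b, hb⟩ : B) ∈ f.ker
        rw [MonoidHom.mem_ker]
        apply Subtype.ext
        have := Subgroup.mem_centralizer_iff.mp hc y (Set.mem_singleton y)
        show b * y * b⁻¹ * y⁻¹ = 1
        rw [← this]; group
    rw [← this]
    exact (Nat.card_congr ((f.ker).equivMapOfInjective B.subtype B.subtype_injective).toEquiv)
  have h1 : Nat.card B = Nat.card f.ker * f.ker.index := (Subgroup.card_mul_index f.ker).symm
  have h2 : f.ker.index = Nat.card f.range := Subgroup.index_ker f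
  haveI : Finite (zQ Q) := Finite.of_injective (Subgroup.inclusion (zQ_le Q))
    (Subgroup.inclusion_injective (zQ_le Q))
  have h3 : Nat.card f.range ≤ p := by
    rw [← card_zQ hQ]
    exact Subgroup.card_le_card_group f.range
  rw [h1, h2, hker, mul_comm]
  exact Nat.mul_le_mul_right _ h3

end Extra

end Cfsg.Agent.Helper14.FusExtra
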