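import Mathlib
import Cfsg.Prelude.Def_FusionSystem
import Cfsg.Agent.Lib.Helper14.FusExtraA
import Cfsg.Agent.Lib.Helper15.ConjAut
import Cfsg.Agent.Lib.Helper25.FusionAut
import Cfsg.Agent.Lib.Helper25.FusionRecept
import Cfsg.Agent.Lib.Helper25.SylowIn

/-!
# Centric subgroups inside an extraspecial subgroup (helper14)
-/

set_option autoImplicit false

namespace Cfsg.Agent.Helper14.FusExtra

open Cfsg Cfsg.FusionSystem Cfsg.Agent.Helper25 Cfsg.Agent.Helper15.ConjAut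

variable {Ω : Type*} [Group Ω] {S : Subgroup Ω}

/-- conjugation by a normalizing element of `S` is in `Aut_F(E)` -/
theorem conjAut_mem_autGroup (F : FusionSystem S) {E : Subgroup Ω} (hES : E ≤ S) {s : Ω} (hs : s ∈ S)
    (hsN : s ∈ Subgroup.normalizer (E : Set Ω)) : conjAut E s hsN ∈ F.autGroup E := by
  apply autInducedBy_le_autGroup F hES
  rw [mem_autInducedBy_iff]
  exact ⟨s, hs, fun x => rfl⟩

/-- for centric `E`, conjugation by `s` is inner only when `s ∈ E` -/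
theorem mem_of_conjAut_mem_inn {E : Subgroup Ω} (hES : E ≤ S) (hCE : centralizerIn S E ≤ E) {s : Ω} (hs : s ∈ S)
    (hsN : s ∈ Subgroup.normalizer (E : Set Ω)) (h : conjAut E s hsN ∈ Inn E) : s ∈ E := by
  obtain ⟨e, he⟩ := h
  have hcomm : ∀ x ∈ E, x * ((e : Ω)⁻¹ * s) = ((e : Ω)⁻¹ * s) * x := by
    intro x hx
    have h1 := congrArg (fun f : MulAut E => ((f ⟨x, hx⟩ : E) : Ω)) he
    have h2 : (e : Ω) * x * (e : Ω)⁻¹ = s * x * s⁻¹ := h1
    have h3 : x = (e : Ω)⁻¹ * (s * x * s⁻¹) * e := by rw [← h2]; group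
    calc x * ((e : Ω)⁻¹ * s) = ((e : Ω)⁻¹ * (s * x * s⁻¹) * e) * ((e : Ω)⁻¹ * s) := by rw [← h3]
      _ = ((e : Ω)⁻¹ * s) * x := by group
  have hmem : (e : Ω)⁻¹ * s ∈ centralizerIn S E := by
    rw [mem_centralizerIn]
    exact ⟨S.mul_mem (S.inv_mem (hES e.2)) hs, hcomm⟩
  have := hCE hmem
  have h4 : s = (e : Ω) * ((e : Ω)⁻¹ * s) := by group
  rw [h4]
  exact E.mul_mem e.2 this


section Q

variable {Q E : Subgroup Ω} {p : ℕ}

theorem zQ_le_of_centric (hQS : Q ≤ S) (hEQ : E ≤ Q) (hCE : centralizerIn S E ≤ E) : zQ Q ≤ E := by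
  intro z hz
  apply hCE
  rw [mem_centralizerIn]
  exact ⟨hQS (zQ_le Q hz), fun x hx => zQ_comm hz (hEQ hx)⟩

theorem conj_mem_of_mem (hQ : IsExtraspecial p ↥Q) (hEQ : E ≤ Q) (hZE : zQ Q ≤ E) {q : Ω}
    (hq : q ∈ Q) {e : Ω} (he : e ∈ E) : q * e * q⁻¹ ∈ E := by
  have h1 : q * e * q⁻¹ * e⁻¹ ∈ zQ Q := comm_mem_zQ hQ hq (hEQ he)
  have : q * e * q⁻¹ = (q * e * q⁻¹ * e⁻¹) * e := by group
  rw [this]; exact E.mul_mem (hZE h1) he

theorem mem_normalizer_of_mem (hQ : IsExtraspecial p ↥Q) (hEQ : E ≤ Q) (hZE : zQ Q ≤ E) {q : Ω}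
    (hq : q ∈ Q) : q ∈ Subgroup.normalizer (E : Set Ω) := by
  rw [Subgroup.mem_normalizer_iff]
  intro e
  constructor
  · exact fun he => conj_mem_of_mem hQ hEQ hZE hq he
  · intro h
    have := conj_mem_of_mem hQ hEQ hZE (Q.inv_mem hq) h
    simpa [mul_assoc] using this

theorem exists_gen_zQ [Fact p.Prime] (hQ : IsExtraspecial p ↥Q) :
    ∃ z₀ ∈ zQ Q, z₀ ≠ 1 ∧ ∀ z ∈ zQ Q, ∃ k : ℤ, z = z₀ ^ k := by
  have hp : p.Prime := Fact.out
  have hcard := card_zQ hQ
  haveI : Finite (zQ Q) := Nat.finite_of_card_ne_zero (by rw [hcard]; exact hp.ne_zero)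
  haveI : Nontrivial (zQ Q) := Finite.one_lt_card_iff_nontrivial.mp (by rw [hcard]; exact hp.one_lt)
  obtain ⟨g, hg⟩ := exists_ne (1 : zQ Q)
  have htop : Subgroup.zpowers g = ⊤ := zpowers_eq_top_of_prime_card hcard hg
  refine ⟨g, g.2, fun h => hg (Subtype.ext h), fun z hz => ?_⟩
  have : (⟨z, hz⟩ : zQ Q) ∈ Subgroup.zpowers g := by rw [htop]; exact Subgroup.mem_top _
  obtain ⟨k, hk⟩ := Subgroup.mem_zpowers_iff.mp this
  refine ⟨k, ?_⟩
  have := congrArg Subtype.val hk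
  simpa using this.symm

theorem fix_of_fix_gen {z₀ : Ω} (hgen : ∀ z ∈ zQ Q, ∃ k : ℤ, z = z₀ ^ k) (hz₀E : z₀ ∈ E)
    (θ : MulAut E) (h : θ ⟨z₀, hz₀E⟩ = ⟨z₀, hz₀E⟩) (z : E) (hz : (z : Ω) ∈ zQ Q) : θ z = z := by
  obtain ⟨k, hk⟩ := hgen _ hz
  have : z = (⟨z₀, hz₀E⟩ : E) ^ k := Subtype.ext (by rw [hk]; simp)
  rw [this, map_zpow, h]

theorem pow_eq_one_of_mem_zQ (hQ : IsExtraspecial p ↥Q) {z : Ω} (hz : z ∈ zQ Q) : z ^ p = 1 := by
  have h1 : (⟨z, hz⟩ : zQ Q) ^ Nat.card (zQ Q) = 1 := pow_card_eq_one'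
  rw [card_zQ hQ] at h1
  have := congrArg Subtype.val h1
  simpa using this

/-- In an extraspecial group of order at least `p ^ 5`, a self-centralizing abelian proper subgroup `E`
has, for each `y ∈ E`, an element outside `E` commuting with `y`. -/
theorem exists_comm_not_mem [Fact p.Prime] [Finite Q] (hQ : IsExtraspecial p ↥Q)
    (h5 : p ^ 5 ≤ Nat.card Q) (hEQ : E ≤ Q)
    (hab : ∀ x ∈ E, ∀ y ∈ E, x * y = y * x)
    (hCE : ∀ q ∈ Q, (∀ e ∈ E, e * q = q * e) → q ∈ E) (hne : E ≠ Q) {y : Ω} (hy : y ∈ E) :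
    ∃ q ∈ Q, q ∉ E ∧ q * y = y * q := by
  have hp : p.Prime := Fact.out
  have hQp : IsPGroup p Q := hQ.1.1
  by_contra hcon
  push Not at hcon
  haveI : Finite E := Finite.of_injective (Subgroup.inclusion hEQ) (Subgroup.inclusion_injective hEQ)
  -- C_Q(y) ≤ E
  have h1 : Q ⊓ Subgroup.centralizer {y} ≤ E := by
    intro q hq
    obtain ⟨hqQ, hqc⟩ := Subgroup.mem_inf.mp hq
    by_contra hqE
    apply hcon q hqQ hqE
    exact (Subgroup.mem_centralizer_iff.mp hqc y (Set.mem_singleton y)).symm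
  have h2 : Nat.card Q ≤ p * Nat.card E := by
    refine le_trans (card_le_mul_card_centralizer hQ le_rfl (hEQ hy)) ?_
    exact Nat.mul_le_mul_left _ (Subgroup.card_le_of_le h1)
  -- pick q₀ outside E
  obtain ⟨q₀, hq₀Q, hq₀E⟩ : ∃ q₀ ∈ Q, q₀ ∉ E := by
    by_contra h
    push Not at h
    exact hne (le_antisymm hEQ h)
  -- C_E(q₀) ≤ Z(Q)
  have h3 : E ⊓ Subgroup.centralizer {q₀} ≤ zQ Q := by
    intro e he
    obtain ⟨heE, hec⟩ := Subgroup.mem_inf.mp he
    have hec' : q₀ * e = e * q₀ := Subgroup.mem_centralizer_iff.mp hec q₀ (Set.mem_singleton q₀)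
    -- D = C_Q(e) contains E and q₀
    set D := Q ⊓ Subgroup.centralizer {e} with hD
    have hED : E ≤ D := by
      intro x hx
      refine Subgroup.mem_inf.mpr ⟨hEQ hx, ?_⟩
      refine Subgroup.mem_centralizer_iff.mpr ?_
      intro v hv
      rw [Set.mem_singleton_iff] at hv
      subst hv
      exact hab v heE x hx
    have hq₀D : q₀ ∈ D := by
      refine Subgroup.mem_inf.mpr ⟨hq₀Q, ?_⟩
      refine Subgroup.mem_centralizer_iff.mpr ?_
      intro v hv
      rw [Set.mem_singleton_iff] at hv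
      subst hv
      exact hec'.symm
    have hDQ : D ≤ Q := inf_le_left
    haveI : Finite D := Finite.of_injective (Subgroup.inclusion hDQ) (Subgroup.inclusion_injective hDQ)
    have hlt : Nat.card E < Nat.card D := by
      by_contra hge
      push Not at hge
      have := Subgroup.eq_of_le_of_card_ge hED hge
      exact hq₀E (this ▸ hq₀D)
    have hdvd : Nat.card E ∣ Nat.card D := Subgroup.card_dvd_of_le hED
    obtain ⟨k, hk⟩ := hdvd
    have hDp : IsPGroup p D := hQp.to_le hDQ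
    obtain ⟨n, hn⟩ := hDp.exists_card_eq
    have hkdvd : k ∣ p ^ n := by rw [← hn, hk]; exact dvd_mul_left _ _
    obtain ⟨j, -, hj⟩ := (Nat.dvd_prime_pow hp).mp hkdvd
    have hEpos : 0 < Nat.card E := Nat.card_pos
    have hk1 : 1 < k := by
      by_contra hk1
      push Not at hk1
      have : Nat.card D ≤ Nat.card E := by
        rw [hk]; calc Nat.card E * k ≤ Nat.card E * 1 := Nat.mul_le_mul_left _ hk1
          _ = Nat.card E := mul_one _
      omega
    have hpk : p ≤ k := by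
      rw [hj] at hk1 ⊢
      have : j ≠ 0 := by rintro rfl; simp at hk1
      calc p = p ^ 1 := (pow_one p).symm
        _ ≤ p ^ j := Nat.pow_le_pow_right hp.pos (Nat.one_le_iff_ne_zero.mpr this)
    have hDge : Nat.card Q ≤ Nat.card D := by
      calc Nat.card Q ≤ p * Nat.card E := h2
        _ ≤ k * Nat.card E := Nat.mul_le_mul_right _ hpk
        _ = Nat.card D := by rw [hk, mul_comm]
    have hDeq : D = Q := Subgroup.eq_of_le_of_card_ge hDQ hDge
    rw [mem_zQ_iff]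
    refine ⟨hEQ heE, fun q hq => ?_⟩
    have hqD : q ∈ D := hDeq ▸ hq
    have := Subgroup.mem_centralizer_iff.mp (Subgroup.mem_inf.mp hqD).2 e (Set.mem_singleton e)
    exact this.symm
  have h4 : Nat.card E ≤ p * p := by
    refine le_trans (card_le_mul_card_centralizer hQ hEQ hq₀Q) ?_
    refine Nat.mul_le_mul_left _ ?_
    rw [← card_zQ hQ]
    haveI : Finite (zQ Q) := Finite.of_injective (Subgroup.inclusion (zQ_le Q))
      (Subgroup.inclusion_injective (zQ_le Q))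
    exact Subgroup.card_le_of_le h3
  have h6 : p ^ 5 ≤ p * (p * p) := le_trans h5 (le_trans h2 (Nat.mul_le_mul_left _ h4))
  have h7 : p * (p * p) = p ^ 3 := by ring
  rw [h7] at h6
  have := Nat.pow_lt_pow_right hp.one_lt (show 3 < 5 by norm_num)
  omega

end Q

end Cfsg.Agent.Helper14.FusExtra
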