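import Mathlib
import Cfsg.Prelude.Def_FusionSystem
import Cfsg.Agent.Lib.Helper14.FusExtraB
import Cfsg.Agent.Lib.Helper25.StronglyEmbedded

/-!
# Essential subgroups inside an extraspecial subgroup of index p (helper14)
-/

set_option autoImplicit false

namespace Cfsg.Agent.Helper14.FusExtra

open Cfsg Cfsg.FusionSystem Cfsg.Agent.Helper25 Cfsg.Agent.Helper15.ConjAut

variable {Ω : Type*} [Group Ω] {S : Subgroup Ω}

/-- commutators are unchanged when the left entry is multiplied by a central element -/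
theorem comm_mul_central {Q : Subgroup Ω} {a b z w : Ω} (ha : a ∈ Q) (hb : b ∈ Q) (hz : z ∈ zQ Q)
    (hw : w ∈ zQ Q) :
    (a * z) * (b * w) * (a * z)⁻¹ * (b * w)⁻¹ = a * b * a⁻¹ * b⁻¹ := by
  have c1 : b * z = z * b := zQ_comm hz hb
  have c2 : a * w = w * a := zQ_comm hw ha
  have c3 : z * w = w * z := (zQ_comm hw (zQ_le Q hz)).symm ▸ rfl
  have e1 : (a * z) * (b * w) * (a * z)⁻¹ * (b * w)⁻¹
      = a * (z * b) * w * z⁻¹ * a⁻¹ * w⁻¹ * b⁻¹ := by group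
  rw [e1, ← c1]
  have e2 : a * (b * z) * w * z⁻¹ * a⁻¹ * w⁻¹ * b⁻¹ = a * b * (z * w) * z⁻¹ * a⁻¹ * w⁻¹ * b⁻¹ := by
    group
  rw [e2, c3]
  have e3 : a * b * (w * z) * z⁻¹ * a⁻¹ * w⁻¹ * b⁻¹ = a * b * (w * a⁻¹) * w⁻¹ * b⁻¹ := by group
  rw [e3]
  have c4 : a⁻¹ * w = w * a⁻¹ := zQ_comm hw (Q.inv_mem ha)
  rw [← c4]
  group

theorem false_of_nonabelian [Finite S] (p : ℕ) [Fact p.Prime] (F : FusionSystem S)
    {Q E : Subgroup Ω} (hQS : Q ≤ S) (hQ : IsExtraspecial p ↥Q) (hEQ : E ≤ Q)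
    (hCE : centralizerIn S E ≤ E) (hrad : F.IsRadical p E)
    {e₁ e₂ : Ω} (he₁ : e₁ ∈ E) (he₂ : e₂ ∈ E) (hne : e₁ * e₂ ≠ e₂ * e₁)
    {q₀ : Ω} (hq₀ : q₀ ∈ Q) (hq₀E : q₀ ∉ E) : False := by
  have hES : E ≤ S := hEQ.trans hQS
  have hZE : zQ Q ≤ E := zQ_le_of_centric hQS hEQ hCE
  obtain ⟨z₀, hz₀, hz₀1, hgen⟩ := exists_gen_zQ hQ
  -- the commutator c
  set c := e₁ * e₂ * e₁⁻¹ * e₂⁻¹ with hc
  have hcZ : c ∈ zQ Q := comm_mem_zQ hQ (hEQ he₁) (hEQ he₂)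
  have hc1 : c ≠ 1 := by
    intro h
    apply hne
    have : e₁ * e₂ = c * (e₂ * e₁) := by rw [hc]; group
    rw [this, h, one_mul]
  -- c generates Z
  have hgenc : ∀ z ∈ zQ Q, ∃ k : ℤ, z = c ^ k := by
    have hp : p.Prime := Fact.out
    have hcard := card_zQ hQ
    haveI : Finite (zQ Q) := Nat.finite_of_card_ne_zero (by rw [hcard]; exact hp.ne_zero)
    have htop : Subgroup.zpowers (⟨c, hcZ⟩ : zQ Q) = ⊤ :=
      zpowers_eq_top_of_prime_card hcard (fun h => hc1 (congrArg Subtype.val h))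
    intro z hz
    have : (⟨z, hz⟩ : zQ Q) ∈ Subgroup.zpowers (⟨c, hcZ⟩ : zQ Q) := by
      rw [htop]; exact Subgroup.mem_top _
    obtain ⟨k, hk⟩ := Subgroup.mem_zpowers_iff.mp this
    exact ⟨k, by have := congrArg Subtype.val hk; simpa using this.symm⟩
  have hcE : c ∈ E := hZE hcZ
  -- every automorphism of E maps Z into Z
  have hinv : ∀ (α : MulAut E) (z : E), (z : Ω) ∈ zQ Q → ((α z : E) : Ω) ∈ zQ Q := by
    intro α z hz
    have h1 : ((α ⟨c, hcE⟩ : E) : Ω) ∈ zQ Q := by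
      have : (⟨c, hcE⟩ : E) = ⟨e₁, he₁⟩ * ⟨e₂, he₂⟩ * (⟨e₁, he₁⟩)⁻¹ * (⟨e₂, he₂⟩)⁻¹ := rfl
      rw [this, map_mul, map_mul, map_mul, map_inv, map_inv]
      exact comm_mem_zQ hQ (hEQ (α ⟨e₁, he₁⟩).2) (hEQ (α ⟨e₂, he₂⟩).2)
    obtain ⟨k, hk⟩ := hgenc _ hz
    have : z = (⟨c, hcE⟩ : E) ^ k := Subtype.ext (by rw [hk]; simp)
    rw [this, map_zpow]
    have : (((α ⟨c, hcE⟩ : E) ^ k : E) : Ω) = ((α ⟨c, hcE⟩ : E) : Ω) ^ k := by simp
    rw [this]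
    exact (zQ Q).zpow_mem h1 k
  -- the normal p-subgroup N
  let N : Subgroup (F.autGroup E) :=
    { carrier := {α | ∀ e : E, (e : Ω)⁻¹ * (((α : MulAut E) e : E) : Ω) ∈ zQ Q}
      one_mem' := by intro e; simp
      mul_mem' := by
        intro α β hα hβ e
        have h1 := hβ e
        have h2 := hα ((β : MulAut E) e)
        have : (e : Ω)⁻¹ * ((((α * β : F.autGroup E) : MulAut E) e : E) : Ω) =
            ((e : Ω)⁻¹ * (((β : MulAut E) e : E) : Ω)) *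
              ((((β : MulAut E) e : E) : Ω)⁻¹ * (((α : MulAut E) ((β : MulAut E) e) : E) : Ω)) := by
          show (e : Ω)⁻¹ * (((α : MulAut E) ((β : MulAut E) e) : E) : Ω) = _
          group
        rw [this]
        exact (zQ Q).mul_mem h1 h2
      inv_mem' := by
        intro α hα e
        have h1 := hα ((α : MulAut E)⁻¹ e)
        rw [MulAut.apply_inv_self] at h1
        have : (e : Ω)⁻¹ * ((((α⁻¹ : F.autGroup E) : MulAut E) e : E) : Ω) =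
            ((((α : MulAut E)⁻¹ e : E) : Ω)⁻¹ * (e : Ω))⁻¹ := by
          show (e : Ω)⁻¹ * ((((α : MulAut E)⁻¹) e : E) : Ω) = _
          group
        rw [this]
        exact (zQ Q).inv_mem h1 }
  have hNmem : ∀ α : F.autGroup E, α ∈ N ↔ ∀ e : E, (e : Ω)⁻¹ * (((α : MulAut E) e : E) : Ω) ∈ zQ Q :=
    fun α => Iff.rfl
  have hNn : N.Normal := by
    constructor
    intro α hα β e
    have h1 := hα ((β : MulAut E)⁻¹ e)
    set f := (β : MulAut E)⁻¹ e with hf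
    have hd : (((f⁻¹ * (α : MulAut E) f : E) : E) : Ω) ∈ zQ Q := by
      have : ((f⁻¹ * (α : MulAut E) f : E) : Ω) = (f : Ω)⁻¹ * (((α : MulAut E) f : E) : Ω) := by simp
      rw [this]; exact h1
    have h2 := hinv (β : MulAut E) _ hd
    have hbf : (β : MulAut E) f = e := by rw [hf, MulAut.apply_inv_self]
    have : (e : Ω)⁻¹ * ((((β * α * β⁻¹ : F.autGroup E) : MulAut E) e : E) : Ω) =
        (((β : MulAut E) (f⁻¹ * (α : MulAut E) f) : E) : Ω) := by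
      show (e : Ω)⁻¹ * (((β : MulAut E) ((α : MulAut E) f) : E) : Ω) = _
      rw [map_mul, map_inv, hbf]
      rfl
    rw [this]
    exact h2
  -- elements of N fix Z pointwise
  have hfix : ∀ α ∈ N, ∀ z : E, (z : Ω) ∈ zQ Q → (α : MulAut E) z = z := by
    intro α hα z hz
    have h1 : (α : MulAut E) ⟨c, hcE⟩ = ⟨c, hcE⟩ := by
      have e0 : (⟨c, hcE⟩ : E) = ⟨e₁, he₁⟩ * ⟨e₂, he₂⟩ * (⟨e₁, he₁⟩)⁻¹ * (⟨e₂, he₂⟩)⁻¹ := rfl
      apply Subtype.ext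
      rw [e0, map_mul, map_mul, map_mul, map_inv, map_inv]
      have d1 := hα ⟨e₁, he₁⟩
      have d2 := hα ⟨e₂, he₂⟩
      set a₁ := (((α : MulAut E) ⟨e₁, he₁⟩ : E) : Ω) with ha₁
      set a₂ := (((α : MulAut E) ⟨e₂, he₂⟩ : E) : Ω) with ha₂
      have r1 : a₁ = e₁ * (e₁⁻¹ * a₁) := by group
      have r2 : a₂ = e₂ * (e₂⁻¹ * a₂) := by group
      show a₁ * a₂ * a₁⁻¹ * a₂⁻¹ = e₁ * e₂ * e₁⁻¹ * e₂⁻¹
      rw [r1, r2]
      exact comm_mul_central (hEQ he₁) (hEQ he₂) d1 d2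
    obtain ⟨k, hk⟩ := hgenc _ hz
    have : z = (⟨c, hcE⟩ : E) ^ k := Subtype.ext (by rw [hk]; simp)
    rw [this, map_zpow, h1]
  have hNp : IsPGroup p N := by
    intro ⟨α, hα⟩
    refine ⟨1, ?_⟩
    apply Subtype.ext
    apply Subtype.ext
    show ((α : MulAut E)) ^ p ^ 1 = 1
    rw [pow_one]
    have hpow : ∀ (k : ℕ) (e : E), ((α : MulAut E) ^ k) e = e * (e⁻¹ * (α : MulAut E) e) ^ k := by
      intro k
      induction k with
      | zero => intro e; simp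
      | succ k ih =>
        intro e
        rw [pow_succ', MulAut.mul_apply, ih, map_mul, map_pow]
        have hd : ((e⁻¹ * (α : MulAut E) e : E) : Ω) ∈ zQ Q := by
          have : ((e⁻¹ * (α : MulAut E) e : E) : Ω) = (e : Ω)⁻¹ * (((α : MulAut E) e : E) : Ω) := by
            simp
          rw [this]; exact hα e
        rw [hfix α hα _ hd, pow_succ', ← mul_assoc, mul_inv_cancel_left]
    ext e
    rw [hpow]
    have hd : ((e⁻¹ * (α : MulAut E) e : E) : Ω) ∈ zQ Q := by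
      have : ((e⁻¹ * (α : MulAut E) e : E) : Ω) = (e : Ω)⁻¹ * (((α : MulAut E) e : E) : Ω) := by simp
      rw [this]; exact hα e
    have h1 : (e⁻¹ * (α : MulAut E) e) ^ p = 1 := by
      apply Subtype.ext
      have := pow_eq_one_of_mem_zQ hQ hd
      simpa using this
    rw [h1]
    simp
  have hNle : N ≤ pCore p (F.autGroup E) := le_pCore' hNn hNp
  -- conjugation by q₀
  have hq₀N : q₀ ∈ Subgroup.normalizer (E : Set Ω) := mem_normalizer_of_mem hQ hEQ hZE hq₀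
  have hmem : conjAut E q₀ hq₀N ∈ F.autGroup E := conjAut_mem_autGroup F hES (hQS hq₀) hq₀N
  have hcN : (⟨conjAut E q₀ hq₀N, hmem⟩ : F.autGroup E) ∈ N := by
    rw [hNmem]
    intro e
    show (e : Ω)⁻¹ * (q₀ * e * q₀⁻¹) ∈ zQ Q
    have := comm_mem_zQ hQ (hEQ (E.inv_mem e.2)) hq₀
    have h2 : (e : Ω)⁻¹ * (q₀ * e * q₀⁻¹) = (e : Ω)⁻¹ * q₀ * ((e : Ω)⁻¹)⁻¹ * q₀⁻¹ := by group
    rw [h2]; exact this
  have hinn : conjAut E q₀ hq₀N ∈ Inn E := by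
    rw [← hrad.2]
    exact ⟨⟨conjAut E q₀ hq₀N, hmem⟩, hNle hcN, rfl⟩
  exact hq₀E (mem_of_conjAut_mem_inn hES hCE (hQS hq₀) hq₀N hinn)

end Cfsg.Agent.Helper14.FusExtra
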