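import Mathlib
import Cfsg.Prelude.Def_FusionSystem
import Cfsg.Agent.Lib.Helper14.FusExtraC

/-!
# Abelian essential subgroups inside an extraspecial subgroup (helper14)
-/

set_option autoImplicit false

namespace Cfsg.Agent.Helper14.FusExtra

open Cfsg Cfsg.FusionSystem Cfsg.Agent.Helper25 Cfsg.Agent.Helper15.ConjAut

variable {Ω : Type*} [Group Ω] {S : Subgroup Ω}

theorem autInducedBy_mono {K L P : Subgroup Ω} (h : K ≤ L) : autInducedBy K P ≤ autInducedBy L P := by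
  intro α hα
  obtain ⟨g, hg, hgα⟩ := (mem_autInducedBy_iff α).mp hα
  exact (mem_autInducedBy_iff α).mpr ⟨g, h hg, hgα⟩

theorem false_of_abelian [Finite S] (p : ℕ) [Fact p.Prime] (hS : IsPGroup p S) (F : FusionSystem S)
    {Q E : Subgroup Ω} (hQS : Q ≤ S) (hQ : IsExtraspecial p ↥Q) (h5 : p ^ 5 ≤ Nat.card Q)
    (hEQ : E ≤ Q) (hCE : centralizerIn S E ≤ E)
    (hab : ∀ x ∈ E, ∀ y ∈ E, x * y = y * x) (hne : E ≠ Q)
    [hn : ((Inn E).subgroupOf (F.autGroup E)).Normal]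
    (H : Subgroup (F.autGroup E ⧸ (Inn E).subgroupOf (F.autGroup E)))
    (hH : IsStronglyPEmbedded p H) : False := by
  have hES : E ≤ S := hEQ.trans hQS
  have hZE : zQ Q ≤ E := zQ_le_of_centric hQS hEQ hCE
  haveI : Finite Q := finite_of_le_finite hQS
  haveI : Finite E := finite_of_le_finite hES
  haveI : Finite (MulAut E) :=
    Finite.of_injective (fun α : MulAut E => (α : E → E)) DFunLike.coe_injective
  obtain ⟨z₀, hz₀, hz₀1, hgen⟩ := exists_gen_zQ hQ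
  have hz₀E : z₀ ∈ E := hZE hz₀
  have hCE' : ∀ q ∈ Q, (∀ e ∈ E, e * q = q * e) → q ∈ E := by
    intro q hq hc
    apply hCE
    rw [mem_centralizerIn]
    exact ⟨hQS hq, hc⟩
  set I := (Inn E).subgroupOf (F.autGroup E) with hI
  set T : Subgroup (F.autGroup E ⧸ I) :=
    ((autInducedBy Q E).subgroupOf (F.autGroup E)).map (QuotientGroup.mk' I) with hT
  have hTp : IsPGroup p T := by
    have h1 : IsPGroup p (autInducedBy Q E) :=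
      (isPGroup_autInducedBy hS E).to_le (autInducedBy_mono hQS)
    exact (isPGroup_subgroupOf _ h1).map _
  -- conjugation automorphisms
  have hnorm : ∀ q ∈ Q, q ∈ Subgroup.normalizer (E : Set Ω) :=
    fun q hq => mem_normalizer_of_mem hQ hEQ hZE hq
  have hcmem : ∀ (q : Ω) (hq : q ∈ Q), conjAut E q (hnorm q hq) ∈ F.autGroup E :=
    fun q hq => conjAut_mem_autGroup F hES (hQS hq) (hnorm q hq)
  have hcT : ∀ (q : Ω) (hq : q ∈ Q),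
      QuotientGroup.mk' I ⟨conjAut E q (hnorm q hq), hcmem q hq⟩ ∈ T := by
    intro q hq
    refine Subgroup.mem_map.mpr ⟨_, ?_, rfl⟩
    refine Subgroup.mem_subgroupOf.mpr ?_
    exact (mem_autInducedBy_iff _).mpr ⟨q, hq, fun x => rfl⟩
  have hcne : ∀ (q : Ω) (hq : q ∈ Q), q ∉ E →
      QuotientGroup.mk' I ⟨conjAut E q (hnorm q hq), hcmem q hq⟩ ≠ 1 := by
    intro q hq hqE h1
    rw [QuotientGroup.mk'_apply, QuotientGroup.eq_one_iff, hI, Subgroup.mem_subgroupOf] at h1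
    exact hqE (mem_of_conjAut_mem_inn hES hCE (hQS hq) (hnorm q hq) h1)
  -- conjugation by q multiplies by an element of Z
  have hcz : ∀ (q : Ω) (hq : q ∈ Q) (e : E), ∃ ξ : E, (ξ : Ω) ∈ zQ Q ∧
      conjAut E q (hnorm q hq) e = ξ * e := by
    intro q hq e
    refine ⟨conjAut E q (hnorm q hq) e * e⁻¹, ?_, by group⟩
    show q * e * q⁻¹ * (e : Ω)⁻¹ ∈ zQ Q
    exact comm_mem_zQ hQ hq (hEQ e.2)
  apply false_of_commuting p hH T hTp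
  intro g
  obtain ⟨γ, rfl⟩ := QuotientGroup.mk_surjective g
  set γ₀ : MulAut E := (γ : MulAut E) with hγ₀
  obtain ⟨q₁, hq₁, hq₁E, hq₁c⟩ := exists_comm_not_mem hQ h5 hEQ hab hCE' hne (γ₀ ⟨z₀, hz₀E⟩).2
  obtain ⟨q₂, hq₂, hq₂E, hq₂c⟩ := exists_comm_not_mem hQ h5 hEQ hab hCE' hne (γ₀⁻¹ ⟨z₀, hz₀E⟩).2
  refine ⟨_, hcT q₁ hq₁, _, hcT q₂ hq₂, hcne q₁ hq₁ hq₁E, hcne q₂ hq₂ hq₂E, ?_⟩
  set c₁ := conjAut E q₁ (hnorm q₁ hq₁) with hc₁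
  set c₂ := conjAut E q₂ (hnorm q₂ hq₂) with hc₂
  obtain ⟨τ, hτ⟩ : ∃ τ : MulAut E, τ = γ₀ * c₂ * γ₀⁻¹ := ⟨_, rfl⟩
  -- c₁ fixes γ₀ z₀
  have hc₁fix : c₁ (γ₀ ⟨z₀, hz₀E⟩) = γ₀ ⟨z₀, hz₀E⟩ := by
    apply Subtype.ext
    show q₁ * ((γ₀ ⟨z₀, hz₀E⟩ : E) : Ω) * q₁⁻¹ = _
    rw [hq₁c]; group
  have hc₂fix : c₂ (γ₀⁻¹ ⟨z₀, hz₀E⟩) = γ₀⁻¹ ⟨z₀, hz₀E⟩ := by
    apply Subtype.ext
    show q₂ * ((γ₀⁻¹ ⟨z₀, hz₀E⟩ : E) : Ω) * q₂⁻¹ = _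
    rw [hq₂c]; group
  have hθfix : ∀ ζ : E, (ζ : Ω) ∈ zQ Q → c₁ (γ₀ ζ) = γ₀ ζ := by
    intro ζ hζ
    have h1 : (γ₀⁻¹ * c₁ * γ₀) ⟨z₀, hz₀E⟩ = ⟨z₀, hz₀E⟩ := by
      rw [MulAut.mul_apply, MulAut.mul_apply, hc₁fix, MulAut.inv_apply_self]
    have h2 := fix_of_fix_gen hgen hz₀E _ h1 ζ hζ
    rw [MulAut.mul_apply, MulAut.mul_apply] at h2
    have h3 := congrArg γ₀ h2
    rwa [MulAut.apply_inv_self] at h3
  have hτfix : ∀ ζ : E, (ζ : Ω) ∈ zQ Q → τ ζ = ζ := by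
    intro ζ hζ
    have h1 : τ ⟨z₀, hz₀E⟩ = ⟨z₀, hz₀E⟩ := by
      rw [hτ, MulAut.mul_apply, MulAut.mul_apply, hc₂fix, MulAut.apply_inv_self]
    exact fix_of_fix_gen hgen hz₀E _ h1 ζ hζ
  have hcomm : c₁ * τ = τ * c₁ := by
    ext e
    apply congrArg Subtype.val
    rw [MulAut.mul_apply, MulAut.mul_apply]
    -- τ e = γ₀ ζ * e
    obtain ⟨ζ, hζ, hζe⟩ := hcz q₂ hq₂ (γ₀⁻¹ e)
    have hτe : τ e = γ₀ ζ * e := by
      rw [hτ, MulAut.mul_apply, MulAut.mul_apply]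
      show γ₀ (c₂ (γ₀⁻¹ e)) = _
      rw [hζe, map_mul, MulAut.apply_inv_self]
    obtain ⟨ξ, hξ, hξe⟩ := hcz q₁ hq₁ e
    rw [hτe, map_mul, hθfix ζ hζ]
    show γ₀ ζ * c₁ e = τ (c₁ e)
    rw [hξe, map_mul, hτfix ξ hξ, hτe]
    apply Subtype.ext
    have := hab _ (γ₀ ζ).2 _ ξ.2
    show ((γ₀ ζ : E) : Ω) * ((ξ : Ω) * e) = (ξ : Ω) * (((γ₀ ζ : E) : Ω) * e)
    rw [← mul_assoc, this, mul_assoc]
  -- transfer to the quotient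
  have hτmem : τ ∈ F.autGroup E := by
    rw [hτ]
    exact Subgroup.mul_mem _ (Subgroup.mul_mem _ γ.2 (hcmem q₂ hq₂)) (Subgroup.inv_mem _ γ.2)
  have e1 : (γ : F.autGroup E ⧸ I) * QuotientGroup.mk' I ⟨c₂, hcmem q₂ hq₂⟩ * (γ : F.autGroup E ⧸ I)⁻¹
      = QuotientGroup.mk' I ⟨τ, hτmem⟩ := by
    have : (⟨τ, hτmem⟩ : F.autGroup E) = γ * ⟨c₂, hcmem q₂ hq₂⟩ * γ⁻¹ := Subtype.ext hτ
    rw [this]
    rfl
  rw [e1]
  show QuotientGroup.mk' I ⟨c₁, hcmem q₁ hq₁⟩ * QuotientGroup.mk' I ⟨τ, hτmem⟩ =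
    QuotientGroup.mk' I ⟨τ, hτmem⟩ * QuotientGroup.mk' I ⟨c₁, hcmem q₁ hq₁⟩
  rw [← map_mul, ← map_mul]
  congr 1
  exact Subtype.ext hcomm

end Cfsg.Agent.Helper14.FusExtra
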