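import Mathlib
import Cfsg.Prelude.Def_FusionSystem
import Cfsg.Agent.Lib.Helper14.FusExtraD
import Cfsg.Agent.Lib.Helper19.PGroupBasic

/-!
# An extraspecial subgroup of index `p` in `S`: the centre (helper14)

General facts used for `Z(S) = Z(Q)`.
-/

set_option autoImplicit false

namespace Cfsg.Agent.Helper14.FusExtra

open Cfsg Cfsg.FusionSystem Cfsg.Agent.Helper25 Cfsg.Agent.Helper15.ConjAut

variable {Ω : Type*} [Group Ω] {S : Subgroup Ω}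

theorem subgroupOf_normal_of_index [Finite S] {p : ℕ} [Fact p.Prime] (hS : IsPGroup p S)
    {Q : Subgroup Ω} (hQi : (Q.subgroupOf S).index = p) : (Q.subgroupOf S).Normal := by
  have hp : p.Prime := Fact.out
  obtain ⟨n, hn⟩ := IsPGroup.iff_card.mp hS
  have hn0 : n ≠ 0 := by
    rintro rfl
    have h1 : (Q.subgroupOf S).index ∣ Nat.card S := Subgroup.index_dvd_card _
    rw [hQi, hn, pow_zero] at h1
    exact hp.one_lt.ne' (Nat.dvd_one.mp h1)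
  apply Subgroup.normal_of_index_eq_minFac_card
  rw [hQi, hn, hp.pow_minFac hn0]

theorem conj_mem_of_normal {Q : Subgroup Ω} (hQS : Q ≤ S) (hN : (Q.subgroupOf S).Normal) {s q : Ω}
    (hs : s ∈ S) (hq : q ∈ Q) : s * q * s⁻¹ ∈ Q := by
  have h1 := hN.conj_mem ⟨q, hQS hq⟩ (Subgroup.mem_subgroupOf.mpr hq) ⟨s, hs⟩
  exact Subgroup.mem_subgroupOf.mp h1

/-- the centre of an extraspecial subgroup of index `p` is central in `S` -/
theorem zQ_central [Finite S] {p : ℕ} [Fact p.Prime] (hS : IsPGroup p S) {Q : Subgroup Ω}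
    (hQS : Q ≤ S) (hQ : IsExtraspecial p ↥Q) (hQi : (Q.subgroupOf S).index = p) {z : Ω}
    (hz : z ∈ zQ Q) {s : Ω} (hs : s ∈ S) : s * z = z * s := by
  have hN := subgroupOf_normal_of_index hS hQi
  have hZS : zQ Q ≤ S := (zQ_le Q).trans hQS
  haveI : ((zQ Q).subgroupOf S).Normal := by
    constructor
    intro n hn g
    rw [Subgroup.mem_subgroupOf] at hn ⊢
    rw [mem_zQ_iff] at hn ⊢
    obtain ⟨hnQ, hnc⟩ := hn
    refine ⟨conj_mem_of_normal hQS hN g.2 hnQ, fun q hq => ?_⟩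
    have hq' : (g : Ω)⁻¹ * q * ((g : Ω)⁻¹)⁻¹ ∈ Q := conj_mem_of_normal hQS hN (S.inv_mem g.2) hq
    have h2 := hnc _ hq'
    show q * ((g : Ω) * n * (g : Ω)⁻¹) = (g : Ω) * n * (g : Ω)⁻¹ * q
    calc q * ((g : Ω) * n * (g : Ω)⁻¹)
        = g * (((g : Ω)⁻¹ * q * ((g : Ω)⁻¹)⁻¹) * n) * (g : Ω)⁻¹ := by group
      _ = g * ((n : Ω) * ((g : Ω)⁻¹ * q * ((g : Ω)⁻¹)⁻¹)) * (g : Ω)⁻¹ := by rw [h2]
      _ = _ := by group
  have hcard : Nat.card ((zQ Q).subgroupOf S) = p := by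
    rw [← card_zQ hQ]
    exact Nat.card_congr (Subgroup.subgroupOfEquivOfLe hZS).toEquiv
  have h1 := Cfsg.Agent.Helper19.normal_card_prime_le_center hS ((zQ Q).subgroupOf S) hcard
  have h2 : (⟨z, hZS hz⟩ : S) ∈ Subgroup.center S := h1 (Subgroup.mem_subgroupOf.mpr hz)
  have h3 := Subgroup.mem_center_iff.mp h2 ⟨s, hs⟩
  exact congrArg Subtype.val h3

/-- if `Q` has index `p` in `S` and `w ∈ S ∖ Q`, every element of `S` is `w ^ k * q` -/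
theorem exists_decomp_of_not_mem [Finite S] {p : ℕ} [Fact p.Prime] (hS : IsPGroup p S)
    {Q : Subgroup Ω} (hQi : (Q.subgroupOf S).index = p) {w : Ω} (hw : w ∈ S) (hwQ : w ∉ Q)
    {s : Ω} (hs : s ∈ S) : ∃ q ∈ Q, ∃ k : ℤ, s = w ^ k * q := by
  have hp : p.Prime := Fact.out
  haveI hN := subgroupOf_normal_of_index hS hQi
  have hcard : Nat.card (↥S ⧸ Q.subgroupOf S) = p := by
    rw [← Subgroup.index_eq_card]; exact hQi
  have hw1 : (QuotientGroup.mk (⟨w, hw⟩ : S) : ↥S ⧸ Q.subgroupOf S) ≠ 1 := by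
    rw [Ne, QuotientGroup.eq_one_iff, Subgroup.mem_subgroupOf]; exact hwQ
  have htop := zpowers_eq_top_of_prime_card hcard hw1
  have h1 : (QuotientGroup.mk (⟨s, hs⟩ : S) : ↥S ⧸ Q.subgroupOf S) ∈
      Subgroup.zpowers (QuotientGroup.mk (⟨w, hw⟩ : S) : ↥S ⧸ Q.subgroupOf S) := by
    rw [htop]; exact Subgroup.mem_top _
  obtain ⟨k, hk⟩ := Subgroup.mem_zpowers_iff.mp h1
  rw [← QuotientGroup.mk_zpow, QuotientGroup.eq, Subgroup.mem_subgroupOf] at hk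
  have h2 : ((((⟨w, hw⟩ : S) ^ k)⁻¹ * ⟨s, hs⟩ : S) : Ω) = (w ^ k)⁻¹ * s := by simp
  rw [h2] at hk
  exact ⟨_, hk, k, by group⟩

/-- commutators of `S = Q ⟨w⟩`, `w` central, lie in `Z(Q)` -/
theorem comm_mem_zQ_of_central {p : ℕ} {Q : Subgroup Ω} (hQ : IsExtraspecial p ↥Q) (hQS : Q ≤ S)
    {w : Ω} (hw : w ∈ S) (hwc : ∀ s ∈ S, s * w = w * s)
    (hdec : ∀ s ∈ S, ∃ q ∈ Q, ∃ k : ℤ, s = w ^ k * q) {a b : Ω} (ha : a ∈ S) (hb : b ∈ S) :
    a * b * a⁻¹ * b⁻¹ ∈ zQ Q := by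
  have hwk : ∀ (k : ℤ), ∀ s ∈ S, s * w ^ k = w ^ k * s := by
    intro k s hs
    exact (Commute.zpow_right (hwc s hs) k).eq
  obtain ⟨q, hq, k, rfl⟩ := hdec a ha
  obtain ⟨q', hq', l, rfl⟩ := hdec b hb
  have hqS := hQS hq
  have hq'S := hQS hq'
  set c := w ^ k with hc
  set d := w ^ l with hd
  have e1 : c * q * (d * q') * (c * q)⁻¹ * (d * q')⁻¹ = q * q' * q⁻¹ * q'⁻¹ := by
    have h1 : c * (q * (d * q') * q⁻¹) = (q * (d * q') * q⁻¹) * c :=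
      (hwk k _ (S.mul_mem (S.mul_mem hqS hb) (S.inv_mem hqS))).symm
    have h2 : d * (q' * q⁻¹ * q'⁻¹) = (q' * q⁻¹ * q'⁻¹) * d :=
      (hwk l _ (S.mul_mem (S.mul_mem hq'S (S.inv_mem hqS)) (S.inv_mem hq'S))).symm
    calc c * q * (d * q') * (c * q)⁻¹ * (d * q')⁻¹
        = (c * (q * (d * q') * q⁻¹)) * c⁻¹ * (d * q')⁻¹ := by group
      _ = ((q * (d * q') * q⁻¹) * c) * c⁻¹ * (d * q')⁻¹ := by rw [h1]
      _ = q * (d * (q' * q⁻¹ * q'⁻¹)) * d⁻¹ := by group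
      _ = q * ((q' * q⁻¹ * q'⁻¹) * d) * d⁻¹ := by rw [h2]
      _ = q * q' * q⁻¹ * q'⁻¹ := by group
  rw [e1]
  exact comm_mem_zQ hQ hq hq'

end Cfsg.Agent.Helper14.FusExtra
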