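import Mathlib
import Cfsg.Prelude.Def_FusionSystem
import Cfsg.Agent.Lib.Helper14.FusExtraE

/-!
# An extraspecial subgroup of index `p` in `S`: abelian essential subgroups (helper14)
-/

set_option autoImplicit false

namespace Cfsg.Agent.Helper14.FusExtra

open Cfsg Cfsg.FusionSystem Cfsg.Agent.Helper25 Cfsg.Agent.Helper15.ConjAut

variable {Ω : Type*} [Group Ω] {S : Subgroup Ω}

/-- the commutator homomorphism `b ↦ [b, y]` into a central subgroup -/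
def commHom (Z B : Subgroup Ω) (y : Ω) (hc : ∀ b ∈ B, b * y * b⁻¹ * y⁻¹ ∈ Z)
    (hcent : ∀ z ∈ Z, ∀ b ∈ B, b * z = z * b) (hZZ : ∀ z ∈ Z, ∀ z' ∈ Z, z * z' = z' * z) :
    B →* Z where
  toFun b := ⟨b * y * (b : Ω)⁻¹ * y⁻¹, hc b b.2⟩
  map_one' := by apply Subtype.ext; simp
  map_mul' := by
    intro b₁ b₂
    apply Subtype.ext
    show ((b₁ : Ω) * b₂) * y * ((b₁ : Ω) * b₂)⁻¹ * y⁻¹ =
      (b₁ * y * (b₁ : Ω)⁻¹ * y⁻¹) * (b₂ * y * (b₂ : Ω)⁻¹ * y⁻¹)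
    have hz₂ : (b₂ : Ω) * y * (b₂ : Ω)⁻¹ * y⁻¹ ∈ Z := hc b₂ b₂.2
    have hz₁ : (b₁ : Ω) * y * (b₁ : Ω)⁻¹ * y⁻¹ ∈ Z := hc b₁ b₁.2
    have c1 := hcent _ hz₂ b₁ b₁.2
    have c2 := hZZ _ hz₁ _ hz₂
    set z₂ := (b₂ : Ω) * y * (b₂ : Ω)⁻¹ * y⁻¹ with hz₂def
    have e1 : ((b₁ : Ω) * b₂) * y * ((b₁ : Ω) * b₂)⁻¹ * y⁻¹ =
        (b₁ : Ω) * z₂ * y * (b₁ : Ω)⁻¹ * y⁻¹ := by rw [hz₂def]; group
    rw [e1, c1, c2]
    group

theorem commHom_apply (Z B : Subgroup Ω) (y : Ω) (hc : ∀ b ∈ B, b * y * b⁻¹ * y⁻¹ ∈ Z)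
    (hcent : ∀ z ∈ Z, ∀ b ∈ B, b * z = z * b) (hZZ : ∀ z ∈ Z, ∀ z' ∈ Z, z * z' = z' * z) (b : B) :
    ((commHom Z B y hc hcent hZZ b : Z) : Ω) = b * y * (b : Ω)⁻¹ * y⁻¹ := rfl

theorem commHom_eq_one_iff (Z B : Subgroup Ω) (y : Ω) (hc : ∀ b ∈ B, b * y * b⁻¹ * y⁻¹ ∈ Z)
    (hcent : ∀ z ∈ Z, ∀ b ∈ B, b * z = z * b) (hZZ : ∀ z ∈ Z, ∀ z' ∈ Z, z * z' = z' * z) (b : B) :
    commHom Z B y hc hcent hZZ b = 1 ↔ (b : Ω) * y = y * b := by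
  constructor
  · intro h
    have h2 : (b : Ω) * y * (b : Ω)⁻¹ * y⁻¹ = 1 := congrArg Subtype.val h
    have : (b : Ω) * y = (b * y * (b : Ω)⁻¹ * y⁻¹) * (y * b) := by group
    rw [this, h2, one_mul]
  · intro h
    apply Subtype.ext
    show (b : Ω) * y * (b : Ω)⁻¹ * y⁻¹ = 1
    rw [h]; group

theorem card_le_mul_card_cent {Z B : Subgroup Ω} [Finite B] [Finite Z] {p : ℕ}
    (hZ : Nat.card Z ≤ p) {y : Ω} (hc : ∀ b ∈ B, b * y * b⁻¹ * y⁻¹ ∈ Z)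
    (hcent : ∀ z ∈ Z, ∀ b ∈ B, b * z = z * b) (hZZ : ∀ z ∈ Z, ∀ z' ∈ Z, z * z' = z' * z) :
    Nat.card B ≤ p * Nat.card ↥(B ⊓ Subgroup.centralizer {y}) := by
  set f := commHom Z B y hc hcent hZZ with hf
  have hker : Nat.card f.ker = Nat.card ↥(B ⊓ Subgroup.centralizer {y}) := by
    have : (f.ker).map B.subtype = B ⊓ Subgroup.centralizer {y} := by
      ext b
      constructor
      · rintro ⟨w, hw, rfl⟩
        refine Subgroup.mem_inf.mpr ⟨w.2, ?_⟩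
        refine Subgroup.mem_centralizer_iff.mpr ?_
        intro v hv
        rw [Set.mem_singleton_iff] at hv
        subst hv
        have h1 : f w = 1 := hw
        exact ((commHom_eq_one_iff Z B v hc hcent hZZ w).mp h1).symm
      · intro hbc
        obtain ⟨hb, hc'⟩ := Subgroup.mem_inf.mp hbc
        refine ⟨⟨b, hb⟩, ?_, rfl⟩
        show (⟨b, hb⟩ : B) ∈ f.ker
        rw [MonoidHom.mem_ker]
        have := Subgroup.mem_centralizer_iff.mp hc' y (Set.mem_singleton y)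
        exact (commHom_eq_one_iff Z B y hc hcent hZZ ⟨b, hb⟩).mpr this.symm
    rw [← this]
    exact (Nat.card_congr ((f.ker).equivMapOfInjective B.subtype B.subtype_injective).toEquiv)
  have h1 : Nat.card B = Nat.card f.ker * f.ker.index := (Subgroup.card_mul_index f.ker).symm
  have h2 : f.ker.index = Nat.card f.range := Subgroup.index_ker f
  have h3 : Nat.card f.range ≤ p := le_trans (Subgroup.card_le_card_group f.range) hZ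
  rw [h1, h2, hker, mul_comm]
  exact Nat.mul_le_mul_right _ h3

theorem exists_zpow_of_mem_zQ {p : ℕ} [Fact p.Prime] {Q : Subgroup Ω} (hQ : IsExtraspecial p ↥Q)
    {d : Ω} (hd : d ∈ zQ Q) (hd1 : d ≠ 1) {z : Ω} (hz : z ∈ zQ Q) : ∃ k : ℤ, z = d ^ k := by
  have hcard := card_zQ hQ
  have htop : Subgroup.zpowers (⟨d, hd⟩ : zQ Q) = ⊤ :=
    zpowers_eq_top_of_prime_card hcard (fun h => hd1 (congrArg Subtype.val h))
  have : (⟨z, hz⟩ : zQ Q) ∈ Subgroup.zpowers (⟨d, hd⟩ : zQ Q) := by rw [htop]; exact Subgroup.mem_top _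
  obtain ⟨k, hk⟩ := Subgroup.mem_zpowers_iff.mp this
  refine ⟨k, ?_⟩
  have := congrArg Subtype.val hk
  simpa using this.symm

/-- a nonabelian subgroup `P` of `S` (with `[S, S] ≤ Z(Q)`): its automorphisms preserve `Z(Q)` -/
theorem map_zQ_eq_of_nonabelian {p : ℕ} [Fact p.Prime] {Q P : Subgroup Ω} (hQ : IsExtraspecial p ↥Q)
    (hPS : P ≤ S) (hcomm : ∀ a ∈ S, ∀ b ∈ S, a * b * a⁻¹ * b⁻¹ ∈ zQ Q)
    {e₁ e₂ : Ω} (he₁ : e₁ ∈ P) (he₂ : e₂ ∈ P) (hne : e₁ * e₂ ≠ e₂ * e₁) (α : MulAut P) :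
    ((zQ Q).subgroupOf P).map α.toMonoidHom = (zQ Q).subgroupOf P := by
  set c : P := ⟨e₁, he₁⟩ * ⟨e₂, he₂⟩ * ⟨e₁, he₁⟩⁻¹ * ⟨e₂, he₂⟩⁻¹ with hc
  have hcz : (c : Ω) ∈ zQ Q := hcomm _ (hPS he₁) _ (hPS he₂)
  have hc1 : (c : Ω) ≠ 1 := by
    intro h
    apply hne
    have h2 : e₁ * e₂ * e₁⁻¹ * e₂⁻¹ = 1 := h
    have : e₁ * e₂ = (e₁ * e₂ * e₁⁻¹ * e₂⁻¹) * (e₂ * e₁) := by group
    rw [this, h2, one_mul]
  have key : ∀ β : MulAut P, ∀ x : P, (x : Ω) ∈ zQ Q → ((β x : P) : Ω) ∈ zQ Q := by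
    intro β x hx
    obtain ⟨k, hk⟩ := exists_zpow_of_mem_zQ hQ hcz hc1 hx
    have hx' : x = c ^ k := Subtype.ext (by rw [hk]; simp)
    rw [hx', map_zpow]
    have h3 : ((β c : P) : Ω) ∈ zQ Q := by
      rw [hc, map_mul, map_mul, map_mul, map_inv, map_inv]
      exact hcomm _ (hPS (β ⟨e₁, he₁⟩).2) _ (hPS (β ⟨e₂, he₂⟩).2)
    have h4 : (((β c) ^ k : P) : Ω) = ((β c : P) : Ω) ^ k := by simp
    rw [h4]
    exact Subgroup.zpow_mem _ h3 k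
  ext y
  constructor
  · rintro ⟨x, hx, rfl⟩
    exact Subgroup.mem_subgroupOf.mpr (key α x (Subgroup.mem_subgroupOf.mp hx))
  · intro hy
    refine ⟨α⁻¹ y, Subgroup.mem_subgroupOf.mpr (key α⁻¹ y (Subgroup.mem_subgroupOf.mp hy)), ?_⟩
    simp

end Cfsg.Agent.Helper14.FusExtra
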