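import Mathlib
import Cfsg.Agent.Lib.Helper16.NilClassBound
import Cfsg.Agent.Lib.Helper22.MaxClass
import Cfsg.Agent.Lib.Helper14.FusExtraF

/-!
# The second centre of a `p`-group of maximal class (helper14)

For `S` of order `p ^ n`, `n ≥ 4`, of class `n - 1`: `|Z(S)| = p`, `|Z₂(S)| = p²`, and the centralizer of
`Z₂(S)` has index `p`.
-/

set_option autoImplicit false

namespace Cfsg.Agent.Helper14.MaxClassZ2

universe u

variable {p : ℕ} [hp : Fact p.Prime]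

theorem nilpotencyClass_eq {X : Type u} [Group X] [Finite X] (n : ℕ) (hn : 2 ≤ n)
    (hX : Nat.card X = p ^ n)
    (hmax : Subgroup.lowerCentralSeries (⊤ : Subgroup X) (n - 2) ≠ ⊥) :
    Group.nilpotencyClass X = n - 1 := by
  have hXp : IsPGroup p X := IsPGroup.of_card hX
  haveI : Group.IsNilpotent X := hXp.isNilpotent
  have h1 : ¬ Group.nilpotencyClass X ≤ n - 2 :=
    fun h => hmax (Subgroup.lowerCentralSeries_eq_bot_iff_nilpotencyClass_le.mpr h)
  have h2 := Cfsg.Agent.Helper16.nilpotencyClass_le_of_card_pow (p := p) n X hX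
  have h3 : max (n - 1) 1 = n - 1 := max_eq_left (by omega)
  rw [h3] at h2
  omega

theorem card_center_and_Z2 {X : Type u} [Group X] [Finite X] (n : ℕ) (hn : 4 ≤ n)
    (hX : Nat.card X = p ^ n) (hc : Group.nilpotencyClass X = n - 1) :
    Nat.card (Subgroup.center X) = p ∧ Nat.card (Subgroup.upperCentralSeries X 2) = p ^ 2 := by
  obtain ⟨h1, h2, h3⟩ := Cfsg.Agent.Helper16.maximal_class_center n (by omega) hX hc
  have h3' : Group.nilpotencyClass (X ⧸ Subgroup.center X) = (n - 1) - 1 := by rw [h3]; omega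
  obtain ⟨h4, -, -⟩ := Cfsg.Agent.Helper16.maximal_class_center (n - 1) (by omega) h2 h3'
  refine ⟨h1, ?_⟩
  have e : Subgroup.upperCentralSeries X 2 =
      (Subgroup.center (X ⧸ Subgroup.center X)).comap (QuotientGroup.mk' (Subgroup.center X)) := by
    rw [← Subgroup.upperCentralSeries_one (X ⧸ Subgroup.center X),
      Subgroup.comap_upperCentralSeries_quotient_center]
  rw [e, Cfsg.Agent.Helper22.card_comap_mk', h4, h1]
  ring

end Cfsg.Agent.Helper14.MaxClassZ2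

namespace Cfsg.Agent.Helper14.MaxClassZ2

open Cfsg Cfsg.FusionSystem Cfsg.Agent.Helper25 Cfsg.Agent.Helper14.FusExtra

variable {Ω : Type*} [Group Ω]

/-- the centre `Z₁` and second centre `Z₂` of `S`, of orders `p` and `p²` -/
structure Z2Data (p : ℕ) (S Z₁ Z₂ : Subgroup Ω) : Prop where
  le12 : Z₁ ≤ Z₂
  le2S : Z₂ ≤ S
  card1 : Nat.card Z₁ = p
  card2 : Nat.card Z₂ = p ^ 2
  comm : ∀ x ∈ S, ∀ b ∈ Z₂, x * b * x⁻¹ * b⁻¹ ∈ Z₁
  mem1 : ∀ z, z ∈ Z₁ ↔ z ∈ S ∧ ∀ x ∈ S, x * z = z * x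

theorem z2Data_of_maxClass {p : ℕ} [hp : Fact p.Prime] {S : Subgroup Ω} [Finite S] (n : ℕ)
    (hn : Nat.card S = p ^ n) (h4 : 4 ≤ n) (hmax : Subgroup.lowerCentralSeries S (n - 2) ≠ ⊥) :
    Z2Data p S ((Subgroup.center ↥S).map S.subtype)
      ((Subgroup.upperCentralSeries ↥S 2).map S.subtype) := by
  have hmax' : Subgroup.lowerCentralSeries (⊤ : Subgroup ↥S) (n - 2) ≠ ⊥ := by
    intro h
    apply hmax
    rw [← Subgroup.top_subtype_lowerCentralSeries, h, Subgroup.map_bot]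
  have hc := nilpotencyClass_eq (p := p) n (by omega) hn hmax'
  obtain ⟨hc1, hc2⟩ := card_center_and_Z2 (p := p) n h4 hn hc
  have hmem1 : ∀ z, z ∈ (Subgroup.center ↥S).map S.subtype ↔ z ∈ S ∧ ∀ x ∈ S, x * z = z * x := by
    intro z
    constructor
    · rintro ⟨w, hw, rfl⟩
      refine ⟨w.2, fun x hx => ?_⟩
      exact congrArg Subtype.val (Subgroup.mem_center_iff.mp hw ⟨x, hx⟩)
    · rintro ⟨hz, hzc⟩
      refine ⟨⟨z, hz⟩, ?_, rfl⟩
      show (⟨z, hz⟩ : ↥S) ∈ Subgroup.center ↥S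
      rw [Subgroup.mem_center_iff]
      intro g
      exact Subtype.ext (hzc g g.2)
  refine ⟨?_, Subgroup.map_subtype_le _, ?_, ?_, ?_, hmem1⟩
  · apply Subgroup.map_mono
    rw [← Subgroup.upperCentralSeries_one]
    exact Subgroup.upperCentralSeries_mono ↥S (by norm_num)
  · rw [← hc1]
    exact Nat.card_congr
      ((Subgroup.center ↥S).equivMapOfInjective S.subtype S.subtype_injective).symm.toEquiv
  · rw [← hc2]
    exact Nat.card_congr
      ((Subgroup.upperCentralSeries ↥S 2).equivMapOfInjective S.subtype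
        S.subtype_injective).symm.toEquiv
  · rintro x hx _ ⟨b, hb, rfl⟩
    have h1 : ∀ y : ↥S, b * y * b⁻¹ * y⁻¹ ∈ Subgroup.upperCentralSeries ↥S 1 :=
      Subgroup.mem_upperCentralSeries_succ_iff.mp hb
    have h2 := h1 ⟨x, hx⟩
    rw [Subgroup.upperCentralSeries_one] at h2
    have h3 := Subgroup.inv_mem _ h2
    refine ⟨_, h3, ?_⟩
    simp [mul_assoc]

namespace Z2Data

variable {p : ℕ} [hp : Fact p.Prime] {S Z₁ Z₂ : Subgroup Ω}

theorem cent (D : Z2Data p S Z₁ Z₂) {z : Ω} (hz : z ∈ Z₁) {x : Ω} (hx : x ∈ S) : x * z = z * x :=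
  ((D.mem1 z).mp hz).2 x hx

theorem exists_not_mem (D : Z2Data p S Z₁ Z₂) : ∃ a ∈ Z₂, a ∉ Z₁ := by
  by_contra h
  push Not at h
  have h0 : Z₁ = Z₂ := le_antisymm D.le12 h
  have h1 := D.card1
  rw [h0, D.card2, sq] at h1
  have hp' := hp.out
  have h2 : p = 1 := Nat.eq_of_mul_eq_mul_left hp'.pos (h1.trans (mul_one p).symm)
  exact hp'.one_lt.ne' h2

theorem finite2 (D : Z2Data p S Z₁ Z₂) : Finite Z₂ :=
  Nat.finite_of_card_ne_zero (by rw [D.card2]; exact pow_ne_zero _ hp.out.ne_zero)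

theorem index12 (D : Z2Data p S Z₁ Z₂) : (Z₁.subgroupOf Z₂).index = p := by
  haveI := D.finite2
  have h1 : Nat.card (Z₁.subgroupOf Z₂) * (Z₁.subgroupOf Z₂).index = Nat.card Z₂ :=
    Subgroup.card_mul_index _
  have h2 : Nat.card (Z₁.subgroupOf Z₂) = Nat.card Z₁ :=
    Nat.card_congr (Subgroup.subgroupOfEquivOfLe D.le12).toEquiv
  rw [h2, D.card1, D.card2, sq] at h1
  exact Nat.eq_of_mul_eq_mul_left hp.out.pos h1

theorem decomp (D : Z2Data p S Z₁ Z₂) {a : Ω} (ha : a ∈ Z₂) (ha1 : a ∉ Z₁) {b : Ω} (hb : b ∈ Z₂) :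
    ∃ z ∈ Z₁, ∃ k : ℤ, b = a ^ k * z := by
  haveI := D.finite2
  exact exists_decomp_of_not_mem (IsPGroup.of_card D.card2) D.index12 ha ha1 hb

theorem abelian (D : Z2Data p S Z₁ Z₂) {b b' : Ω} (hb : b ∈ Z₂) (hb' : b' ∈ Z₂) :
    b * b' = b' * b := by
  obtain ⟨a, ha, ha1⟩ := D.exists_not_mem
  obtain ⟨z, hz, k, rfl⟩ := D.decomp ha ha1 hb
  obtain ⟨z', hz', l, rfl⟩ := D.decomp ha ha1 hb'
  have haS := D.le2S ha
  have h1 : a ^ l * z = z * a ^ l := D.cent hz (S.zpow_mem haS l)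
  have h2 : a ^ k * z' = z' * a ^ k := D.cent hz' (S.zpow_mem haS k)
  have h3 : z' * z = z * z' := D.cent hz (D.le2S (D.le12 hz'))
  have h4 : a ^ k * a ^ l = a ^ l * a ^ k := by rw [← zpow_add, ← zpow_add, add_comm]
  calc a ^ k * z * (a ^ l * z') = a ^ k * (z * a ^ l) * z' := by group
    _ = a ^ k * (a ^ l * z) * z' := by rw [h1]
    _ = (a ^ k * a ^ l) * (z * z') := by group
    _ = (a ^ l * a ^ k) * (z' * z) := by rw [h4, h3]
    _ = a ^ l * (a ^ k * z') * z := by group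
    _ = a ^ l * (z' * a ^ k) * z := by rw [h2]
    _ = a ^ l * z' * (a ^ k * z) := by group

theorem conj_mem (D : Z2Data p S Z₁ Z₂) {x : Ω} (hx : x ∈ S) {b : Ω} (hb : b ∈ Z₂) :
    x * b * x⁻¹ ∈ Z₂ := by
  have h1 := D.le12 (D.comm x hx b hb)
  have : x * b * x⁻¹ = (x * b * x⁻¹ * b⁻¹) * b := by group
  rw [this]
  exact Z₂.mul_mem h1 hb

theorem le_cent (D : Z2Data p S Z₁ Z₂) : Z₂ ≤ centralizerIn S Z₂ :=
  fun _ hb => mem_centralizerIn.mpr ⟨D.le2S hb, fun _ hx => D.abelian hx hb⟩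

theorem cent_conj_mem (D : Z2Data p S Z₁ Z₂) {x : Ω} (hx : x ∈ S) {c : Ω}
    (hc : c ∈ centralizerIn S Z₂) : x * c * x⁻¹ ∈ centralizerIn S Z₂ := by
  obtain ⟨hcS, hcc⟩ := mem_centralizerIn.mp hc
  refine mem_centralizerIn.mpr ⟨S.mul_mem (S.mul_mem hx hcS) (S.inv_mem hx), fun b hb => ?_⟩
  have hb' : x⁻¹ * b * (x⁻¹)⁻¹ ∈ Z₂ := D.conj_mem (S.inv_mem hx) hb
  have h1 := hcc _ hb'
  calc b * (x * c * x⁻¹) = x * ((x⁻¹ * b * (x⁻¹)⁻¹) * c) * x⁻¹ := by group
    _ = x * (c * (x⁻¹ * b * (x⁻¹)⁻¹)) * x⁻¹ := by rw [h1]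
    _ = x * c * x⁻¹ * b := by group

theorem index_cent (D : Z2Data p S Z₁ Z₂) [Finite S] (hS : IsPGroup p S) :
    ((centralizerIn S Z₂).subgroupOf S).index = p := by
  have hp' := hp.out
  obtain ⟨a, ha, ha1⟩ := D.exists_not_mem
  have haS := D.le2S ha
  set C := centralizerIn S Z₂ with hC
  have hCS : C ≤ S := centralizerIn_le
  haveI : Finite Z₁ := finite_of_le_finite (D.le12.trans D.le2S)
  haveI : Finite C := finite_of_le_finite hCS
  have h1 : Nat.card S ≤ p * Nat.card ↥(S ⊓ Subgroup.centralizer {a}) :=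
    card_le_mul_card_cent D.card1.le (fun b hb => D.comm b hb a ha) (fun z hz b hb => D.cent hz hb)
      (fun z hz z' hz' => D.cent hz' (D.le2S (D.le12 hz)))
  have h2 : S ⊓ Subgroup.centralizer {a} ≤ C := by
    intro x hx
    obtain ⟨hxS, hxa⟩ := Subgroup.mem_inf.mp hx
    have hxa' : a * x = x * a := Subgroup.mem_centralizer_iff.mp hxa a (Set.mem_singleton _)
    refine mem_centralizerIn.mpr ⟨hxS, fun b hb => ?_⟩
    obtain ⟨z, hz, k, rfl⟩ := D.decomp ha ha1 hb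
    have e1 : a ^ k * x = x * a ^ k := (Commute.zpow_left hxa' k).eq
    have e2 : x * z = z * x := D.cent hz hxS
    rw [mul_assoc, ← e2, ← mul_assoc, e1, mul_assoc]
  have h3 : Nat.card S ≤ p * Nat.card C :=
    h1.trans (Nat.mul_le_mul_left _ (Subgroup.card_le_of_le h2))
  have h4 : Nat.card (C.subgroupOf S) = Nat.card C :=
    Nat.card_congr (Subgroup.subgroupOfEquivOfLe hCS).toEquiv
  have h5 : Nat.card (C.subgroupOf S) * (C.subgroupOf S).index = Nat.card S :=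
    Subgroup.card_mul_index _
  rw [h4] at h5
  have hle : (C.subgroupOf S).index ≤ p := by
    rw [← h5, mul_comm] at h3
    exact Nat.le_of_mul_le_mul_right h3 Nat.card_pos
  have hne1 : (C.subgroupOf S).index ≠ 1 := by
    intro h
    rw [Subgroup.index_eq_one, Subgroup.subgroupOf_eq_top] at h
    apply ha1
    rw [D.mem1]
    exact ⟨haS, fun x hx => ((mem_centralizerIn.mp (h hx)).2 a ha).symm⟩
  obtain ⟨n, hn⟩ := IsPGroup.iff_card.mp hS
  have hdvd : (C.subgroupOf S).index ∣ p ^ n := by rw [← hn]; exact Subgroup.index_dvd_card _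
  obtain ⟨k, -, hk⟩ := (Nat.dvd_prime_pow hp').mp hdvd
  rcases k with _ | _ | k
  · exact absurd (by rw [hk, pow_zero]) hne1
  · rw [hk, pow_one]
  · exfalso
    rw [hk] at hle
    have : p ^ 2 ≤ p ^ (k + 1 + 1) := Nat.pow_le_pow_right hp'.pos (by omega)
    have h6 : p < p ^ 2 := by
      rw [sq]
      exact lt_mul_of_one_lt_left hp'.pos hp'.one_lt
    omega

end Z2Data

end Cfsg.Agent.Helper14.MaxClassZ2
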