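import Mathlib
import Cfsg.Agent.Lib.Helper14.Basic

set_option autoImplicit false

namespace Cfsg.Agent.Helper14

section abstractNorm

variable {Γ M : Type*} [Group Γ] [Finite Γ] [CommGroup M] [MulDistribMulAction Γ M]

/-- The norm of `u` over the cosets of `B` in `A` (using canonical representatives). -/
noncomputable def cosetNorm (A B : Subgroup Γ) (u : M) : M :=
  letI := Fintype.ofFinite (↥A ⧸ B.subgroupOf A)
  ∏ q : ↥A ⧸ B.subgroupOf A, ((Quotient.out q : ↥A) : Γ) • u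

theorem cosetNorm_mul (A B : Subgroup Γ) (u v : M) :
    cosetNorm A B (u * v) = cosetNorm A B u * cosetNorm A B v := by
  unfold cosetNorm
  letI := Fintype.ofFinite (↥A ⧸ B.subgroupOf A)
  rw [← Finset.prod_mul_distrib]
  apply Finset.prod_congr rfl
  intro q _
  exact smul_mul' _ _ _

theorem cosetNorm_one (A B : Subgroup Γ) : cosetNorm A B (1 : M) = 1 := by
  unfold cosetNorm
  letI := Fintype.ofFinite (↥A ⧸ B.subgroupOf A)
  apply Finset.prod_eq_one
  intro q _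
  exact smul_one _

/-- Two representatives of the same coset act in the same way on a `B`-fixed element. -/
theorem smul_eq_of_mk_eq {A B : Subgroup Γ} {u : M} (hu : ∀ b ∈ B, b • u = u) {g g' : ↥A}
    (h : (QuotientGroup.mk g : ↥A ⧸ B.subgroupOf A) = QuotientGroup.mk g') : (g : Γ) • u = (g' : Γ) • u := by
  rw [QuotientGroup.eq] at h
  have hb : ((g⁻¹ * g' : ↥A) : Γ) ∈ B := Subgroup.mem_subgroupOf.mp h
  have := hu _ hb
  have e : (g' : Γ) = (g : Γ) * ((g⁻¹ * g' : ↥A) : Γ) := by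
    simp
  rw [e, mul_smul, this]

theorem out_smul_eq {A B : Subgroup Γ} {u : M} (hu : ∀ b ∈ B, b • u = u) (g : ↥A) :
    ((Quotient.out (QuotientGroup.mk g : ↥A ⧸ B.subgroupOf A) : ↥A) : Γ) • u = (g : Γ) • u := by
  apply smul_eq_of_mk_eq hu
  exact QuotientGroup.out_eq' _

/-- The norm of a `B`-fixed element is `A`-fixed. -/
theorem smul_cosetNorm {A B : Subgroup Γ} {u : M} (hu : ∀ b ∈ B, b • u = u) {a : Γ} (ha : a ∈ A) :
    a • cosetNorm A B u = cosetNorm A B u := by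
  unfold cosetNorm
  letI := Fintype.ofFinite (↥A ⧸ B.subgroupOf A)
  rw [Finset.smul_prod']
  have h1 : ∀ q : ↥A ⧸ B.subgroupOf A, a • (((Quotient.out q : ↥A) : Γ) • u) =
      ((Quotient.out ((⟨a, ha⟩ : ↥A) • q) : ↥A) : Γ) • u := by
    intro q
    have hq : (⟨a, ha⟩ : ↥A) • q = QuotientGroup.mk ((⟨a, ha⟩ : ↥A) * Quotient.out q) := by
      conv_lhs => rw [← QuotientGroup.out_eq' q]
      rfl
    rw [hq, out_smul_eq hu, ← mul_smul]
    rfl
  rw [Finset.prod_congr rfl (fun q _ => h1 q)]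
  exact Equiv.prod_comp (MulAction.toPerm (⟨a, ha⟩ : ↥A))
    (fun q : ↥A ⧸ B.subgroupOf A => ((Quotient.out q : ↥A) : Γ) • u)

/-- The norm of an `A`-fixed element is its power by the index. -/
theorem cosetNorm_of_fixed {A B : Subgroup Γ} {u : M} (hu : ∀ a ∈ A, a • u = u) :
    cosetNorm A B u = u ^ (B.relIndex A) := by
  unfold cosetNorm
  letI := Fintype.ofFinite (↥A ⧸ B.subgroupOf A)
  rw [Finset.prod_congr rfl (fun q _ => hu _ (Quotient.out q).2), Finset.prod_const, Finset.card_univ]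
  congr 1
  rw [← Nat.card_eq_fintype_card]
  rfl

/-- Equivariance of the norm under elements normalizing `A` and `B`. -/
theorem smul_cosetNorm_of_mem_normalizer {A B : Subgroup Γ} {u : M} (hu : ∀ b ∈ B, b • u = u) {t : Γ}
    (htA : t ∈ Subgroup.normalizer (A : Set Γ)) (htB : t ∈ Subgroup.normalizer (B : Set Γ)) :
    t • cosetNorm A B u = cosetNorm A B (t • u) := by
  have hu' : ∀ b ∈ B, b • (t • u) = t • u := by
    intro b hb
    have h1 : t⁻¹ * b * t⁻¹⁻¹ ∈ B := (Subgroup.mem_normalizer_iff.mp (Subgroup.inv_mem _ htB) b).mp hb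
    have := hu _ h1
    calc b • (t • u) = t • ((t⁻¹ * b * t⁻¹⁻¹) • u) := by
          rw [← mul_smul, ← mul_smul]; congr 1; group
      _ = t • u := by rw [this]
  unfold cosetNorm
  letI := Fintype.ofFinite (↥A ⧸ B.subgroupOf A)
  rw [Finset.smul_prod']
  -- the conjugation map on cosets
  have hconj : ∀ g : ↥A, t * (g : Γ) * t⁻¹ ∈ A := fun g => (Subgroup.mem_normalizer_iff.mp htA g).mp g.2
  let σ : ↥A ⧸ B.subgroupOf A → ↥A ⧸ B.subgroupOf A :=
    fun q => QuotientGroup.mk (⟨t * ((Quotient.out q : ↥A) : Γ) * t⁻¹, hconj _⟩ : ↥A)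
  have hσinj : Function.Injective σ := by
    intro q₁ q₂ h
    have h' := QuotientGroup.eq.mp h
    have h2 : ((⟨t * ((Quotient.out q₁ : ↥A) : Γ) * t⁻¹, hconj _⟩ : ↥A)⁻¹ *
        (⟨t * ((Quotient.out q₂ : ↥A) : Γ) * t⁻¹, hconj _⟩ : ↥A) : Γ) ∈ B := Subgroup.mem_subgroupOf.mp h'
    have e : ((⟨t * ((Quotient.out q₁ : ↥A) : Γ) * t⁻¹, hconj _⟩ : ↥A)⁻¹ *
        (⟨t * ((Quotient.out q₂ : ↥A) : Γ) * t⁻¹, hconj _⟩ : ↥A) : Γ) =
          t * (((Quotient.out q₁ : ↥A) : Γ)⁻¹ * ((Quotient.out q₂ : ↥A) : Γ)) * t⁻¹ := by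
      simp only [Subgroup.coe_mul, Subgroup.coe_inv]; group
    rw [e] at h2
    have h3 : ((Quotient.out q₁ : ↥A) : Γ)⁻¹ * ((Quotient.out q₂ : ↥A) : Γ) ∈ B :=
      (Subgroup.mem_normalizer_iff.mp htB _).mpr h2
    rw [← QuotientGroup.out_eq' q₁, ← QuotientGroup.out_eq' q₂, QuotientGroup.eq]
    exact Subgroup.mem_subgroupOf.mpr (by simpa using h3)
  have hσ : Function.Bijective σ := Finite.injective_iff_bijective.mp hσinj
  have h1 : ∀ q : ↥A ⧸ B.subgroupOf A, t • (((Quotient.out q : ↥A) : Γ) • u) =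
      ((Quotient.out (σ q) : ↥A) : Γ) • (t • u) := by
    intro q
    rw [out_smul_eq hu', ← mul_smul, ← mul_smul]
    congr 1
    show t * _ = t * _ * t⁻¹ * t
    group
  rw [Finset.prod_congr rfl (fun q _ => h1 q)]
  exact hσ.prod_comp (fun q : ↥A ⧸ B.subgroupOf A => ((Quotient.out q : ↥A) : Γ) • (t • u))

/-- `z ^ [A : B]` is the norm of `z` times a product of "commutators" `z * (a • z)⁻¹`. -/
theorem pow_relIndex_eq_cosetNorm_mul {A B : Subgroup Γ} (z : M) (D : Subgroup M)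
    (hD : ∀ a ∈ A, z * (a • z)⁻¹ ∈ D) :
    ∃ w ∈ D, z ^ (B.relIndex A) = cosetNorm A B z * w := by
  refine ⟨z ^ (B.relIndex A) * (cosetNorm A B z)⁻¹, ?_, by simp⟩
  unfold cosetNorm
  letI := Fintype.ofFinite (↥A ⧸ B.subgroupOf A)
  have e : z ^ (B.relIndex A) = ∏ _q : ↥A ⧸ B.subgroupOf A, z := by
    rw [Finset.prod_const, Finset.card_univ]
    congr 1
    rw [← Nat.card_eq_fintype_card]
    rfl
  rw [e, ← Finset.prod_inv_distrib, ← Finset.prod_mul_distrib]
  apply Subgroup.prod_mem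
  intro q _
  exact hD _ (Quotient.out q).2

/-- If every fixed point of the `p`-group `T` on the finite abelian `p`-group `M` is fixed by `A`, where `T` normalizes `A`
and `T₀ ≤ A` of index prime to `p`, then every fixed point of `T₀` is fixed by `A`. -/
theorem fixed_of_fixed_of_coprime_index {p : ℕ} [Fact p.Prime] [Finite M] (hM : IsPGroup p M) {A T T₀ : Subgroup Γ}
    (hT : IsPGroup p T) (hTA : T ≤ Subgroup.normalizer (A : Set Γ)) (hTT₀ : T ≤ Subgroup.normalizer (T₀ : Set Γ))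
    (hidx : (T₀.relIndex A).Coprime p)
    (hfix : ∀ u : M, (∀ t ∈ T, t • u = u) → ∀ a ∈ A, a • u = u) :
    ∀ u : M, (∀ b ∈ T₀, b • u = u) → ∀ a ∈ A, a • u = u := by
  set m := T₀.relIndex A with hm
  -- powers by `m` detect fixed points
  have hpow : ∀ u : M, (∀ a ∈ A, a • (u ^ m) = u ^ m) → ∀ a ∈ A, a • u = u := by
    intro u hu a ha
    have h1 : (a • u * u⁻¹) ^ m = 1 := by
      rw [mul_pow, inv_pow, ← smul_pow', hu a ha, mul_inv_cancel]
    obtain ⟨j, hj⟩ := hM (a • u * u⁻¹)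
    have := eq_one_of_pow_eq_one_of_coprime h1 hj (Nat.Coprime.pow_right j hidx)
    exact mul_inv_eq_one.mp this
  -- invariance of fixed points under `T`
  have hinv : ∀ t ∈ T, ∀ u : M, (∀ b ∈ T₀, b • u = u) → ∀ b ∈ T₀, b • (t • u) = t • u := by
    intro t ht u hu b hb
    have h1 : t⁻¹ * b * t⁻¹⁻¹ ∈ T₀ :=
      (Subgroup.mem_normalizer_iff.mp (Subgroup.inv_mem _ (hTT₀ ht)) b).mp hb
    have := hu _ h1
    calc b • (t • u) = t • ((t⁻¹ * b * t⁻¹⁻¹) • u) := by
          rw [← mul_smul, ← mul_smul]; congr 1; group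
      _ = t • u := by rw [this]
  let U : Subgroup M :=
    { carrier := {u | ∀ b ∈ T₀, b • u = u}
      mul_mem' := by
        intro u v hu hv b hb
        rw [smul_mul', hu b hb, hv b hb]
      one_mem' := fun b _ => smul_one b
      inv_mem' := by
        intro u hu b hb
        rw [smul_inv', hu b hb] }
  let φ : ↥U →* M :=
    { toFun := fun u => (u : M) ^ m * (cosetNorm A T₀ (u : M))⁻¹
      map_one' := by simp [cosetNorm_one]
      map_mul' := by
        intro u v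
        simp only [Subgroup.coe_mul, cosetNorm_mul, mul_pow, mul_inv]
        exact mul_mul_mul_comm _ _ _ _ }
  set K := φ.range with hK
  have hKinv : ∀ t ∈ T, ∀ k ∈ K, t • k ∈ K := by
    rintro t ht _ ⟨u, rfl⟩
    refine ⟨⟨t • (u : M), hinv t ht u u.2⟩, ?_⟩
    show (t • (u : M)) ^ m * (cosetNorm A T₀ (t • (u : M)))⁻¹ = t • ((u : M) ^ m * (cosetNorm A T₀ (u : M))⁻¹)
    rw [smul_mul', smul_inv', smul_pow', smul_cosetNorm_of_mem_normalizer u.2 (hTA ht) (hTT₀ ht)]
  have hKbot : K = ⊥ := by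
    by_contra hne
    letI : MulAction ↥T ↥K :=
      { smul := fun t k => ⟨(t : Γ) • (k : M), hKinv t t.2 k k.2⟩
        one_smul := fun k => Subtype.ext (one_smul Γ (k : M))
        mul_smul := fun s t k => Subtype.ext (mul_smul (s : Γ) (t : Γ) (k : M)) }
    have hcard : p ∣ Nat.card ↥K := by
      rcases (hM.to_subgroup K).card_eq_or_dvd with h1 | h1
      · exact absurd (Subgroup.card_eq_one.mp h1) hne
      · exact h1
    have h1 : (1 : ↥K) ∈ MulAction.fixedPoints ↥T ↥K := by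
      intro t
      exact Subtype.ext (smul_one (t : Γ))
    obtain ⟨b, hb, hb1⟩ := hT.exists_fixed_point_of_prime_dvd_card_of_fixed_point ↥K hcard h1
    apply hb1
    obtain ⟨u, hu⟩ := b.2
    have hbT : ∀ t ∈ T, t • (b : M) = (b : M) := by
      intro t ht
      exact congrArg Subtype.val (hb ⟨t, ht⟩)
    have hbA := hfix _ hbT
    have hφu : (u : M) ^ m * (cosetNorm A T₀ (u : M))⁻¹ = (b : M) := hu
    have hum : (u : M) ^ m = (b : M) * cosetNorm A T₀ (u : M) := by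
      rw [← hφu]; simp
    have huA : ∀ a ∈ A, a • (u : M) = (u : M) := by
      apply hpow
      intro a ha
      rw [hum, smul_mul', hbA a ha, smul_cosetNorm u.2 ha]
    have : (b : M) = 1 := by
      rw [← hφu, cosetNorm_of_fixed huA]; simp [hm]
    exact (Subtype.ext this).symm
  intro u hu
  apply hpow
  have h1 : φ ⟨u, hu⟩ ∈ K := ⟨_, rfl⟩
  rw [hKbot, Subgroup.mem_bot] at h1
  have h2 : u ^ m * (cosetNorm A T₀ u)⁻¹ = 1 := h1
  have h3 : u ^ m = cosetNorm A T₀ u := mul_inv_eq_one.mp h2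
  intro a ha
  rw [h3, smul_cosetNorm hu ha]

end abstractNorm

section ambientNorm

variable {X : Type*} [Group X] [Finite X]

/-- Ambient form of `fixed_of_fixed_of_coprime_index`, for conjugation on an abelian `p`-subgroup `W`. -/
theorem inf_centralizer_le_of_coprime_index {p : ℕ} [Fact p.Prime] {W A T T₀ : Subgroup X}
    (hWc : ∀ a ∈ W, ∀ b ∈ W, a * b = b * a) (hWp : IsPGroup p W)
    (hAW : A ≤ Subgroup.normalizer (W : Set X)) (hTW : T ≤ Subgroup.normalizer (W : Set X))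
    (hTA : T ≤ Subgroup.normalizer (A : Set X)) (hTT₀ : T ≤ Subgroup.normalizer (T₀ : Set X))
    (hidx : (T₀.relIndex A).Coprime p) (hT : IsPGroup p T)
    (hfix : W ⊓ Subgroup.centralizer (T : Set X) ≤ Subgroup.centralizer (A : Set X)) :
    W ⊓ Subgroup.centralizer (T₀ : Set X) ≤ Subgroup.centralizer (A : Set X) := by
  set N := Subgroup.normalizer (W : Set X) with hN
  letI : CommGroup ↥W := { (inferInstance : Group ↥W) with mul_comm := fun a b => Subtype.ext (hWc a a.2 b b.2) }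
  have hsmul : ∀ (g : ↥N) (u : ↥W), ((g • u : ↥W) : X) = (g : X) * (u : X) * (g : X)⁻¹ := fun _ _ => rfl
  have hfixiff : ∀ (B : Subgroup X), B ≤ N → ∀ u : ↥W,
      (∀ b ∈ B.subgroupOf N, b • u = u) ↔ (u : X) ∈ Subgroup.centralizer (B : Set X) := by
    intro B hBN u
    rw [Subgroup.mem_centralizer_iff]
    constructor
    · intro h b hb
      have h1 := congrArg Subtype.val (h ⟨b, hBN hb⟩ (Subgroup.mem_subgroupOf.mpr hb))
      rw [hsmul] at h1
      have h2 : b * (u : X) * b⁻¹ = (u : X) := h1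
      calc b * (u : X) = (b * (u : X) * b⁻¹) * b := by group
        _ = (u : X) * b := by rw [h2]
    · intro h b hb
      apply Subtype.ext
      rw [hsmul]
      have := h (b : X) (Subgroup.mem_subgroupOf.mp hb)
      calc (b : X) * (u : X) * (b : X)⁻¹ = ((b : X) * (u : X)) * (b : X)⁻¹ := by group
        _ = (u : X) := by rw [this]; group
  have hnorm : ∀ (B : Subgroup X), T ≤ Subgroup.normalizer (B : Set X) →
      T.subgroupOf N ≤ Subgroup.normalizer ((B.subgroupOf N : Subgroup ↥N) : Set ↥N) := by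
    intro B hTB t ht
    rw [Subgroup.mem_normalizer_iff]
    intro g
    rw [Subgroup.mem_subgroupOf, Subgroup.mem_subgroupOf]
    exact Subgroup.mem_normalizer_iff.mp (hTB (Subgroup.mem_subgroupOf.mp ht)) (g : X)
  have hidx' : ((T₀.subgroupOf N).relIndex (A.subgroupOf N)).Coprime p := by
    rw [Subgroup.relIndex_subgroupOf hAW]; exact hidx
  have key := fixed_of_fixed_of_coprime_index (Γ := ↥N) (M := ↥W) hWp (A := A.subgroupOf N)
    (T := T.subgroupOf N) (T₀ := T₀.subgroupOf N) (hT.comap_subtype) (hnorm A hTA) (hnorm T₀ hTT₀) hidx'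
    (by
      intro u hu
      have h1 := (hfixiff T hTW u).mp hu
      have h2 := hfix (Subgroup.mem_inf.mpr ⟨u.2, h1⟩)
      exact (hfixiff A hAW u).mpr h2)
  intro u hu
  obtain ⟨huW, huT₀⟩ := Subgroup.mem_inf.mp hu
  by_cases hT₀N : T₀ ≤ N
  · have := key ⟨u, huW⟩ ((hfixiff T₀ hT₀N ⟨u, huW⟩).mpr huT₀)
    exact (hfixiff A hAW ⟨u, huW⟩).mp this
  · -- `T₀ ⊓ N` in place of `T₀`
    have h1 : (T₀ ⊓ N).subgroupOf N = T₀.subgroupOf N := by
      ext g
      simp [Subgroup.mem_subgroupOf]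
    have hu' : ∀ b ∈ T₀.subgroupOf N, b • (⟨u, huW⟩ : ↥W) = ⟨u, huW⟩ := by
      rw [← h1]
      apply (hfixiff (T₀ ⊓ N) inf_le_right ⟨u, huW⟩).mpr
      exact Subgroup.centralizer_le (inf_le_left : T₀ ⊓ N ≤ T₀) huT₀
    exact (hfixiff A hAW ⟨u, huW⟩).mp (key ⟨u, huW⟩ hu')

/-- Ambient form of `pow_relIndex_eq_cosetNorm_mul`. -/
theorem pow_relIndex_eq_mul {W A T₀ : Subgroup X} (hWc : ∀ a ∈ W, ∀ b ∈ W, a * b = b * a)
    (hAW : A ≤ Subgroup.normalizer (W : Set X)) (hT₀A : T₀ ≤ A) {z : X} (hzW : z ∈ W)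
    (hzT₀ : z ∈ Subgroup.centralizer (T₀ : Set X)) (D : Subgroup X)
    (hD : ∀ a ∈ A, z * (a * z * a⁻¹)⁻¹ ∈ D) :
    ∃ c ∈ W ⊓ Subgroup.centralizer (A : Set X), ∃ w ∈ W ⊓ D, z ^ (T₀.relIndex A) = c * w := by
  set N := Subgroup.normalizer (W : Set X) with hN
  letI : CommGroup ↥W := { (inferInstance : Group ↥W) with mul_comm := fun a b => Subtype.ext (hWc a a.2 b b.2) }
  have hsmul : ∀ (g : ↥N) (u : ↥W), ((g • u : ↥W) : X) = (g : X) * (u : X) * (g : X)⁻¹ := fun _ _ => rfl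
  obtain ⟨w, hw, hzw⟩ := pow_relIndex_eq_cosetNorm_mul (Γ := ↥N) (M := ↥W) (A := A.subgroupOf N)
    (B := T₀.subgroupOf N) (⟨z, hzW⟩ : ↥W) (D.subgroupOf W) (by
      intro a ha
      rw [Subgroup.mem_subgroupOf]
      exact hD (a : X) (Subgroup.mem_subgroupOf.mp ha))
  have hfixz : ∀ b ∈ T₀.subgroupOf N, b • (⟨z, hzW⟩ : ↥W) = ⟨z, hzW⟩ := by
    intro b hb
    apply Subtype.ext
    rw [hsmul]
    have := (Subgroup.mem_centralizer_iff.mp hzT₀) (b : X) (Subgroup.mem_subgroupOf.mp hb)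
    show (b : X) * z * (b : X)⁻¹ = z
    calc (b : X) * z * (b : X)⁻¹ = ((b : X) * z) * (b : X)⁻¹ := by group
      _ = z := by rw [this]; group
  refine ⟨(cosetNorm (A.subgroupOf N) (T₀.subgroupOf N) (⟨z, hzW⟩ : ↥W) : ↥W), ?_, (w : X), ?_, ?_⟩
  · refine Subgroup.mem_inf.mpr ⟨Subtype.property _, ?_⟩
    rw [Subgroup.mem_centralizer_iff]
    intro a ha
    have h1 := congrArg Subtype.val (smul_cosetNorm hfixz (a := (⟨a, hAW ha⟩ : ↥N)) (Subgroup.mem_subgroupOf.mpr ha))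
    rw [hsmul] at h1
    set c := ((cosetNorm (A.subgroupOf N) (T₀.subgroupOf N) (⟨z, hzW⟩ : ↥W) : ↥W) : X) with hc
    have h2 : a * c * a⁻¹ = c := h1
    calc a * c = (a * c * a⁻¹) * a := by group
      _ = c * a := by rw [h2]
  · exact Subgroup.mem_inf.mpr ⟨w.2, Subgroup.mem_subgroupOf.mp hw⟩
  · rw [Subgroup.relIndex_subgroupOf hAW] at hzw
    have := congrArg Subtype.val hzw
    simpa using this

end ambientNorm

end Cfsg.Agent.Helper14
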