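import Mathlib
import Cfsg.Agent.Lib.Helper14.StronglyEmbedded

set_option autoImplicit false

namespace Cfsg.Agent.Helper14

open Cfsg

variable {X : Type*} [Group X]

/-- The intersection of a Sylow `p`-subgroup with a normal subgroup is a Sylow `p`-subgroup of the latter. -/
theorem isSylowOf_inf_normal {p : ℕ} [Fact p.Prime] [Finite X] (T : Sylow p X) {C : Subgroup X} (hC : C.Normal) :
    IsSylowOf p C ((T : Subgroup X) ⊓ C) := by
  rw [isSylowOf_iff]
  refine ⟨inf_le_right, T.isPGroup'.to_le inf_le_left, ?_⟩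
  intro Q hQ hTQ hQC
  obtain ⟨P', hP'⟩ := hQ.exists_le_sylow
  obtain ⟨g, hg⟩ := sylow_exists_conj T P'
  have hCg : C.map (MulAut.conj g).toMonoidHom = C :=
    map_conj_eq_self_of_le_normalizer (H := ⊤)
      (by rw [Subgroup.normalizer_eq_top_iff.mpr hC]) (Subgroup.mem_top g)
  have hQle : Q ≤ ((T : Subgroup X) ⊓ C).map (MulAut.conj g).toMonoidHom := by
    rw [Subgroup.map_inf _ _ _ (MulAut.conj g).injective, hCg, ← hg]
    exact le_inf hP' hQC
  have hcard : Nat.card Q ≤ Nat.card ↥((T : Subgroup X) ⊓ C) := by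
    calc Nat.card Q ≤ Nat.card ↥(((T : Subgroup X) ⊓ C).map (MulAut.conj g).toMonoidHom) :=
          Subgroup.card_le_of_le hQle
      _ = Nat.card ↥((T : Subgroup X) ⊓ C) := Subgroup.card_map_of_injective (MulAut.conj g).injective
  exact (Subgroup.eq_of_le_of_card_ge hTQ hcard).symm

theorem le_normalizer_sup {H A B : Subgroup X} (hA : H ≤ Subgroup.normalizer (A : Set X))
    (hB : H ≤ Subgroup.normalizer (B : Set X)) : H ≤ Subgroup.normalizer ((A ⊔ B : Subgroup X) : Set X) := by
  apply le_normalizer_of_map_conj_le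
  intro g hg
  rw [Subgroup.map_sup, map_conj_eq_self_of_le_normalizer hA hg, map_conj_eq_self_of_le_normalizer hB hg]

/-- Frattini argument for an ambient Sylow subgroup of a normal subgroup, elementwise. -/
theorem frattini_normal {p : ℕ} [Fact p.Prime] [Finite X] {C P : Subgroup X} (hC : C.Normal)
    (hP : IsSylowOf p C P) : Subgroup.normalizer (P : Set X) ⊔ C = ⊤ := by
  obtain ⟨S, rfl⟩ := hP
  exact Sylow.normalizer_sup_eq_top S

end Cfsg.Agent.Helper14
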