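import Mathlib
import Cfsg.Agent.Lib.Helper14.PReducedSub
import Cfsg.Agent.Lib.Helper14.SylowNormal

set_option autoImplicit false

namespace Cfsg.Agent.Helper14

open Cfsg

variable {H : Type*} [Group H]

/-- The join of all `p`-reduced normal subgroups of a finite group is the largest `p`-reduced normal subgroup. -/
theorem largestPReduced_spec {p : ℕ} [Fact p.Prime] (L : Type*) [Group L] [Finite L] :
    IsPReducedNormal p (largestPReduced p L) ∧
      ∀ V : Subgroup L, IsPReducedNormal p V → V ≤ largestPReduced p L := by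
  refine ⟨?_, fun V hV => le_sSup hV⟩
  unfold largestPReduced
  set Y := sSup {V : Subgroup L | IsPReducedNormal p V} with hY
  set Q := pCore p L with hQ
  have hQn : Q.Normal := Subgroup.sSup_normal _ (fun K hK => hK.1)
  have hQp : IsPGroup p Q := pCore_isPGroup p L
  have hle : ∀ V : Subgroup L, IsPReducedNormal p V → V ≤ omegaCenter' p Q := by
    intro V hV
    obtain ⟨hVn, hVe, hVred⟩ := (isPReducedNormal_iff V).mp hV
    have hVQ : V ≤ Q := le_pCore hVn (IsElementaryAbelian.isPGroup hVe)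
    have hQC : Q ≤ Subgroup.centralizer (V : Set L) := hVred Q hQn (powCond_of_isPGroup hQp _)
    intro a ha
    exact ⟨hVQ ha, Subgroup.le_centralizer_iff.mp hQC ha, hVe.2 a ha⟩
  have hYO : Y ≤ omegaCenter' p Q := sSup_le (fun V hV => hle V hV)
  rw [isPReducedNormal_iff]
  refine ⟨Subgroup.sSup_normal _ (fun V hV => hV.1), isElementaryAbelian_of_le_omegaCenter' hYO, ?_⟩
  intro D hD hDp
  rw [Subgroup.le_centralizer_iff]
  apply sSup_le
  intro V hV
  have hVY : V ≤ Y := le_sSup hV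
  obtain ⟨_, _, hVred⟩ := (isPReducedNormal_iff V).mp hV
  exact Subgroup.le_centralizer_iff.mp (hVred D hD (hDp.mono_right (Subgroup.centralizer_le hVY)))

/-- Ambient characterization of the `p`-reduced normal subgroups of a subgroup `R`. -/
theorem isPReducedNormal_subgroupOf_iff {p : ℕ} {R X : Subgroup H} (hXR : X ≤ R) :
    IsPReducedNormal p (X.subgroupOf R) ↔
      R ≤ Subgroup.normalizer (X : Set H) ∧ IsElementaryAbelian p X ∧
        ∀ D : Subgroup H, D ≤ R → R ≤ Subgroup.normalizer (D : Set H) →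
          PowCond p D (Subgroup.centralizer (X : Set H)) → D ≤ Subgroup.centralizer (X : Set H) := by
  rw [isPReducedNormal_iff, Subgroup.normal_subgroupOf_iff_le_normalizer hXR]
  constructor
  · rintro ⟨hn, he, hred⟩
    refine ⟨hn, ⟨⟨⟨fun a b => ?_⟩⟩, fun a ha => ?_⟩, ?_⟩
    · have := he.1.is_comm.comm (⟨⟨a, hXR a.2⟩, Subgroup.mem_subgroupOf.mpr a.2⟩ : ↥(X.subgroupOf R))
        ⟨⟨b, hXR b.2⟩, Subgroup.mem_subgroupOf.mpr b.2⟩
      apply Subtype.ext
      exact congrArg (fun z : ↥(X.subgroupOf R) => ((z : ↥R) : H)) this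
    · have := he.2 ⟨a, hXR ha⟩ (Subgroup.mem_subgroupOf.mpr ha)
      exact congrArg Subtype.val this
    · intro D hDR hRD hDp
      have hn' : (D.subgroupOf R).Normal := (Subgroup.normal_subgroupOf_iff_le_normalizer hDR).mpr hRD
      have hp' : PowCond p (D.subgroupOf R) (Subgroup.centralizer ((X.subgroupOf R : Subgroup ↥R) : Set ↥R)) := by
        intro d hd
        obtain ⟨k, hk⟩ := hDp (d : H) (Subgroup.mem_subgroupOf.mp hd)
        exact ⟨k, (mem_centralizer_subgroupOf_iff hXR _).mpr hk⟩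
      have := hred _ hn' hp'
      intro d hd
      exact (mem_centralizer_subgroupOf_iff hXR ⟨d, hDR hd⟩).mp (this (Subgroup.mem_subgroupOf.mpr hd))
  · rintro ⟨hn, he, hred⟩
    refine ⟨hn, ⟨⟨⟨fun a b => ?_⟩⟩, fun a ha => ?_⟩, ?_⟩
    · have := he.1.is_comm.comm (⟨(a : ↥R), Subgroup.mem_subgroupOf.mp a.2⟩ : ↥X)
        ⟨(b : ↥R), Subgroup.mem_subgroupOf.mp b.2⟩
      apply Subtype.ext
      apply Subtype.ext
      exact congrArg (fun z : ↥X => (z : H)) this
    · apply Subtype.ext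
      exact he.2 _ (Subgroup.mem_subgroupOf.mp ha)
    · intro D' hD'n hD'p
      have hDp : PowCond p (D'.map R.subtype) (Subgroup.centralizer (X : Set H)) := by
        rintro _ ⟨d, hd, rfl⟩
        obtain ⟨k, hk⟩ := hD'p d hd
        exact ⟨k, (mem_centralizer_subgroupOf_iff hXR _).mp hk⟩
      have := hred _ (Subgroup.map_subtype_le _) (le_normalizer_map_subtype_of_normal hD'n) hDp
      intro d hd
      exact (mem_centralizer_subgroupOf_iff hXR d).mpr (this ⟨d, hd, rfl⟩)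

/-- Elements of a join where one factor normalizes the other. -/
theorem mem_sup_of_le_normalizer {A B : Subgroup H} (h : A ≤ Subgroup.normalizer (B : Set H)) {x : H} :
    x ∈ A ⊔ B ↔ ∃ a ∈ A, ∃ b ∈ B, x = a * b := by
  constructor
  · intro hx
    rw [Subgroup.sup_eq_closure] at hx
    induction hx using Subgroup.closure_induction with
    | mem x hx =>
      rcases hx with hx | hx
      · exact ⟨x, hx, 1, B.one_mem, by simp⟩
      · exact ⟨1, A.one_mem, x, hx, by simp⟩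
    | one => exact ⟨1, A.one_mem, 1, B.one_mem, by simp⟩
    | mul x y _ _ hx hy =>
      obtain ⟨a₁, ha₁, b₁, hb₁, rfl⟩ := hx
      obtain ⟨a₂, ha₂, b₂, hb₂, rfl⟩ := hy
      have hn : a₂⁻¹ * b₁ * a₂⁻¹⁻¹ ∈ B :=
        (Subgroup.mem_normalizer_iff.mp (h (A.inv_mem ha₂)) b₁).mp hb₁
      refine ⟨a₁ * a₂, A.mul_mem ha₁ ha₂, (a₂⁻¹ * b₁ * a₂⁻¹⁻¹) * b₂, B.mul_mem hn hb₂, by group⟩
    | inv x _ hx =>
      obtain ⟨a, ha, b, hb, rfl⟩ := hx
      have hn : a * b⁻¹ * a⁻¹ ∈ B := (Subgroup.mem_normalizer_iff.mp (h ha) b⁻¹).mp (B.inv_mem hb)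
      exact ⟨a⁻¹, A.inv_mem ha, a * b⁻¹ * a⁻¹, hn, by group⟩
  · rintro ⟨a, ha, b, hb, rfl⟩
    exact Subgroup.mul_mem_sup ha hb

/-- Acting as a `p`-group modulo `C` passes to the join with `C`, when `D` normalizes `C`. -/
theorem PowCond.sup_of_le_normalizer {p : ℕ} {D C : Subgroup H} (hDC : D ≤ Subgroup.normalizer (C : Set H))
    (h : PowCond p D C) : PowCond p (D ⊔ C) C := by
  intro x hx
  obtain ⟨d, hd, c, hc, rfl⟩ := (mem_sup_of_le_normalizer hDC).mp hx
  obtain ⟨k, hk⟩ := h d hd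
  refine ⟨k, ?_⟩
  have key : ∀ n : ℕ, ∃ c' ∈ C, (d * c) ^ n = d ^ n * c' := by
    intro n
    induction n with
    | zero => exact ⟨1, C.one_mem, by simp⟩
    | succ n ih =>
      obtain ⟨c', hc', hn⟩ := ih
      have hn' : d⁻¹ * c' * d⁻¹⁻¹ ∈ C :=
        (Subgroup.mem_normalizer_iff.mp (hDC (D.inv_mem hd)) c').mp hc'
      refine ⟨(d⁻¹ * c' * d⁻¹⁻¹) * c, C.mul_mem hn' hc, ?_⟩
      rw [pow_succ, hn, pow_succ]; group
  obtain ⟨c', hc', he⟩ := key (p ^ k)
  rw [he]
  exact C.mul_mem hk hc'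

/-- `Ω₁` commutes with injective homomorphisms. -/
theorem omegaOne_map_of_injective {G G' : Type*} [Group G] [Group G'] (p : ℕ) (f : G →* G')
    (hf : Function.Injective f) (K : Subgroup G) : omegaOne p (K.map f) = (omegaOne p K).map f := by
  unfold omegaOne
  rw [MonoidHom.map_closure]
  congr 1
  ext x
  constructor
  · rintro ⟨⟨y, hy, rfl⟩, hx⟩
    refine ⟨y, ⟨hy, ?_⟩, rfl⟩
    apply hf
    rw [map_pow, map_one]
    exact hx
  · rintro ⟨y, ⟨hy, hyp⟩, rfl⟩
    refine ⟨⟨y, hy, rfl⟩, ?_⟩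
    show (f y) ^ p = 1
    rw [← map_pow, hyp, map_one]

/-- The centre of a subgroup of a subgroup, viewed in the ambient group. -/
theorem map_subtype_inf_centralizer {R : Subgroup H} (A : Subgroup ↥R) :
    (A ⊓ Subgroup.centralizer (A : Set ↥R)).map R.subtype =
      A.map R.subtype ⊓ Subgroup.centralizer ((A.map R.subtype : Subgroup H) : Set H) := by
  ext x
  constructor
  · rintro ⟨l, hl, rfl⟩
    obtain ⟨hlA, hlC⟩ := Subgroup.mem_inf.mp hl
    refine Subgroup.mem_inf.mpr ⟨⟨l, hlA, rfl⟩, ?_⟩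
    rw [Subgroup.mem_centralizer_iff]
    rintro _ ⟨a, ha, rfl⟩
    exact congrArg Subtype.val ((Subgroup.mem_centralizer_iff.mp hlC) a ha)
  · intro hx
    obtain ⟨⟨l, hlA, rfl⟩, hC⟩ := Subgroup.mem_inf.mp hx
    refine ⟨l, Subgroup.mem_inf.mpr ⟨hlA, ?_⟩, rfl⟩
    rw [Subgroup.mem_centralizer_iff]
    intro a ha
    apply Subtype.ext
    exact (Subgroup.mem_centralizer_iff.mp hC) (a : H) ⟨a, ha, rfl⟩

section Finite

variable [Finite H]

/-- Relative version: the intersection of an ambient Sylow subgroup of `M` with a subgroup normalized by `M`. -/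
theorem IsSylowOf.inf_of_le_normalizer {p : ℕ} [Fact p.Prime] {M K T : Subgroup H} (hT : IsSylowOf p M T)
    (hKM : K ≤ M) (hMK : M ≤ Subgroup.normalizer (K : Set H)) : IsSylowOf p K (T ⊓ K) := by
  rw [isSylowOf_iff]
  refine ⟨inf_le_right, hT.isPGroup.to_le inf_le_left, ?_⟩
  intro Q hQ hTQ hQK
  obtain ⟨T', hT', hQT'⟩ := exists_isSylowOf_ge (hQK.trans hKM) hQ
  obtain ⟨m, hm, hmT'⟩ := hT.exists_conj hT'
  have hKm : K.map (MulAut.conj m).toMonoidHom = K := map_conj_eq_self_of_le_normalizer hMK hm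
  have hQle : Q ≤ (T ⊓ K).map (MulAut.conj m).toMonoidHom := by
    rw [Subgroup.map_inf _ _ _ (MulAut.conj m).injective, hKm, ← hmT']
    exact le_inf hQT' hQK
  have hcard : Nat.card Q ≤ Nat.card ↥(T ⊓ K) := by
    calc Nat.card Q ≤ Nat.card ↥((T ⊓ K).map (MulAut.conj m).toMonoidHom) := Subgroup.card_le_of_le hQle
      _ = Nat.card ↥(T ⊓ K) := Subgroup.card_map_of_injective (MulAut.conj m).injective
  exact (Subgroup.eq_of_le_of_card_ge hTQ hcard).symm

/-- Relative Frattini argument. -/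
theorem frattini_rel {p : ℕ} [Fact p.Prime] {M K P : Subgroup H} (hKM : K ≤ M)
    (hMK : M ≤ Subgroup.normalizer (K : Set H)) (hP : IsSylowOf p K P) :
    ∀ m ∈ M, ∃ k ∈ K, ∃ n ∈ M ⊓ Subgroup.normalizer (P : Set H), m = k * n := by
  intro m hm
  have hKm : K.map (MulAut.conj m).toMonoidHom = K := map_conj_eq_self_of_le_normalizer hMK hm
  have hP' : IsSylowOf p K (P.map (MulAut.conj m).toMonoidHom) := by
    have := hP.map_equiv (MulAut.conj m)
    rwa [hKm] at this
  obtain ⟨k, hk, hkP⟩ := hP.exists_conj hP'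
  refine ⟨k, hk, k⁻¹ * m, Subgroup.mem_inf.mpr ⟨M.mul_mem (M.inv_mem (hKM hk)) hm, ?_⟩, by group⟩
  apply mem_normalizer_of_map_conj_eq
  rw [conj_mul_map, hkP, map_conj_inv_map_conj]

end Finite

end Cfsg.Agent.Helper14
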