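import Mathlib
import Cfsg.Agent.Lib.Helper14.CosetNorm
import Cfsg.Agent.Lib.Helper14.PReducedAmb
import Cfsg.Agent.Lib.Helper14.CharP

set_option autoImplicit false

namespace Cfsg.Agent.Helper14

open Cfsg

variable {X : Type*} [Group X]

/-- `Ω₁` of a commutative subgroup consists of the elements of order dividing `p`. -/
theorem mem_omegaOne_iff_of_comm {p : ℕ} {K : Subgroup X} (hK : ∀ a ∈ K, ∀ b ∈ K, a * b = b * a) {x : X} :
    x ∈ omegaOne p K ↔ x ∈ K ∧ x ^ p = 1 := by
  constructor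
  · intro hx
    unfold omegaOne at hx
    induction hx using Subgroup.closure_induction with
    | mem x hx => exact hx
    | one => exact ⟨K.one_mem, one_pow _⟩
    | mul x y _ _ hx hy =>
      refine ⟨K.mul_mem hx.1 hy.1, ?_⟩
      have hc : Commute x y := hK x hx.1 y hy.1
      rw [hc.mul_pow, hx.2, hy.2, one_mul]
    | inv x _ hx => exact ⟨K.inv_mem hx.1, by rw [inv_pow, hx.2, inv_one]⟩
  · intro hx
    exact Subgroup.subset_closure hx

theorem inf_centralizer_comm (P : Subgroup X) :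
    ∀ a ∈ P ⊓ Subgroup.centralizer (P : Set X), ∀ b ∈ P ⊓ Subgroup.centralizer (P : Set X), a * b = b * a := by
  intro a ha b hb
  exact (Subgroup.mem_centralizer_iff.mp hb.2 a ha.1)

/-- Membership in `Ω₁(Z(P))`. -/
theorem mem_omegaOne_center_iff {p : ℕ} {P : Subgroup X} {x : X} :
    x ∈ omegaOne p (P ⊓ Subgroup.centralizer (P : Set X)) ↔
      x ∈ P ∧ x ∈ Subgroup.centralizer (P : Set X) ∧ x ^ p = 1 := by
  rw [mem_omegaOne_iff_of_comm (inf_centralizer_comm P), Subgroup.mem_inf, and_assoc]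

/-- `N(L)` normalizes `O_p(L)`. -/
theorem normalizer_le_normalizer_pCoreOf (p : ℕ) (L : Subgroup X) :
    Subgroup.normalizer (L : Set X) ≤ Subgroup.normalizer (pCoreOf p L : Set X) := by
  apply le_normalizer_of_map_conj_le
  intro g hg
  rw [← pCoreOf_map_equiv, map_conj_eq_self_of_le_normalizer le_rfl hg]

/-- The index of an ambient Sylow subgroup is prime to `p`. -/
theorem IsSylowOf.not_dvd_relIndex {p : ℕ} [Fact p.Prime] {L T : Subgroup X} [Finite L] (h : IsSylowOf p L T) :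
    ¬ p ∣ T.relIndex L := by
  obtain ⟨P, rfl⟩ := h
  have e : ((P : Subgroup ↥L).map L.subtype).subgroupOf L = (P : Subgroup ↥L) := by
    unfold Subgroup.subgroupOf
    exact Subgroup.comap_map_eq_self_of_injective L.subtype_injective _
  unfold Subgroup.relIndex
  rw [e]
  exact P.not_dvd_index

theorem IsSylowOf.coprime_relIndex_of_le {p : ℕ} [Fact p.Prime] {L T A : Subgroup X} [Finite L]
    (h : IsSylowOf p L T) (hTA : T ≤ A) (hAL : A ≤ L) : (T.relIndex A).Coprime p := by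
  have h1 := h.not_dvd_relIndex
  have h2 : T.relIndex A ∣ T.relIndex L := ⟨_, (Subgroup.relIndex_mul_relIndex T A L hTA hAL).symm⟩
  exact (Nat.Coprime.symm ((Nat.Prime.coprime_iff_not_dvd Fact.out).mpr (fun h => h1 (h.trans h2))))

/-- An element commuting with `z ^ m`, where `z ^ p = 1` and `m` is prime to `p`, commutes with `z`. -/
theorem commute_of_commute_pow {p : ℕ} [hp : Fact p.Prime] {z b : X} {m : ℕ} (hz : z ^ p = 1)
    (hm : m.Coprime p) (h : b * z ^ m = z ^ m * b) : b * z = z * b := by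
  obtain ⟨k, -, hk⟩ := Nat.exists_mul_mod_eq_one_of_coprime hm hp.out.one_lt
  have h1 : z = (z ^ m) ^ k := by
    rw [← pow_mul, pow_eq_pow_mod (m * k) hz, hk, pow_one]
  have h2 : Commute b ((z ^ m) ^ k) := Commute.pow_right h k
  rw [← h1] at h2
  exact h2

/-- A subgroup normalized by a group of characteristic `p` has characteristic `p` (relative, ambient form). -/
theorem charP_ambient_of_le_normalizer {p : ℕ} [Fact p.Prime] [Finite X] {K L : Subgroup X}
    (hchar : K ⊓ Subgroup.centralizer (pCoreOf p K : Set X) ≤ pCoreOf p K) (hLK : L ≤ K)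
    (hKL : K ≤ Subgroup.normalizer (L : Set X)) :
    L ⊓ Subgroup.centralizer (pCoreOf p L : Set X) ≤ pCoreOf p L := by
  apply charP_ambient_of_pprime_trivial
  intro x hx hxc
  obtain ⟨hxL, hxQ⟩ := Subgroup.mem_inf.mp hx
  have hKQ : K ≤ Subgroup.normalizer (pCoreOf p K : Set X) := le_normalizer_pCoreOf p K
  have hOp : IsPGroup p (pCoreOf p K) := pCoreOf_isPGroup p K
  have hQK : pCoreOf p K ≤ K := pCoreOf_le p K
  have hle : pCoreOf p K ⊓ L ≤ pCoreOf p L := by
    apply le_pCoreOf inf_le_right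
    · exact le_normalizer_inf (hLK.trans hKQ) Subgroup.le_normalizer
    · exact hOp.to_le inf_le_left
  have hxcent : x ∈ Subgroup.centralizer (pCoreOf p K : Set X) := by
    rw [Subgroup.mem_centralizer_iff]
    intro r hr
    have hc1 : r * x * r⁻¹ * x⁻¹ ∈ pCoreOf p K := by
      have : x * r⁻¹ * x⁻¹ ∈ pCoreOf p K :=
        (Subgroup.mem_normalizer_iff.mp (hKQ (hLK hxL)) r⁻¹).mp (Subgroup.inv_mem _ hr)
      have e : r * x * r⁻¹ * x⁻¹ = r * (x * r⁻¹ * x⁻¹) := by group
      rw [e]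
      exact Subgroup.mul_mem _ hr this
    have hc2 : r * x * r⁻¹ * x⁻¹ ∈ L :=
      Subgroup.mul_mem _ ((Subgroup.mem_normalizer_iff.mp (hKL (hQK hr)) x).mp hxL) (Subgroup.inv_mem _ hxL)
    have hcQ : r * x * r⁻¹ * x⁻¹ ∈ pCoreOf p L := hle (Subgroup.mem_inf.mpr ⟨hc1, hc2⟩)
    have hcomm : Commute (r * x * r⁻¹ * x⁻¹) x :=
      ((Subgroup.mem_centralizer_iff.mp hxQ) _ hcQ)
    obtain ⟨j, hj⟩ := hOp ⟨_, hc1⟩
    have hj' : (r * x * r⁻¹ * x⁻¹) ^ (p ^ j) = 1 := by
      have := congrArg Subtype.val hj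
      simpa using this
    exact commute_of_commutator_commute' r x j hcomm hj' hxc
  exact eq_one_of_mem_pGroup_of_coprime hOp (hchar (Subgroup.mem_inf.mpr ⟨hLK hxL, hxcent⟩)) hxc

/-- In a group of characteristic `p` with Sylow `p`-subgroup `T`: `Ω₁(Z(T)) ≤ Ω₁(Z(O_p))`. -/
theorem omegaOne_center_le_of_charP {p : ℕ} {K T : Subgroup X}
    (hchar : K ⊓ Subgroup.centralizer (pCoreOf p K : Set X) ≤ pCoreOf p K) (hT : IsSylowOf p K T) :
    omegaOne p (T ⊓ Subgroup.centralizer (T : Set X)) ≤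
      omegaOne p (pCoreOf p K ⊓ Subgroup.centralizer (pCoreOf p K : Set X)) := by
  apply omegaOne_mono
  have hQT : pCoreOf p K ≤ T := pCoreOf_le_of_isSylowOf hT
  intro x hx
  have hxC : x ∈ Subgroup.centralizer (pCoreOf p K : Set X) := Subgroup.centralizer_le hQT hx.2
  exact Subgroup.mem_inf.mpr ⟨hchar (Subgroup.mem_inf.mpr ⟨hT.le hx.1, hxC⟩), hxC⟩

/-- **Kieler lemma**, relative normal case in ambient form. -/
theorem kieler_normal {p : ℕ} [Fact p.Prime] [Finite X] {K L T : Subgroup X}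
    (hchar : K ⊓ Subgroup.centralizer (pCoreOf p K : Set X) ≤ pCoreOf p K) (hT : IsSylowOf p K T)
    (hLK : L ≤ K) (hKL : K ≤ Subgroup.normalizer (L : Set X)) :
    L ⊓ Subgroup.centralizer (omegaOne p (T ⊓ Subgroup.centralizer (T : Set X)) : Set X) =
      L ⊓ Subgroup.centralizer
        (omegaOne p ((T ⊓ L) ⊓ Subgroup.centralizer ((T ⊓ L : Subgroup X) : Set X)) : Set X) := by
  set T₀ := T ⊓ L with hT₀def
  set Z := omegaOne p (T ⊓ Subgroup.centralizer (T : Set X)) with hZ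
  set Z₀ := omegaOne p (T₀ ⊓ Subgroup.centralizer (T₀ : Set X)) with hZ₀
  set QK := pCoreOf p K with hQK
  set QL := pCoreOf p L with hQL
  set WK := omegaOne p (QK ⊓ Subgroup.centralizer (QK : Set X)) with hWK
  set WL := omegaOne p (QL ⊓ Subgroup.centralizer (QL : Set X)) with hWL
  have hcharL : L ⊓ Subgroup.centralizer (QL : Set X) ≤ QL := charP_ambient_of_le_normalizer hchar hLK hKL
  have hT₀ : IsSylowOf p L T₀ := hT.inf_of_le_normalizer hLK hKL
  have hTK : T ≤ K := hT.le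
  have hTp : IsPGroup p T := hT.isPGroup
  have hQKT : QK ≤ T := pCoreOf_le_of_isSylowOf hT
  have hQLT₀ : QL ≤ T₀ := pCoreOf_le_of_isSylowOf hT₀
  have hT₀T : T₀ ≤ T := inf_le_left
  have hT₀L : T₀ ≤ L := inf_le_right
  have hZWK : Z ≤ WK := omegaOne_center_le_of_charP hchar hT
  have hZ₀WL : Z₀ ≤ WL := omegaOne_center_le_of_charP hcharL hT₀
  have hKQK : K ≤ Subgroup.normalizer (QK : Set X) := le_normalizer_pCoreOf p K
  have hKQL : K ≤ Subgroup.normalizer (QL : Set X) := hKL.trans (normalizer_le_normalizer_pCoreOf p L)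
  have hKWK : K ≤ Subgroup.normalizer (WK : Set X) :=
    le_normalizer_omegaOne (le_normalizer_inf hKQK (le_normalizer_centralizer_of_le_normalizer hKQK))
  have hKWL : K ≤ Subgroup.normalizer (WL : Set X) :=
    le_normalizer_omegaOne (le_normalizer_inf hKQL (le_normalizer_centralizer_of_le_normalizer hKQL))
  have hWKc : ∀ a ∈ WK, ∀ b ∈ WK, a * b = b * a := by
    intro a ha b hb
    exact inf_centralizer_comm QK a (omegaOne_le p _ ha) b (omegaOne_le p _ hb)
  have hWLc : ∀ a ∈ WL, ∀ b ∈ WL, a * b = b * a := by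
    intro a ha b hb
    exact inf_centralizer_comm QL a (omegaOne_le p _ ha) b (omegaOne_le p _ hb)
  have hTZ : T ≤ Subgroup.centralizer (Z : Set X) :=
    Subgroup.le_centralizer_iff.mp ((omegaOne_le p _).trans inf_le_right)
  have hT₀Z₀ : T₀ ≤ Subgroup.centralizer (Z₀ : Set X) :=
    Subgroup.le_centralizer_iff.mp ((omegaOne_le p _).trans inf_le_right)
  apply le_antisymm
  · -- `C_L(Z) ≤ C(Z₀)`
    refine le_inf inf_le_left ?_
    set A := L ⊓ Subgroup.centralizer (Z : Set X) with hA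
    have hT₀A : T₀ ≤ A := le_inf hT₀L (hT₀T.trans hTZ)
    have hTT : T ≤ Subgroup.normalizer (T : Set X) := Subgroup.le_normalizer
    have hTNZ : T ≤ Subgroup.normalizer (Z : Set X) :=
      le_normalizer_omegaOne (le_normalizer_inf hTT (le_normalizer_centralizer_of_le_normalizer hTT))
    have hTA : T ≤ Subgroup.normalizer (A : Set X) :=
      le_normalizer_inf (hTK.trans hKL) (le_normalizer_centralizer_of_le_normalizer hTNZ)
    have hTT₀ : T ≤ Subgroup.normalizer (T₀ : Set X) := le_normalizer_inf hTT (hTK.trans hKL)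
    have hWLp : IsPGroup p WL := (pCoreOf_isPGroup p L).to_le ((omegaOne_le p _).trans inf_le_left)
    have hfix : WL ⊓ Subgroup.centralizer (T : Set X) ≤ Subgroup.centralizer (A : Set X) := by
      intro x hx
      obtain ⟨hxW, hxT⟩ := Subgroup.mem_inf.mp hx
      have hx' := mem_omegaOne_center_iff.mp hxW
      have hxZ : x ∈ Z := mem_omegaOne_center_iff.mpr ⟨hT₀T (hQLT₀ hx'.1), hxT, hx'.2.2⟩
      have : Z ≤ Subgroup.centralizer (A : Set X) := Subgroup.le_centralizer_iff.mp inf_le_right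
      exact this hxZ
    have key := inf_centralizer_le_of_coprime_index hWLc hWLp ((inf_le_left.trans hLK).trans hKWL)
      (hTK.trans hKWL) hTA hTT₀ (hT₀.coprime_relIndex_of_le hT₀A inf_le_left) hTp hfix
    have hZ₀A : Z₀ ≤ Subgroup.centralizer (A : Set X) :=
      (le_inf hZ₀WL (Subgroup.le_centralizer_iff.mp hT₀Z₀)).trans key
    exact Subgroup.le_centralizer_iff.mp hZ₀A
  · -- `C_L(Z₀) ≤ C(Z)`
    refine le_inf inf_le_left ?_
    set B := L ⊓ Subgroup.centralizer (Z₀ : Set X) with hB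
    have hT₀B : T₀ ≤ B := le_inf hT₀L hT₀Z₀
    have hBK : B ≤ K := inf_le_left.trans hLK
    rw [Subgroup.le_centralizer_iff]
    intro z hz
    have hz' := mem_omegaOne_center_iff.mp hz
    have hzT₀ : z ∈ Subgroup.centralizer (T₀ : Set X) := Subgroup.centralizer_le hT₀T hz'.2.1
    have hD : ∀ a ∈ B, z * (a * z * a⁻¹)⁻¹ ∈ L := by
      intro a ha
      have haL : a ∈ L := ha.1
      have h1 : z * a * z⁻¹ ∈ L := (Subgroup.mem_normalizer_iff.mp (hKL (hTK hz'.1)) a).mp haL
      have e : z * (a * z * a⁻¹)⁻¹ = (z * a * z⁻¹) * a⁻¹ := by group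
      rw [e]
      exact L.mul_mem h1 (L.inv_mem haL)
    obtain ⟨c, hc, w, hw, hzm⟩ := pow_relIndex_eq_mul hWKc (hBK.trans hKWK) hT₀B (hZWK hz) hzT₀ L hD
    obtain ⟨hcW, hcB⟩ := Subgroup.mem_inf.mp hc
    obtain ⟨hwW, hwL⟩ := Subgroup.mem_inf.mp hw
    have hw' := mem_omegaOne_center_iff.mp hwW
    have hwZ₀ : w ∈ Z₀ := by
      refine mem_omegaOne_center_iff.mpr ⟨Subgroup.mem_inf.mpr ⟨hQKT hw'.1, hwL⟩, ?_, hw'.2.2⟩
      have hweq : w = c⁻¹ * z ^ (T₀.relIndex B) := by rw [hzm]; group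
      rw [hweq]
      apply Subgroup.mul_mem
      · exact Subgroup.inv_mem _ (Subgroup.centralizer_le hT₀B hcB)
      · exact Subgroup.pow_mem _ hzT₀ _
    rw [Subgroup.mem_centralizer_iff]
    intro b hb
    have h1 : b * c = c * b := (Subgroup.mem_centralizer_iff.mp hcB) b hb
    have h2 : b * w = w * b := ((Subgroup.mem_centralizer_iff.mp hb.2) w hwZ₀).symm
    have h3 : b * z ^ (T₀.relIndex B) = z ^ (T₀.relIndex B) * b := by
      rw [hzm, ← mul_assoc, h1, mul_assoc, h2, mul_assoc]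
    exact commute_of_commute_pow hz'.2.2 (hT₀.coprime_relIndex_of_le hT₀B inf_le_left) h3

end Cfsg.Agent.Helper14
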