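import Mathlib
import Cfsg.Agent.Lib.Helper14.BGTransA

/-!
# An abstract form of Thompson's transitivity theorem (helper14)

`E` a `p`-group, `A₀ ≤ Z(E)`-like elementary abelian of order at least `p ^ 3` centralized by `E`;
for each `a ∈ A₀ - 1` an `E`-invariant `p'`-group `L a` containing every `E`-invariant `q`-subgroup
of `C_G(a)`, with `L a ∩ C_G(E) ≤ K ≤ C_G(E)`.  Then `K` is transitive on the maximal `E`-invariant
`q`-subgroups.
-/

set_option autoImplicit false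

namespace Cfsg.Agent.Helper14.TransCore

open Cfsg Subgroup
open Cfsg.Agent.Helper14.BGTrans
open Cfsg.Agent.Helper15 (mem_map_conj_iff conj_mem_map_conj map_conj_map_conj map_conj_one
  map_conj_inv_map_conj map_conj_map_conj_inv map_conj_mono card_map_conj isPGroup_map_conj
  map_conj_eq_of_mem_normalizer)

variable {G : Type*} [Group G]

/-- conjugacy under `K` -/
def KC (K : Subgroup G) (Q Q' : Subgroup G) : Prop :=
  ∃ k ∈ K, Q.map (MulAut.conj k).toMonoidHom = Q'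

theorem KC.refl (K Q : Subgroup G) : KC K Q Q :=
  ⟨1, Subgroup.one_mem _, map_conj_one Q⟩

theorem KC.symm {K Q Q' : Subgroup G} (h : KC K Q Q') : KC K Q' Q := by
  obtain ⟨c, hc, rfl⟩ := h
  exact ⟨c⁻¹, Subgroup.inv_mem _ hc, map_conj_inv_map_conj Q c⟩

theorem KC.trans {K Q Q' Q'' : Subgroup G} (h : KC K Q Q') (h' : KC K Q' Q'') :
    KC K Q Q'' := by
  obtain ⟨c, hc, rfl⟩ := h
  obtain ⟨d, hd, rfl⟩ := h'
  exact ⟨d * c, Subgroup.mul_mem _ hd hc, (map_conj_map_conj Q d c).symm⟩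

theorem core_aux [Finite G] {p q : ℕ} [Fact p.Prime] [Fact q.Prime] (hqp : q ≠ p)
    (E : Subgroup G) (hEp : IsPGroup p ↥E)
    (A₀ : Subgroup G) (hA₀E : A₀ ≤ E) (hA₀ : IsElementaryAbelian p A₀)
    (hA₀3 : p ^ 3 ≤ Nat.card ↥A₀)
    (hEa : ∀ a ∈ A₀, E ≤ centralizer ({a} : Set G))
    (K : Subgroup G) (hKC : K ≤ centralizer (E : Set G))
    (L : G → Subgroup G)
    (hL1 : ∀ a ∈ A₀, a ≠ 1 → (Nat.card ↥(L a)).Coprime p ∧ E ≤ normalizer ((L a : Subgroup G) : Set G) ∧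
      L a ⊓ centralizer (E : Set G) ≤ K)
    (hL2 : ∀ a ∈ A₀, a ≠ 1 → ∀ U : Subgroup G, IsPGroup q ↥U → E ≤ normalizer (U : Set G) →
      U ≤ centralizer ({a} : Set G) → U ≤ L a) :
    ∀ m : ℕ, ∀ Q₁ Q₂ : Subgroup G, Q₁ ∈ maxInvSubgroups ⊤ E {q} → Q₂ ∈ maxInvSubgroups ⊤ E {q} →
      Nat.card G - Nat.card ↥(Q₁ ⊓ Q₂ : Subgroup G) = m → KC K Q₁ Q₂ := by
  have hKN : K ≤ normalizer (E : Set G) := hKC.trans (Subgroup.centralizer_le_normalizer _)
  have hEsolv : Group.IsSolvable ↥E := by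
    haveI := hEp.isNilpotent
    infer_instance
  intro m
  induction m using Nat.strong_induction_on with
  | _ m ih =>
    intro Q₁ Q₂ h₁ h₂ hm
    obtain ⟨⟨hQ₁q, hEQ₁⟩, hQ₁max⟩ := mem_maxInvSubgroups_top_iff.mp h₁
    obtain ⟨⟨hQ₂q, hEQ₂⟩, hQ₂max⟩ := mem_maxInvSubgroups_top_iff.mp h₂
    set D := Q₁ ⊓ Q₂ with hD
    by_cases hD₁ : D = Q₁
    · have hle : Q₁ ≤ Q₂ := by rw [← hD₁]; exact inf_le_right
      rw [hQ₁max Q₂ hQ₂q hEQ₂ hle]
      exact KC.refl K Q₁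
    by_cases hD₂ : D = Q₂
    · have hle : Q₂ ≤ Q₁ := by rw [← hD₂]; exact inf_le_left
      rw [← hQ₂max Q₁ hQ₁q hEQ₁ hle]
      exact KC.refl K Q₁
    obtain ⟨a, haA, ha1, hN₁, hN₂⟩ := Cfsg.Agent.S1282.result p A₀ hA₀ hA₀3 q hqp Q₁ Q₂ hQ₁q hQ₂q
      (hA₀E.trans hEQ₁) (hA₀E.trans hEQ₂) hD₁ hD₂
    rw [← hD] at hN₁ hN₂
    obtain ⟨hLcop, hEL, hLK⟩ := hL1 a haA ha1
    have hED : E ≤ normalizer (D : Set G) :=
      (le_inf hEQ₁ hEQ₂).trans Subgroup.inf_normalizer_le_normalizer_inf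
    have hENN : E ≤ normalizer ((normalizer (D : Set G) : Subgroup G) : Set G) :=
      hED.trans Subgroup.le_normalizer
    have hECa : E ≤ normalizer ((centralizer ({a} : Set G) : Subgroup G) : Set G) :=
      (hEa a haA).trans Subgroup.le_normalizer
    set Hh := L a ⊓ normalizer (D : Set G) with hHh
    have hEHh : E ≤ normalizer (Hh : Set G) :=
      (le_inf hEL hENN).trans Subgroup.inf_normalizer_le_normalizer_inf
    set N₁ := normalizer (D : Set G) ⊓ Q₁ ⊓ centralizer {a} with hN₁def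
    set N₂ := normalizer (D : Set G) ⊓ Q₂ ⊓ centralizer {a} with hN₂def
    have hN₁Q : N₁ ≤ Q₁ := inf_le_left.trans inf_le_right
    have hN₂Q : N₂ ≤ Q₂ := inf_le_left.trans inf_le_right
    have hEN₁ : E ≤ normalizer (N₁ : Set G) :=
      (le_inf ((le_inf hENN hEQ₁).trans Subgroup.inf_normalizer_le_normalizer_inf) hECa).trans
        Subgroup.inf_normalizer_le_normalizer_inf
    have hEN₂ : E ≤ normalizer (N₂ : Set G) :=
      (le_inf ((le_inf hENN hEQ₂).trans Subgroup.inf_normalizer_le_normalizer_inf) hECa).trans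
        Subgroup.inf_normalizer_le_normalizer_inf
    have hN₁H : N₁ ≤ Hh :=
      le_inf (hL2 a haA ha1 N₁ (hQ₁q.to_le hN₁Q) hEN₁ inf_le_right) (inf_le_left.trans inf_le_left)
    have hN₂H : N₂ ≤ Hh :=
      le_inf (hL2 a haA ha1 N₂ (hQ₂q.to_le hN₂Q) hEN₂ inf_le_right) (inf_le_left.trans inf_le_left)
    have hcop : (Nat.card ↥E).Coprime (Nat.card ↥Hh) := by
      obtain ⟨k, hk⟩ := hEp.exists_card_eq
      rw [hk]
      exact (Nat.Coprime.pow_right k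
        (Nat.Coprime.coprime_dvd_left (Subgroup.card_dvd_of_le inf_le_left) hLcop)).symm
    obtain ⟨R₁, R₂, hNR₁, hNR₂, hR₁H, hR₂H, hR₁q, hR₂q, hER₁, hER₂, h, hh, hconj⟩ :=
      Cfsg.Agent.Helper7.exists_conj_invariant_sylow E Hh hEHh hcop (Or.inl hEsolv) q N₁ N₂ hN₁H
        hN₂H (hQ₁q.to_le hN₁Q) (hQ₂q.to_le hN₂Q) hEN₁ hEN₂
    obtain ⟨hhH, hhE⟩ := Subgroup.mem_inf.mp hh
    have hhK : h ∈ K := hLK (Subgroup.mem_inf.mpr ⟨(Subgroup.mem_inf.mp hhH).1, hhE⟩)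
    have hhD : h ∈ normalizer (D : Set G) := (Subgroup.mem_inf.mp hhH).2
    have hDq : IsPGroup q ↥D := hQ₁q.to_le inf_le_left
    have hR₁D : R₁ ≤ normalizer (D : Set G) := hR₁H.trans inf_le_right
    have hR₂D : R₂ ≤ normalizer (D : Set G) := hR₂H.trans inf_le_right
    have hEDR₁ : E ≤ normalizer ((D ⊔ R₁ : Subgroup G) : Set G) :=
      (le_inf hED hER₁).trans (Subgroup.normalizer_inf_normalizer_le_normalizer_sup D R₁)
    have hEDR₂ : E ≤ normalizer ((D ⊔ R₂ : Subgroup G) : Set G) :=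
      (le_inf hED hER₂).trans (Subgroup.normalizer_inf_normalizer_le_normalizer_sup D R₂)
    obtain ⟨Q₁s, hQ₁s, hle₁⟩ := exists_maxInv_ge
      (Cfsg.Agent.Helper7.isPGroup_sup_of_le_normalizer hDq hR₁q hR₁D) hEDR₁
    obtain ⟨Q₂s, hQ₂s, hle₂⟩ := exists_maxInv_ge
      (Cfsg.Agent.Helper7.isPGroup_sup_of_le_normalizer hDq hR₂q hR₂D) hEDR₂
    have c1 : KC K Q₁ Q₁s := by
      have hlt : D < Q₁ ⊓ Q₁s := by
        refine lt_of_le_of_ne (le_inf inf_le_left (le_sup_left.trans hle₁)) ?_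
        intro heq
        apply hN₁
        rw [heq]
        exact le_inf hN₁Q (hNR₁.trans (le_sup_right.trans hle₁))
      exact ih _ (by rw [← hm]; exact Cfsg.Agent.Helper7.card_sub_lt_of_lt hlt) Q₁ Q₁s h₁ hQ₁s rfl
    have c2 : KC K Q₂ Q₂s := by
      have hlt : D < Q₂ ⊓ Q₂s := by
        refine lt_of_le_of_ne (le_inf inf_le_right (le_sup_left.trans hle₂)) ?_
        intro heq
        apply hN₂
        rw [heq]
        exact le_inf hN₂Q (hNR₂.trans (le_sup_right.trans hle₂))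
      exact ih _ (by rw [← hm]; exact Cfsg.Agent.Helper7.card_sub_lt_of_lt hlt) Q₂ Q₂s h₂ hQ₂s rfl
    have hQ₁ss : Q₁s.map (MulAut.conj h).toMonoidHom ∈ maxInvSubgroups ⊤ E {q} :=
      maxInv_map_conj hQ₁s (hKN hhK)
    have hle₃ : D ⊔ R₂ ≤ Q₁s.map (MulAut.conj h).toMonoidHom := by
      have := map_conj_mono hle₁ h
      rw [Subgroup.map_sup, hconj, map_conj_eq_of_mem_normalizer hhD] at this
      exact this
    have c3 : KC K (Q₁s.map (MulAut.conj h).toMonoidHom) Q₂s := by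
      have hlt : D < Q₁s.map (MulAut.conj h).toMonoidHom ⊓ Q₂s := by
        refine lt_of_le_of_ne (le_inf (le_sup_left.trans hle₃) (le_sup_left.trans hle₂)) ?_
        intro heq
        apply hN₂
        rw [heq]
        exact le_inf (hNR₂.trans (le_sup_right.trans hle₃)) (hNR₂.trans (le_sup_right.trans hle₂))
      exact ih _ (by rw [← hm]; exact Cfsg.Agent.Helper7.card_sub_lt_of_lt hlt) _ Q₂s hQ₁ss hQ₂s rfl
    exact (c1.trans ⟨h, hhK, rfl⟩).trans (c3.trans c2.symm)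

/-- **Abstract transitivity theorem.** -/
theorem core [Finite G] {p q : ℕ} [Fact p.Prime] [Fact q.Prime] (hqp : q ≠ p)
    (E : Subgroup G) (hEp : IsPGroup p ↥E)
    (A₀ : Subgroup G) (hA₀E : A₀ ≤ E) (hA₀ : IsElementaryAbelian p A₀)
    (hA₀3 : p ^ 3 ≤ Nat.card ↥A₀)
    (hEa : ∀ a ∈ A₀, E ≤ centralizer ({a} : Set G))
    (K : Subgroup G) (hKC : K ≤ centralizer (E : Set G))
    (L : G → Subgroup G)
    (hL1 : ∀ a ∈ A₀, a ≠ 1 → (Nat.card ↥(L a)).Coprime p ∧ E ≤ normalizer ((L a : Subgroup G) : Set G) ∧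
      L a ⊓ centralizer (E : Set G) ≤ K)
    (hL2 : ∀ a ∈ A₀, a ≠ 1 → ∀ U : Subgroup G, IsPGroup q ↥U → E ≤ normalizer (U : Set G) →
      U ≤ centralizer ({a} : Set G) → U ≤ L a)
    {Q₁ Q₂ : Subgroup G} (h₁ : Q₁ ∈ maxInvSubgroups ⊤ E {q}) (h₂ : Q₂ ∈ maxInvSubgroups ⊤ E {q}) :
    KC K Q₁ Q₂ :=
  core_aux hqp E hEp A₀ hA₀E hA₀ hA₀3 hEa K hKC L hL1 hL2 _ Q₁ Q₂ h₁ h₂ rfl

end Cfsg.Agent.Helper14.TransCore
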