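import Mathlib
import Cfsg.Agent.Lib.Helper14.TransCore
import Cfsg.Agent.Lib.Helper14.BGTransC
import Cfsg.Agent.Lib.Helper7.PConstrainedInv

/-!
# Transitivity theorem from local hypotheses (helper14)
-/

set_option autoImplicit false

namespace Cfsg.Agent.Helper14.TransCore

open Cfsg Subgroup
open Cfsg.Agent.Helper14.BGTrans

variable {G : Type*} [Group G]

/-- `O_{p'}(H)` as a subgroup of `G` -/
def pcoreOf (p : ℕ) (H : Subgroup G) : Subgroup G := (pPrimeCore p ↥H).map H.subtype

theorem pcoreOf_le (p : ℕ) (H : Subgroup G) : pcoreOf p H ≤ H := Subgroup.map_subtype_le _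

theorem card_pcoreOf [Finite G] (p : ℕ) (H : Subgroup G) : (Nat.card ↥(pcoreOf p H)).Coprime p := by
  unfold pcoreOf
  rw [Subgroup.card_map_of_injective H.subtype_injective]
  exact Cfsg.Agent.Helper22.card_pPrimeCore_coprime p

theorem le_normalizer_pcoreOf (p : ℕ) (H : Subgroup G) :
    H ≤ normalizer ((pcoreOf p H : Subgroup G) : Set G) := by
  rw [← Subgroup.normal_subgroupOf_iff_le_normalizer (pcoreOf_le p H)]
  have : (pcoreOf p H).subgroupOf H = pPrimeCore p ↥H := by
    unfold pcoreOf Subgroup.subgroupOf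
    exact Subgroup.comap_map_eq_self_of_injective H.subtype_injective _
  rw [this]
  exact Cfsg.Agent.Helper22.pPrimeCore_normal p

/-- key lemma for odd `p`, in subgroup form -/
theorem le_pcoreOf_of_inv [Finite G] (p : ℕ) [Fact p.Prime] (hp2 : p ≠ 2) (H : Subgroup G)
    (hH : IsPConstrained p ↥H) (E : Subgroup G) (hEH : E ≤ H) (hEp : IsPGroup p ↥E)
    (hfull : ∀ x ∈ centralizer (E : Set G), IsPGroup p ↥(zpowers x) → x ∈ E)
    (U : Subgroup G) (hUH : U ≤ H) (hU : (Nat.card ↥U).Coprime p)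
    (hEU : E ≤ normalizer (U : Set G)) : U ≤ pcoreOf p H := by
  have hpp := (Fact.out : p.Prime)
  have h1 := Cfsg.Agent.Helper7.le_pPrimeCore_of_isPConstrained p hp2 hH (E.subgroupOf H)
    hEp.comap_subtype (by
      intro x hx hxo
      rw [Subgroup.mem_subgroupOf]
      apply hfull
      · rw [Subgroup.mem_centralizer_iff] at hx ⊢
        intro e he
        have := hx ⟨e, hEH he⟩ (Subgroup.mem_subgroupOf.mpr he)
        exact congrArg Subtype.val this
      · apply IsPGroup.of_card (n := 1)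
        rw [Nat.card_zpowers, Subgroup.orderOf_coe, hxo, pow_one])
    (U.subgroupOf H) (by
      rw [Nat.card_congr (Subgroup.subgroupOfEquivOfLe hUH).toEquiv]
      intro hdvd
      have := Nat.dvd_gcd hdvd (dvd_refl p)
      rw [hU] at this
      exact hpp.one_lt.ne' (Nat.dvd_one.mp this))
    (by
      intro a ha
      rw [Subgroup.mem_normalizer_iff]
      intro y
      rw [Subgroup.mem_subgroupOf, Subgroup.mem_subgroupOf]
      have := Subgroup.mem_normalizer_iff.mp (hEU (Subgroup.mem_subgroupOf.mp ha)) (y : G)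
      simpa using this)
  have h2 := Subgroup.map_mono (f := H.subtype) h1
  rwa [Subgroup.map_subgroupOf_eq_of_le hUH] at h2

theorem le_centralizer_zpowers {E : Subgroup G} (hEc : ∀ a ∈ E, ∀ b ∈ E, a * b = b * a) {a : G}
    (ha : a ∈ E) : E ≤ centralizer ((zpowers a : Subgroup G) : Set G) := by
  intro e he
  rw [Subgroup.mem_centralizer_iff]
  intro z hz
  exact hEc z (Subgroup.zpowers_le.mpr ha hz) e he

/-- **Transitivity from local hypotheses.** -/
theorem transitivity_of_local [Finite G] {p q : ℕ} [Fact p.Prime] [Fact q.Prime] (hqp : q ≠ p)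
    (E : Subgroup G) (hEp : IsPGroup p ↥E) (hEc : ∀ a ∈ E, ∀ b ∈ E, a * b = b * a)
    (hE1 : E ≠ ⊥)
    (A₀ : Subgroup G) (hA₀E : A₀ ≤ E) (hA₀ : IsElementaryAbelian p A₀)
    (hA₀3 : p ^ 3 ≤ Nat.card ↥A₀)
    (K : Subgroup G) (hKC : K ≤ centralizer (E : Set G))
    (hkey : ∀ T : Subgroup G, T ≤ E → T ≠ ⊥ → ∀ U : Subgroup G, U ≤ normalizer (T : Set G) →
      (Nat.card ↥U).Coprime p → E ≤ normalizer (U : Set G) → U ≤ pcoreOf p (normalizer (T : Set G)))
    (hK : pcoreOf p (normalizer (E : Set G)) ⊓ centralizer (E : Set G) ≤ K)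
    {Q₁ Q₂ : Subgroup G} (h₁ : Q₁ ∈ maxInvSubgroups ⊤ E {q}) (h₂ : Q₂ ∈ maxInvSubgroups ⊤ E {q}) :
    KC K Q₁ Q₂ := by
  have hpp := (Fact.out : p.Prime)
  have hqq := (Fact.out : q.Prime)
  have hqcop : ∀ U : Subgroup G, IsPGroup q ↥U → (Nat.card ↥U).Coprime p := by
    intro U hU
    obtain ⟨k, hk⟩ := hU.exists_card_eq
    rw [hk]
    exact Nat.Coprime.pow_left k ((Nat.coprime_primes hqq hpp).mpr hqp)
  have hEN : ∀ a ∈ E, E ≤ normalizer ((zpowers a : Subgroup G) : Set G) := fun a ha =>
    (le_centralizer_zpowers hEc ha).trans (Subgroup.centralizer_le_normalizer _)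
  apply core hqp E hEp A₀ hA₀E hA₀ hA₀3 ?_ K hKC
    (fun a => pcoreOf p (normalizer ((zpowers a : Subgroup G) : Set G))) ?_ ?_ h₁ h₂
  · intro a ha e he
    rw [Subgroup.mem_centralizer_singleton_iff]
    first
      | exact hEc e he a (hA₀E ha)
      | exact hEc a (hA₀E ha) e he
  · intro a ha ha1
    refine ⟨card_pcoreOf p _, (hEN a (hA₀E ha)).trans (le_normalizer_pcoreOf p _), ?_⟩
    set Y := pcoreOf p (normalizer ((zpowers a : Subgroup G) : Set G)) ⊓ centralizer (E : Set G)
      with hY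
    have hYC : Y ≤ centralizer (E : Set G) := inf_le_right
    have h1 : Y ≤ pcoreOf p (normalizer (E : Set G)) :=
      hkey E le_rfl hE1 Y (hYC.trans (Subgroup.centralizer_le_normalizer _))
        (Nat.Coprime.coprime_dvd_left (Subgroup.card_dvd_of_le inf_le_left) (card_pcoreOf p _))
        (le_normalizer_of_le_centralizer hYC)
    exact (le_inf h1 hYC).trans hK
  · intro a ha ha1 U hU hEU hUa
    have hT1 : (zpowers a : Subgroup G) ≠ ⊥ := by
      intro h
      apply ha1
      have : a ∈ (zpowers a : Subgroup G) := Subgroup.mem_zpowers a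
      rw [h, Subgroup.mem_bot] at this
      exact this
    apply hkey (zpowers a) (Subgroup.zpowers_le.mpr (hA₀E ha)) hT1 U ?_ (hqcop U hU) hEU
    refine le_trans ?_ (Subgroup.centralizer_le_normalizer _)
    intro u hu
    rw [Subgroup.mem_centralizer_iff]
    intro z hz
    have hua := Subgroup.mem_centralizer_singleton_iff.mp (hUa hu)
    obtain ⟨n, rfl⟩ := Subgroup.mem_zpowers_iff.mp hz
    have hc : Commute u a := by
      first
        | exact hua
        | exact hua.symm
    exact ((hc.zpow_right n).eq).symm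

end Cfsg.Agent.Helper14.TransCore
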