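import Mathlib
import Cfsg.Prelude.Def_Local
import Cfsg.Prelude.Def_EvenTechniques
import Cfsg.Agent.Lib.Helper14.TransCore2
import Cfsg.Agent.Lib.Helper7.CoprimeGen3

/-!
# `k`-balance: elementary generation lemmas (helper14)
-/

set_option autoImplicit false

namespace Cfsg.Agent.Helper14.KBal

open Cfsg Subgroup

variable {G : Type*} [Group G]

/-- coprime generation by centralizers of hyperplanes -/
theorem le_iSup_hyperplane [Finite G] {p : ℕ} [Fact p.Prime] {E X : Subgroup G}
    (hE : IsElementaryAbelian p E) (hE1 : E ≠ ⊥) (hX : ¬ p ∣ Nat.card ↥X)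
    (hEX : E ≤ normalizer (X : Set G)) :
    X ≤ ⨆ D : {D : Subgroup G // D ≤ E ∧ D.relIndex E = p},
      X ⊓ centralizer ((D : Subgroup G) : Set G) :=
  (Cfsg.Agent.Helper7.le_hyperGen p E X hE hX hEX).trans
    (Cfsg.Agent.Helper7.hyperGen_le_iSup_relIndex_eq p
      (Cfsg.Agent.Helper7.isPGroup_of_isElementaryAbelian hE) hE1 X)

theorem card_hyperplane {p : ℕ} {D E : Subgroup G} (hDE : D ≤ E) (hr : D.relIndex E = p) :
    Nat.card ↥D * p = Nat.card ↥E := by
  have := Subgroup.relIndex_mul_relIndex (⊥ : Subgroup G) D E bot_le hDE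
  rwa [Subgroup.relIndex_bot_left, Subgroup.relIndex_bot_left, hr] at this

theorem centralizerPPrimeCore_eq (p : ℕ) (x : G) :
    centralizerPPrimeCore p x =
      Cfsg.Agent.Helper14.TransCore.pcoreOf p (centralizer ({x} : Set G)) := rfl

theorem card_centralizerPPrimeCore [Finite G] (p : ℕ) (x : G) :
    (Nat.card ↥(centralizerPPrimeCore p x)).Coprime p :=
  Cfsg.Agent.Helper14.TransCore.card_pcoreOf p _

theorem centralizer_le_normalizer_centralizerPPrimeCore (p : ℕ) (x : G) :
    centralizer ({x} : Set G) ≤ normalizer ((centralizerPPrimeCore p x : Subgroup G) : Set G) :=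
  Cfsg.Agent.Helper14.TransCore.le_normalizer_pcoreOf p _

theorem signalizerDelta_le (p : ℕ) {B : Subgroup G} {b : G} (hb : b ∈ B) (hb1 : b ≠ 1) :
    signalizerDelta p B ≤ centralizerPPrimeCore p b :=
  iInf_le (fun a : {a : G // a ∈ B ∧ a ≠ 1} => centralizerPPrimeCore p (a : G)) ⟨b, hb, hb1⟩

theorem signalizerDelta_anti (p : ℕ) {B B' : Subgroup G} (h : B ≤ B') :
    signalizerDelta p B' ≤ signalizerDelta p B := by
  apply le_iInf
  rintro ⟨b, hb, hb1⟩
  exact signalizerDelta_le p (h hb) hb1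

theorem not_dvd_card_signalizerDelta [Finite G] (p : ℕ) [Fact p.Prime] {B : Subgroup G}
    (hB : B ≠ ⊥) : ¬ p ∣ Nat.card ↥(signalizerDelta p B) := by
  obtain ⟨b, hb1⟩ := (Subgroup.ne_bot_iff_exists_ne_one (H := B)).mp hB
  have hb1' : (b : G) ≠ 1 := fun h => hb1 (Subtype.ext h)
  intro hd
  have h1 := hd.trans (Subgroup.card_dvd_of_le (signalizerDelta_le p b.2 hb1'))
  have h2 := Nat.dvd_gcd h1 dvd_rfl
  rw [card_centralizerPPrimeCore] at h2
  exact (Fact.out : p.Prime).one_lt.ne' (Nat.dvd_one.mp h2)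

/-- a subgroup commuting elementwise with `B` normalizes `Δ(B)` -/
theorem le_normalizer_signalizerDelta (p : ℕ) {A B : Subgroup G}
    (hAB : ∀ a ∈ A, ∀ b ∈ B, a * b = b * a) :
    A ≤ normalizer ((signalizerDelta p B : Subgroup G) : Set G) := by
  refine le_trans ?_ (Subgroup.iInf_normalizer_le_normalizer_iInf _)
  apply le_iInf
  rintro ⟨b, hb, hb1⟩
  refine le_trans ?_ (centralizer_le_normalizer_centralizerPPrimeCore p b)
  intro a ha
  rw [Subgroup.mem_centralizer_singleton_iff]
  first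
    | exact hAB a ha b hb
    | exact (hAB a ha b hb).symm

end Cfsg.Agent.Helper14.KBal
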