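import Mathlib
import Cfsg.Agent.Lib.Helper1.M22LocDefs

/-!
# S0429 LOCAL pieces FIVE1 / FIVE2 (helper14): core versions, with the other pieces as HYPOTHESES, so that this
file depends on landed files only.
-/

set_option autoImplicit false
set_option linter.unusedSectionVars false
set_option linter.unusedVariables false

namespace Cfsg.Agent.Helper1.M22

open Finset

section Generic

variable {α : Type*} [DecidableEq α]

/-- counting in a subtype -/
theorem five1_card_sub (s : Finset α) (p : α → Prop) [DecidablePred p] :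
    (univ.filter fun y : {x // x ∈ s} => p y.1).card = (s.filter p).card := by
  apply Finset.card_bij (fun y _ => y.1)
  · intro y hy
    rw [mem_filter] at hy ⊢
    exact ⟨y.2, hy.2⟩
  · intro y _ y' _ h
    exact Subtype.ext h
  · intro x hx
    rw [mem_filter] at hx
    exact ⟨⟨x, hx.1⟩, by rw [mem_filter]; exact ⟨mem_univ _, hx.2⟩, rfl⟩

end Generic

variable {V : Type*} [Fintype V] [DecidableEq V] {G : SimpleGraph V} [DecidableRel G.Adj] (o : V)

/-- PIECE FIVE1, core: transport of the statement of `two_five_cliques` from the subtype of classes -/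
theorem five1_core {X : Finset V} (hX : X ∈ classes G o)
    (htwo : (univ.filter fun Q : Finset {Y : Finset V // Y ∈ classes G o} =>
      Q.card = 5 ∧ (⟨X, hX⟩ : {Y : Finset V // Y ∈ classes G o}) ∈ Q ∧
        ∀ a ∈ Q, ∀ b ∈ Q, a ≠ b → NearC G o a.1 b.1).card = 2) :
    ((fives G o).filter fun Q => X ∈ Q).card = 2 := by
  rw [← htwo]
  symm
  apply Finset.card_bij (fun Q' _ => Q'.map (Function.Embedding.subtype _))
  · intro Q' hQ'
    rw [mem_filter] at hQ'
    obtain ⟨-, h5, hx, hN⟩ := hQ'
    rw [mem_filter]
    refine ⟨?_, ?_⟩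
    · unfold fives
      rw [mem_filter, mem_powerset]
      have hsub : Q'.map (Function.Embedding.subtype _) ⊆ classes G o := by
        intro Y hY
        rw [mem_map] at hY
        obtain ⟨y, -, rfl⟩ := hY
        exact y.2
      refine ⟨hsub, hsub, ?_, ?_⟩
      · rw [card_map, h5]
      · intro Y hY Z hZ hYZ
        rw [mem_map] at hY hZ
        obtain ⟨y, hy, rfl⟩ := hY
        obtain ⟨z, hz, rfl⟩ := hZ
        exact hN y hy z hz (fun h => hYZ (by rw [h]))
    · rw [mem_map]
      exact ⟨⟨X, hX⟩, hx, rfl⟩
  · intro Q₁ _ Q₂ _ h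
    exact Finset.map_injective _ h
  · intro Q hQ
    rw [mem_filter] at hQ
    obtain ⟨hQ5, hXQ⟩ := hQ
    unfold fives at hQ5
    rw [mem_filter, mem_powerset] at hQ5
    obtain ⟨hsub, -, h5, hN⟩ := hQ5
    have hmap : (Q.subtype fun Y => Y ∈ classes G o).map (Function.Embedding.subtype _) = Q := by
      rw [Finset.subtype_map]
      exact Finset.filter_true_of_mem fun Y hY => hsub hY
    refine ⟨Q.subtype fun Y => Y ∈ classes G o, ?_, hmap⟩
    rw [mem_filter]
    refine ⟨mem_univ _, ?_, ?_, ?_⟩
    · rw [← h5, ← hmap, card_map, hmap]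
    · rw [Finset.mem_subtype]
      exact hXQ
    · intro a ha b hb hab
      rw [Finset.mem_subtype] at ha hb
      exact hN a.1 ha b.1 hb (fun h => hab (Subtype.ext h))

/-- PIECE FIVE2, core: double counting -/
theorem five2_core (hcls : (classes G o).card = 15)
    (hthr : ∀ X ∈ classes G o, ((fives G o).filter fun Q => X ∈ Q).card = 2) :
    (fives G o).card = 6 := by
  have h1 : ∑ X ∈ classes G o, ((fives G o).filter fun Q => X ∈ Q).card = 30 := by
    rw [Finset.sum_congr rfl hthr, Finset.sum_const, hcls]
    rfl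
  have h2 : ∑ X ∈ classes G o, ((fives G o).filter fun Q => X ∈ Q).card =
      ∑ Q ∈ fives G o, ((classes G o).filter fun X => X ∈ Q).card := by
    simp only [Finset.card_filter]
    exact Finset.sum_comm
  have h3 : ∀ Q ∈ fives G o, ((classes G o).filter fun X => X ∈ Q).card = 5 := by
    intro Q hQ
    unfold fives at hQ
    rw [mem_filter, mem_powerset] at hQ
    obtain ⟨hsub, -, h5, -⟩ := hQ
    have : ((classes G o).filter fun X => X ∈ Q) = Q := by
      rw [Finset.filter_mem_eq_inter]
      exact Finset.inter_eq_right.mpr hsub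
    rw [this, h5]
  rw [h2, Finset.sum_congr rfl h3, Finset.sum_const, smul_eq_mul] at h1
  omega

end Cfsg.Agent.Helper1.M22
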