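import Mathlib
import Cfsg.Agent.Lib.Helper1.M22LocDefs
import Cfsg.Agent.Lib.Helper14.M22FIVECore
import Cfsg.Agent.Lib.Helper1.M22CLS
import Cfsg.Agent.Lib.Helper1.M22SRG1
import Cfsg.Agent.Lib.Helper1.M22SRG3
import Cfsg.Agent.Lib.Helper23.M22VAL1
import Cfsg.Agent.Lib.Helper17.M22TWO5

/-!
# S0429 LOCAL piece FIVE1 (helper14): every class lies in exactly two 5-cliques of the near graph.
-/

set_option autoImplicit false
set_option linter.unusedSectionVars false
set_option linter.unusedVariables false

namespace Cfsg.Agent.Helper1.M22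

open Finset

variable {V : Type*} [Fintype V] [DecidableEq V] {G : SimpleGraph V} [DecidableRel G.Adj]
  (hG : G.IsSRGWith 77 16 0 4) (o : V)
include hG

/-- PIECE FIVE1 -/
theorem card_fives_through {X : Finset V} (hX : X ∈ classes G o) :
    ((fives G o).filter fun Q => X ∈ Q).card = 2 := by
  apply five1_core o hX
  have hsymm : ∀ x y : {Y : Finset V // Y ∈ classes G o}, NearC G o x.1 y.1 → NearC G o y.1 x.1 := by
    rintro x y ⟨b, hb, c, hc, h⟩
    exact ⟨c, hc, b, hb, by rw [pp_symm]; exact h⟩
  have hirr : ∀ x : {Y : Finset V // Y ∈ classes G o}, ¬ NearC G o x.1 x.1 := by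
    intro x hx
    obtain ⟨b, hb, hxb⟩ : ∃ b ∈ nB G o, x.1 = cls G o b := by
      have h := x.2
      unfold classes at h
      rw [mem_image] at h
      obtain ⟨b, hb, h⟩ := h
      exact ⟨b, hb, h.symm⟩
    rw [hxb, nearC_iff hG o hb hb, pp_self hG o hb] at hx
    norm_num at hx
  exact two_five_cliques (fun x y : {Y : Finset V // Y ∈ classes G o} => NearC G o x.1 y.1) hsymm hirr
    (by rw [Fintype.card_coe]; exact card_classes hG o)
    (fun x => by
      rw [five1_card_sub (classes G o) (fun Y => NearC G o x.1 Y)]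
      exact card_nearC hG o x.2)
    (fun x y hxy => by
      rw [five1_card_sub (classes G o) (fun Z => NearC G o x.1 Z ∧ NearC G o y.1 Z)]
      exact card_common_nearC hG o x.2 y.2 (fun h => hxy (Subtype.ext h)))
    ⟨X, hX⟩

end Cfsg.Agent.Helper1.M22
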