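import Mathlib
import Cfsg.Agent.Lib.Helper1.M22LocDefs
import Cfsg.Agent.Lib.Helper14.M22FIVECore
import Cfsg.Agent.Lib.Helper14.M22FIVE1
import Cfsg.Agent.Lib.Helper1.M22CLS

/-!
# S0429 LOCAL piece FIVE2 (helper14): there are six 5-cliques.
-/

set_option autoImplicit false
set_option linter.unusedSectionVars false
set_option linter.unusedVariables false

namespace Cfsg.Agent.Helper1.M22

open Finset

variable {V : Type*} [Fintype V] [DecidableEq V] {G : SimpleGraph V} [DecidableRel G.Adj]
  (hG : G.IsSRGWith 77 16 0 4) (o : V)
include hG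

/-- PIECE FIVE2 -/
theorem card_fives : (fives G o).card = 6 :=
  five2_core o (card_classes hG o) (fun X hX => card_fives_through hG o hX)

end Cfsg.Agent.Helper1.M22
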