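import Mathlib
import Cfsg.Agent.Lib.Helper1.M22LocDefs

/-!
# S0429 LOCAL pieces COC1 / COC2 (helper14): core versions, with the other pieces (`hoffman`, `card_blk`, `pp_rows`)
as HYPOTHESES, so that this file depends on landed files only.
-/

set_option autoImplicit false
set_option linter.unusedSectionVars false
set_option linter.unusedVariables false

namespace Cfsg.Agent.Helper1.M22

open Finset

variable {V : Type*} [Fintype V] [DecidableEq V] {G : SimpleGraph V} [DecidableRel G.Adj] (o : V)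

/-- membership in `cocs` -/
theorem coc1_mem_cocs {C : Finset V} (hC : C ∈ cocs G o) : IsCoc G C ∧ o ∈ C := by
  unfold cocs at hC
  rw [mem_filter] at hC
  exact hC.2

/-- the points of a coclique through `o`, other than `o`, are in `nB` -/
theorem coc1_erase_sub {C : Finset V} (hC : C ∈ cocs G o) : ∀ c ∈ C.erase o, c ∈ nB G o := by
  obtain ⟨hcoc, hoC⟩ := coc1_mem_cocs o hC
  intro c hc
  rw [mem_erase] at hc
  unfold nB
  rw [mem_filter]
  exact ⟨mem_univ _, hc.1, hcoc.2 o hoC c hc.2⟩

/-- filtering an erased set -/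
theorem coc1_filter_erase (C : Finset V) (p : V → Prop) [DecidablePred p] :
    (C.erase o).filter p = (C.filter p).erase o := by
  ext x
  simp only [mem_filter, mem_erase]
  tauto

/-- PIECE COC1, core -/
theorem coc1_core
    (hhoff : ∀ {C : Finset V}, IsCoc G C → ∀ {v : V}, v ∉ C → (C.filter fun c => G.Adj v c).card = 6)
    (hblk : ∀ {b : V}, b ∈ nB G o → (blk G o b).card = 4)
    {C : Finset V} (hC : C ∈ cocs G o) {b : V} (hb : b ∈ nB G o) :
    ∑ c ∈ C.erase o, pp G o b c = (if b ∈ C then 1 else 0) - 1 / 3 := by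
  obtain ⟨hcoc, hoC⟩ := coc1_mem_cocs o hC
  have hb' := hb
  unfold nB at hb'
  rw [mem_filter] at hb'
  obtain ⟨-, hbo, hob⟩ := hb'
  have hcardS : (C.erase o).card = 20 := by
    rw [card_erase_of_mem hoC, hcoc.1]
  -- the four partial sums
  have hT1 : ∑ c ∈ C.erase o, (if b = c then (1 / 4 : ℚ) else 0) = if b ∈ C then 1 / 4 else 0 := by
    rw [Finset.sum_ite_eq (C.erase o) b (fun _ => (1 / 4 : ℚ))]
    have : b ∈ C.erase o ↔ b ∈ C := by
      rw [mem_erase]
      exact ⟨fun h => h.2, fun h => ⟨hbo, h⟩⟩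
    simp only [this]
  have hT2 : ∑ c ∈ C.erase o, (1 / 12 : ℚ) = 20 / 12 := by
    rw [Finset.sum_const, hcardS]
    norm_num
  have hn3 : ((C.erase o).filter fun c => G.Adj b c).card = if b ∈ C then 0 else 6 := by
    split_ifs with hbC
    · rw [card_eq_zero, filter_eq_empty_iff]
      intro c hc
      exact hcoc.2 b hbC c (mem_of_mem_erase hc)
    · rw [coc1_filter_erase, erase_eq_of_notMem]
      · exact hhoff hcoc hbC
      · rw [mem_filter]
        intro h
        exact hob h.2.symm
  have hT3 : ∑ c ∈ C.erase o, (if G.Adj b c then (1 / 8 : ℚ) else 0) =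
      ((if b ∈ C then 0 else 6 : ℕ) : ℚ) * (1 / 8) := by
    rw [Finset.sum_ite, Finset.sum_const, Finset.sum_const_zero, add_zero, hn3, nsmul_eq_mul]
  have hT4 : ∑ c ∈ C.erase o, ii G o b c = 20 := by
    have h1 : ∀ c, ii G o b c = ∑ a ∈ blk G o b, if a ∈ blk G o c then 1 else 0 := by
      intro c
      unfold ii
      rw [← Finset.filter_mem_eq_inter, Finset.card_filter]
    simp only [h1]
    rw [Finset.sum_comm]
    have h2 : ∀ a ∈ blk G o b, (∑ c ∈ C.erase o, if a ∈ blk G o c then 1 else 0) = 5 := by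
      intro a ha
      unfold blk at ha
      rw [mem_filter] at ha
      obtain ⟨-, hoa, hba⟩ := ha
      have haC : a ∉ C := fun h => hcoc.2 o hoC a h hoa
      rw [← Finset.card_filter]
      have h3 : ((C.erase o).filter fun c => a ∈ blk G o c) = (C.filter fun c => G.Adj a c).erase o := by
        rw [← coc1_filter_erase]
        apply Finset.filter_congr
        intro c _
        unfold blk
        rw [mem_filter]
        exact ⟨fun h => h.2.2.symm, fun h => ⟨mem_univ _, hoa, h.symm⟩⟩
      rw [h3, card_erase_of_mem, hhoff hcoc haC]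
      rw [mem_filter]
      exact ⟨hoC, hoa.symm⟩
    rw [Finset.sum_congr rfl h2, Finset.sum_const, hblk hb]
    rfl
  have hT4' : ∑ c ∈ C.erase o, ((ii G o b c : ℚ) / 16) = 20 / 16 := by
    rw [← Finset.sum_div, ← Nat.cast_sum, hT4]
    norm_num
  unfold pp
  rw [Finset.sum_sub_distrib, Finset.sum_sub_distrib, Finset.sum_add_distrib, hT1, hT2, hT3, hT4']
  split_ifs with hbC
  · norm_num
  · norm_num

/-- PIECE COC2, core -/
theorem coc2_core {C : Finset V} (hC : C ∈ cocs G o) {b b' : V}
    (hrows : ∀ c ∈ nB G o, pp G o b c = pp G o b' c)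
    (h1 : ∑ c ∈ C.erase o, pp G o b c = (if b ∈ C then 1 else 0) - 1 / 3)
    (h2 : ∑ c ∈ C.erase o, pp G o b' c = (if b' ∈ C then 1 else 0) - 1 / 3)
    (hbC : b ∈ C) : b' ∈ C := by
  by_contra hb'C
  have h3 : ∑ c ∈ C.erase o, pp G o b c = ∑ c ∈ C.erase o, pp G o b' c :=
    Finset.sum_congr rfl fun c hc => hrows c (coc1_erase_sub o hC c hc)
  rw [h1, h2, if_pos hbC, if_neg hb'C] at h3
  norm_num at h3

end Cfsg.Agent.Helper1.M22
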