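import Mathlib
import Cfsg.Agent.Lib.Helper1.M22LocDefs
import Cfsg.Agent.Lib.Helper14.M22COC1Core
import Cfsg.Agent.Lib.Helper9.M22HOFF
import Cfsg.Agent.Lib.Helper6.M22BASIC1

/-!
# S0429 LOCAL piece COC1 (helper14): the row sums of `pp` over a coclique through `o`.
-/

set_option autoImplicit false
set_option linter.unusedSectionVars false
set_option linter.unusedVariables false

namespace Cfsg.Agent.Helper1.M22

open Finset

variable {V : Type*} [Fintype V] [DecidableEq V] {G : SimpleGraph V} [DecidableRel G.Adj]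
  (hG : G.IsSRGWith 77 16 0 4) (o : V)
include hG

/-- PIECE COC1. -/
theorem sum_pp_coc {C : Finset V} (hC : C ∈ cocs G o) {b : V} (hb : b ∈ nB G o) :
    ∑ c ∈ C.erase o, pp G o b c = (if b ∈ C then 1 else 0) - 1 / 3 :=
  coc1_core o (fun hC' _ hv => hoffman hG hC' hv) (fun hb' => card_blk hG o hb') hC hb

end Cfsg.Agent.Helper1.M22
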