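import Mathlib
import Cfsg.Agent.Lib.Helper1.M22LocDefs
import Cfsg.Agent.Lib.Helper14.M22COC1Core
import Cfsg.Agent.Lib.Helper14.M22COC1
import Cfsg.Agent.Lib.Helper23.M22VAL1

/-!
# S0429 LOCAL piece COC2 (helper14): cocliques through `o` are unions of classes.
-/

set_option autoImplicit false
set_option linter.unusedSectionVars false
set_option linter.unusedVariables false

namespace Cfsg.Agent.Helper1.M22

open Finset

variable {V : Type*} [Fintype V] [DecidableEq V] {G : SimpleGraph V} [DecidableRel G.Adj]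
  (hG : G.IsSRGWith 77 16 0 4) (o : V)
include hG

/-- PIECE COC2 (`pp_rows`, `sum_pp_coc`) -/
theorem coc_closed {C : Finset V} (hC : C ∈ cocs G o) {b b' : V} (hb : b ∈ nB G o) (hb' : b' ∈ nB G o)
    (h : pp G o b b' = 1 / 12) (hbC : b ∈ C) : b' ∈ C :=
  coc2_core o hC (pp_rows hG o hb hb' h) (sum_pp_coc hG o hC hb) (sum_pp_coc hG o hC hb') hbC

end Cfsg.Agent.Helper1.M22
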