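import Mathlib
import Cfsg.Prelude.Def_Characters

/-!
# S3701 (helper14): definitions for the `3³ : 2²` configuration.  See plans/S3701_Skel.lean.txt, plans/S3701_proof.md.

`T` elementary abelian of order 27 with basis `t1, t2, t3`; `N_G(T) = T ⋊ ⟨a, b⟩`, `a` inverts `t1, t2` and centralizes `t3`,
`b` inverts `t1, t3` and centralizes `t2`; `C_G(t) ≤ N_G(T)` for `t ∈ T^#`.
-/

set_option autoImplicit false
set_option linter.unusedSectionVars false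
set_option linter.unusedVariables false

namespace Cfsg.Agent.Helper14.TC27

open Cfsg

universe u v

/-- the relations between the five generators `t1, t2, t3, a, b` of `3³ : 2²` -/
structure Rel {K : Type v} [Group K] (t1 t2 t3 a b : K) : Prop where
  o1 : t1 ^ 3 = 1
  o2 : t2 ^ 3 = 1
  o3 : t3 ^ 3 = 1
  c12 : t1 * t2 = t2 * t1
  c13 : t1 * t3 = t3 * t1
  c23 : t2 * t3 = t3 * t2
  aa : a * a = 1
  bb : b * b = 1
  ab : a * b = b * a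
  a1 : a * t1 * a⁻¹ = t1⁻¹
  a2 : a * t2 * a⁻¹ = t2⁻¹
  a3 : a * t3 * a⁻¹ = t3
  b1 : b * t1 * b⁻¹ = t1⁻¹
  b2 : b * t2 * b⁻¹ = t2
  b3 : b * t3 * b⁻¹ = t3⁻¹
  inj : ∀ i j k i' j' k' : Fin 3,
    t1 ^ (i : ℕ) * t2 ^ (j : ℕ) * t3 ^ (k : ℕ) = t1 ^ (i' : ℕ) * t2 ^ (j' : ℕ) * t3 ^ (k' : ℕ) →
      i = i' ∧ j = j' ∧ k = k'

/-- a group `K` with five elements satisfying `Rel`, every element being a word `t1^i t2^j t3^k a^e b^f` -/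
structure Pres (K : Type v) [Group K] where
  t1 : K
  t2 : K
  t3 : K
  a : K
  b : K
  rel : Rel t1 t2 t3 a b
  form : ∀ x : K, ∃ i j k : Fin 3, ∃ e f : Fin 2,
    x = t1 ^ (i : ℕ) * t2 ^ (j : ℕ) * t3 ^ (k : ℕ) * a ^ (e : ℕ) * b ^ (f : ℕ)

section Defs

variable {G : Type u} [Group G] (T : Sylow 3 G)

/-- the hypotheses of S3701 on the Sylow 3-subgroup `T`, unpacked -/
structure Hyp : Prop where
  card : Nat.card (T : Subgroup G) = 27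
  exp : ∀ x ∈ (T : Subgroup G), x ^ 3 = 1
  comm : ∀ x ∈ (T : Subgroup G), ∀ y ∈ (T : Subgroup G), x * y = y * x
  loc : ∀ t ∈ (T : Subgroup G), t ≠ 1 →
    Subgroup.centralizer ({t} : Set G) ≤ Subgroup.normalizer ((T : Subgroup G) : Set G)

/-- the `3³ : 2²` configuration inside `G` -/
structure Cfg where
  t1 : G
  t2 : G
  t3 : G
  a : G
  b : G
  rel : Rel t1 t2 t3 a b
  ht1 : t1 ∈ (T : Subgroup G)
  ht2 : t2 ∈ (T : Subgroup G)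
  ht3 : t3 ∈ (T : Subgroup G)
  ha : a ∈ Subgroup.normalizer ((T : Subgroup G) : Set G)
  hb : b ∈ Subgroup.normalizer ((T : Subgroup G) : Set G)
  gen : ∀ t ∈ (T : Subgroup G), ∃ i j k : Fin 3, t = t1 ^ (i : ℕ) * t2 ^ (j : ℕ) * t3 ^ (k : ℕ)
  nrm : ∀ n ∈ Subgroup.normalizer ((T : Subgroup G) : Set G), ∃ i j k : Fin 3, ∃ e f : Fin 2,
    n = t1 ^ (i : ℕ) * t2 ^ (j : ℕ) * t3 ^ (k : ℕ) * a ^ (e : ℕ) * b ^ (f : ℕ)

variable {T}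

/-- coset representatives of `T` in `N_G(T)` -/
def Cfg.E (c : Cfg T) : Fin 4 → G := ![1, c.a, c.b, c.a * c.b]

/-- two linear characters `μ = (1,1,0)`, `ν = (1,0,1)` of `T` (exponents of `ω` on `t1, t2, t3`) -/
structure Lin (c : Cfg T) where
  ω : ℂ
  ωq : ω ^ 2 + ω + 1 = 0
  μ : ↥(T : Subgroup G) →* ℂˣ
  ν : ↥(T : Subgroup G) →* ℂˣ
  μ1 : ((μ ⟨c.t1, c.ht1⟩ : ℂˣ) : ℂ) = ω
  μ2 : ((μ ⟨c.t2, c.ht2⟩ : ℂˣ) : ℂ) = ω
  μ3 : ((μ ⟨c.t3, c.ht3⟩ : ℂˣ) : ℂ) = 1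
  ν1 : ((ν ⟨c.t1, c.ht1⟩ : ℂˣ) : ℂ) = ω
  ν2 : ((ν ⟨c.t2, c.ht2⟩ : ℂˣ) : ℂ) = 1
  ν3 : ((ν ⟨c.t3, c.ht3⟩ : ℂˣ) : ℂ) = ω

variable {c : Cfg T}

/-- `μ` as a complex valued function -/
def Lin.μc (l : Lin c) : ↥(T : Subgroup G) → ℂ := fun t => ((l.μ t : ℂˣ) : ℂ)

/-- `ν` as a complex valued function -/
def Lin.νc (l : Lin c) : ↥(T : Subgroup G) → ℂ := fun t => ((l.ν t : ℂˣ) : ℂ)

/-- `δ = μ - ν` -/
def Lin.δ (l : Lin c) : ↥(T : Subgroup G) → ℂ := fun t => ((l.μ t : ℂˣ) : ℂ) - ((l.ν t : ℂˣ) : ℂ)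

/-- `θ = δ^G`, the induced generalized character -/
noncomputable def Lin.θ [Fintype G] (l : Lin c) : G → ℂ := indFun (T : Subgroup G) l.δ

end Defs

end Cfsg.Agent.Helper14.TC27
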