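import Mathlib
import Cfsg.Agent.Lib.Helper26.S3805TRI
import Cfsg.Agent.Lib.Helper14.TC27Defs

/-!
# S3701 (helper14): core lemmas for the `3³ : 2²` configuration (`Rel.map`, fusion control, Higman's lemma, evaluation of `μ`, `ν`)
-/

set_option autoImplicit false
set_option linter.unusedSectionVars false
set_option linter.unusedVariables false

namespace Cfsg.Agent.Helper14.TC27

open Cfsg

universe u v

/-- CORE: transport of the relations along an injective homomorphism -/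
theorem Rel.map {K : Type v} [Group K] {L : Type u} [Group L] {t1 t2 t3 a b : K} (r : Rel t1 t2 t3 a b)
    (f : K →* L) (hf : Function.Injective f) : Rel (f t1) (f t2) (f t3) (f a) (f b) where
  o1 := by rw [← map_pow, r.o1, map_one]
  o2 := by rw [← map_pow, r.o2, map_one]
  o3 := by rw [← map_pow, r.o3, map_one]
  c12 := by rw [← map_mul, r.c12, map_mul]
  c13 := by rw [← map_mul, r.c13, map_mul]
  c23 := by rw [← map_mul, r.c23, map_mul]
  aa := by rw [← map_mul, r.aa, map_one]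
  bb := by rw [← map_mul, r.bb, map_one]
  ab := by rw [← map_mul, r.ab, map_mul]
  a1 := by rw [← map_inv, ← map_mul, ← map_mul, r.a1, map_inv]
  a2 := by rw [← map_inv, ← map_mul, ← map_mul, r.a2, map_inv]
  a3 := by rw [← map_inv, ← map_mul, ← map_mul, r.a3]
  b1 := by rw [← map_inv, ← map_mul, ← map_mul, r.b1, map_inv]
  b2 := by rw [← map_inv, ← map_mul, ← map_mul, r.b2]
  b3 := by rw [← map_inv, ← map_mul, ← map_mul, r.b3, map_inv]
  inj := by
    intro i j k i' j' k' he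
    apply r.inj
    apply hf
    simpa only [map_mul, map_pow] using he

section Grp

variable {G : Type u} [Group G] [Finite G] {T : Sylow 3 G}

/-- CORE: `N_G(T)` controls fusion in `T` -/
theorem mem_normalizer_of_conj (h : Hyp T) {t : G} (ht : t ∈ (T : Subgroup G)) (ht1 : t ≠ 1) {g : G}
    (hg : g * t * g⁻¹ ∈ (T : Subgroup G)) :
    g ∈ Subgroup.normalizer ((T : Subgroup G) : Set G) := by
  have : Fact (Nat.Prime 3) := ⟨Nat.prime_three⟩
  have hs1 : g * t * g⁻¹ ≠ 1 := by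
    intro h1
    apply ht1
    have e : t = g⁻¹ * (g * t * g⁻¹) * g := by group
    rw [e, h1]; group
  have hconj : ∀ u ∈ (T : Subgroup G), g * u * g⁻¹ ∈ (T : Subgroup G) := by
    intro u hu
    have hN : g * u * g⁻¹ ∈ Subgroup.normalizer ((T : Subgroup G) : Set G) := by
      apply h.loc _ hg hs1
      rw [Subgroup.mem_centralizer_singleton_iff]
      have hc : u * t = t * u := h.comm u hu t ht
      calc g * u * g⁻¹ * (g * t * g⁻¹) = g * (u * t) * g⁻¹ := by group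
        _ = g * (t * u) * g⁻¹ := by rw [hc]
        _ = g * t * g⁻¹ * (g * u * g⁻¹) := by group
    have h3 : (g * u * g⁻¹) ^ 3 = 1 := by
      rw [conj_pow, h.exp u hu]; group
    exact Cfsg.Agent.Helper8.S3805.TRI.mem_of_mem_normalizer T h3 hN
  have hle : ((g • T : Sylow 3 G) : Subgroup G) ≤ (T : Subgroup G) := by
    intro x hx
    rw [Sylow.coe_subgroup_smul] at hx
    obtain ⟨u, hu, rfl⟩ := (Subgroup.mem_smul_pointwise_iff_exists _ _ _).mp hx
    exact hconj u hu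
  have heq : (T : Subgroup G) = ((g • T : Sylow 3 G) : Subgroup G) :=
    (g • T).is_maximal' T.isPGroup' hle
  exact Sylow.smul_eq_iff_mem_normalizer.mp (Sylow.ext heq.symm)

/-- CORE: Higman's (3,3,3) lemma -/
theorem mem_of_mul_mem (h : Hyp T) {x y : G} (hx : orderOf x = 3) (hy : orderOf y = 3)
    (hxy : x * y ∈ (T : Subgroup G)) (hxy1 : x * y ≠ 1) (hnc : ¬ IsConj x y) :
    x ∈ (T : Subgroup G) ∧ y ∈ (T : Subgroup G) :=
  Cfsg.Agent.Helper8.S3805.mem_of_mul_mem T h.loc hx hy (h.exp _ hxy) hxy hxy1 hnc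

end Grp

section Lin

variable {G : Type u} [Group G] {T : Sylow 3 G} {c : Cfg T}

theorem Lin.omega_cube (l : Lin c) : l.ω ^ 3 = 1 := by
  have h := l.ωq
  linear_combination (l.ω - 1) * h

theorem Lin.omega_ne_zero (l : Lin c) : l.ω ≠ 0 := by
  intro h0
  have h := l.omega_cube
  rw [h0] at h
  norm_num at h

theorem Lin.omega_inv (l : Lin c) : l.ω⁻¹ = l.ω ^ 2 := by
  have h := l.omega_cube
  have h0 := l.omega_ne_zero
  field_simp
  linear_combination -h

theorem Lin.omega_ne_one (l : Lin c) : l.ω ≠ 1 := by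
  intro h1
  have h := l.ωq
  rw [h1] at h
  norm_num at h

/-- the value of `μ` at `t1^i t2^j t3^k` -/
theorem Lin.mu_apply (l : Lin c) (i j k : ℕ)
    (hm : c.t1 ^ i * c.t2 ^ j * c.t3 ^ k ∈ (T : Subgroup G)) :
    ((l.μ ⟨c.t1 ^ i * c.t2 ^ j * c.t3 ^ k, hm⟩ : ℂˣ) : ℂ) = l.ω ^ (i + j) := by
  have e : (⟨c.t1 ^ i * c.t2 ^ j * c.t3 ^ k, hm⟩ : ↥(T : Subgroup G)) =
      (⟨c.t1, c.ht1⟩ : ↥(T : Subgroup G)) ^ i * (⟨c.t2, c.ht2⟩ : ↥(T : Subgroup G)) ^ j *
        (⟨c.t3, c.ht3⟩ : ↥(T : Subgroup G)) ^ k := by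
    apply Subtype.ext
    simp
  rw [e, map_mul, map_mul, map_pow, map_pow, map_pow, Units.val_mul, Units.val_mul,
    Units.val_pow_eq_pow_val, Units.val_pow_eq_pow_val, Units.val_pow_eq_pow_val, l.μ1, l.μ2, l.μ3,
    one_pow, mul_one, pow_add]

/-- the value of `ν` at `t1^i t2^j t3^k` -/
theorem Lin.nu_apply (l : Lin c) (i j k : ℕ)
    (hm : c.t1 ^ i * c.t2 ^ j * c.t3 ^ k ∈ (T : Subgroup G)) :
    ((l.ν ⟨c.t1 ^ i * c.t2 ^ j * c.t3 ^ k, hm⟩ : ℂˣ) : ℂ) = l.ω ^ (i + k) := by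
  have e : (⟨c.t1 ^ i * c.t2 ^ j * c.t3 ^ k, hm⟩ : ↥(T : Subgroup G)) =
      (⟨c.t1, c.ht1⟩ : ↥(T : Subgroup G)) ^ i * (⟨c.t2, c.ht2⟩ : ↥(T : Subgroup G)) ^ j *
        (⟨c.t3, c.ht3⟩ : ↥(T : Subgroup G)) ^ k := by
    apply Subtype.ext
    simp
  rw [e, map_mul, map_mul, map_pow, map_pow, map_pow, Units.val_mul, Units.val_mul,
    Units.val_pow_eq_pow_val, Units.val_pow_eq_pow_val, Units.val_pow_eq_pow_val, l.ν1, l.ν2, l.ν3,
    one_pow, mul_one, pow_add]

/-- the value of `δ` at `t1^i t2^j t3^k` -/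
theorem Lin.delta_apply (l : Lin c) (i j k : ℕ)
    (hm : c.t1 ^ i * c.t2 ^ j * c.t3 ^ k ∈ (T : Subgroup G)) :
    l.δ ⟨c.t1 ^ i * c.t2 ^ j * c.t3 ^ k, hm⟩ = l.ω ^ (i + j) - l.ω ^ (i + k) := by
  unfold Lin.δ
  rw [l.mu_apply, l.nu_apply]

theorem Lin.delta_one (l : Lin c) : l.δ 1 = 0 := by
  unfold Lin.δ
  rw [map_one, map_one, sub_self]

end Lin

end Cfsg.Agent.Helper14.TC27
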