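import Mathlib
import Cfsg.Agent.Lib.Helper3.BSWDefs

/-!
# S3282 piece TICOUNT: counting the conjugates of `A#` for a self-centralizing subgroup `A`
-/

set_option autoImplicit false
set_option linter.unusedSectionVars false
set_option linter.unusedVariables false

namespace Cfsg.Agent.Helper3.BSW

universe u

variable {G : Type u} [Group G] [Finite G]

namespace TICOUNT

theorem conj_ne_one {x h : G} (h1 : x ≠ 1) : h * x * h⁻¹ ≠ 1 := by
  intro h'
  apply h1
  have e : x = h⁻¹ * (h * x * h⁻¹) * h := by group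
  rw [e, h']; group

/-- if `h x h⁻¹ ∈ A` for some `x ∈ A#` then `h` normalizes `A` -/
theorem mem_normalizer {A : Subgroup G} (hA : SelfCent A) {x h : G} (hx : x ∈ A) (h1 : x ≠ 1)
    (hh : h * x * h⁻¹ ∈ A) : h ∈ Subgroup.normalizer (A : Set G) := by
  rw [Subgroup.mem_normalizer_iff]
  intro a
  have e1 := hA x hx h1
  have e2 := hA (h * x * h⁻¹) hh (conj_ne_one h1)
  constructor
  · intro ha
    rw [← e1, Subgroup.mem_centralizer_singleton_iff] at ha
    rw [← e2, Subgroup.mem_centralizer_singleton_iff]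
    calc h * a * h⁻¹ * (h * x * h⁻¹) = h * (a * x) * h⁻¹ := by group
      _ = h * (x * a) * h⁻¹ := by rw [ha]
      _ = h * x * h⁻¹ * (h * a * h⁻¹) := by group
  · intro ha
    rw [← e2, Subgroup.mem_centralizer_singleton_iff] at ha
    rw [← e1, Subgroup.mem_centralizer_singleton_iff]
    calc a * x = h⁻¹ * (h * a * h⁻¹ * (h * x * h⁻¹)) * h := by group
      _ = h⁻¹ * (h * x * h⁻¹ * (h * a * h⁻¹)) * h := by rw [ha]
      _ = x * a := by group

theorem card_ne_one (A : Subgroup G) : Nat.card {x : ↥A // x ≠ 1} = Nat.card ↥A - 1 := by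
  classical
  have e := Nat.card_congr (Equiv.optionSubtypeNe (1 : ↥A))
  rw [Finite.card_option] at e
  omega

/-- the map `(q, x) ↦ q.out x q.out⁻¹` -/
noncomputable def f {A : Subgroup G} (P : G → Prop)
    (hP : ∀ g x : G, P x → P (g * x * g⁻¹)) (hAP : ∀ x ∈ A, x ≠ 1 → P x)
    (p : (G ⧸ Subgroup.normalizer (A : Set G)) × {x : ↥A // x ≠ 1}) : {y : G // P y} :=
  ⟨p.1.out * (p.2.1 : G) * p.1.out⁻¹,
    hP _ _ (hAP _ p.2.1.2 (fun h => p.2.2 (Subtype.ext h)))⟩

theorem f_injective {A : Subgroup G} (hA : SelfCent A) (P : G → Prop)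
    (hP : ∀ g x : G, P x → P (g * x * g⁻¹)) (hAP : ∀ x ∈ A, x ≠ 1 → P x) :
    Function.Injective (f (A := A) P hP hAP) := by
  rintro ⟨q, x⟩ ⟨q', x'⟩ he
  have he' : q.out * (x.1 : G) * q.out⁻¹ = q'.out * (x'.1 : G) * q'.out⁻¹ :=
    congrArg Subtype.val he
  have hx1 : (x.1 : G) ≠ 1 := fun h => x.2 (Subtype.ext h)
  have hconj : (q'.out⁻¹ * q.out) * (x.1 : G) * (q'.out⁻¹ * q.out)⁻¹ = (x'.1 : G) := by
    calc (q'.out⁻¹ * q.out) * (x.1 : G) * (q'.out⁻¹ * q.out)⁻¹
        = q'.out⁻¹ * (q.out * (x.1 : G) * q.out⁻¹) * q'.out := by group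
      _ = q'.out⁻¹ * (q'.out * (x'.1 : G) * q'.out⁻¹) * q'.out := by rw [he']
      _ = (x'.1 : G) := by group
  have hn : q'.out⁻¹ * q.out ∈ Subgroup.normalizer (A : Set G) :=
    mem_normalizer hA x.1.2 hx1 (by rw [hconj]; exact x'.1.2)
  have hq : q = q' := by
    have h1 : (QuotientGroup.mk q'.out : G ⧸ Subgroup.normalizer (A : Set G)) =
        QuotientGroup.mk q.out := QuotientGroup.eq.mpr hn
    rw [QuotientGroup.out_eq', QuotientGroup.out_eq'] at h1
    exact h1.symm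
  subst hq
  have hxx : (x.1 : G) = (x'.1 : G) := by
    have : q.out⁻¹ * (q.out * (x.1 : G) * q.out⁻¹) * q.out =
        q.out⁻¹ * (q.out * (x'.1 : G) * q.out⁻¹) * q.out := by rw [he']
    simpa [mul_assoc] using this
  have : x = x' := Subtype.ext (Subtype.ext hxx)
  rw [this]

theorem f_surjective {A : Subgroup G} (hA : SelfCent A) (P : G → Prop)
    (hP : ∀ g x : G, P x → P (g * x * g⁻¹)) (hAP : ∀ x ∈ A, x ≠ 1 → P x)
    (hall : ∀ y : G, P y → ∃ g : G, g * y * g⁻¹ ∈ A ∧ y ≠ 1) :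
    Function.Surjective (f (A := A) P hP hAP) := by
  rintro ⟨y, hy⟩
  obtain ⟨g, hgA, hy1⟩ := hall y hy
  -- `y = g⁻¹ x g`, `x = g y g⁻¹`
  set q : G ⧸ Subgroup.normalizer (A : Set G) := QuotientGroup.mk g⁻¹ with hq
  have hn : (g⁻¹)⁻¹ * q.out ∈ Subgroup.normalizer (A : Set G) := by
    have : (QuotientGroup.mk g⁻¹ : G ⧸ Subgroup.normalizer (A : Set G)) = QuotientGroup.mk q.out := by
      rw [QuotientGroup.out_eq']
    exact QuotientGroup.eq.mp this
  set n : G := (g⁻¹)⁻¹ * q.out with hndef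
  have hout : q.out = g⁻¹ * n := by rw [hndef]; group
  -- `x' = n⁻¹ (g y g⁻¹) n ∈ A`
  have hx'A : n⁻¹ * (g * y * g⁻¹) * n ∈ A := by
    have := (Subgroup.mem_normalizer_iff.mp (Subgroup.inv_mem _ hn) (g * y * g⁻¹)).mp hgA
    simpa using this
  have hx'1 : (⟨n⁻¹ * (g * y * g⁻¹) * n, hx'A⟩ : ↥A) ≠ 1 := by
    intro h
    have h' : n⁻¹ * (g * y * g⁻¹) * n = 1 := congrArg Subtype.val h
    apply hy1
    have e : y = g⁻¹ * (n * (n⁻¹ * (g * y * g⁻¹) * n) * n⁻¹) * g := by group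
    rw [e, h']; group
  refine ⟨(q, ⟨⟨n⁻¹ * (g * y * g⁻¹) * n, hx'A⟩, hx'1⟩), ?_⟩
  apply Subtype.ext
  show q.out * (n⁻¹ * (g * y * g⁻¹) * n) * q.out⁻¹ = y
  rw [hout]
  group

theorem card_dom (A : Subgroup G) :
    Nat.card ((G ⧸ Subgroup.normalizer (A : Set G)) × {x : ↥A // x ≠ 1}) =
      (Subgroup.normalizer (A : Set G)).index * (Nat.card ↥A - 1) := by
  rw [Nat.card_prod, card_ne_one]
  rfl

end TICOUNT

/-- PIECE TICOUNT: the conjugates of `A#` are pairwise disjoint subsets of `{y | P y}`. -/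
theorem ti_count {A : Subgroup G} (hA : SelfCent A) (P : G → Prop)
    (hP : ∀ g x : G, P x → P (g * x * g⁻¹)) (hAP : ∀ x ∈ A, x ≠ 1 → P x) :
    Nat.card G * (Nat.card A - 1) ≤
      Nat.card (Subgroup.normalizer (A : Set G)) * Nat.card {y : G // P y} := by
  have hle := Nat.card_le_card_of_injective _ (TICOUNT.f_injective hA P hP hAP)
  rw [TICOUNT.card_dom] at hle
  rw [← (Subgroup.normalizer (A : Set G)).card_mul_index, mul_assoc]
  exact Nat.mul_le_mul_left _ hle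

/-- PIECE TICOUNT: equality when every `y` with `P y` lies in a conjugate of `A`. -/
theorem ti_count_eq {A : Subgroup G} (hA : SelfCent A) (P : G → Prop)
    (hAP : ∀ x ∈ A, x ≠ 1 → P x) (hall : ∀ y : G, P y → ∃ g : G, g * y * g⁻¹ ∈ A ∧ y ≠ 1)
    (hP : ∀ g x : G, P x → P (g * x * g⁻¹)) :
    Nat.card G * (Nat.card A - 1) =
      Nat.card (Subgroup.normalizer (A : Set G)) * Nat.card {y : G // P y} := by
  have hbij : Function.Bijective (TICOUNT.f (A := A) P hP hAP) :=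
    ⟨TICOUNT.f_injective hA P hP hAP, TICOUNT.f_surjective hA P hP hAP hall⟩
  have he := Nat.card_eq_of_bijective _ hbij
  rw [TICOUNT.card_dom] at he
  rw [← (Subgroup.normalizer (A : Set G)).card_mul_index, mul_assoc, he]

end Cfsg.Agent.Helper3.BSW
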