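import Mathlib
import Cfsg.Agent.S0016
import Cfsg.Agent.S0086
import Cfsg.Agent.Lib.Helper16.QuatSylow

/-!
# Sharply triply transitive groups, odd `q` (helper14): basic group-theoretic lemmas
-/

set_option autoImplicit false

namespace Cfsg.Agent.Helper14.Sh3

open Subgroup

variable {G : Type*} [Group G]

/-- The quaternion relations together with `g : x ↦ y ↦ x y`. -/
structure Rel (x y g : G) : Prop where
  hx : orderOf x = 4
  hy : y ^ 2 = x ^ 2
  hyx : y * x * y⁻¹ = x⁻¹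
  hgx : g * x * g⁻¹ = y
  hgy : g * y * g⁻¹ = x * y

namespace Rel

variable {x y g : G}

theorem x4 (h : Rel x y g) : x ^ 4 = 1 := by rw [← h.hx]; exact pow_orderOf_eq_one x

theorem x2_ne (h : Rel x y g) : x ^ 2 ≠ 1 := by
  intro h2
  have := orderOf_dvd_of_pow_eq_one h2
  rw [h.hx] at this
  norm_num at this

theorem yxy (h : Rel x y g) : y * x * y = x := by
  have h1 : y * x = x⁻¹ * y := by
    have := h.hyx
    calc y * x = (y * x * y⁻¹) * y := by group
      _ = x⁻¹ * y := by rw [this]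
  calc y * x * y = x⁻¹ * y * y := by rw [h1]
    _ = x⁻¹ * y ^ 2 := by rw [pow_two, mul_assoc]
    _ = x⁻¹ * x ^ 2 := by rw [h.hy]
    _ = x := by rw [pow_two, inv_mul_cancel_left]

theorem xy_eq (h : Rel x y g) : x * y = y⁻¹ * x := by
  have := h.yxy
  calc x * y = y⁻¹ * (y * x * y) := by group
    _ = y⁻¹ * x := by rw [this]

theorem hgxy (h : Rel x y g) : g * (x * y) * g⁻¹ = x := by
  calc g * (x * y) * g⁻¹ = (g * x * g⁻¹) * (g * y * g⁻¹) := by group
    _ = y * (x * y) := by rw [h.hgx, h.hgy]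
    _ = y * x * y := by group
    _ = x := h.yxy

theorem x_ne_y (h : Rel x y g) : y ≠ x := by
  intro e
  have h1 := h.hyx
  rw [e] at h1
  have h2 : x = x⁻¹ := by
    calc x = x * x * x⁻¹ := by group
      _ = x⁻¹ := h1
  apply h.x2_ne
  calc x ^ 2 = x * x := pow_two x
    _ = x * x⁻¹ := by rw [← h2]
    _ = 1 := mul_inv_cancel x

theorem not_commute (h : Rel x y g) : g * x ≠ x * g := by
  intro e
  apply h.x_ne_y
  rw [← h.hgx, e]; group

/-- `g ^ 3` commutes with `x`. -/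
theorem cube_comm_x (h : Rel x y g) : g ^ 3 * x = x * g ^ 3 := by
  have h1 : g ^ 3 * x * (g ^ 3)⁻¹ = x := by
    calc g ^ 3 * x * (g ^ 3)⁻¹ = g * (g * (g * x * g⁻¹) * g⁻¹) * g⁻¹ := by
          rw [pow_succ, pow_two]; group
      _ = g * (g * y * g⁻¹) * g⁻¹ := by rw [h.hgx]
      _ = g * (x * y) * g⁻¹ := by rw [h.hgy]
      _ = x := h.hgxy
  calc g ^ 3 * x = (g ^ 3 * x * (g ^ 3)⁻¹) * g ^ 3 := by group
    _ = x * g ^ 3 := by rw [h1]

theorem cube_comm_y (h : Rel x y g) : g ^ 3 * y = y * g ^ 3 := by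
  have h1 : g ^ 3 * y * (g ^ 3)⁻¹ = y := by
    calc g ^ 3 * y * (g ^ 3)⁻¹ = g * (g * (g * y * g⁻¹) * g⁻¹) * g⁻¹ := by
          rw [pow_succ, pow_two]; group
      _ = g * (g * (x * y) * g⁻¹) * g⁻¹ := by rw [h.hgy]
      _ = g * x * g⁻¹ := by rw [h.hgxy]
      _ = y := h.hgx
  calc g ^ 3 * y = (g ^ 3 * y * (g ^ 3)⁻¹) * g ^ 3 := by group
    _ = y * g ^ 3 := by rw [h1]

/-- `x` is a commutator. -/
theorem x_eq_comm (h : Rel x y g) : x = g * y * g⁻¹ * y⁻¹ := by
  rw [h.hgy]; group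

/-- `y` is a commutator. -/
theorem y_eq_comm (h : Rel x y g) : y = g * (x * y) * g⁻¹ * (x * y)⁻¹ := by
  rw [h.hgxy]
  have h1 := h.xy_eq
  calc y = x * (y⁻¹ * x)⁻¹ := by group
    _ = x * (x * y)⁻¹ := by rw [← h1]

/-- `3` divides the order of `g`. -/
theorem three_dvd [Finite G] (h : Rel x y g) : 3 ∣ orderOf g := by
  by_contra hnd
  have hcop : Nat.Coprime (orderOf g) 3 :=
    (Nat.Coprime.symm ((Nat.Prime.coprime_iff_not_dvd Nat.prime_three).2 hnd))
  -- g is a power of g ^ 3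
  have hmem : g ∈ Subgroup.zpowers (g ^ 3) := by
    have hle : Subgroup.zpowers (g ^ 3) ≤ Subgroup.zpowers g := by
      rw [Subgroup.zpowers_le]
      exact Subgroup.pow_mem _ (Subgroup.mem_zpowers g) 3
    have h1 : Subgroup.zpowers (g ^ 3) = Subgroup.zpowers g := by
      apply Subgroup.eq_of_le_of_card_ge hle
      rw [Nat.card_zpowers, Nat.card_zpowers, hcop.orderOf_pow]
    rw [h1]; exact Subgroup.mem_zpowers g
  obtain ⟨k, hk⟩ := Subgroup.mem_zpowers_iff.1 hmem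
  apply h.not_commute
  have hc : Commute (g ^ 3) x := h.cube_comm_x
  have hc' : Commute ((g ^ 3) ^ k) x := hc.zpow_left k
  rw [hk] at hc'
  exact hc'

end Rel


/-- Commutators centralize cyclic normal subgroups. -/
theorem comm_mem_centralizer_of_cyclic (C : Subgroup G) [hCn : C.Normal] (hC : IsCyclic C)
    (u v : G) : u * v * u⁻¹ * v⁻¹ ∈ Subgroup.centralizer (C : Set G) := by
  obtain ⟨⟨c₀, hc₀⟩, hgen⟩ := hC.exists_generator
  have hgen' : ∀ c ∈ C, ∃ j : ℤ, c₀ ^ j = c := by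
    intro c hc
    obtain ⟨j, hj⟩ := Subgroup.mem_zpowers_iff.1 (hgen ⟨c, hc⟩)
    refine ⟨j, ?_⟩
    have := congrArg (fun t : C => (t : G)) hj
    simpa using this
  have hpow : ∀ w : G, ∃ k : ℤ, w * c₀ * w⁻¹ = c₀ ^ k := by
    intro w
    obtain ⟨k, hk⟩ := hgen' _ (hCn.conj_mem c₀ hc₀ w)
    exact ⟨k, hk.symm⟩
  obtain ⟨a, ha⟩ := hpow u
  obtain ⟨b, hb⟩ := hpow v
  have hconj : ∀ (w : G) (k : ℤ), w * c₀ * w⁻¹ = c₀ ^ k → ∀ j : ℤ, w * c₀ ^ j * w⁻¹ = c₀ ^ (k * j) := by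
    intro w k hk j
    rw [← conj_zpow, hk, zpow_mul]
  have key : ∀ c ∈ C, (u * v) * c * (u * v)⁻¹ = (v * u) * c * (v * u)⁻¹ := by
    intro c hc
    obtain ⟨j, rfl⟩ := hgen' c hc
    have h1 : (u * v) * c₀ ^ j * (u * v)⁻¹ = u * (v * c₀ ^ j * v⁻¹) * u⁻¹ := by group
    have h2 : (v * u) * c₀ ^ j * (v * u)⁻¹ = v * (u * c₀ ^ j * u⁻¹) * v⁻¹ := by group
    rw [h1, h2, hconj v b hb j, hconj u a ha j, hconj u a ha, hconj v b hb]
    congr 1
    ring
  rw [Subgroup.mem_centralizer_iff]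
  intro c hc
  have hc' : (v * u)⁻¹ * c * (v * u) ∈ C := by
    have := hCn.conj_mem c hc (v * u)⁻¹
    simpa using this
  have h1 := key _ hc'
  have h2 : (v * u) * ((v * u)⁻¹ * c * (v * u)) * (v * u)⁻¹ = c := by group
  rw [h2] at h1
  -- h1 : (u v) ((v u)⁻¹ c (v u)) (u v)⁻¹ = c
  have h3 : (u * v * u⁻¹ * v⁻¹) * c * (u * v * u⁻¹ * v⁻¹)⁻¹ = c := by
    calc (u * v * u⁻¹ * v⁻¹) * c * (u * v * u⁻¹ * v⁻¹)⁻¹
        = u * v * ((v * u)⁻¹ * c * (v * u)) * (u * v)⁻¹ := by group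
      _ = c := h1
  calc c * (u * v * u⁻¹ * v⁻¹) = ((u * v * u⁻¹ * v⁻¹) * c * (u * v * u⁻¹ * v⁻¹)⁻¹) *
        (u * v * u⁻¹ * v⁻¹) := by rw [h3]
    _ = (u * v * u⁻¹ * v⁻¹) * c := by group

/-- A normal `2`-complement in a group of even order yields a subgroup of index two. -/
theorem exists_index_two_of_complement [Finite G] (T : Sylow 2 G) (N : Subgroup G) [N.Normal]
    (hN : N.IsComplement' (T : Subgroup G)) (h2 : 2 ∣ Nat.card G) :
    ∃ M : Subgroup G, M.index = 2 := by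
  have hF : Fact (Nat.Prime 2) := ⟨Nat.prime_two⟩
  obtain ⟨k, hk⟩ := IsPGroup.iff_card.mp T.isPGroup'
  have hk0 : k ≠ 0 := by
    rintro rfl
    rw [pow_zero] at hk
    have h1 := T.card_eq_multiplicity
    rw [hk] at h1
    have h3 : (Nat.card G).factorization 2 = 0 := by
      by_contra hne
      have : 2 ^ 1 ≤ 2 ^ (Nat.card G).factorization 2 :=
        Nat.pow_le_pow_right (by norm_num) (Nat.one_le_iff_ne_zero.2 hne)
      omega
    have h4 := (Nat.factorization_eq_zero_iff (Nat.card G) 2).1 h3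
    rcases h4 with h4 | h4 | h4
    · exact h4 Nat.prime_two
    · exact h4 h2
    · exact Nat.card_pos.ne' h4
  have hidx : N.index = 2 ^ k := by
    have h1 := hN.card_mul
    have h3 := Subgroup.card_mul_index N
    rw [hk] at h1
    have hpos : 0 < Nat.card N := Nat.card_pos
    exact Nat.eq_of_mul_eq_mul_left hpos (h3.trans h1.symm)
  have hcardq : Nat.card (G ⧸ N) = 2 ^ k := by rw [← hidx]; rfl
  obtain ⟨k', rfl⟩ : ∃ k', k = k' + 1 := ⟨k - 1, by omega⟩
  have hdvd : 2 ^ k' ∣ Nat.card (G ⧸ N) := by rw [hcardq]; exact pow_dvd_pow 2 (by omega)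
  obtain ⟨Mb, hMb⟩ := Sylow.exists_subgroup_card_pow_prime 2 hdvd
  refine ⟨Mb.comap (QuotientGroup.mk' N), ?_⟩
  rw [Subgroup.index_comap_of_surjective _ (QuotientGroup.mk'_surjective N)]
  have h1 := Subgroup.card_mul_index Mb
  rw [hMb, hcardq, pow_succ] at h1
  have hpos : 0 < 2 ^ k' := by positivity
  exact Nat.eq_of_mul_eq_mul_left hpos h1

/-- Subgroups of order two coincide when there is a unique involution. -/
theorem subgroup_card_two_unique [Finite G]
    (hinv : ∀ t t' : G, orderOf t = 2 → orderOf t' = 2 → t = t') (A B : Subgroup G)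
    (hA : Nat.card A = 2) (hB : Nat.card B = 2) : A = B := by
  have hF : Fact (Nat.Prime 2) := ⟨Nat.prime_two⟩
  have key : ∀ C : Subgroup G, Nat.card C = 2 → ∃ t : G, orderOf t = 2 ∧ C = Subgroup.zpowers t := by
    intro C hC
    obtain ⟨t, ht⟩ := exists_prime_orderOf_dvd_card' (G := C) 2 (by rw [hC])
    refine ⟨(t : G), by rw [Subgroup.orderOf_coe]; exact ht, ?_⟩
    symm
    apply Subgroup.eq_of_le_of_card_ge
    · rw [Subgroup.zpowers_le]; exact t.2
    · rw [Nat.card_zpowers, Subgroup.orderOf_coe, ht, hC]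
  obtain ⟨t, ht, rfl⟩ := key A hA
  obtain ⟨t', ht', rfl⟩ := key B hB
  rw [hinv t t' ht ht']

/-- Dichotomy: a finite group with a unique involution has a normal `2`-complement, or contains
a quaternion group of order eight with an odd-order element acting as `x ↦ y ↦ x y`. -/
theorem complement_or_rel [Finite G] (T : Sylow 2 G)
    (hinv : ∀ t t' : G, orderOf t = 2 → orderOf t' = 2 → t = t') :
    (∃ N : Subgroup G, N.Normal ∧ N.IsComplement' (T : Subgroup G)) ∨
    ∃ (Q : Subgroup G) (x y g : G), Nat.card Q = 8 ∧ x ∈ Q ∧ y ∈ Q ∧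
      g ∈ Subgroup.normalizer (Q : Set G) ∧ Odd (orderOf g) ∧ Rel x y g := by
  have hF : Fact (Nat.Prime 2) := ⟨Nat.prime_two⟩
  have hinvT : ∀ t t' : (T : Subgroup G), orderOf t = 2 → orderOf t' = 2 → t = t' := by
    intro t t' ht ht'
    apply Subtype.ext
    apply hinv
    · rw [Subgroup.orderOf_coe]; exact ht
    · rw [Subgroup.orderOf_coe]; exact ht'
  rcases Cfsg.Agent.S0016.result (G := (T : Subgroup G)) 2 T.isPGroup'
      (fun A B hA hB => subgroup_card_two_unique hinvT A B hA hB) with hcyc | ⟨-, n, ⟨e⟩⟩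
  · left
    by_cases h2 : 2 ∣ Nat.card G
    · have hp : (Nat.card G).minFac = 2 := (Nat.minFac_eq_two_iff _).2 h2
      exact ⟨_, inferInstance, IsCyclic.isComplement' hp hcyc⟩
    · refine ⟨⊤, inferInstance, ?_⟩
      have hT : (T : Subgroup G) = ⊥ := by
        rw [← Subgroup.card_eq_one]
        obtain ⟨k, hk⟩ := IsPGroup.iff_card.mp T.isPGroup'
        rcases Nat.eq_zero_or_pos k with rfl | hk0
        · rw [hk, pow_zero]
        · exfalso
          apply h2
          have h1 : 2 ∣ Nat.card (T : Subgroup G) := by rw [hk]; exact dvd_pow_self 2 hk0.ne'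
          exact h1.trans (Subgroup.card_subgroup_dvd_card _)
      rw [hT]
      exact Subgroup.isComplement'_top_bot
  · by_cases hnc : ∃ N : Subgroup G, N.Normal ∧ N.IsComplement' (T : Subgroup G)
    · left; exact hnc
    · right
      obtain ⟨Q, g, -, hg, hodd, hgc, hcard, b, y₀, hb, hy, hbo, hy2, hyb⟩ :=
        Cfsg.Agent.Helper16.exists_quat_of_no_complement T n e hnc
      obtain ⟨x, y, hxQ, hyQ, hxo, hyy, hyx, hgx, hgy⟩ :=
        Cfsg.Agent.Helper16.exists_rel_of_odd_normalizer_quat Q hcard hb hy hbo hy2 hyb hg hodd hgc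
      exact ⟨Q, x, y, g, hcard, hxQ, hyQ, hg, hodd, ⟨hxo, hyy, hyx, hgx, hgy⟩⟩

end Cfsg.Agent.Helper14.Sh3
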