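import Mathlib
import Cfsg.Agent.Lib.Helper14.Sh3A

/-!
# Sharply triply transitive groups, odd `q` (helper14): structure lemmas
-/

set_option autoImplicit false

namespace Cfsg.Agent.Helper14.Sh3

open Subgroup
open scoped commutatorElement

variable {H : Type*} [Group H]

theorem mem_zpowers_pow_of_coprime [Finite H] (g : H) (k : ℕ) (h : (orderOf g).Coprime k) :
    g ∈ Subgroup.zpowers (g ^ k) := by
  have hle : Subgroup.zpowers (g ^ k) ≤ Subgroup.zpowers g := by
    rw [Subgroup.zpowers_le]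
    exact Subgroup.pow_mem _ (Subgroup.mem_zpowers g) k
  have h1 : Subgroup.zpowers (g ^ k) = Subgroup.zpowers g := by
    apply Subgroup.eq_of_le_of_card_ge hle
    rw [Nat.card_zpowers, Nat.card_zpowers, h.orderOf_pow]
  rw [h1]; exact Subgroup.mem_zpowers g

theorem eq_one_of_pow_two_pow_of_odd {b : H} (hodd : Odd (orderOf b)) {e : ℕ}
    (h : b ^ 2 ^ e = 1) : b = 1 := by
  have h1 : orderOf b ∣ 2 ^ e := orderOf_dvd_of_pow_eq_one h
  have h2 : (orderOf b).Coprime (2 ^ e) := Nat.Coprime.pow_right e (Nat.coprime_two_right.2 hodd)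
  have h3 : orderOf b = 1 := Nat.Coprime.eq_one_of_dvd h2 h1
  exact orderOf_eq_one_iff.1 h3

/-- Coprime stability: if `x ^ 4 = 1`, `x` centralizes `C₁`, `C₁` is self-centralizing in the
odd-order normal subgroup `B`, then `x` centralizes `B`. -/
theorem centralizes_of_self_centralizing [Finite H] (B C₁ : Subgroup H) [hBn : B.Normal]
    [hCn : C₁.Normal]
    (hself : ∀ b ∈ B, (∀ c ∈ C₁, b * c = c * b) → b ∈ C₁)
    (hBodd : ∀ b ∈ B, Odd (orderOf b)) {x : H} (hx4 : x ^ 4 = 1)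
    (hxC : ∀ c ∈ C₁, x * c = c * x) : ∀ b ∈ B, x * b = b * x := by
  intro b hb
  set c := x * b * x⁻¹ * b⁻¹ with hc
  have hcB : c ∈ B := by
    rw [hc]
    exact B.mul_mem (hBn.conj_mem b hb x) (B.inv_mem hb)
  have hxinv : ∀ d ∈ C₁, x⁻¹ * d * x = d := by
    intro d hd
    have := hxC d hd
    calc x⁻¹ * d * x = x⁻¹ * (d * x) := by group
      _ = x⁻¹ * (x * d) := by rw [this]
      _ = d := by group
  have hcC : c ∈ C₁ := by
    apply hself c hcB
    intro d hd
    have hd' : b⁻¹ * d * b ∈ C₁ := by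
      have := hCn.conj_mem d hd b⁻¹
      simpa using this
    have h1 : c * d * c⁻¹ = d := by
      calc c * d * c⁻¹ = x * (b * (x⁻¹ * (b⁻¹ * d * b) * x) * b⁻¹) * x⁻¹ := by rw [hc]; group
        _ = x * (b * (b⁻¹ * d * b) * b⁻¹) * x⁻¹ := by rw [hxinv _ hd']
        _ = x * d * x⁻¹ := by group
        _ = d * x * x⁻¹ := by rw [hxC d hd]
        _ = d := by group
    calc c * d = (c * d * c⁻¹) * c := by group
      _ = d * c := by rw [h1]
  have hxc : x * c = c * x := hxC c hcC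
  have hpow : ∀ k : ℕ, x ^ k * b * (x ^ k)⁻¹ = c ^ k * b := by
    intro k
    induction k with
    | zero => simp
    | succ k ih =>
      have hcomm : Commute x (c ^ k) := (show Commute x c from hxc).pow_right k
      calc x ^ (k + 1) * b * (x ^ (k + 1))⁻¹ = x * (x ^ k * b * (x ^ k)⁻¹) * x⁻¹ := by
            rw [pow_succ']; group
        _ = x * (c ^ k * b) * x⁻¹ := by rw [ih]
        _ = (x * c ^ k) * (b * x⁻¹) := by group
        _ = (c ^ k * x) * (b * x⁻¹) := by rw [hcomm.eq]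
        _ = c ^ k * (x * b * x⁻¹ * b⁻¹) * b := by group
        _ = c ^ k * c * b := by rw [← hc]
        _ = c ^ (k + 1) * b := by rw [pow_succ]
  have h4 := hpow 4
  rw [hx4] at h4
  have hc4 : c ^ 4 = 1 := by
    have : b = c ^ 4 * b := by simpa using h4
    calc c ^ 4 = (c ^ 4 * b) * b⁻¹ := by group
      _ = b * b⁻¹ := by rw [← this]
      _ = 1 := mul_inv_cancel b
  have hc1 : c = 1 := eq_one_of_pow_two_pow_of_odd (hBodd c hcB) (e := 2) (by simpa using hc4)
  calc x * b = (x * b * x⁻¹ * b⁻¹) * (b * x) := by group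
    _ = b * x := by rw [← hc, hc1, one_mul]


/-- The derived subgroup of a `Z`-subgroup is cyclic. -/
theorem isCyclic_commutator_of_isZGroup [Finite H] (B : Subgroup H) (hZ : IsZGroup B) :
    IsCyclic ↥⁅B, B⁆ := by
  haveI := hZ
  have h1 : IsCyclic (commutator B) := IsZGroup.isCyclic_commutator B
  have h2 : (commutator B).map B.subtype = ⁅B, B⁆ := by
    rw [_root_.commutator_def, Subgroup.map_commutator, ← MonoidHom.range_eq_map,
      Subgroup.range_subtype]
  have e : (commutator B) ≃* ↥((commutator B).map B.subtype) :=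
    Subgroup.equivMapOfInjective _ _ B.subtype_injective
  rw [← h2]
  exact (MulEquiv.isCyclic e).1 h1

/-- In a `Z`-subgroup `B`, the centralizer of the derived subgroup is cyclic. -/
theorem isCyclic_self_cent [Finite H] (B : Subgroup H) (hZ : IsZGroup B) :
    IsCyclic ↥(B ⊓ Subgroup.centralizer ((⁅B, B⁆ : Subgroup H) : Set H)) := by
  set C₁ := B ⊓ Subgroup.centralizer ((⁅B, B⁆ : Subgroup H) : Set H) with hC₁
  haveI := hZ
  haveI : IsZGroup C₁ :=
    IsZGroup.of_injective (f := Subgroup.inclusion (inf_le_left : C₁ ≤ B))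
      (Subgroup.inclusion_injective _)
  haveI : Group.IsNilpotent C₁ := by
    apply _root_.isNilpotent_of_ker_le_center (Abelianization.of (G := C₁)) ?_
    rw [Abelianization.ker_of, _root_.commutator_def, Subgroup.commutator_le]
    intro a _ b _
    rw [Subgroup.mem_center_iff]
    intro g
    apply Subtype.ext
    have hmem : ⁅(a : H), (b : H)⁆ ∈ ⁅B, B⁆ :=
      Subgroup.commutator_mem_commutator (inf_le_left (a := B) a.2) (inf_le_left (a := B) b.2)
    have hg : (g : H) ∈ Subgroup.centralizer ((⁅B, B⁆ : Subgroup H) : Set H) :=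
      (inf_le_right (a := B)) g.2
    have := (Subgroup.mem_centralizer_iff.1 hg) _ hmem
    simp only [Subgroup.coe_mul]
    have hco : ((⁅a, b⁆ : C₁) : H) = ⁅(a : H), (b : H)⁆ := by
      simp [commutatorElement_def]
    rw [hco]
    exact this.symm
  infer_instance

/-- The `2`-part of the centralizer of a normal odd-order subgroup `B` inside `M = B T₀`
is normal in the whole group. -/
theorem normal_two_part [Finite H] (M B T₀ : Subgroup H) [hMn : M.Normal] [hBn : B.Normal]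
    (hfac : ∀ m ∈ M, ∃ b ∈ B, ∃ t ∈ T₀, m = b * t)
    (hBodd : ∀ b ∈ B, Odd (orderOf b)) (hT2 : ∀ t ∈ T₀, ∃ e : ℕ, t ^ 2 ^ e = 1)
    (hT₀M : T₀ ≤ M) :
    (T₀ ⊓ Subgroup.centralizer (B : Set H)).Normal := by
  -- factorization of elements of `M ⊓ C(B)`
  have key : ∀ f ∈ M, f ∈ Subgroup.centralizer (B : Set H) →
      ∃ b ∈ B, ∃ t ∈ T₀, f = b * t ∧ t ∈ Subgroup.centralizer (B : Set H) ∧ b * t = t * b := by
    intro f hfM hfC
    obtain ⟨b, hb, t, ht, hft⟩ := hfac f hfM
    obtain ⟨e, he⟩ := hT2 t ht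
    have hfc : ∀ b' ∈ B, f * b' = b' * f := fun b' hb' =>
      ((Subgroup.mem_centralizer_iff.1 hfC) b' hb').symm
    have htconj : ∀ b' ∈ B, t * b' * t⁻¹ = b⁻¹ * b' * b := by
      intro b' hb'
      have ht' : t = b⁻¹ * f := by rw [hft]; group
      calc t * b' * t⁻¹ = b⁻¹ * (f * b') * f⁻¹ * b := by rw [ht']; group
        _ = b⁻¹ * (b' * f) * f⁻¹ * b := by rw [hfc b' hb']
        _ = b⁻¹ * b' * b := by group
    have hpow : ∀ k : ℕ, ∀ b' ∈ B, t ^ k * b' * (t ^ k)⁻¹ = (b ^ k)⁻¹ * b' * b ^ k := by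
      intro k
      induction k with
      | zero => intro b' _; simp
      | succ k ih =>
        intro b' hb'
        have h1 : (b ^ k)⁻¹ * b' * b ^ k ∈ B :=
          B.mul_mem (B.mul_mem (B.inv_mem (B.pow_mem hb k)) hb') (B.pow_mem hb k)
        calc t ^ (k + 1) * b' * (t ^ (k + 1))⁻¹ = t * (t ^ k * b' * (t ^ k)⁻¹) * t⁻¹ := by
              rw [pow_succ']; group
          _ = t * ((b ^ k)⁻¹ * b' * b ^ k) * t⁻¹ := by rw [ih b' hb']
          _ = b⁻¹ * ((b ^ k)⁻¹ * b' * b ^ k) * b := htconj _ h1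
          _ = (b ^ (k + 1))⁻¹ * b' * b ^ (k + 1) := by rw [pow_succ]; group
    have hbe : ∀ b' ∈ B, b ^ 2 ^ e * b' = b' * b ^ 2 ^ e := by
      intro b' hb'
      have := hpow (2 ^ e) b' hb'
      rw [he] at this
      have h2 : b' = (b ^ 2 ^ e)⁻¹ * b' * b ^ 2 ^ e := by simpa using this
      calc b ^ 2 ^ e * b' = b ^ 2 ^ e * ((b ^ 2 ^ e)⁻¹ * b' * b ^ 2 ^ e) := by rw [← h2]
        _ = b' * b ^ 2 ^ e := by group
    have hbmem : b ∈ Subgroup.zpowers (b ^ 2 ^ e) :=
      mem_zpowers_pow_of_coprime b (2 ^ e)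
        (Nat.Coprime.pow_right e (Nat.coprime_two_right.2 (hBodd b hb)))
    obtain ⟨j, hj⟩ := Subgroup.mem_zpowers_iff.1 hbmem
    have hbc : ∀ b' ∈ B, b * b' = b' * b := by
      intro b' hb'
      have hc : Commute (b ^ 2 ^ e) b' := hbe b' hb'
      have := hc.zpow_left j
      rw [hj] at this
      exact this
    have htc : t ∈ Subgroup.centralizer (B : Set H) := by
      rw [Subgroup.mem_centralizer_iff]
      intro b' hb'
      have h1 := htconj b' hb'
      have h2 : b⁻¹ * b' * b = b' := by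
        calc b⁻¹ * b' * b = b⁻¹ * (b' * b) := by group
          _ = b⁻¹ * (b * b') := by rw [hbc b' hb']
          _ = b' := by group
      rw [h2] at h1
      calc b' * t = (t * b' * t⁻¹) * t := by rw [h1]
        _ = t * b' := by group
    refine ⟨b, hb, t, ht, hft, htc, ?_⟩
    exact ((Subgroup.mem_centralizer_iff.1 htc) b hb)
  constructor
  intro c hc h
  obtain ⟨hcT, hcC⟩ := hc
  have hcM : c ∈ M := hT₀M hcT
  have hfM : h * c * h⁻¹ ∈ M := hMn.conj_mem c hcM h
  have hfC : h * c * h⁻¹ ∈ Subgroup.centralizer (B : Set H) :=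
    (Subgroup.normal_centralizer (H := B)).conj_mem c hcC h
  obtain ⟨b, hb, t, ht, hft, htc, hbt⟩ := key _ hfM hfC
  obtain ⟨e, he⟩ := hT2 c hcT
  obtain ⟨e', he'⟩ := hT2 t ht
  -- `(b t) ^ (2 ^ (e + e')) = 1` and `t ^ (2 ^ (e+e')) = 1`
  have h1 : (h * c * h⁻¹) ^ 2 ^ (e + e') = 1 := by
    rw [conj_pow, pow_add, pow_mul, he, one_pow, mul_one, mul_inv_cancel]
  have h2 : t ^ 2 ^ (e + e') = 1 := by
    rw [pow_add, mul_comm, pow_mul, he', one_pow]
  have h3 : (b * t) ^ 2 ^ (e + e') = b ^ 2 ^ (e + e') * t ^ 2 ^ (e + e') :=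
    (show Commute b t from hbt).mul_pow _
  rw [hft, h3, h2, mul_one] at h1
  have hb1 : b = 1 := eq_one_of_pow_two_pow_of_odd (hBodd b hb) h1
  rw [hft, hb1, one_mul]
  exact ⟨ht, htc⟩

end Cfsg.Agent.Helper14.Sh3
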