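import Mathlib
import Cfsg.Agent.Lib.Helper14.Sh3B
import Cfsg.Agent.S2910

/-!
# Sharply triply transitive groups, odd `q` (helper14): the normal quaternion subgroup
-/

set_option autoImplicit false

namespace Cfsg.Agent.Helper14.Sh3

open Subgroup

variable {H : Type*} [Group H] [Finite H]

theorem orderOf_conj' (h w : H) : orderOf (h * w * h⁻¹) = orderOf w := by
  have := MulEquiv.orderOf_eq (MulAut.conj h) w
  rwa [MulAut.conj_apply] at this

/-- With a unique subgroup of order three, conjugation maps an element of order three to itself or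
its inverse. -/
theorem conj_eq_or_of_unique3
    (h3 : ∀ A B : Subgroup H, Nat.card A = 3 → Nat.card B = 3 → A = B) {w : H}
    (hw : orderOf w = 3) (h : H) : h * w * h⁻¹ = w ∨ h * w * h⁻¹ = w⁻¹ := by
  classical
  have h1 : Subgroup.zpowers (h * w * h⁻¹) = Subgroup.zpowers w := by
    apply h3
    · rw [Nat.card_zpowers, orderOf_conj', hw]
    · rw [Nat.card_zpowers, hw]
  have h2 : h * w * h⁻¹ ∈ Subgroup.zpowers w := by rw [← h1]; exact Subgroup.mem_zpowers _
  rw [mem_zpowers_iff_mem_range_orderOf, hw] at h2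
  obtain ⟨k, hk, hk'⟩ := Finset.mem_image.1 h2
  have hk3 : k < 3 := Finset.mem_range.1 hk
  have hw3 : w ^ 3 = 1 := by rw [← hw]; exact pow_orderOf_eq_one w
  interval_cases k
  · exfalso
    have h4 : h * w * h⁻¹ = 1 := by rw [← hk']; simp
    have h5 : w = 1 := by
      calc w = h⁻¹ * (h * w * h⁻¹) * h := by group
        _ = 1 := by rw [h4]; group
    rw [h5, orderOf_one] at hw
    norm_num at hw
  · left; rw [← hk']; simp
  · right
    rw [← hk']
    show w ^ 2 = w⁻¹
    calc w ^ 2 = w ^ 3 * w⁻¹ := by group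
      _ = w⁻¹ := by rw [hw3, one_mul]

/-- An element of order three is central when there is a unique subgroup of order three and no
subgroup of index two. -/
theorem central_of_unique3
    (h3 : ∀ A B : Subgroup H, Nat.card A = 3 → Nat.card B = 3 → A = B)
    (hno2 : ¬ ∃ M : Subgroup H, M.index = 2) {w : H} (hw : orderOf w = 3) :
    w ∈ Subgroup.center H := by
  rw [Subgroup.mem_center_iff]
  by_contra hcon
  push Not at hcon
  obtain ⟨a, ha⟩ := hcon
  have hw3 : w ^ 3 = 1 := by rw [← hw]; exact pow_orderOf_eq_one w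
  have hwne : w ≠ w⁻¹ := by
    intro e
    have h2 : w ^ 2 = 1 := by
      calc w ^ 2 = w * w := pow_two w
        _ = w * w⁻¹ := by rw [← e]
        _ = 1 := mul_inv_cancel w
    have := orderOf_dvd_of_pow_eq_one h2
    rw [hw] at this
    norm_num at this
  have haw : a * w * a⁻¹ = w⁻¹ := by
    rcases conj_eq_or_of_unique3 h3 hw a with h | h
    · exfalso
      apply ha
      calc a * w = (a * w * a⁻¹) * a := by group
        _ = w * a := by rw [h]
    · exact h
  apply hno2
  refine ⟨Subgroup.centralizer ({w} : Set H), ?_⟩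
  rw [Subgroup.index_eq_two_iff]
  refine ⟨a, fun b => ?_⟩
  have hmem : ∀ c : H, c ∈ Subgroup.centralizer ({w} : Set H) ↔ c * w * c⁻¹ = w := by
    intro c
    rw [Subgroup.mem_centralizer_singleton_iff]
    constructor
    · intro h; rw [h]; group
    · intro h
      calc c * w = (c * w * c⁻¹) * c := by group
        _ = w * c := by rw [h]
  have hba : (b * a) * w * (b * a)⁻¹ = (b * w * b⁻¹)⁻¹ := by
    calc (b * a) * w * (b * a)⁻¹ = b * (a * w * a⁻¹) * b⁻¹ := by group
      _ = b * w⁻¹ * b⁻¹ := by rw [haw]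
      _ = (b * w * b⁻¹)⁻¹ := by group
  rw [hmem, hmem, hba]
  rcases conj_eq_or_of_unique3 h3 hw b with h | h
  · right
    refine ⟨h, ?_⟩
    rw [h]
    exact fun e => hwne e.symm
  · left
    refine ⟨by rw [h, inv_inv], ?_⟩
    rw [h]
    exact fun e => hwne e.symm


theorem nine_dvd_orderOf {x y g : H} (hrel : Rel x y g)
    (h3 : ∀ A B : Subgroup H, Nat.card A = 3 → Nat.card B = 3 → A = B)
    (hno2 : ¬ ∃ M : Subgroup H, M.index = 2) : 9 ∣ orderOf g := by
  obtain ⟨m', hm'⟩ := hrel.three_dvd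
  have hpos : 0 < orderOf g := orderOf_pos g
  have hw : orderOf (g ^ m') = 3 := by
    have := orderOf_pow_orderOf_div (x := g) hpos.ne' ⟨m', hm'⟩
    rwa [hm', Nat.mul_div_cancel_left m' (by norm_num)] at this
  have hwc := central_of_unique3 h3 hno2 hw
  by_contra h9
  have hcop : Nat.Coprime 3 m' := by
    rw [Nat.Prime.coprime_iff_not_dvd Nat.prime_three]
    rintro ⟨k, hk⟩
    apply h9
    rw [hm', hk]
    exact ⟨k, by ring⟩
  have hco : IsCoprime ((3 : ℕ) : ℤ) (m' : ℤ) := Nat.isCoprime_iff_coprime.2 hcop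
  obtain ⟨a, b, hab⟩ := hco
  apply hrel.not_commute
  have h1 : Commute (g ^ 3) x := hrel.cube_comm_x
  have h2 : Commute (g ^ m') x := (Subgroup.mem_center_iff.1 hwc x).symm
  have h3' : Commute (((g ^ 3) ^ a) * ((g ^ m') ^ b)) x :=
    (h1.zpow_left a).mul_left (h2.zpow_left b)
  have h4 : ((g ^ 3) ^ a) * ((g ^ m') ^ b) = g := by
    rw [← zpow_natCast g 3, ← zpow_natCast g m', ← zpow_mul, ← zpow_mul, ← zpow_add]
    have : ((3 : ℕ) : ℤ) * a + (m' : ℤ) * b = 1 := by linarith
    rw [this, zpow_one]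
  rw [h4] at h3'
  exact h3'

end Cfsg.Agent.Helper14.Sh3
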