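import Mathlib
import Cfsg.Agent.Lib.Helper14.Sh3C

/-!
# Sharply triply transitive groups, odd `q` (helper14): existence of a normal quaternion subgroup
-/

set_option autoImplicit false

namespace Cfsg.Agent.Helper14.Sh3

open Subgroup

variable {H : Type*} [Group H] [Finite H]

/-- Without a subgroup of index two, we find the quaternion relations and a central element of
order three. -/
theorem exists_rel_central (h2 : 2 ∣ Nat.card H)
    (hinv : ∀ t t' : H, orderOf t = 2 → orderOf t' = 2 → t = t')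
    (h3 : ∀ A B : Subgroup H, Nat.card A = 3 → Nat.card B = 3 → A = B)
    (hno2 : ¬ ∃ M : Subgroup H, M.index = 2) :
    ∃ (Q : Subgroup H) (x y g w : H), Nat.card Q = 8 ∧ x ∈ Q ∧ y ∈ Q ∧ Rel x y g ∧
      Odd (orderOf g) ∧ orderOf w = 3 ∧ w ∈ Subgroup.center H := by
  have hF : Fact (Nat.Prime 2) := ⟨Nat.prime_two⟩
  obtain ⟨T⟩ : Nonempty (Sylow 2 H) := inferInstance
  rcases complement_or_rel T hinv with ⟨N, hN, hNc⟩ | ⟨Q, x, y, g, hQ, hxQ, hyQ, -, hodd, hrel⟩
  · exfalso
    haveI := hN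
    exact hno2 (exists_index_two_of_complement T N hNc h2)
  · obtain ⟨m', hm'⟩ := hrel.three_dvd
    have hpos : 0 < orderOf g := orderOf_pos g
    have hw : orderOf (g ^ m') = 3 := by
      have := orderOf_pow_orderOf_div (x := g) hpos.ne' ⟨m', hm'⟩
      rwa [hm', Nat.mul_div_cancel_left m' (by norm_num)] at this
    exact ⟨Q, x, y, g, g ^ m', hQ, hxQ, hyQ, hrel, hodd, hw, central_of_unique3 h3 hno2 hw⟩

/-- A normal `3`-complement, described by element orders. -/
theorem exists_normal_three_complement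
    (h3 : ∀ A B : Subgroup H, Nat.card A = 3 → Nat.card B = 3 → A = B)
    (hno2 : ¬ ∃ M : Subgroup H, M.index = 2) (h3dvd : 3 ∣ Nat.card H) :
    ∃ M : Subgroup H, M.Normal ∧ ∀ h : H, h ∈ M ↔ Nat.Coprime (orderOf h) 3 := by
  haveI hF : Fact (Nat.Prime 3) := ⟨Nat.prime_three⟩
  obtain ⟨P⟩ : Nonempty (Sylow 3 H) := inferInstance
  have hZ : Cfsg.omegaOne 3 (P : Subgroup H) ≤ Subgroup.center H := by
    unfold Cfsg.omegaOne
    rw [Subgroup.closure_le]
    rintro v ⟨-, hv⟩
    by_cases hv1 : v = 1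
    · rw [hv1]; exact Subgroup.one_mem _
    · apply central_of_unique3 h3 hno2
      exact orderOf_eq_prime hv hv1
  obtain ⟨⟨P', M, hMn, hMc⟩, -⟩ := Cfsg.Agent.S2910.result (p := 3) (by norm_num) h3dvd P hZ
  haveI := hMn
  exact ⟨M, hMn, fun h => Cfsg.Agent.S0086.result P' M hMc h⟩

/-- Inside a normal subgroup without elements of order divisible by three, there is a normal
`2`-complement, and a Sylow `2`-subgroup containing a prescribed `2`-subgroup. -/
theorem exists_two_complement_in (M : Subgroup H) [hMn : M.Normal]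
    (hinv : ∀ t t' : H, orderOf t = 2 → orderOf t' = 2 → t = t')
    (hM3 : ∀ h : H, h ∈ M → ¬ 3 ∣ orderOf h) (Q : Subgroup H) (hQM : Q ≤ M)
    (hQ2 : IsPGroup 2 Q) :
    ∃ B T₀ : Subgroup H, (∀ h : H, h ∈ B ↔ h ∈ M ∧ Odd (orderOf h)) ∧ T₀ ≤ M ∧
      (∀ t ∈ T₀, ∃ e : ℕ, t ^ 2 ^ e = 1) ∧ (∀ m ∈ M, ∃ b ∈ B, ∃ t ∈ T₀, m = b * t) ∧
      Q ≤ T₀ := by
  haveI hF : Fact (Nat.Prime 2) := ⟨Nat.prime_two⟩
  have hQ2' : IsPGroup 2 (Q.subgroupOf M) := hQ2.comap_subtype
  obtain ⟨TM, hTM⟩ := hQ2'.exists_le_sylow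
  have hinvM : ∀ t t' : M, orderOf t = 2 → orderOf t' = 2 → t = t' := by
    intro t t' ht ht'
    apply Subtype.ext
    apply hinv
    · rw [Subgroup.orderOf_coe]; exact ht
    · rw [Subgroup.orderOf_coe]; exact ht'
  rcases complement_or_rel TM hinvM with ⟨B', hB'n, hB'c⟩ | ⟨Q', x, y, g, -, -, -, -, -, hrel⟩
  · haveI := hB'n
    have hmemB' : ∀ m : M, m ∈ B' ↔ Nat.Coprime (orderOf m) 2 := fun m =>
      Cfsg.Agent.S0086.result TM B' hB'c m
    refine ⟨B'.map M.subtype, (TM : Subgroup M).map M.subtype, ?_, ?_, ?_, ?_, ?_⟩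
    · intro h
      constructor
      · rintro ⟨m, hm, rfl⟩
        refine ⟨m.2, ?_⟩
        have := (hmemB' m).1 hm
        rw [Subgroup.coe_subtype, Subgroup.orderOf_coe]
        exact Nat.coprime_two_right.1 this
      · rintro ⟨hM, hodd⟩
        refine ⟨⟨h, hM⟩, ?_, rfl⟩
        rw [SetLike.mem_coe, hmemB', Subgroup.orderOf_mk]
        exact Nat.coprime_two_right.2 hodd
    · exact Subgroup.map_subtype_le _
    · rintro t ⟨t', ht', rfl⟩
      obtain ⟨e, he⟩ := TM.isPGroup' ⟨t', ht'⟩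
      refine ⟨e, ?_⟩
      have := congrArg (fun v : (TM : Subgroup M) => ((v : M) : H)) he
      simpa using this
    · intro m hm
      have hsurj := (Subgroup.isComplement'_def.1 hB'c).2
      obtain ⟨⟨b', t'⟩, hbt⟩ := hsurj ⟨m, hm⟩
      refine ⟨((b' : M) : H), ⟨b', b'.2, rfl⟩, ((t' : M) : H), ⟨t', t'.2, rfl⟩, ?_⟩
      have := congrArg (fun v : M => (v : H)) hbt
      simpa using this.symm
    · intro q hq
      exact ⟨⟨q, hQM hq⟩, hTM (by rw [Subgroup.mem_subgroupOf]; exact hq), rfl⟩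
  · exfalso
    have h3 := hrel.three_dvd
    apply hM3 (g : H) g.2
    rwa [Subgroup.orderOf_coe]

open scoped commutatorElement in
/-- The quaternion elements centralize an odd-order normal `Z`-subgroup. -/
theorem rel_centralizes (B : Subgroup H) [hBn : B.Normal] (hBodd : ∀ b ∈ B, Odd (orderOf b))
    (hZ : IsZGroup B) {x y g : H} (hrel : Rel x y g) :
    (∀ b ∈ B, x * b = b * x) ∧ (∀ b ∈ B, y * b = b * y) := by
  set C₁ : Subgroup H := B ⊓ Subgroup.centralizer ((⁅B, B⁆ : Subgroup H) : Set H) with hC₁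
  have hcyc : IsCyclic C₁ := isCyclic_self_cent B hZ
  haveI hC₁n : C₁.Normal := Subgroup.normal_inf_normal _ _
  have hcomm : ∀ a b : C₁, a * b = b * a := by
    intro a b
    haveI := hcyc
    exact (IsCyclic.commGroup (α := C₁)).mul_comm a b
  have hderle : (⁅B, B⁆ : Subgroup H) ≤ C₁ := by
    haveI : IsCyclic ↥(⁅B, B⁆ : Subgroup H) := isCyclic_commutator_of_isZGroup B hZ
    intro c hc
    refine Subgroup.mem_inf.2 ⟨Subgroup.commutator_le_left B B hc, ?_⟩
    rw [Subgroup.mem_centralizer_iff]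
    intro d hd
    have := (IsCyclic.commGroup (α := ↥(⁅B, B⁆ : Subgroup H))).mul_comm ⟨d, hd⟩ ⟨c, hc⟩
    exact congrArg Subtype.val this
  have hself : ∀ b ∈ B, (∀ c ∈ C₁, b * c = c * b) → b ∈ C₁ := by
    intro b hb hbc
    refine Subgroup.mem_inf.2 ⟨hb, ?_⟩
    rw [Subgroup.mem_centralizer_iff]
    intro d hd
    exact (hbc d (hderle hd)).symm
  have hx4 : x ^ 4 = 1 := hrel.x4
  have hy4 : y ^ 4 = 1 := by
    calc y ^ 4 = (y ^ 2) ^ 2 := by rw [← pow_mul]
      _ = (x ^ 2) ^ 2 := by rw [hrel.hy]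
      _ = x ^ 4 := by rw [← pow_mul]
      _ = 1 := hx4
  have hxC : ∀ c ∈ C₁, x * c = c * x := by
    have h1 := comm_mem_centralizer_of_cyclic C₁ hcyc g y
    rw [← hrel.x_eq_comm] at h1
    intro c hc
    exact ((Subgroup.mem_centralizer_iff.1 h1) c hc).symm
  have hyC : ∀ c ∈ C₁, y * c = c * y := by
    have h1 := comm_mem_centralizer_of_cyclic C₁ hcyc g (x * y)
    rw [← hrel.y_eq_comm] at h1
    intro c hc
    exact ((Subgroup.mem_centralizer_iff.1 h1) c hc).symm
  exact ⟨centralizes_of_self_centralizing B C₁ hself hBodd hx4 hxC,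
    centralizes_of_self_centralizing B C₁ hself hBodd hy4 hyC⟩

/-- A normal `2`-subgroup containing the quaternion elements has order eight. -/
theorem card_eq_eight_of_rel (T : Subgroup H) [hTn : T.Normal]
    (hinv : ∀ t t' : H, orderOf t = 2 → orderOf t' = 2 → t = t')
    (hT2 : ∀ t ∈ T, ∃ e : ℕ, t ^ 2 ^ e = 1) {x y g : H} (hrel : Rel x y g) (hx : x ∈ T)
    (hy : y ∈ T) (hodd : Odd (orderOf g)) : Nat.card T = 8 := by
  haveI hF : Fact (Nat.Prime 2) := ⟨Nat.prime_two⟩
  have hP : IsPGroup 2 T := by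
    intro t
    obtain ⟨e, he⟩ := hT2 t t.2
    exact ⟨e, Subtype.ext (by simpa using he)⟩
  have hinvT : ∀ t t' : T, orderOf t = 2 → orderOf t' = 2 → t = t' := by
    intro t t' ht ht'
    apply Subtype.ext
    apply hinv
    · rw [Subgroup.orderOf_coe]; exact ht
    · rw [Subgroup.orderOf_coe]; exact ht'
  have hxy : y * x ≠ x * y := by
    intro e
    have h1 := hrel.hyx
    rw [e, mul_inv_cancel_right] at h1
    apply hrel.x2_ne
    calc x ^ 2 = x * x := pow_two x
      _ = x * x⁻¹ := by rw [← h1]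
      _ = 1 := mul_inv_cancel x
  have hg : g ∈ Subgroup.normalizer (T : Set H) := by
    rw [Subgroup.normalizer_eq_top]; exact Subgroup.mem_top g
  have hgc : g ∉ Subgroup.centralizer (T : Set H) := by
    intro h
    apply hrel.not_commute
    exact ((Subgroup.mem_centralizer_iff.1 h) x hx).symm
  rcases Cfsg.Agent.S0016.result (G := T) 2 hP
      (fun A B hA hB => subgroup_card_two_unique hinvT A B hA hB) with hcyc | ⟨-, n, ⟨e⟩⟩
  · exfalso
    apply hxy
    haveI := hcyc
    have := (IsCyclic.commGroup (α := T)).mul_comm ⟨y, hy⟩ ⟨x, hx⟩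
    exact congrArg Subtype.val this
  · obtain ⟨a, hao, hidx, hout4, -⟩ := Cfsg.Agent.Helper16.quaternionLike_of_mulEquiv n e
    have haT : (a : H) ∈ T := a.2
    have hao' : orderOf (a : H) = 2 ^ (n + 1) := by rw [← hao]; exact Subgroup.orderOf_coe a
    have hcard : Nat.card T = 2 ^ (n + 1 + 1) := by
      have h1 := Subgroup.card_mul_index (Subgroup.zpowers a)
      rw [hidx, Nat.card_zpowers, hao] at h1
      rw [← h1, ← pow_succ]
    have hout : ∀ y ∈ T, y ∉ Subgroup.zpowers (a : H) → y ^ 4 = 1 := by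
      intro y hyT hy
      have h1 : (⟨y, hyT⟩ : T) ∉ Subgroup.zpowers a := fun h => hy (by
        obtain ⟨k, hk⟩ := Subgroup.mem_zpowers_iff.1 h
        rw [Subgroup.mem_zpowers_iff]
        refine ⟨k, ?_⟩
        have := congrArg (fun v : T => (v : H)) hk
        simpa using this)
      have h2 := hout4 _ h1
      have h3 : (⟨y, hyT⟩ : T) ^ 4 = 1 := by rw [← h2]; exact pow_orderOf_eq_one _
      have := congrArg (fun v : T => (v : H)) h3
      simpa using this
    rcases Cfsg.Agent.Helper16.four_or_quat_of_odd_normalizer T haT hao' hcard hout T le_rfl hg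
        hodd hgc with ⟨-, hsq⟩ | ⟨h8, -⟩
    · exfalso
      exact hrel.x2_ne (hsq x hx)
    · exact h8

/-- **Key structural step.** A finite group with a unique involution, cyclic odd Sylow subgroups,
a unique subgroup of order three, and no subgroup of index two has a normal quaternion subgroup
of order eight on which some element acts as `x ↦ y ↦ x y`, and a central element of order
three. -/
theorem exists_normal_quat (h2 : 2 ∣ Nat.card H)
    (hinv : ∀ t t' : H, orderOf t = 2 → orderOf t' = 2 → t = t')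
    (hsyl : ∀ r : ℕ, r.Prime → r ≠ 2 → ∀ P : Sylow r H, IsCyclic P)
    (h3 : ∀ A B : Subgroup H, Nat.card A = 3 → Nat.card B = 3 → A = B)
    (hno2 : ¬ ∃ M : Subgroup H, M.index = 2) :
    ∃ (T : Subgroup H) (x y g w : H), T.Normal ∧ Nat.card T = 8 ∧ x ∈ T ∧ y ∈ T ∧ Rel x y g ∧
      orderOf w = 3 ∧ w ∈ Subgroup.center H := by
  obtain ⟨Q, x, y, g, w, hQ, hxQ, hyQ, hrel, hgodd, hw, hwc⟩ :=
    exists_rel_central h2 hinv h3 hno2
  have h3dvd : 3 ∣ Nat.card H := hw ▸ orderOf_dvd_natCard w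
  obtain ⟨M, hMn, hM⟩ := exists_normal_three_complement h3 hno2 h3dvd
  haveI := hMn
  have hM3 : ∀ h : H, h ∈ M → ¬ 3 ∣ orderOf h := by
    intro h hh hd
    have h1 := (hM h).1 hh
    have h4 := Nat.Coprime.eq_one_of_dvd h1.symm hd
    norm_num at h4
  have hQ2 : IsPGroup 2 Q := IsPGroup.of_card (n := 3) (by rw [hQ]; norm_num)
  have hQM : Q ≤ M := by
    intro q hq
    rw [hM]
    have h1 : orderOf q ∣ 2 ^ 3 := by
      have h5 : orderOf (⟨q, hq⟩ : Q) ∣ Nat.card Q := orderOf_dvd_natCard _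
      rw [Subgroup.orderOf_mk, hQ] at h5
      exact h5
    exact Nat.Coprime.coprime_dvd_left h1 (by norm_num)
  obtain ⟨B, T₀, hB, hT₀M, hT2, hfac, hQT₀⟩ := exists_two_complement_in M hinv hM3 Q hQM hQ2
  have hBn : B.Normal := by
    constructor
    intro b hb k
    rw [hB] at hb ⊢
    exact ⟨hMn.conj_mem b hb.1 k, by rw [orderOf_conj']; exact hb.2⟩
  haveI := hBn
  have hBodd : ∀ b ∈ B, Odd (orderOf b) := fun b hb => ((hB b).1 hb).2
  have hBcard : ¬ 2 ∣ Nat.card B := by
    intro hd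
    haveI : Fact (Nat.Prime 2) := ⟨Nat.prime_two⟩
    obtain ⟨t, ht⟩ := exists_prime_orderOf_dvd_card' (G := B) 2 hd
    have h1 := hBodd (t : H) t.2
    rw [Subgroup.orderOf_coe, ht] at h1
    exact absurd h1 (by decide)
  have hZ : IsZGroup B := by
    refine ⟨fun r hr P => ?_⟩
    haveI : Fact r.Prime := ⟨hr⟩
    by_cases hr2 : r = 2
    · subst hr2
      have h1 := P.card_eq_multiplicity
      have h4 : (Nat.card B).factorization 2 = 0 := by
        rw [Nat.factorization_eq_zero_iff]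
        right; left; exact hBcard
      rw [h4, pow_zero] at h1
      haveI : Subsingleton (P : Subgroup B) := (Nat.card_eq_one_iff_unique.1 h1).1
      exact isCyclic_of_subsingleton
    · have hPp : IsPGroup r ((P : Subgroup B).map B.subtype) := P.isPGroup'.map _
      obtain ⟨S, hS⟩ := hPp.exists_le_sylow
      haveI := hsyl r hr hr2 S
      let f : (P : Subgroup B) →* (S : Subgroup H) :=
        (B.subtype.comp (P : Subgroup B).subtype).codRestrict (S : Subgroup H)
          (fun v => hS ⟨v.1, v.2, rfl⟩)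
      refine isCyclic_of_injective f ?_
      intro u v huv
      have h1 := congrArg (fun t : (S : Subgroup H) => (t : H)) huv
      exact Subtype.ext (Subtype.ext h1)
  obtain ⟨hxB, hyB⟩ := rel_centralizes B hBodd hZ hrel
  have hTn : (T₀ ⊓ Subgroup.centralizer (B : Set H)).Normal :=
    normal_two_part M B T₀ hfac hBodd hT2 hT₀M
  haveI := hTn
  have hxT : x ∈ T₀ ⊓ Subgroup.centralizer (B : Set H) := by
    refine Subgroup.mem_inf.2 ⟨hQT₀ hxQ, ?_⟩
    rw [Subgroup.mem_centralizer_iff]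
    intro b hb
    exact (hxB b hb).symm
  have hyT : y ∈ T₀ ⊓ Subgroup.centralizer (B : Set H) := by
    refine Subgroup.mem_inf.2 ⟨hQT₀ hyQ, ?_⟩
    rw [Subgroup.mem_centralizer_iff]
    intro b hb
    exact (hyB b hb).symm
  have hT2' : ∀ t ∈ T₀ ⊓ Subgroup.centralizer (B : Set H), ∃ e : ℕ, t ^ 2 ^ e = 1 :=
    fun t ht => hT2 t (Subgroup.mem_inf.1 ht).1
  have h8 := card_eq_eight_of_rel (T₀ ⊓ Subgroup.centralizer (B : Set H)) hinv hT2' hrel hxT hyT
    hgodd
  exact ⟨_, x, y, g, w, hTn, h8, hxT, hyT, hrel, hw, hwc⟩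

end Cfsg.Agent.Helper14.Sh3
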