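import Mathlib
import Cfsg.Agent.Lib.Helper14.Sh3D
import Cfsg.Agent.Lib.Helper20.QuatReg

/-!
# Sharply triply transitive groups, odd `q` (helper14): regular complements have index-two subgroups
-/

set_option autoImplicit false

namespace Cfsg.Agent.Helper14.Sh3

open Subgroup

/-- An involution acting freely on an abelian group inverts it. -/
theorem inverts_of_free {H K : Type*} [Group H] [Group K]
    (hcomm : ∀ a b : K, a * b = b * a) (φ : H →* MulAut K)
    (hfree : ∀ (h : H) (k : K), k ≠ 1 → φ h k = k → h = 1) {t : H} (ht : orderOf t = 2)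
    (k : K) : φ t k = k⁻¹ := by
  have ht2 : t * t = 1 := by
    have := pow_orderOf_eq_one t
    rwa [ht, pow_two] at this
  have ht1 : t ≠ 1 := by
    rintro rfl
    rw [orderOf_one] at ht
    norm_num at ht
  have hfix : φ t (k * φ t k) = k * φ t k := by
    rw [map_mul]
    have h1 : φ t (φ t k) = k := by
      have : (φ t * φ t) k = k := by rw [← map_mul, ht2, map_one]; rfl
      exact this
    rw [h1, hcomm]
  have h1 : k * φ t k = 1 := by
    by_contra hne
    exact ht1 (hfree t _ hne hfix)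
  exact (inv_eq_of_mul_eq_one_right h1).symm

/-- A group acting freely on a nontrivial abelian group has at most one involution. -/
theorem unique_involution_of_free {H K : Type*} [Group H] [Group K]
    (hcomm : ∀ a b : K, a * b = b * a) (φ : H →* MulAut K) (hK : ∃ k : K, k ≠ 1)
    (hfree : ∀ (h : H) (k : K), k ≠ 1 → φ h k = k → h = 1) (t t' : H) (ht : orderOf t = 2)
    (ht' : orderOf t' = 2) : t = t' := by
  obtain ⟨k₀, hk₀⟩ := hK
  have h1 : φ (t * t') k₀ = k₀ := by
    rw [map_mul]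
    show φ t (φ t' k₀) = k₀
    rw [inverts_of_free hcomm φ hfree ht', map_inv, inverts_of_free hcomm φ hfree ht, inv_inv]
  have h2 : t * t' = 1 := hfree _ _ hk₀ h1
  have ht2 : t' * t' = 1 := by
    have := pow_orderOf_eq_one t'
    rwa [ht', pow_two] at this
  calc t = t * (t' * t') := by rw [ht2, mul_one]
    _ = (t * t') * t' := by rw [mul_assoc]
    _ = t' := by rw [h2, one_mul]

/-- **Theorem A.** A group acting regularly on the non-identity elements of an elementary abelian
`p`-group (`p` odd), with cyclic odd Sylow subgroups, even order, and a unique subgroup of order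
three, has a subgroup of index two. -/
theorem exists_index_two {H K : Type*} [Group H] [Finite H] [Group K] [Finite K]
    (hcomm : ∀ a b : K, a * b = b * a)
    (φ : H →* MulAut K) (p : ℕ) (hp : p.Prime) (hp2 : p ≠ 2) (hexp : ∀ k : K, k ^ p = 1)
    (hK : ∃ k : K, k ≠ 1)
    (hfree : ∀ (h : H) (k : K), k ≠ 1 → φ h k = k → h = 1)
    (htrans : ∀ k k' : K, k ≠ 1 → k' ≠ 1 → ∃ h : H, φ h k = k')
    (h2 : 2 ∣ Nat.card H)
    (hsyl : ∀ r : ℕ, r.Prime → r ≠ 2 → ∀ P : Sylow r H, IsCyclic P)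
    (h3 : ∀ A B : Subgroup H, Nat.card A = 3 → Nat.card B = 3 → A = B) :
    ∃ M : Subgroup H, M.index = 2 := by
  by_contra hno2
  have hinv : ∀ t t' : H, orderOf t = 2 → orderOf t' = 2 → t = t' :=
    fun t t' ht ht' => unique_involution_of_free hcomm φ hK hfree t t' ht ht'
  obtain ⟨T, x, y, g, w, hTn, hT8, hxT, hyT, hrel, hw, hwc⟩ :=
    exists_normal_quat h2 hinv hsyl h3 hno2
  haveI := hTn
  letI : CommGroup K := { (inferInstance : Group K) with mul_comm := hcomm }
  exact Cfsg.Agent.Helper20.QuatReg.no_quat_regular (H := H) (K := K) φ p hp hp2 hexp hK hfree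
    htrans T hT8 x y g w hxT hyT hrel.hx hrel.hy hrel.hyx hrel.hgx hrel.hgy hw hwc

/-- From a subgroup of index two to one invariant under an involutory automorphism. -/
theorem exists_invariant_index_two {L : Type*} [Group L] (σ : L ≃* L)
    (hσ : ∀ h : L, σ (σ h) = h) (M₁ : Subgroup L) (hM₁ : M₁.index = 2) :
    ∃ N' : Subgroup L, N'.index = 2 ∧ ∀ h ∈ N', σ h ∈ N' := by
  by_cases hinvt : ∀ h : L, h ∈ M₁ ↔ σ h ∈ M₁
  · exact ⟨M₁, hM₁, fun h hh => (hinvt h).1 hh⟩
  · push Not at hinvt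
    obtain ⟨a₀, ha₀⟩ := hinvt
    have hM₂ : ∀ a b : L, σ (a * b) ∈ M₁ ↔ (σ a ∈ M₁ ↔ σ b ∈ M₁) := by
      intro a b
      rw [map_mul]
      exact Subgroup.mul_mem_iff_of_index_two hM₁
    let N' : Subgroup L :=
      { carrier := {h | h ∈ M₁ ↔ σ h ∈ M₁}
        one_mem' := by
          show (1 : L) ∈ M₁ ↔ σ 1 ∈ M₁
          rw [map_one]
        mul_mem' := by
          intro a b ha hb
          show a * b ∈ M₁ ↔ σ (a * b) ∈ M₁
          have ha' : a ∈ M₁ ↔ σ a ∈ M₁ := ha
          have hb' : b ∈ M₁ ↔ σ b ∈ M₁ := hb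
          rw [hM₂, Subgroup.mul_mem_iff_of_index_two hM₁, ha', hb']
        inv_mem' := by
          intro a ha
          show a⁻¹ ∈ M₁ ↔ σ a⁻¹ ∈ M₁
          have ha' : a ∈ M₁ ↔ σ a ∈ M₁ := ha
          rw [map_inv, Subgroup.inv_mem_iff, Subgroup.inv_mem_iff]
          exact ha' }
    have hmem : ∀ h : L, h ∈ N' ↔ (h ∈ M₁ ↔ σ h ∈ M₁) := fun h => Iff.rfl
    refine ⟨N', ?_, ?_⟩
    · rw [Subgroup.index_eq_two_iff]
      refine ⟨a₀, fun b => ?_⟩
      rw [hmem, hmem, hM₂, Subgroup.mul_mem_iff_of_index_two hM₁]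
      by_cases h1 : b ∈ M₁ <;> by_cases h2 : σ b ∈ M₁ <;> by_cases h3 : a₀ ∈ M₁ <;>
        by_cases h4 : σ a₀ ∈ M₁ <;> simp [Xor, h1, h2, h3, h4] at ha₀ ⊢
    · intro h hh
      rw [hmem] at hh ⊢
      rw [hσ]
      exact hh.symm

end Cfsg.Agent.Helper14.Sh3
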