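import Mathlib
import Cfsg.Agent.Lib.Helper14.Sh3E
import Cfsg.Agent.Lib.Helper4.Sharp2
import Cfsg.Agent.S0040
import Cfsg.Agent.S0728

/-!
# Sharply triply transitive groups, odd `q` (helper14): the two-point stabilizer has a subgroup of
index two
-/

set_option autoImplicit false

namespace Cfsg.Agent.Helper14.Sh3

open MulAction Cfsg.Agent.Helper4

theorem exists_index_two_stab {M α : Type*} [Group M] [Finite M] [MulAction M α] [Fintype α]
    [DecidableEq α]
    (h3t : ∀ x y w x' y' w' : α, x ≠ y → x ≠ w → y ≠ w → x' ≠ y' → x' ≠ w' → y' ≠ w' →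
      ∃ g : M, g • x = x' ∧ g • y = y' ∧ g • w = w')
    (hsh : ∀ (g : M) (x y w : α), x ≠ y → x ≠ w → y ≠ w → g • x = x → g • y = y → g • w = w →
      g = 1)
    (heven : Even (Fintype.card α)) (h6 : 6 ≤ Fintype.card α) {a b : α} (hab : a ≠ b) :
    ∃ N : Subgroup M, N ≤ stabilizer M a ⊓ stabilizer M b ∧
      N.relIndex (stabilizer M a ⊓ stabilizer M b) = 2 := by
  -- setup
  set Γ : Subgroup M := stabilizer M a with hΓ
  let β := ↥(SubMulAction.ofStabilizer M a)
  haveI : Fintype β := Fintype.ofFinite β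
  have hβcard : Fintype.card β = Fintype.card α - 1 := by
    rw [← Nat.card_eq_fintype_card, ← Nat.card_eq_fintype_card]
    exact SubMulAction.nat_card_ofStabilizer_eq M a
  let b' : β := ⟨b, (SubMulAction.mem_ofStabilizer_iff M a).2 hab.symm⟩
  have hval : ∀ (γ : Γ) (u : β), ((γ • u : β) : α) = (γ : M) • (u : α) := fun γ u => rfl
  have hne : ∀ u : β, (u : α) ≠ a := fun u => (SubMulAction.mem_ofStabilizer_iff M a).1 u.2
  have hS : Sharp2 Γ β := by
    constructor
    · intro u v c d huv hcd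
      obtain ⟨g, hga, hgu, hgv⟩ := h3t a u v a c d (hne u).symm (hne v).symm
        (fun e => huv (Subtype.ext e)) (hne c).symm (hne d).symm (fun e => hcd (Subtype.ext e))
      exact ⟨⟨g, hga⟩, Subtype.ext hgu, Subtype.ext hgv⟩
    · intro u v g huv hgu hgv
      apply Subtype.ext
      exact hsh g a u v (hne u).symm (hne v).symm (fun e => huv (Subtype.ext e)) g.2
        (congrArg Subtype.val hgu) (congrArg Subtype.val hgv)
  have h2β : ∃ u v : β, u ≠ v := by
    obtain ⟨c, hca, hcb⟩ : ∃ c : α, c ≠ a ∧ c ≠ b := by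
      by_contra hcon
      push Not at hcon
      have : (Finset.univ : Finset α) ⊆ {a, b} := by
        intro w _
        rw [Finset.mem_insert, Finset.mem_singleton]
        by_cases h : w = a
        · left; exact h
        · right; exact hcon w h
      have := Finset.card_le_card this
      rw [Finset.card_univ] at this
      have h2 := Finset.card_le_two (a := a) (b := b)
      omega
    exact ⟨b', ⟨c, (SubMulAction.mem_ofStabilizer_iff M a).2 hca⟩,
      fun e => hcb (congrArg Subtype.val e).symm⟩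
  set K : Subgroup Γ := hS.N h2β with hKdef
  haveI hKn : K.Normal := hS.N_normal h2β
  set Hb : Subgroup Γ := stabilizer Γ b' with hHb
  have hKcard : Nat.card K = Fintype.card β := hS.card_N' h2β
  have hHbcard : Nat.card Hb = Fintype.card β - 1 := hS.card_stabilizer h2β b'
  have hΓcard : Nat.card Γ = Fintype.card β * (Fintype.card β - 1) := hS.card_G h2β
  obtain ⟨p, hp, hpdvd, hexp⟩ := hS.N_exponent h2β
  have hp2 : p ≠ 2 := by
    rintro rfl
    rw [hβcard] at hpdvd
    obtain ⟨m, hm⟩ := heven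
    omega
  have hKfree : ∀ k ∈ K, ∀ u : β, k • u = u → k = 1 := fun k hk u hu => hS.N_free h2β hk hu
  -- the action
  let φ : Hb →* MulAut K := (MulAut.conjNormal (H := K)).comp Hb.subtype
  have hφ : ∀ (h : Hb) (k : K), ((φ h k : K) : Γ) = (h : Γ) * (k : Γ) * (h : Γ)⁻¹ :=
    fun h k => rfl
  have hfix : ∀ (h : Hb) (k : K), φ h k = k → (h : Γ) • ((k : Γ) • b') = (k : Γ) • b' := by
    intro h k hk
    have h1 : (h : Γ) * (k : Γ) = (k : Γ) * (h : Γ) := by
      have := congrArg (fun t : K => (t : Γ)) hk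
      simp only [hφ] at this
      calc (h : Γ) * k = ((h : Γ) * k * (h : Γ)⁻¹) * h := by group
        _ = k * h := by rw [this]
    rw [← mul_smul, h1, mul_smul]
    congr 1
    exact h.2
  have hfree : ∀ (h : Hb) (k : K), k ≠ 1 → φ h k = k → h = 1 := by
    intro h k hk1 hk
    have h1 := hfix h k hk
    have h2 : (k : Γ) • b' ≠ b' := fun e => hk1 (Subtype.ext (hKfree k k.2 b' e))
    apply Subtype.ext
    exact hS.sharp b' ((k : Γ) • b') (h : Γ) h2.symm h.2 h1
  have htrans : ∀ k k' : K, k ≠ 1 → k' ≠ 1 → ∃ h : Hb, φ h k = k' := by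
    intro k k' hk hk'
    have h1 : (k : Γ) • b' ≠ b' := fun e => hk (Subtype.ext (hKfree k k.2 b' e))
    have h2 : (k' : Γ) • b' ≠ b' := fun e => hk' (Subtype.ext (hKfree k' k'.2 b' e))
    obtain ⟨γ, hγ1, hγ2⟩ := hS.trans b' ((k : Γ) • b') b' ((k' : Γ) • b') h1.symm h2.symm
    refine ⟨⟨γ, hγ1⟩, ?_⟩
    apply Subtype.ext
    rw [hφ]
    show γ * (k : Γ) * γ⁻¹ = (k' : Γ)
    have h3 : (γ * (k : Γ) * γ⁻¹) • b' = (k' : Γ) • b' := by
      rw [mul_smul, mul_smul]
      have : γ⁻¹ • b' = b' := by rw [inv_smul_eq_iff, hγ1]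
      rw [this, hγ2]
    have h4 : (k' : Γ)⁻¹ * (γ * (k : Γ) * γ⁻¹) ∈ K :=
      K.mul_mem (K.inv_mem k'.2) (hKn.conj_mem k k.2 γ)
    have h5 := hKfree _ h4 b' (by rw [mul_smul, h3, inv_smul_smul])
    exact (inv_mul_eq_one.1 h5).symm
  have hK : ∃ k : K, k ≠ 1 := by
    have h2β' : ∃ u v : β, u ≠ v := h2β
    obtain ⟨u, v, huv⟩ := h2β'
    obtain ⟨x, hx, hxu⟩ := hS.N_exists_smul_eq h2β u v
    refine ⟨⟨x, hx⟩, fun e => huv ?_⟩
    have : x = 1 := congrArg Subtype.val e
    rw [this, one_smul] at hxu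
    exact hxu
  have h2 : 2 ∣ Nat.card Hb := by
    rw [hHbcard, hβcard]
    obtain ⟨m, hm⟩ := heven
    omega
  have hcomm : ∀ k k' : K, k * k' = k' * k := fun k k' => Subtype.ext (hS.N_comm h2β k.2 k'.2)
  have hexp' : ∀ k : K, k ^ p = 1 := fun k => Subtype.ext (by simpa using hexp k k.2)
  -- Sylow subgroups
  have hdisj : Disjoint K Hb := by
    rw [Subgroup.disjoint_def]
    intro x hxK hxH
    exact hKfree x hxK b' hxH
  have hc : Subgroup.IsComplement' K Hb := by
    apply Subgroup.isComplement'_of_card_mul_and_disjoint _ hdisj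
    rw [hKcard, hHbcard, hΓcard]
  have hKne : K ≠ ⊥ := by
    obtain ⟨k, hk⟩ := hK
    intro e
    have h1 : ∀ x ∈ K, x = 1 := by
      intro x hx
      rw [e] at hx
      exact Subgroup.mem_bot.1 hx
    exact hk (Subtype.ext (h1 k k.2))
  have hfpf : ∀ h ∈ Hb, h ≠ 1 → K ⊓ Subgroup.centralizer {h} = ⊥ := by
    intro h hh hh1
    rw [eq_bot_iff]
    rintro k ⟨hkK, hkc⟩
    rw [Subgroup.mem_bot]
    by_contra hk1
    apply hh1
    have hkc' : k * h = h * k := Subgroup.mem_centralizer_singleton_iff.1 hkc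
    have h1 : φ ⟨h, hh⟩ ⟨k, hkK⟩ = ⟨k, hkK⟩ := by
      apply Subtype.ext
      rw [hφ]
      show h * k * h⁻¹ = k
      rw [← hkc', mul_inv_cancel_right]
    have := hfree ⟨h, hh⟩ ⟨k, hkK⟩ (fun e => hk1 (congrArg Subtype.val e)) h1
    exact congrArg Subtype.val this
  have hsyl : ∀ r : ℕ, r.Prime → r ≠ 2 → ∀ P : Sylow r Hb, IsCyclic P := by
    intro r hr hr2 P
    haveI : Fact r.Prime := ⟨hr⟩
    rcases Cfsg.Agent.S0040.result K Hb hc hKne hfpf r P with h | ⟨n, ⟨e⟩⟩
    · exact h
    · exfalso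
      haveI hne : NeZero (2 ^ n) := ⟨by positivity⟩
      have h1 : Nat.card P = 4 * 2 ^ n := by
        rw [Nat.card_congr e.toEquiv, Nat.card_eq_fintype_card, QuaternionGroup.card]
      obtain ⟨k, hk⟩ := IsPGroup.iff_card.mp P.isPGroup'
      have h2 : 2 ∣ r ^ k := by rw [← hk, h1]; exact ⟨2 * 2 ^ n, by ring⟩
      have h3 := Nat.Prime.dvd_of_dvd_pow Nat.prime_two h2
      exact hr2 ((Nat.prime_dvd_prime_iff_eq Nat.prime_two hr).1 h3).symm
  -- transfer to `M`
  have hinj1 : Function.Injective Hb.subtype := Subgroup.subtype_injective _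
  have hinj2 : Function.Injective Γ.subtype := Subgroup.subtype_injective _
  have hL : stabilizer M a ⊓ stabilizer M b = Hb.map Γ.subtype := by
    ext m
    constructor
    · intro hm
      obtain ⟨hma, hmb⟩ := Subgroup.mem_inf.1 hm
      exact ⟨⟨m, hma⟩, Subtype.ext hmb, rfl⟩
    · rintro ⟨γ, hγ, rfl⟩
      exact Subgroup.mem_inf.2 ⟨γ.2, congrArg Subtype.val hγ⟩
  have h3 : ∀ A B : Subgroup Hb, Nat.card A = 3 → Nat.card B = 3 → A = B := by
    intro A B hA hB
    have key : (A.map Hb.subtype).map Γ.subtype = (B.map Hb.subtype).map Γ.subtype := by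
      apply Cfsg.Agent.S0728.main h3t hsh (by omega) hab
      · rw [hL]; exact Subgroup.map_mono (Subgroup.map_subtype_le A)
      · rw [hL]; exact Subgroup.map_mono (Subgroup.map_subtype_le B)
      · rw [Subgroup.card_map_of_injective hinj2, Subgroup.card_map_of_injective hinj1, hA]
      · rw [Subgroup.card_map_of_injective hinj2, Subgroup.card_map_of_injective hinj1, hB]
    exact Subgroup.map_injective hinj1 (Subgroup.map_injective hinj2 key)
  obtain ⟨M₁, hM₁⟩ := exists_index_two hcomm φ p hp hp2 hexp' hK hfree htrans h2 hsyl h3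
  refine ⟨(M₁.map Hb.subtype).map Γ.subtype, ?_, ?_⟩
  · rw [hL]; exact Subgroup.map_mono (Subgroup.map_subtype_le M₁)
  · have hNL : (M₁.map Hb.subtype).map Γ.subtype ≤ stabilizer M a ⊓ stabilizer M b := by
      rw [hL]; exact Subgroup.map_mono (Subgroup.map_subtype_le M₁)
    have h1 := Subgroup.relIndex_mul_relIndex ⊥ _ _ bot_le hNL
    rw [Subgroup.relIndex_bot_left, Subgroup.relIndex_bot_left] at h1
    have h4 : Nat.card ↥((M₁.map Hb.subtype).map Γ.subtype) = Nat.card M₁ := by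
      rw [Subgroup.card_map_of_injective hinj2, Subgroup.card_map_of_injective hinj1]
    have h5 : Nat.card ↥(stabilizer M a ⊓ stabilizer M b) = Nat.card Hb := by
      rw [hL, Subgroup.card_map_of_injective hinj2]
    have h6' := Subgroup.card_mul_index M₁
    rw [hM₁] at h6'
    rw [h4, h5, ← h6'] at h1
    have hpos : 0 < Nat.card M₁ := Nat.card_pos
    exact Nat.eq_of_mul_eq_mul_left hpos h1

end Cfsg.Agent.Helper14.Sh3
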