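import Mathlib
import Cfsg.Agent.Lib.Helper1.BestOffender
import Cfsg.Agent.Lib.Helper1.CoprimeAbelian
import Cfsg.Agent.Lib.Helper7.PLocal2
import Cfsg.Agent.Lib.Helper27.Timmesfeld
import Cfsg.Agent.S1324

set_option autoImplicit false

/-! Failure of factorization for `p = 2` with an odd order normal subgroup: an elementary
abelian `2`-group `E` acting faithfully on the odd order group `N`, both acting on the
elementary abelian `2`-group `V`, `N` faithfully, with `|V : C_V(E)| ≤ |E|`, produces a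
configuration of type `S₄`. -/

namespace Cfsg.Agent.Helper14.FF2

open Subgroup Cfsg.Agent.Helper1.BO
open scoped commutatorElement

variable {X : Type*} [Group X]

theorem centralizer_zpowers_eq (g : X) :
    centralizer ((zpowers g : Subgroup X) : Set X) = centralizer {g} := by
  rw [zpowers_eq_closure, centralizer_closure]

theorem mem_cV_zpowers {U : Subgroup X} {g x : X} :
    x ∈ cV U (zpowers g) ↔ x ∈ U ∧ g * x = x * g := by
  unfold cV
  rw [mem_inf, centralizer_zpowers_eq, mem_centralizer_singleton_iff, eq_comm]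

variable [Finite X]

/-- the hyperplane lemma -/
theorem exists_hyperplane (N E E₁ : Subgroup X) (hE : Cfsg.IsElementaryAbelian 2 E)
    (hNodd : (Nat.card N).Coprime 2) (hEN : E ≤ normalizer (N : Set X))
    (hEN' : E ⊓ centralizer (N : Set X) = ⊥) (hE₁E : E₁ ≤ E) (hE₁ : E₁ ≠ ⊥) :
    ∃ B : Subgroup X, B ≤ E₁ ∧ B.relIndex E₁ = 2 ∧
      ¬ (N ⊓ centralizer (B : Set X) ≤ centralizer (E₁ : Set X)) := by
  by_contra hcon
  push Not at hcon
  have hE₁e : Cfsg.IsElementaryAbelian 2 E₁ := elemAb_of_le hE hE₁E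
  have hE₁p : IsPGroup 2 E₁ := isPGroup_of_elemAb hE₁e
  have key : N ≤ centralizer (E₁ : Set X) := by
    by_cases h2 : 2 ^ 2 ≤ Nat.card E₁
    · have hX : ¬ 2 ∣ Nat.card N := by
        intro hdvd
        have := Nat.eq_one_of_dvd_coprimes hNodd hdvd (dvd_refl 2)
        omega
      have hgen := Cfsg.Agent.S1324.result 2 E₁ N hE₁e h2 hX (hE₁E.trans hEN)
      rw [hgen]
      apply iSup_le
      rintro ⟨B, hBE, hBp⟩
      show N ⊓ centralizer (B : Set X) ≤ centralizer (E₁ : Set X)
      have hpos : 0 < B.relIndex E₁ := by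
        have := card_mul_relIndex_le hBE
        rcases Nat.eq_zero_or_pos (B.relIndex E₁) with h | h
        · rw [h, mul_zero] at this
          have : 0 < Nat.card E₁ := Nat.card_pos
          omega
        · exact h
      have hcases : B.relIndex E₁ = 1 ∨ B.relIndex E₁ = 2 := by omega
      rcases hcases with h1 | h1
      · rw [Subgroup.relIndex_eq_one] at h1
        exact inf_le_right.trans (centralizer_le h1)
      · exact hcon B hBE h1
    · have hcard : Nat.card E₁ = 2 := by
        obtain ⟨n, hn⟩ := IsPGroup.iff_card.mp hE₁p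
        have hn0 : n ≠ 0 := by
          rintro rfl
          rw [pow_zero] at hn
          exact hE₁ (Subgroup.card_eq_one.mp hn)
        have hn1 : n < 2 := by
          by_contra hge
          push Not at hge
          apply h2
          rw [hn]
          exact Nat.pow_le_pow_right (by norm_num) hge
        have : n = 1 := by omega
        rw [hn, this, pow_one]
      have hrel : (⊥ : Subgroup X).relIndex E₁ = 2 := by
        rw [Subgroup.relIndex_bot_left, hcard]
      have h3 := hcon ⊥ bot_le hrel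
      exact le_trans (le_inf le_rfl (le_centralizer_bot _)) h3
  have h1 : E₁ ≤ centralizer (N : Set X) := Subgroup.le_centralizer_iff.mp key
  exact hE₁ (le_bot_iff.mp (hEN' ▸ le_inf hE₁E h1))

/-- **Failure of factorization, `p = 2`, odd order normal subgroup.** -/
theorem ff_two (V N E : Subgroup X) (hV : Cfsg.IsElementaryAbelian 2 V)
    (hNodd : (Nat.card N).Coprime 2) (hE : Cfsg.IsElementaryAbelian 2 E)
    (hNV : N ≤ normalizer (V : Set X)) (hEV : E ≤ normalizer (V : Set X))
    (hEN : E ≤ normalizer (N : Set X))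
    (hf : N ⊓ centralizer (V : Set X) = ⊥)
    (hEN' : E ⊓ centralizer (N : Set X) = ⊥) (hE1 : E ≠ ⊥)
    (hoff : Nat.card V ≤ Nat.card E * Nat.card (cV V E)) :
    ∃ a ∈ E, ∃ y ∈ N, ∃ W : Subgroup X, W ≤ V ∧ Nat.card W = 4 ∧ a * y * a⁻¹ = y⁻¹ ∧
      a ∈ normalizer (W : Set X) ∧ y ∈ normalizer (W : Set X) ∧
      ∀ w ∈ W, y * w * y⁻¹ = w → w = 1 := by
  classical
  have hVp : IsPGroup 2 V := isPGroup_of_elemAb hV
  have hVc : ∀ x ∈ V, ∀ y ∈ V, x * y = y * x := fun x hx y hy => elemAb_comm hV hx hy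
  -- Step 1: a minimal offender
  obtain ⟨E₁, ⟨hE₁E, hE₁1, hE₁off⟩, hE₁min⟩ := Set.exists_min_image
    {E₁ : Subgroup X | E₁ ≤ E ∧ E₁ ≠ ⊥ ∧ Nat.card V ≤ Nat.card E₁ * Nat.card (cV V E₁)}
    (fun E₁ => Nat.card E₁) (Set.toFinite _) ⟨E, le_rfl, hE1, hoff⟩
  have hE₁e : Cfsg.IsElementaryAbelian 2 E₁ := elemAb_of_le hE hE₁E
  -- Step 2: the hyperplane
  obtain ⟨B, hBE₁, hBrel, hBne⟩ := exists_hyperplane N E E₁ hE hNodd hEN hEN' hE₁E hE₁1
  have hcardB : Nat.card B * 2 = Nat.card E₁ := by
    have := card_mul_relIndex_le hBE₁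
    rwa [hBrel] at this
  set U := cV V B with hU
  have hUV : U ≤ V := cV_le V B
  -- Step 3: `|U| ≤ 2 |C_V(E₁)|`
  have hstep3 : Nat.card U ≤ 2 * Nat.card (cV V E₁) := by
    by_cases hB1 : B = ⊥
    · have hUeq : U = V := by rw [hU, hB1, cV_bot]
      rw [hUeq]
      have h2 : Nat.card E₁ = 2 := by
        rw [← hcardB, hB1, Subgroup.card_bot]
      rwa [h2] at hE₁off
    · have hBpos : 0 < Nat.card B := Nat.card_pos
      have hlt : Nat.card B < Nat.card E₁ := by omega
      have hnot : ¬ (Nat.card V ≤ Nat.card B * Nat.card (cV V B)) := by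
        intro h
        have := hE₁min B ⟨hBE₁.trans hE₁E, hB1, h⟩
        omega
      push Not at hnot
      have h3 : Nat.card B * Nat.card U < Nat.card B * (2 * Nat.card (cV V E₁)) := by
        calc Nat.card B * Nat.card U < Nat.card V := hnot
          _ ≤ Nat.card E₁ * Nat.card (cV V E₁) := hE₁off
          _ = Nat.card B * (2 * Nat.card (cV V E₁)) := by rw [← hcardB]; ring
      exact (Nat.lt_of_mul_lt_mul_left h3).le
  -- Step 4: the elements `a` and `y`
  obtain ⟨a, haE₁, haB⟩ : ∃ a ∈ E₁, a ∉ B := by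
    by_contra h
    push Not at h
    have : E₁ ≤ B := h
    have h1 : B.relIndex E₁ = 1 := Subgroup.relIndex_eq_one.mpr this
    omega
  have haE : a ∈ E := hE₁E haE₁
  have ha2 : a * a = 1 := by
    have := hE.2 a haE
    rwa [pow_two] at this
  have hainv : a⁻¹ = a := inv_eq_of_mul_eq_one_left ha2
  have hsup : zpowers a ⊔ B = E₁ :=
    sup_eq_of_relIndex_prime (p := 2) hBE₁ hBrel (zpowers_le.mpr haE₁)
      (fun h => haB (h (mem_zpowers a)))
  have hcentE₁ : centralizer (E₁ : Set X) = centralizer {a} ⊓ centralizer (B : Set X) := by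
    rw [← hsup, Cfsg.Agent.Helper27.centralizer_sup, centralizer_zpowers_eq]
  have haB' : a ∈ centralizer (B : Set X) := by
    rw [mem_centralizer_iff]
    intro b hb
    exact elemAb_comm hE (hE₁E (hBE₁ hb)) haE
  obtain ⟨m, hmNB, hmE₁⟩ : ∃ m ∈ N ⊓ centralizer (B : Set X), m ∉ centralizer (E₁ : Set X) := by
    by_contra h
    push Not at h
    exact hBne h
  obtain ⟨hmN, hmB⟩ := mem_inf.mp hmNB
  have hma : ¬ (a * m = m * a) := by
    intro h
    apply hmE₁
    rw [hcentE₁, mem_inf, mem_centralizer_singleton_iff]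
    exact ⟨h.symm, hmB⟩
  obtain ⟨y, hy⟩ : ∃ y, y = a * m * a⁻¹ * m⁻¹ := ⟨_, rfl⟩
  have hy1 : y ≠ 1 := by
    intro h
    apply hma
    rw [hy] at h
    calc a * m = (a * m * a⁻¹ * m⁻¹) * (m * a) := by group
      _ = m * a := by rw [h, one_mul]
  have hyN : y ∈ N := by
    rw [hy]
    exact N.mul_mem (conj_mem_of_le_normalizer (hEN haE) hmN) (N.inv_mem hmN)
  have hyB : y ∈ centralizer (B : Set X) := by
    rw [hy]
    exact (centralizer (B : Set X)).mul_mem
      ((centralizer (B : Set X)).mul_mem ((centralizer (B : Set X)).mul_mem haB' hmB)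
        ((centralizer (B : Set X)).inv_mem haB')) ((centralizer (B : Set X)).inv_mem hmB)
  have hinv : a * y * a⁻¹ = y⁻¹ := by
    have h1 : a * y * a⁻¹ * y = (a * a) * m * (a * a)⁻¹ * m⁻¹ := by rw [hy]; group
    rw [ha2] at h1
    have h2 : a * y * a⁻¹ * y = 1 := by rw [h1]; group
    exact eq_inv_of_mul_eq_one_left h2
  have hyinv' : a * y⁻¹ * a⁻¹ = y := by
    rw [← conj_inv, hinv, inv_inv]
  -- orders
  have hyo : (orderOf y).Coprime 2 := by
    have h1 : orderOf y ∣ Nat.card N := by
      have := orderOf_dvd_natCard (⟨y, hyN⟩ : ↥N)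
      rwa [Subgroup.orderOf_mk] at this
    exact Nat.Coprime.coprime_dvd_left h1 hNodd
  -- normalizers
  have hBV : B ≤ normalizer (V : Set X) := (hBE₁.trans hE₁E).trans hEV
  have hnormU : ∀ g : X, g ∈ normalizer (V : Set X) → g ∈ centralizer (B : Set X) →
      g ∈ normalizer (U : Set X) := by
    intro g hgV hgB
    have hcn : g ∈ normalizer ((centralizer (B : Set X) : Subgroup X) : Set X) := by
      apply le_normalizer
      exact hgB
    rw [hU]
    unfold cV
    rw [mem_normalizer_iff] at hgV hcn ⊢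
    intro x
    rw [mem_inf, mem_inf, ← hgV x, ← hcn x]
  have haU : a ∈ normalizer (U : Set X) := hnormU a (hEV haE) haB'
  have hyU : y ∈ normalizer (U : Set X) := hnormU y (hNV hyN) hyB
  have hUc : ∀ x ∈ U, ∀ y ∈ U, x * y = y * x := fun x hx y hy => hVc x (hUV hx) y (hUV hy)
  -- Step 5: `y` acts nontrivially on `U`
  have hyUne : ¬ y ∈ centralizer (U : Set X) := by
    intro hyC
    have hBp : IsPGroup 2 B := (isPGroup_of_elemAb hE).to_le (hBE₁.trans hE₁E)
    have := Cfsg.Agent.Helper7.thompson_AxB_element 2 V B hVp hBp hBV y (hNV hyN) hyo hyB hyC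
    have h1 : y ∈ N ⊓ centralizer (V : Set X) := mem_inf.mpr ⟨hyN, this⟩
    rw [hf, mem_bot] at h1
    exact hy1 h1
  -- Step 6: `|U : C_U(y)| ≤ 4`
  have hcVa : cV V E₁ = cV U (zpowers a) := by
    rw [hU]
    unfold cV
    rw [hcentE₁, centralizer_zpowers_eq, inf_assoc, inf_comm (centralizer {a})]
  have hrel_a : (cV U (zpowers a)).relIndex U ≤ 2 := by
    have h1 := card_mul_relIndex_le (cV_le U (zpowers a))
    rw [← hcVa] at h1 ⊢
    have hpos : 0 < Nat.card (cV V E₁) := Nat.card_pos
    have h2 : Nat.card (cV V E₁) * (cV V E₁).relIndex U ≤ Nat.card (cV V E₁) * 2 := by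
      rw [h1, mul_comm]; exact hstep3
    exact Nat.le_of_mul_le_mul_left h2 hpos
  set a' := y * a * y⁻¹ with ha'
  have hrel_a' : (cV U (zpowers a')).relIndex U ≤ 2 := by
    set f := (MulAut.conj y).toMonoidHom with hf'
    have hUmap : U.map f = U := by
      have := hyU
      rw [Subgroup.mem_normalizer_iff_map_conj_eq] at this
      exact this
    have hle : (cV U (zpowers a)).map f ≤ cV U (zpowers a') := by
      rintro _ ⟨x, hx, rfl⟩
      obtain ⟨hxU, hxa⟩ := mem_cV_zpowers.mp hx
      refine mem_cV_zpowers.mpr ⟨?_, ?_⟩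
      · rw [← hUmap]; exact Subgroup.mem_map_of_mem f hxU
      · show y * a * y⁻¹ * (y * x * y⁻¹) = y * x * y⁻¹ * (y * a * y⁻¹)
        calc y * a * y⁻¹ * (y * x * y⁻¹) = y * (a * x) * y⁻¹ := by group
          _ = y * (x * a) * y⁻¹ := by rw [hxa]
          _ = y * x * y⁻¹ * (y * a * y⁻¹) := by group
    have h1 : ((cV U (zpowers a)).map f).relIndex (U.map f) = (cV U (zpowers a)).relIndex U :=
      Subgroup.relIndex_map_map_of_injective _ _ (MulAut.conj y).injective
    rw [hUmap] at h1
    have h2 : (cV U (zpowers a')).relIndex U ≤ ((cV U (zpowers a)).map f).relIndex U := by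
      apply Nat.le_of_dvd
      · rw [h1]
        have := card_mul_relIndex_le (cV_le U (zpowers a))
        rcases Nat.eq_zero_or_pos ((cV U (zpowers a)).relIndex U) with h | h
        · rw [h, mul_zero] at this
          have : 0 < Nat.card U := Nat.card_pos
          omega
        · exact h
      · exact Subgroup.relIndex_dvd_of_le_left U hle
    omega
  have hyy : a' * a⁻¹ = y * y := by
    rw [ha']
    calc y * a * y⁻¹ * a⁻¹ = y * (a * y⁻¹ * a⁻¹) := by group
      _ = y * y := by rw [hyinv']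
  have hle_y : cV U (zpowers a) ⊓ cV U (zpowers a') ≤ cV U (zpowers y) := by
    intro x hx
    obtain ⟨hx1, hx2⟩ := mem_inf.mp hx
    obtain ⟨hxU, hxa⟩ := mem_cV_zpowers.mp hx1
    obtain ⟨-, hxa'⟩ := mem_cV_zpowers.mp hx2
    refine mem_cV_zpowers.mpr ⟨hxU, ?_⟩
    -- `x` commutes with `y * y`, hence with `y`
    have hxyy : Commute (y * y) x := by
      rw [← hyy]
      have h1 : Commute a' x := hxa'
      have h2 : Commute a x := hxa
      exact h1.mul_left h2.inv_left
    have hodd : Odd (orderOf y) := Nat.coprime_two_right.mp hyo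
    obtain ⟨k, hk⟩ := hodd
    have hyk : y = (y * y) ^ (k + 1) := by
      rw [← pow_two, ← pow_mul]
      have : 2 * (k + 1) = orderOf y + 1 := by omega
      rw [this, pow_succ, pow_orderOf_eq_one, one_mul]
    have : Commute y x := by
      rw [hyk]; exact hxyy.pow_left _
    exact this
  have hrel_y : (cV U (zpowers y)).relIndex U ≤ 4 := by
    have h1 : (cV U (zpowers a) ⊓ cV U (zpowers a')).relIndex U ≤ 2 * 2 :=
      (Subgroup.relIndex_inf_le).trans (Nat.mul_le_mul hrel_a hrel_a')
    have h2 : (cV U (zpowers y)).relIndex U ∣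
        (cV U (zpowers a) ⊓ cV U (zpowers a')).relIndex U :=
      Subgroup.relIndex_dvd_of_le_left U hle_y
    have hpos : 0 < (cV U (zpowers a) ⊓ cV U (zpowers a')).relIndex U := by
      have := card_mul_relIndex_le
        ((inf_le_left : cV U (zpowers a) ⊓ cV U (zpowers a') ≤ _).trans (cV_le U (zpowers a)))
      rcases Nat.eq_zero_or_pos ((cV U (zpowers a) ⊓ cV U (zpowers a')).relIndex U) with h | h
      · rw [h, mul_zero] at this
        have : 0 < Nat.card U := Nat.card_pos
        omega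
      · exact h
    have := Nat.le_of_dvd hpos h2
    omega
  -- Step 7: `W = [U, y]`
  set W := ⁅U, zpowers y⁆ with hW
  have hWU : W ≤ U := by
    rw [hW]
    exact Cfsg.Agent.Helper7.commutator_le_of_le_normalizer (zpowers_le.mpr hyU)
  have hcardW : Nat.card W = (cV U (zpowers y)).relIndex U := by
    have h1 := card_commutator_zpowers_mul U hUc y hyU
    have h2 := card_mul_relIndex_le (cV_le U (zpowers y))
    have hpos : 0 < Nat.card (cV U (zpowers y)) := Nat.card_pos
    have : Nat.card (cV U (zpowers y)) * Nat.card W =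
        Nat.card (cV U (zpowers y)) * (cV U (zpowers y)).relIndex U := by
      rw [h2, mul_comm]; exact h1
    exact Nat.eq_of_mul_eq_mul_left hpos this
  have hW1 : W ≠ ⊥ := by
    intro h
    apply hyUne
    rw [hW, Subgroup.commutator_comm, Subgroup.commutator_eq_bot_iff_le_centralizer] at h
    exact h (mem_zpowers y)
  haveI : IsMulCommutative ↥U := ⟨⟨fun x y => Subtype.ext (hUc x x.2 y y.2)⟩⟩
  have hfpf : W ⊓ centralizer ((zpowers y : Subgroup X) : Set X) = ⊥ := by
    apply Cfsg.Agent.Helper1.commutator_inf_centralizer_eq_bot (zpowers y) U (zpowers_le.mpr hyU)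
    rw [Nat.card_zpowers]
    obtain ⟨n, hn⟩ := IsPGroup.iff_card.mp (hVp.to_le hUV)
    rw [hn]
    exact Nat.Coprime.pow_right n hyo
  have hfpf' : ∀ w ∈ W, y * w * y⁻¹ = w → w = 1 := by
    intro w hw hyw
    have : w ∈ W ⊓ centralizer ((zpowers y : Subgroup X) : Set X) := by
      refine mem_inf.mpr ⟨hw, ?_⟩
      rw [centralizer_zpowers_eq, mem_centralizer_singleton_iff]
      calc w * y = (y * w * y⁻¹) * y := by rw [hyw]
        _ = y * w := by group
    rw [hfpf, mem_bot] at this
    exact this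
  have hyW : y ∈ normalizer (W : Set X) := by
    rw [hW]
    apply Cfsg.Agent.Helper7.normalizer_inf_normalizer_le_normalizer_commutator
    exact mem_inf.mpr ⟨hyU, le_normalizer (mem_zpowers y)⟩
  have haW : a ∈ normalizer (W : Set X) := by
    rw [hW]
    apply Cfsg.Agent.Helper7.normalizer_inf_normalizer_le_normalizer_commutator
    refine mem_inf.mpr ⟨haU, ?_⟩
    rw [Subgroup.mem_normalizer_iff_map_conj_eq]
    apply Subgroup.eq_of_le_of_card_ge
    · rintro _ ⟨x, hx, rfl⟩
      obtain ⟨k, rfl⟩ := mem_zpowers_iff.mp hx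
      show a * y ^ k * a⁻¹ ∈ zpowers y
      rw [← conj_zpow, hinv]
      exact (zpowers y).zpow_mem ((zpowers y).inv_mem (mem_zpowers y)) k
    · rw [Subgroup.card_map_of_injective (MulAut.conj a).injective]
  have hWp : IsPGroup 2 W := hVp.to_le (hWU.trans hUV)
  obtain ⟨n, hn⟩ := IsPGroup.iff_card.mp hWp
  have hcard4 : Nat.card W = 4 := by
    have hle4 : Nat.card W ≤ 4 := hcardW ▸ hrel_y
    have hn0 : n ≠ 0 := by
      rintro rfl
      rw [pow_zero] at hn
      exact hW1 (Subgroup.card_eq_one.mp hn)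
    have hn2 : n ≤ 2 := by
      by_contra h
      push Not at h
      have : 2 ^ 3 ≤ 2 ^ n := Nat.pow_le_pow_right (by norm_num) h
      omega
    have hn' : n = 1 ∨ n = 2 := by omega
    rcases hn' with rfl | rfl
    · exfalso
      rw [pow_one] at hn
      obtain ⟨w, hwW, hw1⟩ : ∃ w ∈ W, w ≠ 1 := by
        by_contra h
        push Not at h
        exact hW1 ((Subgroup.eq_bot_iff_forall W).mpr h)
      have hz : zpowers w = W := zpowers_eq_of_prime_card (p := 2) hn hwW hw1
      have hconj : y * w * y⁻¹ ∈ W := conj_mem_of_le_normalizer hyW hwW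
      rw [← hz] at hconj
      obtain ⟨k, hk⟩ := mem_zpowers_iff.mp hconj
      have hw2 : w ^ (2 : ℤ) = 1 := by
        have := hV.2 w (hUV (hWU hwW))
        rw [zpow_ofNat]; exact this
      rcases Int.emod_two_eq_zero_or_one k with hk2 | hk2
      · have hk' : k = 2 * (k / 2) := by omega
        have h1 : w ^ k = 1 := by rw [hk', zpow_mul, hw2, one_zpow]
        rw [h1] at hk
        apply hw1
        have : y * w * y⁻¹ = 1 := hk.symm
        calc w = y⁻¹ * (y * w * y⁻¹) * y := by group
          _ = 1 := by rw [this]; group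
      · have hk' : k = 2 * (k / 2) + 1 := by omega
        have h1 : w ^ k = w := by
          rw [hk', zpow_add, zpow_mul, hw2, one_zpow, one_mul, zpow_one]
        rw [h1] at hk
        exact hw1 (hfpf' w hwW hk.symm)
    · rw [hn]; norm_num
  exact ⟨a, haE, y, hyN, W, hWU.trans hUV, hcard4, hinv, haW, hyW, hfpf'⟩

end Cfsg.Agent.Helper14.FF2
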