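import Mathlib
import Cfsg.Agent.Lib.Helper14.FFTwo
import Cfsg.Agent.Lib.Helper9.ThompsonRepl

set_option autoImplicit false

/-! Transfer of the `p = 2` failure of factorization lemma to a normal elementary abelian
subgroup `V` of `G` acted on by `G / C_G(V)`, through the holomorph of `V`. -/

namespace Cfsg.Agent.Helper14.FF2

open Subgroup SemidirectProduct Cfsg.Agent.Helper1.BO
open scoped commutatorElement

variable {G : Type*} [Group G]

section hol

variable (V : Subgroup G) [hVn : V.Normal]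

/-- the holomorph of `V` -/
abbrev Hol : Type _ := ↥V ⋊[MonoidHom.id (MulAut ↥V)] MulAut ↥V

/-- `G` acting on `V`, inside the holomorph -/
def iota : G →* Hol V := (inr : MulAut ↥V →* Hol V).comp MulAut.conjNormal

/-- `V` inside the holomorph -/
def jay : ↥V →* Hol V := inl

theorem jay_injective : Function.Injective (jay V) := inl_injective

theorem conj_formula (g : G) (v : ↥V) :
    iota V g * jay V v * (iota V g)⁻¹ = jay V (MulAut.conjNormal g v) := by
  unfold iota jay
  rw [← map_inv, MonoidHom.comp_apply, MonoidHom.comp_apply, map_inv]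
  exact (inl_aut (φ := MonoidHom.id (MulAut ↥V)) (MulAut.conjNormal g) v).symm

theorem iota_eq_one_iff (g : G) : iota V g = 1 ↔ g ∈ centralizer (V : Set G) := by
  unfold iota
  rw [MonoidHom.comp_apply, ← map_one (inr : MulAut ↥V →* Hol V), inr_inj, mem_centralizer_iff]
  constructor
  · intro h v hv
    have h1 := congrArg (fun σ : MulAut ↥V => ((σ ⟨v, hv⟩ : ↥V) : G)) h
    simp only [MulAut.conjNormal_apply, MulAut.one_apply] at h1
    calc v * g = (g * v * g⁻¹) * g := by rw [h1]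
      _ = g * v := by group
  · intro h
    ext v
    rw [MulAut.conjNormal_apply, MulAut.one_apply, ← h v v.2]
    group

theorem ker_iota : (iota V).ker = centralizer (V : Set G) := by
  ext g
  rw [MonoidHom.mem_ker, iota_eq_one_iff]

instance [Finite G] : Finite (Hol V) := Finite.of_equiv (↥V × MulAut ↥V) equivProd.symm

end hol

/-- `|A.map f| · |A ⊓ ker f| = |A|` -/
theorem card_map_mul_card_inf_ker {G' : Type*} [Group G'] (f : G →* G') (A : Subgroup G) :
    Nat.card (A.map f) * Nat.card (A ⊓ f.ker : Subgroup G) = Nat.card A := by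
  have h1 := Subgroup.card_mul_index (f.comp A.subtype).ker
  have hr : (f.comp A.subtype).range = A.map f := by
    rw [MonoidHom.range_comp, Subgroup.range_subtype]
  rw [Subgroup.index_ker, hr] at h1
  have h2 : (f.comp A.subtype).ker = (A ⊓ f.ker).subgroupOf A := by
    ext x
    rw [MonoidHom.mem_ker, MonoidHom.comp_apply, mem_subgroupOf, mem_inf, MonoidHom.mem_ker]
    exact ⟨fun h => ⟨x.2, h⟩, fun h => h.2⟩
  have h3 : Nat.card ((A ⊓ f.ker).subgroupOf A) = Nat.card (A ⊓ f.ker : Subgroup G) :=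
    Nat.card_congr (Subgroup.subgroupOfEquivOfLe inf_le_left).toEquiv
  rw [h2, h3] at h1
  rw [mul_comm]; exact h1

variable [Finite G]

theorem ff_two_ambient (V M A H : Subgroup G) [hVn : V.Normal]
    (hV : Cfsg.IsElementaryAbelian 2 V)
    (hCV : centralizer (V : Set G) = H)
    (hMcop : ∀ m ∈ M, ∃ e : ℕ, e.Coprime 2 ∧ m ^ e ∈ H)
    (hAc : ∀ x ∈ A, ∀ y ∈ A, x * y = y * x)
    (hA2 : ∀ a ∈ A, a * a ∈ H)
    (hAM : A ≤ normalizer (M : Set G))
    (hAMf : ∀ a ∈ A, (∀ m ∈ M, a * m * a⁻¹ * m⁻¹ ∈ H) → a ∈ H)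
    (hAH : ¬ A ≤ H)
    (hoff : Nat.card V * Nat.card (A ⊓ H : Subgroup G) ≤ Nat.card A * Nat.card (cV V A)) :
    ∃ a ∈ A, ∃ y ∈ M, ∃ W : Subgroup G, W ≤ V ∧ Nat.card W = 4 ∧ a * y * a⁻¹ * y ∈ H ∧
      a ∈ normalizer (W : Set G) ∧ y ∈ normalizer (W : Set G) ∧
      ∀ w ∈ W, Commute y w → w = 1 := by
  classical
  set ι := iota V with hι
  set j := jay V with hj
  have hker : ι.ker = H := by rw [hι, ker_iota, hCV]
  have hι1 : ∀ g, ι g = 1 ↔ g ∈ H := fun g => by rw [← hker, MonoidHom.mem_ker]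
  set VX : Subgroup (Hol V) := j.range with hVX
  set NX : Subgroup (Hol V) := M.map ι with hNX
  set EX : Subgroup (Hol V) := A.map ι with hEX
  have hVc : ∀ v w : ↥V, v * w = w * v := fun v w => hV.1.is_comm.comm v w
  have hV2 : ∀ v : ↥V, v ^ 2 = 1 := fun v => Subtype.ext (by simpa using hV.2 v v.2)
  -- (1)
  have hVXe : Cfsg.IsElementaryAbelian 2 VX := by
    refine ⟨⟨⟨?_⟩⟩, ?_⟩
    · rintro ⟨_, v, rfl⟩ ⟨_, w, rfl⟩
      apply Subtype.ext
      show j v * j w = j w * j v
      rw [← map_mul, ← map_mul, hVc]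
    · rintro _ ⟨v, rfl⟩
      rw [← map_pow, hV2, map_one]
  have hVXn : VX.Normal := by
    rw [hVX, hj]
    unfold jay
    rw [range_inl_eq_ker_rightHom]
    infer_instance
  -- (2)
  have hNodd : (Nat.card NX).Coprime 2 := by
    apply Nat.Coprime.symm
    rw [Nat.Prime.coprime_iff_not_dvd Nat.prime_two]
    intro hdvd
    haveI : Fact (Nat.Prime 2) := ⟨Nat.prime_two⟩
    obtain ⟨x, hx⟩ := exists_prime_orderOf_dvd_card' 2 hdvd
    obtain ⟨m, hm, hmx⟩ := x.2
    obtain ⟨e, he, hme⟩ := hMcop m hm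
    have h1 : (x : Hol V) ^ e = 1 := by
      rw [← hmx, ← map_pow]; exact (hι1 _).mpr hme
    have h2 : orderOf (x : Hol V) = 2 := by rw [Subgroup.orderOf_coe, hx]
    have h3 : 2 ∣ e := h2 ▸ orderOf_dvd_of_pow_eq_one h1
    have := Nat.eq_one_of_dvd_coprimes he h3 (dvd_refl 2)
    omega
  -- (3)
  haveI : IsMulCommutative ↥A := ⟨⟨fun x y => Subtype.ext (hAc x x.2 y y.2)⟩⟩
  have hEXe : Cfsg.IsElementaryAbelian 2 EX := by
    refine ⟨Subgroup.map_isMulCommutative A ι, ?_⟩
    rintro _ ⟨a, ha, rfl⟩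
    rw [pow_two, ← map_mul]
    exact (hι1 _).mpr (hA2 a ha)
  -- (4), (5)
  have hNV : NX ≤ normalizer (VX : Set (Hol V)) := by
    rw [Subgroup.normalizer_eq_top_iff.mpr hVXn]; exact le_top
  have hEV : EX ≤ normalizer (VX : Set (Hol V)) := by
    rw [Subgroup.normalizer_eq_top_iff.mpr hVXn]; exact le_top
  -- (6)
  have hEN : EX ≤ normalizer (NX : Set (Hol V)) :=
    (Subgroup.map_mono hAM).trans (Subgroup.le_normalizer_map ι)
  -- (7)
  have hf : NX ⊓ centralizer (VX : Set (Hol V)) = ⊥ := by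
    rw [eq_bot_iff]
    rintro _ ⟨⟨m, hm, rfl⟩, hc⟩
    rw [mem_bot, hι1, ← hCV, ← iota_eq_one_iff]
    have hc' : ι m ∈ centralizer (VX : Set (Hol V)) := hc
    rw [mem_centralizer_iff] at hc'
    -- `ι m` acts trivially on `V`
    have hfix : ∀ v : ↥V, MulAut.conjNormal m v = v := by
      intro v
      apply jay_injective V
      rw [← conj_formula]
      have := hc' (j v) ⟨v, rfl⟩
      calc ι m * j v * (ι m)⁻¹ = (ι m * j v) * (ι m)⁻¹ := rfl
        _ = (j v * ι m) * (ι m)⁻¹ := by rw [this]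
        _ = j v := by group
    rw [iota_eq_one_iff, mem_centralizer_iff]
    intro v hv
    have := congrArg Subtype.val (hfix ⟨v, hv⟩)
    rw [MulAut.conjNormal_apply] at this
    have h' : m * v * m⁻¹ = v := this
    calc v * m = (m * v * m⁻¹) * m := by rw [h']
      _ = m * v := by group
  -- (8)
  have hEN' : EX ⊓ centralizer (NX : Set (Hol V)) = ⊥ := by
    rw [eq_bot_iff]
    rintro _ ⟨⟨a, ha, rfl⟩, hc⟩
    rw [mem_bot, hι1]
    apply hAMf a ha
    intro m hm
    have hc' : ι a ∈ centralizer (NX : Set (Hol V)) := hc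
    rw [mem_centralizer_iff] at hc'
    have := hc' (ι m) ⟨m, hm, rfl⟩
    rw [← hι1, map_mul, map_mul, map_mul, map_inv, map_inv]
    calc ι a * ι m * (ι a)⁻¹ * (ι m)⁻¹ = (ι a * ι m) * (ι a)⁻¹ * (ι m)⁻¹ := rfl
      _ = (ι m * ι a) * (ι a)⁻¹ * (ι m)⁻¹ := by rw [this]
      _ = 1 := by group
  -- (9)
  have hE1 : EX ≠ ⊥ := by
    intro h
    apply hAH
    intro a ha
    rw [← hι1]
    have : ι a ∈ EX := ⟨a, ha, rfl⟩
    rw [h, mem_bot] at this
    exact this
  -- (10)
  have hcardVX : Nat.card VX = Nat.card V := by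
    rw [hVX]
    exact Nat.card_congr (MonoidHom.ofInjective (jay_injective V)).toEquiv.symm
  have hcardEX : Nat.card EX * Nat.card (A ⊓ H : Subgroup G) = Nat.card A := by
    rw [← hker]; exact card_map_mul_card_inf_ker ι A
  have hcardcV : Nat.card (cV V A) ≤ Nat.card (cV VX EX) := by
    have hle : ((cV V A).subgroupOf V).map j ≤ cV VX EX := by
      rintro _ ⟨v, hv', rfl⟩
      have hv : (v : G) ∈ cV V A := hv'
      refine mem_inf.mpr ⟨⟨v, rfl⟩, ?_⟩
      rw [mem_centralizer_iff]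
      rintro _ ⟨a, ha, rfl⟩
      have hva : a * (v : G) * a⁻¹ = (v : G) := by
        have := (mem_centralizer_iff.mp hv.2) a ha
        calc a * (v : G) * a⁻¹ = (a * (v : G)) * a⁻¹ := rfl
          _ = ((v : G) * a) * a⁻¹ := by rw [this]
          _ = (v : G) := by group
      have h1 : MulAut.conjNormal a v = v := by
        apply Subtype.ext
        rw [MulAut.conjNormal_apply, hva]
      have h2 := conj_formula V a v
      rw [h1] at h2
      calc ι a * j v = (ι a * j v * (ι a)⁻¹) * ι a := by group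
        _ = j v * ι a := by rw [h2]
    have h1 := Subgroup.card_le_of_le hle
    rw [Subgroup.card_map_of_injective (jay_injective V)] at h1
    have h2 : Nat.card ((cV V A).subgroupOf V) = Nat.card (cV V A) :=
      Nat.card_congr (Subgroup.subgroupOfEquivOfLe (cV_le V A)).toEquiv
    omega
  have hoffX : Nat.card VX ≤ Nat.card EX * Nat.card (cV VX EX) := by
    rw [hcardVX]
    have hpos : 0 < Nat.card (A ⊓ H : Subgroup G) := Nat.card_pos
    have h1 : Nat.card V * Nat.card (A ⊓ H : Subgroup G) ≤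
        (Nat.card EX * Nat.card (cV VX EX)) * Nat.card (A ⊓ H : Subgroup G) := by
      calc Nat.card V * Nat.card (A ⊓ H : Subgroup G) ≤ Nat.card A * Nat.card (cV V A) := hoff
        _ = Nat.card EX * Nat.card (A ⊓ H : Subgroup G) * Nat.card (cV V A) := by rw [hcardEX]
        _ ≤ Nat.card EX * Nat.card (A ⊓ H : Subgroup G) * Nat.card (cV VX EX) :=
          Nat.mul_le_mul_left _ hcardcV
        _ = (Nat.card EX * Nat.card (cV VX EX)) * Nat.card (A ⊓ H : Subgroup G) := by ring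
    exact Nat.le_of_mul_le_mul_right h1 hpos
  -- apply the lemma
  obtain ⟨aX, haX, yX, hyX, WX, hWXV, hWX4, hinvX, haWX, hyWX, hfpfX⟩ :=
    ff_two VX NX EX hVXe hNodd hEXe hNV hEV hEN hf hEN' hE1 hoffX
  obtain ⟨a, ha, rfl⟩ := haX
  obtain ⟨y, hy, rfl⟩ := hyX
  set W : Subgroup G := (WX.comap j).map V.subtype with hW
  have hmemW : ∀ x : G, x ∈ W ↔ ∃ hx : x ∈ V, j ⟨x, hx⟩ ∈ WX := by
    intro x
    constructor
    · rintro ⟨v, hv, rfl⟩
      exact ⟨v.2, hv⟩
    · rintro ⟨hx, h⟩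
      exact ⟨⟨x, hx⟩, h, rfl⟩
  have hconjW : ∀ g : G, ι g ∈ normalizer (WX : Set (Hol V)) → ∀ x ∈ W, g * x * g⁻¹ ∈ W := by
    intro g hg x hx
    obtain ⟨hxV, hxW⟩ := (hmemW x).mp hx
    refine (hmemW _).mpr ⟨hVn.conj_mem x hxV g, ?_⟩
    have h1 := (mem_normalizer_iff.mp hg (j ⟨x, hxV⟩)).mp hxW
    rw [conj_formula] at h1
    have h2 : MulAut.conjNormal g (⟨x, hxV⟩ : ↥V) = ⟨g * x * g⁻¹, hVn.conj_mem x hxV g⟩ := by
      apply Subtype.ext
      rw [MulAut.conjNormal_apply]
    rwa [h2] at h1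
  refine ⟨a, ha, y, hy, W, Subgroup.map_subtype_le _, ?_, ?_, ?_, ?_, ?_⟩
  · rw [hW, Subgroup.card_map_of_injective V.subtype_injective, ← hWX4]
    have h1 : (WX.comap j).map j = WX := by
      rw [Subgroup.map_comap_eq, inf_eq_right]
      exact hWXV
    rw [← h1, Subgroup.card_map_of_injective (jay_injective V), h1]
  · rw [← hι1, map_mul, map_mul, map_mul, map_inv, hinvX]
    group
  · exact Cfsg.Agent.Helper9.mem_normalizer_of_conj_mem (hconjW a haWX)
  · exact Cfsg.Agent.Helper9.mem_normalizer_of_conj_mem (hconjW y hyWX)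
  · intro w hw hc
    obtain ⟨hwV, hwW⟩ := (hmemW w).mp hw
    have h1 : MulAut.conjNormal y (⟨w, hwV⟩ : ↥V) = ⟨w, hwV⟩ := by
      apply Subtype.ext
      rw [MulAut.conjNormal_apply]
      show y * w * y⁻¹ = w
      calc y * w * y⁻¹ = (y * w) * y⁻¹ := rfl
        _ = (w * y) * y⁻¹ := by rw [hc.eq]
        _ = w := by group
    have h2 := conj_formula V y ⟨w, hwV⟩
    rw [h1] at h2
    have h3 := hfpfX _ hwW h2
    have h4 : (⟨w, hwV⟩ : ↥V) = 1 := by
      apply jay_injective V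
      rw [map_one]; exact h3
    exact congrArg Subtype.val h4

end Cfsg.Agent.Helper14.FF2
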