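import Mathlib
import Cfsg.Prelude.Def_LocalEven
import Cfsg.Agent.Lib.Helper7.Frattini
import Cfsg.Agent.Lib.Helper9.ThompsonRepl
import Cfsg.Agent.Lib.Helper27.Timmesfeld
import Cfsg.Agent.Lib.Helper1.BestOffender

set_option autoImplicit false

/-! Recognizing a section isomorphic to `S₄`: a four-group `W` normalized by an element `y`
acting fixed point freely with `y³` centralizing `W`, and by a `2`-element `a` inverting `y`. -/

namespace Cfsg.Agent.Helper14.S4Sec

open Subgroup
open scoped commutatorElement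

section involves

universe u v

variable {G : Type u} [Group G] {S : Type v} [Group S]

theorem involves_of_surjective (K : Subgroup G) (f : ↥K →* S) (hf : Function.Surjective f) :
    Cfsg.Involves S G := by
  have e1 : (f.ker.map K.subtype).subgroupOf K = f.ker :=
    Subgroup.comap_map_eq_self_of_injective K.subtype_injective f.ker
  have hR : ((f.ker.map K.subtype).subgroupOf K).Normal := by rw [e1]; infer_instance
  refine ⟨K, f.ker.map K.subtype, hR, ⟨?_⟩⟩
  exact (QuotientGroup.quotientMulEquivOfEq e1).trans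
    (QuotientGroup.quotientKerEquivOfSurjective f hf)

theorem exists_surjective_of_involves (h : Cfsg.Involves S G) :
    ∃ (K : Subgroup G) (f : ↥K →* S), Function.Surjective f := by
  obtain ⟨K, R, hR, ⟨e⟩⟩ := h
  exact ⟨K, e.toMonoidHom.comp (QuotientGroup.mk' _),
    e.surjective.comp (QuotientGroup.mk'_surjective _)⟩

theorem involves_of_subgroup (L : Subgroup G) (h : Cfsg.Involves S ↥L) : Cfsg.Involves S G := by
  obtain ⟨K, f, hf⟩ := exists_surjective_of_involves h
  refine involves_of_surjective (K.map L.subtype)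
    (f.comp (Subgroup.equivMapOfInjective K L.subtype L.subtype_injective).symm.toMonoidHom) ?_
  exact hf.comp (MulEquiv.surjective _)

theorem involves_of_quotient (N : Subgroup G) [N.Normal] (h : Cfsg.Involves S (G ⧸ N)) :
    Cfsg.Involves S G := by
  obtain ⟨K, f, hf⟩ := exists_surjective_of_involves h
  refine involves_of_surjective (K.comap (QuotientGroup.mk' N))
    (f.comp ((QuotientGroup.mk' N).subgroupComap K)) ?_
  exact hf.comp ((QuotientGroup.mk' N).subgroupComap_surjective_of_surjective K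
    (QuotientGroup.mk'_surjective N))

end involves

variable {G : Type*} [Group G]

/-- fixed point freeness passes from `y` and an odd power to `y²`. -/
theorem commute_of_commute_sq {y w : G} {e : ℕ} (he : Odd e) (h2 : Commute (y ^ 2) w)
    (hye : Commute (y ^ e) w) : Commute y w := by
  obtain ⟨s, rfl⟩ := he
  have h1 : y = ((y ^ 2) ^ s)⁻¹ * y ^ (2 * s + 1) := by
    rw [← pow_mul, pow_succ]; group
  rw [h1]
  exact (h2.pow_left s).inv_left.mul_left hye

/-- An element acting fixed point freely on a group `W` of order four, with an odd power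
centralizing `W`, has its cube centralizing `W`. -/
theorem cube_commute [Finite G] (W : Subgroup G) (hW : Nat.card W = 4) (y : G)
    (hy : y ∈ normalizer (W : Set G)) (hfpf : ∀ w ∈ W, Commute y w → w = 1)
    (e : ℕ) (he : Odd e) (hye : ∀ w ∈ W, Commute (y ^ e) w) :
    ∀ w ∈ W, Commute (y ^ 3) w := by
  classical
  intro w hw
  by_cases hw1 : w = 1
  · rw [hw1]; exact Commute.one_right _
  set c : G → G := fun x => y * x * y⁻¹ with hc
  have hcinj : Function.Injective c := fun x x' h => by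
    simpa [hc] using h
  have hcW : ∀ x ∈ W, c x ∈ W := fun x hx => (mem_normalizer_iff.mp hy x).mp hx
  have hfix : ∀ x ∈ W, c x = x → x = 1 := by
    intro x hx h
    apply hfpf x hx
    show y * x = x * y
    calc y * x = (y * x * y⁻¹) * y := by group
      _ = x * y := by rw [show y * x * y⁻¹ = c x from rfl, h]
  have hfix2 : ∀ x ∈ W, c (c x) = x → x = 1 := by
    intro x hx h
    apply hfpf x hx
    apply commute_of_commute_sq he _ (hye x hx)
    show y ^ 2 * x = x * y ^ 2
    have h' : y * (y * x * y⁻¹) * y⁻¹ = x := h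
    calc y ^ 2 * x = (y * (y * x * y⁻¹) * y⁻¹) * y ^ 2 := by rw [pow_two]; group
      _ = x * y ^ 2 := by rw [h']
  have hc1 : ∀ x, c x = 1 → x = 1 := by
    intro x h
    have : c x = c 1 := by rw [h]; simp [hc]
    exact hcinj this
  set w₁ := c w with hw₁
  set w₂ := c w₁ with hw₂
  set w₃ := c w₂ with hw₃
  have hw₁W : w₁ ∈ W := hcW w hw
  have hw₂W : w₂ ∈ W := hcW w₁ hw₁W
  have hw₃W : w₃ ∈ W := hcW w₂ hw₂W
  have hw₁1 : w₁ ≠ 1 := fun h => hw1 (hc1 w h)
  have hw₂1 : w₂ ≠ 1 := fun h => hw₁1 (hc1 w₁ h)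
  have hw₃1 : w₃ ≠ 1 := fun h => hw₂1 (hc1 w₂ h)
  have h01 : w₁ ≠ w := fun h => hw1 (hfix w hw h)
  have h12 : w₂ ≠ w₁ := fun h => hw₁1 (hfix w₁ hw₁W h)
  have h23 : w₃ ≠ w₂ := fun h => hw₂1 (hfix w₂ hw₂W h)
  have h02 : w₂ ≠ w := fun h => hw1 (hfix2 w hw h)
  have h13 : w₃ ≠ w₁ := fun h => hw₁1 (hfix2 w₁ hw₁W h)
  -- the four elements exhaust `W`
  set S : Finset G := {1, w, w₁, w₂} with hS
  have hScard : S.card = 4 := by
    rw [hS]
    rw [Finset.card_insert_of_notMem, Finset.card_insert_of_notMem, Finset.card_insert_of_notMem,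
      Finset.card_singleton]
    · simp only [Finset.mem_singleton]; exact fun h => h12 h.symm
    · simp only [Finset.mem_insert, Finset.mem_singleton, not_or]
      exact ⟨fun h => h01 h.symm, fun h => h02 h.symm⟩
    · simp only [Finset.mem_insert, Finset.mem_singleton, not_or]
      exact ⟨fun h => hw1 h.symm, fun h => hw₁1 h.symm, fun h => hw₂1 h.symm⟩
  have hSW : (S : Set G) ⊆ (W : Set G) := by
    intro x hx
    rw [hS] at hx
    simp only [Finset.coe_insert, Finset.coe_singleton, Set.mem_insert_iff,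
      Set.mem_singleton_iff] at hx
    rcases hx with rfl | rfl | rfl | rfl
    · exact W.one_mem
    · exact hw
    · exact hw₁W
    · exact hw₂W
  have hWn : (W : Set G).ncard = 4 := by
    rw [← hW]; rfl
  have hSn : (S : Set G).ncard = 4 := by
    rw [Set.ncard_coe_finset, hScard]
  have heq : (S : Set G) = (W : Set G) :=
    Set.eq_of_subset_of_ncard_le hSW (by rw [hWn, hSn]) (Set.toFinite _)
  have hw₃S : w₃ ∈ S := by
    have : w₃ ∈ (S : Set G) := by rw [heq]; exact hw₃W
    exact this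
  rw [hS] at hw₃S
  simp only [Finset.mem_insert, Finset.mem_singleton] at hw₃S
  have hw₃w : w₃ = w := by
    rcases hw₃S with h | h | h | h
    · exact absurd h hw₃1
    · exact h
    · exact absurd h h13
    · exact absurd h h23
  show y ^ 3 * w = w * y ^ 3
  have h' : y * (y * (y * w * y⁻¹) * y⁻¹) * y⁻¹ = w := hw₃w
  calc y ^ 3 * w = (y * (y * (y * w * y⁻¹) * y⁻¹) * y⁻¹) * y ^ 3 := by
        rw [pow_succ, pow_two]; group
    _ = w * y ^ 3 := by rw [h']

/-- fixed point freeness passes to powers prime to `3`. -/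
theorem fpf_pow {W : Subgroup G} {y : G} (hfpf : ∀ w ∈ W, Commute y w → w = 1)
    (h3 : ∀ w ∈ W, Commute (y ^ 3) w) (e : ℕ) (he : Odd e) (hye : ∀ w ∈ W, Commute (y ^ e) w)
    (m : ℕ) (hm : ¬ 3 ∣ m) : ∀ w ∈ W, Commute (y ^ m) w → w = 1 := by
  intro w hw hc
  apply hfpf w hw
  have hm' : m % 3 = 1 ∨ m % 3 = 2 := by omega
  have hdecomp : y ^ m = (y ^ 3) ^ (m / 3) * y ^ (m % 3) := by
    rw [← pow_mul, ← pow_add, Nat.div_add_mod]
  have h4 : Commute (y ^ (m % 3)) w := by
    have h5 : y ^ (m % 3) = ((y ^ 3) ^ (m / 3))⁻¹ * y ^ m := by rw [hdecomp]; group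
    rw [h5]
    exact ((h3 w hw).pow_left _).inv_left.mul_left hc
  rcases hm' with h | h
  · rw [h, pow_one] at h4; exact h4
  · rw [h] at h4
    exact commute_of_commute_sq he h4 (hye w hw)


/-- Lifting an inversion modulo a normal `q'`-subgroup `H` to a genuine inversion of the
`q`-element `y`. -/
theorem lift_invert [Finite G] (q : ℕ) [Fact q.Prime] (H : Subgroup G) [hHn : H.Normal]
    (hH : (Nat.card H).Coprime q) (y a : G) (hy : IsPGroup q (zpowers y))
    (hinv : a * y * a⁻¹ * y ∈ H) : ∃ h ∈ H, (h * a) * y * (h * a)⁻¹ = y⁻¹ := by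
  set P := zpowers y with hP
  have hyP : y ∈ P := mem_zpowers y
  -- `a` normalizes `P ⊔ H`
  have haN : a ∈ normalizer ((P ⊔ H : Subgroup G) : Set G) := by
    apply Cfsg.Agent.Helper9.mem_normalizer_of_conj_mem
    intro x hx
    obtain ⟨u, hu, r, hr, rfl⟩ := Subgroup.mem_sup_of_normal_right.mp hx
    have h1 : a * (u * r) * a⁻¹ = (a * u * a⁻¹) * (a * r * a⁻¹) := by group
    rw [h1]
    refine (P ⊔ H).mul_mem ?_ (le_sup_right (a := P) (hHn.conj_mem r hr a))
    obtain ⟨k, rfl⟩ := mem_zpowers_iff.mp hu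
    rw [← conj_zpow]
    apply (P ⊔ H).zpow_mem
    have h2 : a * y * a⁻¹ = (a * y * a⁻¹ * y) * y⁻¹ := by group
    rw [h2]
    exact (P ⊔ H).mul_mem (le_sup_right (a := P) hinv) (le_sup_left (b := H) (P.inv_mem hyP))
  obtain ⟨r, hr, hra⟩ := Cfsg.Agent.Helper7.exists_mul_mem_normalizer hy hH haN
  refine ⟨r, hr, ?_⟩
  have h1 : (r * a) * y * (r * a)⁻¹ ∈ P := (mem_normalizer_iff.mp hra y).mp hyP
  have h2 : (r * a) * y * (r * a)⁻¹ * y ∈ H := by
    have : (r * a) * y * (r * a)⁻¹ * y = r * (a * y * a⁻¹ * y) * (y⁻¹ * r⁻¹ * y⁻¹⁻¹) := by group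
    rw [this]
    exact H.mul_mem (H.mul_mem hr hinv) (hHn.conj_mem _ (H.inv_mem hr) _)
  have h3 : (r * a) * y * (r * a)⁻¹ * y ∈ P ⊓ H := mem_inf.mpr ⟨P.mul_mem h1 hyP, h2⟩
  rw [Cfsg.Agent.Helper7.inf_eq_bot_of_isPGroup_of_coprime hy hH, mem_bot] at h3
  exact eq_inv_of_mul_eq_one_left h3

/-- **Recognition of a section `S₄`.** -/
theorem s4_section [Finite G] (W : Subgroup G) (hW : Nat.card W = 4) (y a : G)
    (hyW : y ∈ normalizer (W : Set G)) (haW : a ∈ normalizer (W : Set G))
    (hfpf : ∀ w ∈ W, Commute y w → w = 1) (h3 : ∀ w ∈ W, Commute (y ^ 3) w)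
    (hinv : a * y * a⁻¹ = y⁻¹) (ha2 : ∃ j : ℕ, a ^ 2 ^ j = 1) :
    Cfsg.Involves (Equiv.Perm (Fin 4)) G := by
  classical
  set Y := zpowers y with hY
  set L := Y ⊔ zpowers a with hL
  set D := W ⊔ L with hD
  set R := L ⊓ centralizer (W : Set G) with hR
  have hyY : y ∈ Y := mem_zpowers y
  have hyL : y ∈ L := le_sup_left (b := zpowers a) hyY
  have haL : a ∈ L := le_sup_right (a := Y) (mem_zpowers a)
  -- `a` normalizes `Y`
  have haY : a ∈ normalizer (Y : Set G) := by
    apply Cfsg.Agent.Helper9.mem_normalizer_of_conj_mem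
    intro x hx
    obtain ⟨k, rfl⟩ := mem_zpowers_iff.mp hx
    rw [← conj_zpow, hinv]
    exact Y.zpow_mem (Y.inv_mem hyY) k
  have hLY : L ≤ normalizer (Y : Set G) :=
    sup_le le_normalizer (zpowers_le.mpr haY)
  have hLW : L ≤ normalizer (W : Set G) :=
    sup_le (zpowers_le.mpr hyW) (zpowers_le.mpr haW)
  -- `W ⊓ Y = ⊥`
  have hWY : ∀ z ∈ W, z ∈ Y → z = 1 := by
    intro z hzW hzY
    apply hfpf z hzW
    obtain ⟨k, rfl⟩ := mem_zpowers_iff.mp hzY
    exact (Commute.refl y).zpow_right k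
  -- `W ⊓ L = ⊥`
  have hWL : ∀ x ∈ W, x ∈ L → x = 1 := by
    intro x hxW hxL
    apply hfpf x hxW
    have hc1 : y * x * y⁻¹ * x⁻¹ ∈ W :=
      W.mul_mem ((mem_normalizer_iff.mp hyW x).mp hxW) (W.inv_mem hxW)
    have hc2 : y * x * y⁻¹ * x⁻¹ ∈ Y := by
      have : y * x * y⁻¹ * x⁻¹ = y * (x * y⁻¹ * x⁻¹) := by group
      rw [this]
      exact Y.mul_mem hyY ((mem_normalizer_iff.mp (hLY hxL) y⁻¹).mp (Y.inv_mem hyY))
    have := hWY _ hc1 hc2
    show y * x = x * y
    calc y * x = (y * x * y⁻¹ * x⁻¹) * (x * y) := by group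
      _ = x * y := by rw [this, one_mul]
  have hWLbot : L ⊓ W = ⊥ := by
    rw [eq_bot_iff]
    intro x hx
    rw [mem_bot]
    exact hWL x (mem_inf.mp hx).2 (mem_inf.mp hx).1
  -- cardinalities
  have hcardD : Nat.card D = Nat.card L * 4 := by
    have := Cfsg.Agent.Helper27.card_sup_mul_card_inf L W hLW
    rw [hWLbot, Subgroup.card_bot, mul_one, hW, sup_comm] at this
    exact this
  have hLD : L ≤ D := le_sup_right
  have hWD : W ≤ D := le_sup_left
  have hRL : R ≤ L := inf_le_left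
  -- `W` is not trivial and `y`, `a` do not centralize it
  obtain ⟨w₀, hw₀W, hw₀1⟩ : ∃ w ∈ W, w ≠ 1 := by
    by_contra h
    push Not at h
    have : W = ⊥ := (Subgroup.eq_bot_iff_forall W).mpr h
    rw [this, Subgroup.card_bot] at hW
    omega
  have hyR : y ∉ R := by
    intro h
    have h1 := (mem_inf.mp h).2
    rw [mem_centralizer_iff] at h1
    exact hw₀1 (hfpf w₀ hw₀W (h1 w₀ hw₀W).symm)
  have hodd : ∃ e : ℕ, Odd e ∧ ∀ w ∈ W, Commute (y ^ e) w := ⟨3, by decide, h3⟩
  have haR : a ∉ R := by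
    intro h
    have h1 := (mem_inf.mp h).2
    rw [mem_centralizer_iff] at h1
    -- then `y²` centralizes `W`
    obtain ⟨e, he, hye⟩ := hodd
    apply hw₀1
    apply hfpf w₀ hw₀W
    apply commute_of_commute_sq he _ (hye w₀ hw₀W)
    have hcw : y * w₀ * y⁻¹ ∈ W := (mem_normalizer_iff.mp hyW w₀).mp hw₀W
    have ha_w : ∀ w ∈ W, a * w * a⁻¹ = w := by
      intro w hw
      have := h1 w hw
      calc a * w * a⁻¹ = (a * w) * a⁻¹ := rfl
        _ = (w * a) * a⁻¹ := by rw [this]
        _ = w := by group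
    have ha_w' : ∀ w ∈ W, a⁻¹ * w * a = w := by
      intro w hw
      have := h1 w hw
      calc a⁻¹ * w * a = a⁻¹ * (w * a) := by group
        _ = a⁻¹ * (a * w) := by rw [this]
        _ = w := by group
    have h5 : y⁻¹ * w₀ * y = y * w₀ * y⁻¹ := by
      calc y⁻¹ * w₀ * y = (a * y * a⁻¹) * w₀ * (a * y * a⁻¹)⁻¹ := by rw [hinv, inv_inv]
        _ = a * (y * (a⁻¹ * w₀ * a) * y⁻¹) * a⁻¹ := by group
        _ = a * (y * w₀ * y⁻¹) * a⁻¹ := by rw [ha_w' w₀ hw₀W]
        _ = y * w₀ * y⁻¹ := ha_w _ hcw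
    show y ^ 2 * w₀ = w₀ * y ^ 2
    calc y ^ 2 * w₀ = y * (y * w₀ * y⁻¹) * y := by rw [pow_two]; group
      _ = y * (y⁻¹ * w₀ * y) * y := by rw [h5]
      _ = w₀ * y ^ 2 := by rw [pow_two]; group
  -- `R` is normal in `L`, of index divisible by `6`
  have hRn : (R.subgroupOf L).Normal := by
    refine ⟨fun r hr l => ?_⟩
    rw [mem_subgroupOf] at hr ⊢
    refine mem_inf.mpr ⟨(l * r * l⁻¹).2, ?_⟩
    have hrc := (mem_inf.mp hr).2
    rw [mem_centralizer_iff] at hrc ⊢
    intro w hw
    have hw' : (l : G)⁻¹ * w * (l : G) ∈ W := by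
      have := (mem_normalizer_iff.mp (hLW (L.inv_mem l.2)) w).mp hw
      simpa using this
    have h1 := hrc _ hw'
    show w * ((l : G) * (r : G) * (l : G)⁻¹) = (l : G) * (r : G) * (l : G)⁻¹ * w
    calc w * ((l : G) * (r : G) * (l : G)⁻¹)
        = (l : G) * (((l : G)⁻¹ * w * (l : G)) * (r : G)) * (l : G)⁻¹ := by group
      _ = (l : G) * ((r : G) * ((l : G)⁻¹ * w * (l : G))) * (l : G)⁻¹ := by rw [h1]
      _ = (l : G) * (r : G) * (l : G)⁻¹ * w := by group
  have h6 : 6 ∣ R.relIndex L := by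
    have hcardQ : Nat.card (↥L ⧸ R.subgroupOf L) = R.relIndex L := rfl
    rw [← hcardQ]
    have h3' : 3 ∣ Nat.card (↥L ⧸ R.subgroupOf L) := by
      set yb : ↥L ⧸ R.subgroupOf L := QuotientGroup.mk ⟨y, hyL⟩ with hyb
      have hyb1 : yb ≠ 1 := by
        rw [hyb, Ne, QuotientGroup.eq_one_iff, mem_subgroupOf]
        exact hyR
      have hyb3 : yb ^ 3 = 1 := by
        rw [hyb, ← QuotientGroup.mk_pow, QuotientGroup.eq_one_iff, mem_subgroupOf]
        refine mem_inf.mpr ⟨L.pow_mem hyL 3, ?_⟩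
        rw [mem_centralizer_iff]
        intro w hw
        exact ((h3 w hw).eq).symm
      have ho : orderOf yb = 3 := by
        have hd := orderOf_dvd_of_pow_eq_one hyb3
        rcases (Nat.dvd_prime Nat.prime_three).mp hd with h | h
        · exact absurd (orderOf_eq_one_iff.mp h) hyb1
        · exact h
      rw [← ho]
      exact orderOf_dvd_natCard yb
    have h2' : 2 ∣ Nat.card (↥L ⧸ R.subgroupOf L) := by
      set ab : ↥L ⧸ R.subgroupOf L := QuotientGroup.mk ⟨a, haL⟩ with hab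
      have hab1 : ab ≠ 1 := by
        rw [hab, Ne, QuotientGroup.eq_one_iff, mem_subgroupOf]
        exact haR
      obtain ⟨j, hj⟩ := ha2
      have habj : ab ^ 2 ^ j = 1 := by
        rw [hab, ← QuotientGroup.mk_pow, QuotientGroup.eq_one_iff, mem_subgroupOf]
        have : ((⟨a, haL⟩ : ↥L) ^ 2 ^ j : ↥L) = 1 := by
          apply Subtype.ext
          simpa using hj
        rw [this]
        exact R.one_mem
      have hd := orderOf_dvd_of_pow_eq_one habj
      obtain ⟨i, hi, hio⟩ := (Nat.dvd_prime_pow Nat.prime_two).mp hd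
      have hi0 : i ≠ 0 := by
        rintro rfl
        rw [pow_zero] at hio
        exact hab1 (orderOf_eq_one_iff.mp hio)
      have : 2 ∣ orderOf ab := by rw [hio]; exact dvd_pow_self 2 hi0
      exact this.trans (orderOf_dvd_natCard ab)
    exact Nat.Coprime.mul_dvd_of_dvd_of_dvd (by norm_num : Nat.Coprime 2 3) h2' h3'
  have hcardL : Nat.card R * R.relIndex L = Nat.card L :=
    Cfsg.Agent.Helper1.BO.card_mul_relIndex_le hRL
  have hcardLD : Nat.card L * L.relIndex D = Nat.card D :=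
    Cfsg.Agent.Helper1.BO.card_mul_relIndex_le hLD
  have hrelLD : L.relIndex D = 4 := by
    have hpos : 0 < Nat.card L := Nat.card_pos
    rw [hcardD] at hcardLD
    exact Nat.eq_of_mul_eq_mul_left hpos hcardLD
  -- the coset action
  set LD : Subgroup ↥D := L.subgroupOf D with hLDdef
  have hcardQ : Nat.card (↥D ⧸ LD) = 4 := hrelLD
  set φ : ↥D →* Equiv.Perm (↥D ⧸ LD) := MulAction.toPermHom ↥D (↥D ⧸ LD) with hφ
  have hker : φ.ker ≤ R.subgroupOf D := by
    intro g hg
    rw [MonoidHom.mem_ker] at hg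
    have key : ∀ d : ↥D, (g * d)⁻¹ * d ∈ LD := by
      intro d
      have h1 : (φ g) (QuotientGroup.mk d : ↥D ⧸ LD) = QuotientGroup.mk d := by rw [hg]; rfl
      have h2 : (φ g) (QuotientGroup.mk d : ↥D ⧸ LD) = QuotientGroup.mk (g * d) := rfl
      rw [h2] at h1
      exact QuotientGroup.eq.mp h1
    have hgL : (g : G) ∈ L := by
      have := key 1
      rw [mul_one, mul_one, hLDdef, mem_subgroupOf] at this
      have h2 : ((g⁻¹ : ↥D) : G) = (g : G)⁻¹ := rfl
      rw [h2] at this
      simpa using L.inv_mem this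
    rw [mem_subgroupOf]
    refine mem_inf.mpr ⟨hgL, ?_⟩
    rw [mem_centralizer_iff]
    intro w hw
    have h1 := key ⟨w, hWD hw⟩
    rw [hLDdef, mem_subgroupOf] at h1
    have h1' : ((g : G) * w)⁻¹ * w ∈ L := h1
    have hx1 : ((g : G) * w)⁻¹ * w * (g : G) ∈ L := L.mul_mem h1' hgL
    have hx2 : ((g : G) * w)⁻¹ * w * (g : G) ∈ W := by
      have : ((g : G) * w)⁻¹ * w * (g : G) = w⁻¹ * ((g : G)⁻¹ * w * (g : G)⁻¹⁻¹) := by group
      rw [this]
      exact W.mul_mem (W.inv_mem hw)
        ((mem_normalizer_iff.mp (hLW (L.inv_mem hgL)) w).mp hw)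
    have hx := hWL _ hx2 hx1
    calc w * (g : G) = ((g : G) * w) * (((g : G) * w)⁻¹ * w * (g : G)) := by group
      _ = (g : G) * w := by rw [hx, mul_one]
  -- surjectivity by counting
  have hcardker : Nat.card φ.ker ≤ Nat.card R := by
    have h1 : Nat.card φ.ker ≤ Nat.card (R.subgroupOf D) :=
      Nat.le_of_dvd Nat.card_pos (Subgroup.card_dvd_of_le hker)
    have h2 : Nat.card (R.subgroupOf D) = Nat.card R :=
      Nat.card_congr (Subgroup.subgroupOfEquivOfLe (hRL.trans hLD)).toEquiv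
    omega
  have hcardPerm : Nat.card (Equiv.Perm (↥D ⧸ LD)) = 24 := by
    rw [Nat.card_perm, hcardQ]; rfl
  have hrange : Nat.card φ.range = 24 := by
    have h1 : Nat.card φ.ker * Nat.card φ.range = Nat.card D := by
      rw [← Subgroup.index_ker]; exact Subgroup.card_mul_index _
    have h2 : Nat.card φ.range ≤ 24 := by
      rw [← hcardPerm]; exact Subgroup.card_le_card_group _
    obtain ⟨c, hc⟩ := h6
    have hc0 : 0 < c := by
      rcases Nat.eq_zero_or_pos c with h | h
      · rw [h, mul_zero] at hc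
        rw [hc, mul_zero] at hcardL
        have : 0 < Nat.card L := Nat.card_pos
        omega
      · exact h
    have h3'' : 24 * Nat.card φ.ker ≤ Nat.card D := by
      rw [hcardD, ← hcardL, hc]
      have hRpos : 0 < Nat.card R := Nat.card_pos
      nlinarith
    have hkpos : 0 < Nat.card φ.ker := Nat.card_pos
    by_contra hne
    have hlt : Nat.card φ.range < 24 := lt_of_le_of_ne h2 hne
    have : Nat.card φ.ker * Nat.card φ.range < Nat.card φ.ker * 24 :=
      Nat.mul_lt_mul_of_pos_left hlt hkpos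
    omega
  have hsurj : Function.Surjective φ := by
    rw [← MonoidHom.range_eq_top]
    apply Subgroup.eq_top_of_card_eq
    rw [hrange, hcardPerm]
  have e : (↥D ⧸ LD) ≃ Fin 4 := Finite.equivFinOfCardEq hcardQ
  refine involves_of_surjective D (e.permCongrHom.toMonoidHom.comp φ) ?_
  exact e.permCongrHom.surjective.comp hsurj

end Cfsg.Agent.Helper14.S4Sec
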