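import Mathlib
import Cfsg.Agent.Lib.Helper14.S4Section
import Cfsg.Agent.Lib.Helper14.FFTwoAmbient
import Cfsg.Agent.Lib.Helper14.Kieler
import Cfsg.Agent.Lib.Helper15.PCore
import Cfsg.Agent.Lib.Helper15.SylowIn
import Cfsg.Agent.Lib.Helper1.Coprime
import Cfsg.Agent.Lib.Helper1.CoprimeAbelian
import Cfsg.Agent.Lib.Helper4.SL2Free
import Cfsg.Agent.Lib.Helper7.Coprime

set_option autoImplicit false

/-! If the symmetric group of degree three is involved in `N_G(T)/C_G(T)` for a `2`-subgroup `T`,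
then the symmetric group of degree four is involved in `G`. -/

namespace Cfsg.Agent.Helper14.S4Inv

open Subgroup Cfsg.Agent.Helper1.BO Cfsg.Agent.Helper14.FF2 Cfsg.Agent.Helper14
open scoped commutatorElement

universe u

section basics

variable {G : Type*} [Group G]

/-- membership in `Ω₁(Z(T))` for the prime two -/
theorem mem_omegaZ_two {T : Subgroup G} {x : G} :
    x ∈ omegaZ 2 T ↔ x ∈ T ∧ x ∈ centralizer (T : Set G) ∧ x ^ 2 = 1 := by
  unfold omegaZ
  exact mem_omegaOne_center_iff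

theorem omegaZ_two_ne_bot [Finite G] {T : Subgroup G} (hT : IsPGroup 2 T) (hne : T ≠ ⊥) :
    omegaZ 2 T ≠ ⊥ := by
  haveI : Fact (Nat.Prime 2) := ⟨Nat.prime_two⟩
  haveI : Nontrivial ↥T := (Subgroup.nontrivial_iff_ne_bot T).mpr hne
  haveI hc : Nontrivial ↥(Subgroup.center ↥T) := hT.center_nontrivial
  have hcp : IsPGroup 2 ↥(Subgroup.center ↥T) := hT.to_subgroup _
  obtain ⟨n, hn⟩ := IsPGroup.iff_card.mp hcp
  have hn0 : n ≠ 0 := by
    rintro rfl
    rw [pow_zero] at hn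
    have : Subsingleton ↥(Subgroup.center ↥T) := (Nat.card_eq_one_iff_unique.mp hn).1
    exact not_subsingleton _ this
  have hdvd : 2 ∣ Nat.card ↥(Subgroup.center ↥T) := by
    rw [hn]; exact dvd_pow_self 2 hn0
  obtain ⟨z, hz⟩ := exists_prime_orderOf_dvd_card' 2 hdvd
  intro hbot
  have hzmem : ((z : ↥T) : G) ∈ omegaZ 2 T := by
    rw [mem_omegaZ_two]
    refine ⟨(z : ↥T).2, ?_, ?_⟩
    · rw [mem_centralizer_iff]
      intro t ht
      have := Subgroup.mem_center_iff.mp z.2 ⟨t, ht⟩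
      exact congrArg Subtype.val this
    · have h1 : z ^ 2 = 1 := by rw [← hz]; exact pow_orderOf_eq_one z
      have h2 := congrArg (fun w : ↥(Subgroup.center ↥T) => ((w : ↥T) : G)) h1
      simpa using h2
  rw [hbot, mem_bot] at hzmem
  have hz1 : z = 1 := by
    apply Subtype.ext
    apply Subtype.ext
    simpa using hzmem
  rw [hz1, orderOf_one] at hz
  omega

theorem mem_normalizer_of_normal (H : Subgroup G) (hH : H.Normal) (x : G) :
    x ∈ normalizer (H : Set G) := by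
  rw [Subgroup.normalizer_eq_top]; exact mem_top _

theorem normalizer_le_normalizer_omegaZ (p : ℕ) (T : Subgroup G) :
    normalizer (T : Set G) ≤ normalizer (omegaZ p T : Set G) := by
  apply le_normalizer_of_map_conj_le
  intro g hg
  rw [← omegaZ_map_equiv, map_conj_eq_self_of_le_normalizer le_rfl hg]

end basics

section fours

variable {G : Type*} [Group G] [Finite G]

theorem mem_normalizer_sup_zpowers {u v g : G}
    (hu : g * u * g⁻¹ ∈ zpowers u ⊔ zpowers v) (hv : g * v * g⁻¹ ∈ zpowers u ⊔ zpowers v) :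
    g ∈ normalizer ((zpowers u ⊔ zpowers v : Subgroup G) : Set G) := by
  apply Cfsg.Agent.Helper9.mem_normalizer_of_conj_mem
  have hle : zpowers u ⊔ zpowers v ≤
      (zpowers u ⊔ zpowers v).comap (MulAut.conj g).toMonoidHom := by
    apply sup_le
    · rw [zpowers_le]
      simpa [mem_comap] using hu
    · rw [zpowers_le]
      simpa [mem_comap] using hv
  intro a ha
  have := hle ha
  simpa [mem_comap] using this

/-- **The four-group section.**  `E` is an elementary abelian `2`-group normalized by `y`, on which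
`y` acts fixed point freely with `y³` acting trivially; `b` is a `2`-element inverting `y` and
fixing the nonidentity element `u` of `E`. -/
theorem four_group_section (E : Subgroup G) (hEc : ∀ x ∈ E, ∀ z ∈ E, x * z = z * x)
    (hE2 : ∀ x ∈ E, x ^ 2 = 1) (y b u : G) (hyE : y ∈ normalizer (E : Set G))
    (hfpf : ∀ w ∈ E, Commute y w → w = 1) (h3 : ∀ w ∈ E, Commute (y ^ 3) w)
    (hinv : b * y * b⁻¹ = y⁻¹) (hb2 : ∃ j : ℕ, b ^ 2 ^ j = 1) (hu : u ∈ E) (hu1 : u ≠ 1)
    (hbu : b * u * b⁻¹ = u) : Cfsg.Involves (Equiv.Perm (Fin 4)) G := by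
  haveI : Fact (Nat.Prime 2) := ⟨Nat.prime_two⟩
  obtain ⟨v, hv⟩ : ∃ v, v = y * u * y⁻¹ := ⟨_, rfl⟩
  obtain ⟨w, hw⟩ : ∃ w, w = y * v * y⁻¹ := ⟨_, rfl⟩
  have hvE : v ∈ E := by rw [hv]; exact conj_mem_of_le_normalizer hyE hu
  have hwE : w ∈ E := by rw [hw]; exact conj_mem_of_le_normalizer hyE hvE
  have hy3 : y ^ 3 = y * y * y := by rw [pow_succ, pow_two]
  have hyw : y * w * y⁻¹ = u := by
    have h := (h3 u hu).eq
    have h1 : y * w * y⁻¹ = y ^ 3 * u * (y ^ 3)⁻¹ := by rw [hw, hv, hy3]; group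
    rw [h1, h]; group
  have huvw : u * v * w = 1 := by
    apply hfpf _ (E.mul_mem (E.mul_mem hu hvE) hwE)
    show y * (u * v * w) = u * v * w * y
    have h1 : y * (u * v * w) * y⁻¹ = v * w * u := by
      have : y * (u * v * w) * y⁻¹ = (y * u * y⁻¹) * (y * v * y⁻¹) * (y * w * y⁻¹) := by group
      rw [this, hyw, ← hv, ← hw]
    have h2 : v * w * u = u * v * w := by
      rw [hEc (v * w) (E.mul_mem hvE hwE) u hu, mul_assoc]
    have h0 : y * (u * v * w) = (y * (u * v * w) * y⁻¹) * y := by group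
    rw [h0, h1, h2]
  have hu2 : u ^ 2 = 1 := hE2 u hu
  have hv2 : v ^ 2 = 1 := hE2 v hvE
  have hweq : w = u * v := by
    have h1 : w = (u * v)⁻¹ := eq_inv_of_mul_eq_one_right huvw
    have h2 : (u * v) * (u * v) = 1 := by
      have := hE2 (u * v) (E.mul_mem hu hvE)
      rwa [pow_two] at this
    rw [h1]
    exact inv_eq_of_mul_eq_one_left h2
  have hv1 : v ≠ 1 := by
    intro h
    apply hu1
    have : u = y⁻¹ * v * y := by rw [hv]; group
    rw [this, h]; group
  have huv : u ≠ v := by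
    intro h
    apply hu1
    apply hfpf u hu
    show y * u = u * y
    have h0 : y * u = (y * u * y⁻¹) * y := by group
    rw [h0, ← hv, ← h]
  have hou : orderOf u = 2 := orderOf_eq_prime hu2 hu1
  have hov : orderOf v = 2 := orderOf_eq_prime hv2 hv1
  have huW : u ∈ zpowers u ⊔ zpowers v := le_sup_left (b := zpowers v) (mem_zpowers u)
  have hvW : v ∈ zpowers u ⊔ zpowers v := le_sup_right (a := zpowers u) (mem_zpowers v)
  have hWE : zpowers u ⊔ zpowers v ≤ E := sup_le (zpowers_le.mpr hu) (zpowers_le.mpr hvE)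
  have hnot : ¬ zpowers u ≤ zpowers v := by
    intro h
    obtain ⟨k, hk⟩ := mem_zpowers_iff.mp (h (mem_zpowers u))
    have hv2' : v ^ (2 : ℤ) = 1 := by rw [zpow_ofNat]; exact hv2
    rcases Int.emod_two_eq_zero_or_one k with hk2 | hk2
    · have hk' : k = 2 * (k / 2) := by omega
      apply hu1
      rw [← hk, hk', zpow_mul, hv2', one_zpow]
    · have hk' : k = 2 * (k / 2) + 1 := by omega
      apply huv
      rw [← hk, hk', zpow_add, zpow_mul, hv2', one_zpow, one_mul, zpow_one]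
  have hinf : zpowers u ⊓ zpowers v = ⊥ :=
    inf_eq_bot_of_prime_card (p := 2) (by rw [Nat.card_zpowers, hou]) hnot
  have hcardW : Nat.card (zpowers u ⊔ zpowers v : Subgroup G) = 4 := by
    have hnorm : zpowers u ≤ normalizer ((zpowers v : Subgroup G) : Set G) := by
      rw [zpowers_le]
      apply Cfsg.Agent.Helper9.mem_normalizer_of_conj_mem
      intro a ha
      have haE : a ∈ E := (zpowers_le.mpr hvE) ha
      have : u * a * u⁻¹ = a := by rw [hEc u hu a haE]; group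
      rw [this]; exact ha
    have := Cfsg.Agent.Helper27.card_sup_mul_card_inf (zpowers u) (zpowers v) hnorm
    rw [hinf, Subgroup.card_bot, mul_one, Nat.card_zpowers, Nat.card_zpowers, hou, hov] at this
    exact this
  have hyW : y ∈ normalizer ((zpowers u ⊔ zpowers v : Subgroup G) : Set G) := by
    apply mem_normalizer_sup_zpowers
    · rw [← hv]; exact hvW
    · rw [← hw, hweq]; exact mul_mem huW hvW
  have hbv : b * v * b⁻¹ = w := by
    have h1 : b * v * b⁻¹ = (b * y * b⁻¹) * (b * u * b⁻¹) * (b * y * b⁻¹)⁻¹ := by rw [hv]; group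
    rw [h1, hinv, hbu, inv_inv]
    -- `y⁻¹ u y = w`
    have h2 : y⁻¹ * u * y = y⁻¹ * (y * w * y⁻¹) * y := by rw [hyw]
    rw [h2]; group
  have hbW : b ∈ normalizer ((zpowers u ⊔ zpowers v : Subgroup G) : Set G) := by
    apply mem_normalizer_sup_zpowers
    · rw [hbu]; exact huW
    · rw [hbv, hweq]; exact mul_mem huW hvW
  exact S4Sec.s4_section _ hcardW y b hyW hbW (fun x hx => hfpf x (hWE hx))
    (fun x hx => h3 x (hWE hx)) hinv hb2

/-- a `2`-element normalizing a nontrivial `2`-subgroup fixes a nonidentity element of it -/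
theorem exists_fixed_of_two (E : Subgroup G) (hE : IsPGroup 2 E) (hne : E ≠ ⊥) (b : G)
    (hb : b ∈ normalizer (E : Set G)) (hb2 : ∃ j : ℕ, b ^ 2 ^ j = 1) :
    ∃ u ∈ E, u ≠ 1 ∧ b * u * b⁻¹ = u := by
  haveI : Fact (Nat.Prime 2) := ⟨Nat.prime_two⟩
  have hΓ : IsPGroup 2 ↥(zpowers b) := by
    obtain ⟨j, hj⟩ := hb2
    apply IsPGroup.of_card (n := (Nat.factorization (orderOf b)) 2)
    rw [Nat.card_zpowers]
    have hdvd : orderOf b ∣ 2 ^ j := orderOf_dvd_of_pow_eq_one hj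
    obtain ⟨m, -, hm⟩ := (Nat.dvd_prime_pow Nat.prime_two).mp hdvd
    rw [hm, Nat.Prime.factorization_pow Nat.prime_two]
    simp
  have hle : zpowers b ≤ normalizer (E : Set G) := zpowers_le.mpr hb
  have hdvd : 2 ∣ Nat.card ↥E := by
    obtain ⟨n, hn⟩ := IsPGroup.iff_card.mp hE
    have hn0 : n ≠ 0 := by
      rintro rfl
      rw [pow_zero] at hn
      exact hne (Subgroup.card_eq_one.mp hn)
    rw [hn]; exact dvd_pow_self 2 hn0
  obtain ⟨w, hw1, hw⟩ := Cfsg.Agent.Helper4.SLF.exists_fixed_ne_one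
    (E.normalizerMonoidHom.comp (Subgroup.inclusion hle)) hΓ hdvd
  refine ⟨(w : G), w.2, fun h => hw1 (Subtype.ext h), ?_⟩
  have := hw ⟨b, mem_zpowers b⟩
  have h2 := congrArg (fun z : ↥E => (z : G)) this
  simpa using h2

end fours

section induction

/-- **Lemma A** (by induction on the order of `T`). -/
theorem s4_of_cube_central : ∀ (n : ℕ) (G : Type u) [Group G] [Finite G] (T : Subgroup G),
    Nat.card T = n → IsPGroup 2 T → ∀ y b : G, y ∈ normalizer (T : Set G) →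
    b ∈ normalizer (T : Set G) → (∃ j : ℕ, b ^ 2 ^ j = 1) → (∃ k : ℕ, y ^ 3 ^ k = 1) →
    b * y * b⁻¹ = y⁻¹ → y ∉ centralizer (T : Set G) → y ^ 3 ∈ centralizer (T : Set G) →
    Cfsg.Involves (Equiv.Perm (Fin 4)) G := by
  intro n
  induction n using Nat.strong_induction_on with
  | _ n ih =>
  intro G _ _ T hn hT y b hyT hbT hb2 hy3 hinv hyC hy3C
  haveI : Fact (Nat.Prime 2) := ⟨Nat.prime_two⟩
  have hTne : T ≠ ⊥ := by
    rintro rfl
    apply hyC
    rw [mem_centralizer_iff]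
    intro h hh
    have : h = 1 := by simpa using hh
    rw [this]; simp
  have hT2ne : omegaZ 2 T ≠ ⊥ := omegaZ_two_ne_bot hT hTne
  have hT2T : omegaZ 2 T ≤ T := fun x hx => (mem_omegaZ_two.mp hx).1
  have hT2c : ∀ x ∈ omegaZ 2 T, ∀ z ∈ T, x * z = z * x := by
    intro x hx z hz
    exact ((mem_centralizer_iff.mp (mem_omegaZ_two.mp hx).2.1) z hz).symm
  have hT2sq : ∀ x ∈ omegaZ 2 T, x ^ 2 = 1 := fun x hx => (mem_omegaZ_two.mp hx).2.2
  have hT2p : IsPGroup 2 ↥(omegaZ 2 T) := hT.to_le hT2T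
  have hyT2 : y ∈ normalizer (omegaZ 2 T : Set G) := normalizer_le_normalizer_omegaZ 2 T hyT
  have hbT2 : b ∈ normalizer (omegaZ 2 T : Set G) := normalizer_le_normalizer_omegaZ 2 T hbT
  have hycop : (orderOf y).Coprime 2 := by
    obtain ⟨k, hk⟩ := hy3
    have hdvd : orderOf y ∣ 3 ^ k := orderOf_dvd_of_pow_eq_one hk
    exact Nat.Coprime.coprime_dvd_left hdvd (Nat.Coprime.pow_left k (by norm_num))
  by_cases hcase : y ∈ centralizer (omegaZ 2 T : Set G)
  · -- pass to the quotient of the normalizer of `T` by `Ω₁(Z(T))`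
    have hDle : normalizer (T : Set G) ≤ normalizer (omegaZ 2 T : Set G) :=
      normalizer_le_normalizer_omegaZ 2 T
    haveI hNn : ((omegaZ 2 T).subgroupOf (normalizer (T : Set G))).Normal :=
      Subgroup.normal_subgroupOf_of_le_normalizer hDle
    have hTD : T ≤ normalizer (T : Set G) := le_normalizer
    have hT2D : omegaZ 2 T ≤ normalizer (T : Set G) := hT2T.trans hTD
    have hcard := card_map_mul_card_inf_ker
      (QuotientGroup.mk' ((omegaZ 2 T).subgroupOf (normalizer (T : Set G))))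
      (T.subgroupOf (normalizer (T : Set G)))
    rw [QuotientGroup.ker_mk'] at hcard
    have hinf : T.subgroupOf (normalizer (T : Set G)) ⊓
        (omegaZ 2 T).subgroupOf (normalizer (T : Set G)) =
        (omegaZ 2 T).subgroupOf (normalizer (T : Set G)) := by
      apply inf_of_le_right
      intro x hx
      exact hT2T hx
    rw [hinf, Nat.card_congr (Subgroup.subgroupOfEquivOfLe hT2D).toEquiv,
      Nat.card_congr (Subgroup.subgroupOfEquivOfLe hTD).toEquiv] at hcard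
    have hT2card : 2 ≤ Nat.card ↥(omegaZ 2 T) := by
      by_contra hlt
      push Not at hlt
      have hpos : 0 < Nat.card ↥(omegaZ 2 T) := Nat.card_pos
      have h1 : Nat.card ↥(omegaZ 2 T) = 1 := by omega
      exact hT2ne (Subgroup.card_eq_one.mp h1)
    have hTpos : 0 < Nat.card ↥T := Nat.card_pos
    have hlt : Nat.card ↥((T.subgroupOf (normalizer (T : Set G))).map
        (QuotientGroup.mk' ((omegaZ 2 T).subgroupOf (normalizer (T : Set G))))) < n := by
      rw [← hn]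
      by_contra hge
      push Not at hge
      have : Nat.card ↥T * 2 ≤ Nat.card ↥T := by
        calc Nat.card ↥T * 2 ≤ Nat.card ↥((T.subgroupOf (normalizer (T : Set G))).map
            (QuotientGroup.mk' ((omegaZ 2 T).subgroupOf (normalizer (T : Set G))))) *
              Nat.card ↥(omegaZ 2 T) := Nat.mul_le_mul hge hT2card
          _ = Nat.card ↥T := hcard
      omega
    have hTbar : IsPGroup 2 ↥((T.subgroupOf (normalizer (T : Set G))).map
        (QuotientGroup.mk' ((omegaZ 2 T).subgroupOf (normalizer (T : Set G))))) :=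
      (hT.comap_subtype).map _
    have hnormal : (T.subgroupOf (normalizer (T : Set G))).Normal := Subgroup.normal_in_normalizer
    have hmapnormal : ((T.subgroupOf (normalizer (T : Set G))).map
        (QuotientGroup.mk' ((omegaZ 2 T).subgroupOf (normalizer (T : Set G))))).Normal :=
      hnormal.map _ (QuotientGroup.mk'_surjective _)
    have hres := ih _ hlt (↥(normalizer (T : Set G)) ⧸
        (omegaZ 2 T).subgroupOf (normalizer (T : Set G)))
      ((T.subgroupOf (normalizer (T : Set G))).map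
        (QuotientGroup.mk' ((omegaZ 2 T).subgroupOf (normalizer (T : Set G))))) rfl hTbar
      (QuotientGroup.mk' _ ⟨y, hyT⟩) (QuotientGroup.mk' _ ⟨b, hbT⟩)
      (mem_normalizer_of_normal _ hmapnormal _)
      (mem_normalizer_of_normal _ hmapnormal _)
      (by
        obtain ⟨j, hj⟩ := hb2
        refine ⟨j, ?_⟩
        rw [← map_pow]
        have : (⟨b, hbT⟩ : ↥(normalizer (T : Set G))) ^ 2 ^ j = 1 := Subtype.ext (by simpa using hj)
        rw [this, map_one])
      (by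
        obtain ⟨k, hk⟩ := hy3
        refine ⟨k, ?_⟩
        rw [← map_pow]
        have : (⟨y, hyT⟩ : ↥(normalizer (T : Set G))) ^ 3 ^ k = 1 := Subtype.ext (by simpa using hk)
        rw [this, map_one])
      (by
        rw [← map_inv, ← map_mul, ← map_inv, ← map_mul]
        congr 1
        exact Subtype.ext (by simpa using hinv))
      ?_ ?_
    · exact S4Sec.involves_of_subgroup _ (S4Sec.involves_of_quotient _ hres)
    · -- the image of `y` still acts nontrivially
      intro hcen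
      apply hyC
      rw [mem_centralizer_iff]
      have key := Cfsg.Agent.Helper15.commute_of_coprime_of_commutator_commute hT (c := y) hycop ?_
      · intro x hx
        exact key x hx
      intro x hx
      have h1 := (mem_centralizer_iff.mp hcen)
        (QuotientGroup.mk' ((omegaZ 2 T).subgroupOf (normalizer (T : Set G))) ⟨x, hTD hx⟩)
        (Subgroup.mem_map_of_mem _ (by exact hx))
      have h2 : (QuotientGroup.mk' ((omegaZ 2 T).subgroupOf (normalizer (T : Set G))))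
          ((⟨x, hTD hx⟩ : ↥(normalizer (T : Set G))) * ⟨y, hyT⟩ * (⟨x, hTD hx⟩)⁻¹ * (⟨y, hyT⟩)⁻¹)
            = 1 := by
        rw [map_mul, map_mul, map_mul, map_inv, map_inv, h1]
        group
      rw [QuotientGroup.mk'_apply, QuotientGroup.eq_one_iff] at h2
      have h3 : x * y * x⁻¹ * y⁻¹ ∈ omegaZ 2 T := h2
      refine ⟨hT2T h3, ?_⟩
      exact ((mem_centralizer_iff.mp hcase) _ h3)
    · -- the cube of the image of `y` acts trivially
      rw [mem_centralizer_iff]
      rintro _ ⟨t, ht, rfl⟩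
      rw [← map_pow, ← map_mul, ← map_mul]
      congr 1
      apply Subtype.ext
      have := (mem_centralizer_iff.mp hy3C) (t : G) ht
      simpa using this
  · -- the four-group lives in `⁅Ω₁(Z(T)), y⁆`
    haveI : IsMulCommutative ↥(omegaZ 2 T) :=
      ⟨⟨fun a c => Subtype.ext (hT2c a a.2 c (hT2T c.2))⟩⟩
    have hAV : zpowers y ≤ normalizer (omegaZ 2 T : Set G) := zpowers_le.mpr hyT2
    have hcop : (Nat.card ↥(zpowers y)).Coprime (Nat.card ↥(omegaZ 2 T)) := by
      obtain ⟨m, hm⟩ := IsPGroup.iff_card.mp hT2p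
      rw [Nat.card_zpowers, hm]
      exact Nat.Coprime.pow_right m hycop
    have hbot := Cfsg.Agent.Helper1.commutator_inf_centralizer_eq_bot (zpowers y) (omegaZ 2 T)
      hAV hcop
    have hW0le : ⁅omegaZ 2 T, zpowers y⁆ ≤ omegaZ 2 T :=
      Cfsg.Agent.Helper7.commutator_le_of_le_normalizer hAV
    have hW0ne : ⁅omegaZ 2 T, zpowers y⁆ ≠ ⊥ := by
      intro h
      apply hcase
      rw [mem_centralizer_iff]
      intro t ht
      have h1 : ⁅t, y⁆ ∈ ⁅omegaZ 2 T, zpowers y⁆ := commutator_mem_commutator ht (mem_zpowers y)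
      rw [h, mem_bot, commutatorElement_eq_one_iff_mul_comm] at h1
      exact h1
    have hnorm : ∀ g : G, g ∈ normalizer (omegaZ 2 T : Set G) →
        g ∈ normalizer ((zpowers y : Subgroup G) : Set G) →
        g ∈ normalizer ((⁅omegaZ 2 T, zpowers y⁆ : Subgroup G) : Set G) := fun g h1 h2 =>
      Cfsg.Agent.Helper7.normalizer_inf_normalizer_le_normalizer_commutator _ _
        (mem_inf.mpr ⟨h1, h2⟩)
    have hbY : b ∈ normalizer ((zpowers y : Subgroup G) : Set G) := by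
      apply Cfsg.Agent.Helper9.mem_normalizer_of_conj_mem
      intro x hx
      obtain ⟨k, rfl⟩ := mem_zpowers_iff.mp hx
      rw [← conj_zpow, hinv]
      exact (zpowers y).zpow_mem ((zpowers y).inv_mem (mem_zpowers y)) k
    have hyW0 := hnorm y hyT2 (le_normalizer (mem_zpowers y))
    have hbW0 := hnorm b hbT2 hbY
    obtain ⟨u, huW0, hu1, hbu⟩ := exists_fixed_of_two _ (hT2p.to_le hW0le) hW0ne b hbW0 hb2
    refine four_group_section ⁅omegaZ 2 T, zpowers y⁆ ?_ ?_ y b u hyW0 ?_ ?_ hinv hb2 huW0 hu1 hbu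
    · intro x hx z hz
      exact hT2c x (hW0le hx) z (hT2T (hW0le hz))
    · intro x hx
      exact hT2sq x (hW0le hx)
    · intro w hw hc
      have hwc : w ∈ centralizer ((zpowers y : Subgroup G) : Set G) := by
        rw [mem_centralizer_iff]
        intro h hh
        obtain ⟨k, rfl⟩ := mem_zpowers_iff.mp hh
        exact ((hc.zpow_left k).eq)
      have : w ∈ ⁅omegaZ 2 T, zpowers y⁆ ⊓ centralizer ((zpowers y : Subgroup G) : Set G) :=
        mem_inf.mpr ⟨hw, hwc⟩
      rw [hbot, mem_bot] at this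
      exact this
    · intro w hw
      exact ((mem_centralizer_iff.mp hy3C) w (hT2T (hW0le hw))).symm

/-- **Lemma B**: the hypothesis on the cube is not needed. -/
theorem s4_of_invert {G : Type u} [Group G] [Finite G] (T : Subgroup G) (hT : IsPGroup 2 T)
    (y b : G) (hyT : y ∈ normalizer (T : Set G)) (hbT : b ∈ normalizer (T : Set G))
    (hb2 : ∃ j : ℕ, b ^ 2 ^ j = 1) (hy3 : ∃ k : ℕ, y ^ 3 ^ k = 1) (hinv : b * y * b⁻¹ = y⁻¹)
    (hyC : y ∉ centralizer (T : Set G)) : Cfsg.Involves (Equiv.Perm (Fin 4)) G := by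
  classical
  obtain ⟨k, hk⟩ := hy3
  have hex : ∃ i : ℕ, y ^ 3 ^ i ∈ centralizer (T : Set G) := ⟨k, by rw [hk]; exact one_mem _⟩
  have hmin : ∀ {m : ℕ}, m < Nat.find hex → ¬ y ^ 3 ^ m ∈ centralizer (T : Set G) :=
    fun {m} hm => Nat.find_min hex hm
  have hspec := Nat.find_spec hex
  have hi0 : Nat.find hex ≠ 0 := by
    intro h0
    rw [h0, pow_zero, pow_one] at hspec
    exact hyC hspec
  obtain ⟨i, hi⟩ := Nat.exists_eq_succ_of_ne_zero hi0
  have hnot : y ^ 3 ^ i ∉ centralizer (T : Set G) := hmin (by rw [hi]; exact Nat.lt_succ_self i)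
  have hcube : (y ^ 3 ^ i) ^ 3 ∈ centralizer (T : Set G) := by
    rw [← pow_mul, ← pow_succ, ← Nat.succ_eq_add_one, ← hi]
    exact hspec
  refine s4_of_cube_central _ G T rfl hT (y ^ 3 ^ i) b ((normalizer (T : Set G)).pow_mem hyT _) hbT
    hb2 ⟨k, ?_⟩ ?_ hnot hcube
  · rw [← pow_mul, mul_comm, pow_mul, hk, one_pow]
  · rw [← conj_pow, hinv, inv_pow]

end induction

section lift

theorem conj_pow_odd {Y : Type*} [Group Y] {n y : Y} (h : n * y * n⁻¹ = y⁻¹) {s : ℕ}
    (hs : Odd s) : n ^ s * y * (n ^ s)⁻¹ = y⁻¹ := by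
  have h1 : n ^ 2 * y * (n ^ 2)⁻¹ = y := by
    have : n ^ 2 * y * (n ^ 2)⁻¹ = n * (n * y * n⁻¹) * n⁻¹ := by rw [pow_two]; group
    rw [this, h]
    have : n * y⁻¹ * n⁻¹ = (n * y * n⁻¹)⁻¹ := by group
    rw [this, h, inv_inv]
  have h2 : ∀ i : ℕ, n ^ (2 * i) * y * (n ^ (2 * i))⁻¹ = y := by
    intro i
    induction i with
    | zero => simp
    | succ i ih =>
      have e : n ^ (2 * (i + 1)) = n ^ (2 * i) * n ^ 2 := by rw [mul_add, mul_one, pow_add]
      rw [e, mul_inv_rev]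
      have : n ^ (2 * i) * n ^ 2 * y * ((n ^ 2)⁻¹ * (n ^ (2 * i))⁻¹) =
          n ^ (2 * i) * (n ^ 2 * y * (n ^ 2)⁻¹) * (n ^ (2 * i))⁻¹ := by group
      rw [this, h1, ih]
  obtain ⟨i, rfl⟩ := hs
  rw [pow_succ, mul_inv_rev]
  have : n ^ (2 * i) * n * y * (n⁻¹ * (n ^ (2 * i))⁻¹) =
      n ^ (2 * i) * (n * y * n⁻¹) * (n ^ (2 * i))⁻¹ := by group
  rw [this, h]
  have : n ^ (2 * i) * y⁻¹ * (n ^ (2 * i))⁻¹ = (n ^ (2 * i) * y * (n ^ (2 * i))⁻¹)⁻¹ := by group
  rw [this, h2]

theorem conj_pow_even {Y : Type*} [Group Y] {n y : Y} (h : n * y * n⁻¹ = y⁻¹) (i : ℕ) :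
    n ^ (2 * i) * y * (n ^ (2 * i))⁻¹ = y := by
  have h1 : n ^ 2 * y * (n ^ 2)⁻¹ = y := by
    have : n ^ 2 * y * (n ^ 2)⁻¹ = n * (n * y * n⁻¹) * n⁻¹ := by rw [pow_two]; group
    rw [this, h]
    have : n * y⁻¹ * n⁻¹ = (n * y * n⁻¹)⁻¹ := by group
    rw [this, h, inv_inv]
  induction i with
  | zero => simp
  | succ i ih =>
    have e : n ^ (2 * (i + 1)) = n ^ (2 * i) * n ^ 2 := by rw [mul_add, mul_one, pow_add]
    rw [e, mul_inv_rev]
    have : n ^ (2 * i) * n ^ 2 * y * ((n ^ 2)⁻¹ * (n ^ (2 * i))⁻¹) =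
        n ^ (2 * i) * (n ^ 2 * y * (n ^ 2)⁻¹) * (n ^ (2 * i))⁻¹ := by group
    rw [this, h1, ih]

/-- splitting off the `p`-part of an element -/
theorem exists_pow_prime_part {Y : Type*} [Group Y] [Finite Y] (p : ℕ) (hp : p.Prime) (x : Y) :
    ∃ e m : ℕ, ¬ p ∣ m ∧ (x ^ m) ^ p ^ e = 1 := by
  obtain ⟨e, m, hm, he⟩ := Nat.exists_eq_pow_mul_and_not_dvd (orderOf_pos x).ne' p hp.ne_one
  refine ⟨e, m, hm, ?_⟩
  rw [← pow_mul, mul_comm, ← he, pow_orderOf_eq_one]

theorem eq_one_of_pow_two_of_pow_three {Y : Type*} [Group Y] {z : Y} (h2 : z ^ 2 = 1) {e : ℕ}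
    (h3 : z ^ 3 ^ e = 1) : z = 1 := by
  have hd1 : orderOf z ∣ 2 := orderOf_dvd_of_pow_eq_one h2
  have hd2 : orderOf z ∣ 3 ^ e := orderOf_dvd_of_pow_eq_one h3
  have hcop : Nat.Coprime 2 (3 ^ e) := Nat.Coprime.pow_right e (by norm_num)
  have : orderOf z ∣ 1 := by
    rw [← Nat.Coprime.gcd_eq_one hcop]
    exact Nat.dvd_gcd hd1 hd2
  exact orderOf_eq_one_iff.mp (Nat.dvd_one.mp this)

/-- **Lemma E**: lifting an inverted `3`-element through a normal subgroup. -/
theorem exists_invert_lift {X : Type*} [Group X] [Finite X] (M : Subgroup X) [hMn : M.Normal]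
    (a0 y0 : X) (h2 : ∃ j : ℕ, a0 ^ 2 ^ j ∈ M) (h3 : ∃ k : ℕ, y0 ^ 3 ^ k ∈ M) (hy0 : y0 ∉ M)
    (hinv : a0 * y0 * a0⁻¹ * y0 ∈ M) :
    ∃ a y : X, (∃ j : ℕ, a ^ 2 ^ j = 1) ∧ (∃ k : ℕ, y ^ 3 ^ k = 1) ∧ a * y * a⁻¹ = y⁻¹ ∧
      y ∉ M := by
  classical
  haveI : Fact (Nat.Prime 3) := ⟨Nat.prime_three⟩
  obtain ⟨π, hπ⟩ : ∃ π : X →* X ⧸ M, π = QuotientGroup.mk' M := ⟨_, rfl⟩
  have hker : ∀ x : X, π x = 1 ↔ x ∈ M := fun x => by rw [hπ]; exact QuotientGroup.eq_one_iff x
  obtain ⟨j, hj⟩ := h2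
  obtain ⟨k, hk⟩ := h3
  have hA2 : (π a0) ^ 2 ^ j = 1 := by rw [← map_pow, hker]; exact hj
  have hY3 : (π y0) ^ 3 ^ k = 1 := by rw [← map_pow, hker]; exact hk
  have hY1 : π y0 ≠ 1 := fun h => hy0 ((hker _).mp h)
  have hInv : π a0 * π y0 * (π a0)⁻¹ = (π y0)⁻¹ := by
    rw [eq_inv_iff_mul_eq_one, ← map_inv, ← map_mul, ← map_mul, ← map_mul, hker]; exact hinv
  -- the `3`-part of `y0`
  obtain ⟨e, t, ht, hy1⟩ := exists_pow_prime_part 3 Nat.prime_three y0
  obtain ⟨y1, hy1eq⟩ : ∃ y1, y1 = y0 ^ t := ⟨_, rfl⟩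
  rw [← hy1eq] at hy1
  have hY1e : (π y1) ^ 3 ^ e = 1 := by rw [← map_pow, hy1, map_one]
  have hy1M : π y1 ≠ 1 := by
    intro h
    rw [hy1eq, map_pow] at h
    have hd1 : orderOf (π y0) ∣ t := orderOf_dvd_of_pow_eq_one h
    have hd2 : orderOf (π y0) ∣ 3 ^ k := orderOf_dvd_of_pow_eq_one hY3
    have hcop : Nat.Coprime t (3 ^ k) :=
      Nat.Coprime.pow_right k ((Nat.Prime.coprime_iff_not_dvd Nat.prime_three).mpr ht).symm
    have : orderOf (π y0) ∣ 1 := by
      rw [← Nat.Coprime.gcd_eq_one hcop]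
      exact Nat.dvd_gcd hd1 hd2
    exact hY1 (orderOf_eq_one_iff.mp (Nat.dvd_one.mp this))
  -- the subgroup `N = ⟨y0⟩ M`
  have ha0N : a0 ∈ normalizer ((zpowers y0 ⊔ M : Subgroup X) : Set X) := by
    apply Cfsg.Agent.Helper9.mem_normalizer_of_conj_mem
    have hle : zpowers y0 ⊔ M ≤ (zpowers y0 ⊔ M).comap (MulAut.conj a0).toMonoidHom := by
      apply sup_le
      · rw [zpowers_le, mem_comap]
        have : (MulAut.conj a0).toMonoidHom y0 = (a0 * y0 * a0⁻¹ * y0) * y0⁻¹ := by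
          simp [MulAut.conj_apply]
        rw [this]
        exact mul_mem (le_sup_right (a := zpowers y0) hinv)
          (le_sup_left (b := M) (inv_mem (mem_zpowers y0)))
      · intro m hm
        rw [mem_comap]
        apply le_sup_right (a := zpowers y0)
        have : (MulAut.conj a0).toMonoidHom m = a0 * m * a0⁻¹ := by simp [MulAut.conj_apply]
        rw [this]
        exact hMn.conj_mem m hm a0
    intro x hx
    have := hle hx
    simpa [mem_comap, MulAut.conj_apply] using this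
  have hQ : IsPGroup 3 ↥(zpowers y1) := by
    intro g
    refine ⟨e, ?_⟩
    obtain ⟨i, hi⟩ := mem_zpowers_iff.mp g.2
    apply Subtype.ext
    simp only [Subgroup.coe_pow, Subgroup.coe_one]
    rw [← hi, ← zpow_natCast, ← zpow_mul, mul_comm, zpow_mul, zpow_natCast, hy1, one_zpow]
  have hQN : zpowers y1 ≤ zpowers y0 ⊔ M :=
    (zpowers_le.mpr (by rw [hy1eq]; exact pow_mem (mem_zpowers y0) t)).trans le_sup_left
  obtain ⟨P, hQP, hP⟩ := Cfsg.Agent.Helper15.exists_isSylowIn_ge hQ hQN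
  have h₂ := hP.map_conj_of_mem_normalizer ha0N
  obtain ⟨κ, hκ, hκP⟩ := h₂.exists_conj hP
  rw [Cfsg.Agent.Helper15.map_conj_map_conj] at hκP
  have hnP : κ * a0 ∈ normalizer (P : Set X) := Cfsg.Agent.Helper15.mem_normalizer_of_map_conj_eq hκP
  obtain ⟨u, hu, r, hr, hur⟩ := Subgroup.mem_sup_of_normal_right.mp hκ
  obtain ⟨i, hi⟩ := mem_zpowers_iff.mp hu
  have hπκ : π κ = (π y0) ^ i := by
    rw [← hur, map_mul, (hker r).mpr hr, mul_one, ← hi, map_zpow]
  -- the image of `n = κ a0` inverts the image of `y0`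
  have hcK : Commute ((π y0) ^ i) (π y0) := (Commute.refl (π y0)).zpow_left i
  have hnInv : π (κ * a0) * π y0 * (π (κ * a0))⁻¹ = (π y0)⁻¹ := by
    rw [map_mul, hπκ]
    have : (π y0) ^ i * π a0 * π y0 * ((π y0) ^ i * π a0)⁻¹ =
        (π y0) ^ i * (π a0 * π y0 * (π a0)⁻¹) * ((π y0) ^ i)⁻¹ := by group
    rw [this, hInv]
    have h1 : (π y0) ^ i * (π y0)⁻¹ = (π y0)⁻¹ * (π y0) ^ i := (hcK.inv_right).eq
    rw [h1, mul_assoc, mul_inv_cancel, mul_one]
  -- the `2`-part of `n`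
  obtain ⟨e2, s, hs, ha⟩ := exists_pow_prime_part 2 Nat.prime_two (κ * a0)
  have hsodd : Odd s := by
    rw [← Nat.not_even_iff_odd, even_iff_two_dvd]; exact hs
  obtain ⟨a, haeq⟩ : ∃ a, a = (κ * a0) ^ s := ⟨_, rfl⟩
  rw [← haeq] at ha
  have haP : a ∈ normalizer (P : Set X) := by rw [haeq]; exact pow_mem hnP s
  have haInv0 : π a * π y0 * (π a)⁻¹ = (π y0)⁻¹ := by
    rw [haeq, map_pow]; exact conj_pow_odd hnInv hsodd
  have haInv : π a * π y1 * (π a)⁻¹ = (π y1)⁻¹ := by
    rw [hy1eq, map_pow, ← conj_pow, haInv0, inv_pow]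
  have hsq : (π a) ^ 2 * π y1 * ((π a) ^ 2)⁻¹ = π y1 := by
    have := conj_pow_even haInv 1
    rwa [mul_one] at this
  have hcomm2 : Commute ((π a) ^ 2) (π y1) := by
    show (π a) ^ 2 * π y1 = π y1 * (π a) ^ 2
    calc (π a) ^ 2 * π y1 = ((π a) ^ 2 * π y1 * ((π a) ^ 2)⁻¹) * (π a) ^ 2 := by group
      _ = π y1 * (π a) ^ 2 := by rw [hsq]
  have hy1P : y1 ∈ P := hQP (mem_zpowers _)
  have hPp : IsPGroup 3 ↥P := hP.isPGroup
  -- the coprime action of `⟨a²⟩` on `P ⊓ M`
  have hnormD : ∀ g : X, g ∈ normalizer (P : Set X) →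
      g ∈ normalizer ((P ⊓ M : Subgroup X) : Set X) := by
    intro g hg
    apply Cfsg.Agent.Helper9.mem_normalizer_of_conj_mem
    intro x hx
    exact mem_inf.mpr ⟨(mem_normalizer_iff.mp hg x).mp (mem_inf.mp hx).1,
      hMn.conj_mem x (mem_inf.mp hx).2 g⟩
  have hAD : zpowers (a ^ 2) ≤ normalizer ((P ⊓ M : Subgroup X) : Set X) :=
    zpowers_le.mpr (hnormD _ (pow_mem haP 2))
  have hcop : (Nat.card ↥(zpowers (a ^ 2))).Coprime (Nat.card ↥(P ⊓ M : Subgroup X)) := by
    obtain ⟨m, hm⟩ := IsPGroup.iff_card.mp (hPp.to_le (inf_le_left : P ⊓ M ≤ P))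
    rw [hm, Nat.card_zpowers]
    have hd : orderOf (a ^ 2) ∣ 2 ^ e2 := by
      apply orderOf_dvd_of_pow_eq_one
      rw [← pow_mul, mul_comm, pow_mul, ha, one_pow]
    exact Nat.Coprime.coprime_dvd_left hd
      (Nat.Coprime.pow_left e2 (Nat.Coprime.pow_right m (by norm_num)))
  have hsolv : Group.IsSolvable ↥(zpowers (a ^ 2)) ∨ Group.IsSolvable ↥(P ⊓ M : Subgroup X) := by
    left
    apply isSolvable_of_comm
    intro x z
    obtain ⟨i1, hi1⟩ := mem_zpowers_iff.mp x.2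
    obtain ⟨i2, hi2⟩ := mem_zpowers_iff.mp z.2
    apply Subtype.ext
    simp only [Subgroup.coe_mul]
    rw [← hi1, ← hi2]
    exact ((Commute.refl (a ^ 2)).zpow_zpow i1 i2).eq
  have hx : ∀ α ∈ zpowers (a ^ 2), y1⁻¹ * α * y1 * α⁻¹ ∈ P ⊓ M := by
    intro α hα
    have hαP : α ∈ normalizer (P : Set X) := (zpowers_le.mpr (pow_mem haP 2)) hα
    refine mem_inf.mpr ⟨?_, ?_⟩
    · have : y1⁻¹ * α * y1 * α⁻¹ = y1⁻¹ * (α * y1 * α⁻¹) := by group
      rw [this]
      exact mul_mem (inv_mem hy1P) ((mem_normalizer_iff.mp hαP _).mp hy1P)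
    · rw [← hker]
      obtain ⟨l, rfl⟩ := mem_zpowers_iff.mp hα
      have hc : Commute (((π a) ^ 2) ^ l) (π y1) := hcomm2.zpow_left l
      rw [map_mul, map_mul, map_mul, map_inv, map_inv, map_zpow, map_pow]
      have : (π y1)⁻¹ * ((π a) ^ 2) ^ l * π y1 * (((π a) ^ 2) ^ l)⁻¹ =
          (π y1)⁻¹ * (((π a) ^ 2) ^ l * π y1) * (((π a) ^ 2) ^ l)⁻¹ := by group
      rw [this, hc.eq]; group
  obtain ⟨c, hcC, hcD⟩ := Cfsg.Agent.Helper1.exists_centralizer_mem_coset (P ⊓ M) (zpowers (a ^ 2))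
    hAD hcop hsolv y1 hx
  have hcP : c ∈ P := by
    have : c = y1 * (y1⁻¹ * c) := by group
    rw [this]
    exact mul_mem hy1P (mem_inf.mp hcD).1
  have hπc : π c = π y1 := by
    have h1 := (hker _).mpr (mem_inf.mp hcD).2
    rw [map_mul, map_inv] at h1
    exact (inv_mul_eq_one.mp h1).symm
  have hca : a ^ 2 * c = c * a ^ 2 := (mem_centralizer_iff.mp hcC) _ (mem_zpowers _)
  refine ⟨a, c⁻¹ * (a * c * a⁻¹), ⟨e2, ha⟩, ?_, ?_, ?_⟩
  · have hyP : c⁻¹ * (a * c * a⁻¹) ∈ P :=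
      mul_mem (inv_mem hcP) ((mem_normalizer_iff.mp haP _).mp hcP)
    obtain ⟨k', hk'⟩ := hPp ⟨_, hyP⟩
    refine ⟨k', ?_⟩
    have := congrArg (fun z : ↥P => (z : X)) hk'
    simpa using this
  · have h1 : a * (c⁻¹ * (a * c * a⁻¹)) * a⁻¹ = (a * c * a⁻¹)⁻¹ * (a ^ 2 * c * (a ^ 2)⁻¹) := by
      rw [pow_two]; group
    have h2 : a ^ 2 * c * (a ^ 2)⁻¹ = c := by rw [hca]; group
    rw [h1, h2]; group
  · intro hyM
    have h1 := (hker _).mpr hyM
    rw [map_mul, map_inv, map_mul, map_mul, map_inv, hπc, haInv] at h1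
    have h2 : (π y1) ^ 2 = 1 := by
      rw [pow_two]
      have : (π y1 * π y1)⁻¹ = 1 := by rw [mul_inv_rev]; exact h1
      exact inv_eq_one.mp this
    exact hy1M (eq_one_of_pow_two_of_pow_three h2 hY1e)

end lift

section main

/-- **Main theorem**: if `S₃` is involved in `N_G(T)/C_G(T)` for a `2`-subgroup `T`, then `S₄` is
involved in `G`. -/
theorem s4_of_s3_normalizer {G : Type u} [Group G] [Finite G] (T : Subgroup G)
    (hT : IsPGroup 2 T)
    (h : Cfsg.Involves (Equiv.Perm (Fin 3)) (↥(normalizer (T : Set G)) ⧸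
      (centralizer (T : Set G)).subgroupOf (normalizer (T : Set G)))) :
    Cfsg.Involves (Equiv.Perm (Fin 4)) G := by
  obtain ⟨Kb, fb, hfb⟩ := S4Sec.exists_surjective_of_involves h
  obtain ⟨f, hf⟩ : ∃ f : ↥(Kb.comap (QuotientGroup.mk'
      ((centralizer (T : Set G)).subgroupOf (normalizer (T : Set G))))) →* Equiv.Perm (Fin 3),
      f = fb.comp ((QuotientGroup.mk'
        ((centralizer (T : Set G)).subgroupOf (normalizer (T : Set G)))).subgroupComap Kb) :=
    ⟨_, rfl⟩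
  have hfs : Function.Surjective f := by
    rw [hf]
    exact hfb.comp ((QuotientGroup.mk' _).subgroupComap_surjective_of_surjective Kb
      (QuotientGroup.mk'_surjective _))
  obtain ⟨a0, ha0⟩ := hfs (Equiv.swap (0 : Fin 3) 1)
  obtain ⟨y0, hy0⟩ := hfs (Equiv.swap (0 : Fin 3) 1 * Equiv.swap (1 : Fin 3) 2)
  have hker : ∀ x, x ∈ f.ker ↔ f x = 1 := fun x => MonoidHom.mem_ker
  obtain ⟨a, y, ha2, hy3, hinv, hyM⟩ := exists_invert_lift f.ker a0 y0
    ⟨1, by rw [hker, map_pow, ha0]; decide⟩ ⟨1, by rw [hker, map_pow, hy0]; decide⟩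
    (by rw [hker, hy0]; decide)
    (by rw [hker, map_mul, map_mul, map_mul, map_inv, ha0, hy0]; decide)
  refine s4_of_invert T hT ((y : ↥(normalizer (T : Set G))) : G)
    ((a : ↥(normalizer (T : Set G))) : G) (y : ↥(normalizer (T : Set G))).2
    (a : ↥(normalizer (T : Set G))).2 ?_ ?_ ?_ ?_
  · obtain ⟨j, hj⟩ := ha2
    refine ⟨j, ?_⟩
    have := congrArg (fun z : ↥(Kb.comap (QuotientGroup.mk'
      ((centralizer (T : Set G)).subgroupOf (normalizer (T : Set G))))) =>
      ((z : ↥(normalizer (T : Set G))) : G)) hj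
    simpa using this
  · obtain ⟨k, hk⟩ := hy3
    refine ⟨k, ?_⟩
    have := congrArg (fun z : ↥(Kb.comap (QuotientGroup.mk'
      ((centralizer (T : Set G)).subgroupOf (normalizer (T : Set G))))) =>
      ((z : ↥(normalizer (T : Set G))) : G)) hk
    simpa using this
  · have := congrArg (fun z : ↥(Kb.comap (QuotientGroup.mk'
      ((centralizer (T : Set G)).subgroupOf (normalizer (T : Set G))))) =>
      ((z : ↥(normalizer (T : Set G))) : G)) hinv
    simpa using this
  · intro hc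
    apply hyM
    rw [hker, hf, MonoidHom.comp_apply]
    have h1 : (QuotientGroup.mk' ((centralizer (T : Set G)).subgroupOf (normalizer (T : Set G))))
        (y : ↥(normalizer (T : Set G))) = 1 := by
      rw [QuotientGroup.mk'_apply, QuotientGroup.eq_one_iff]
      exact hc
    have h2 : ((QuotientGroup.mk'
        ((centralizer (T : Set G)).subgroupOf (normalizer (T : Set G)))).subgroupComap Kb) y = 1 :=
      Subtype.ext h1
    rw [h2, map_one]

end main

end Cfsg.Agent.Helper14.S4Inv
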