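import Mathlib
import Cfsg.Agent.Lib.Helper16.BG147H

/-!
Towards S1369 (BG Theorem 14.7 (f), (g)), part A: a counting lemma for TI-subsets normalised by a
(not necessarily abelian) subgroup, and the "half context": a maximal subgroup `H` with a nontrivial
Hall `κ(H)`-subgroup `K`, with only the frozen statements S1430, S1431 as hypotheses (no partner `H*`).
-/

set_option autoImplicit false

namespace Cfsg.Agent.Helper14.BG1369

open Cfsg Subgroup
open Cfsg.Agent.Helper10 (IsPiNum)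
open Cfsg.Agent.Helper16.BG147

variable {G : Type*} [Group G]

section count

variable (Z : Subgroup G) (T : Set G)
  (hZT : ∀ z ∈ Z, ∀ t ∈ T, z * t * z⁻¹ ∈ T)
  (hTI : ∀ g : G, ∀ t ∈ T, g * t * g⁻¹ ∈ T → g ∈ Z)

include hZT hTI in
/-- If `Z` normalises the set `T` and `g T g⁻¹` meets `T` only for `g ∈ Z`, then the union of the
conjugates of `T` has `|G : Z| * |T|` elements. -/
theorem card_conjUnion_of_inv [Finite G] :
    Nat.card Z * Set.ncard (conjUnion T) = Nat.card G * Set.ncard T := by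
  classical
  have hC : ∀ c : conjUnion T, ∃ g : G, ∃ z ∈ T, (c : G) = g * z * g⁻¹ := fun c => c.2
  choose g₀ t₀ ht₀ hc using hC
  have key : ∀ (g : G) (t : G) (ht : t ∈ T),
      (g₀ ⟨g * t * g⁻¹, ⟨g, t, ht, rfl⟩⟩)⁻¹ * g ∈ Z ∧
      ((g₀ ⟨g * t * g⁻¹, ⟨g, t, ht, rfl⟩⟩)⁻¹ * g)⁻¹ * t₀ ⟨g * t * g⁻¹, ⟨g, t, ht, rfl⟩⟩ *
        ((g₀ ⟨g * t * g⁻¹, ⟨g, t, ht, rfl⟩⟩)⁻¹ * g) = t := by
    intro g t ht
    set c : conjUnion T := ⟨g * t * g⁻¹, ⟨g, t, ht, rfl⟩⟩ with hcdef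
    have h1 : g * t * g⁻¹ = g₀ c * t₀ c * (g₀ c)⁻¹ := hc c
    have h2 : ((g₀ c)⁻¹ * g) * t * ((g₀ c)⁻¹ * g)⁻¹ = t₀ c := by
      calc ((g₀ c)⁻¹ * g) * t * ((g₀ c)⁻¹ * g)⁻¹ = (g₀ c)⁻¹ * (g * t * g⁻¹) * g₀ c := by group
        _ = (g₀ c)⁻¹ * (g₀ c * t₀ c * (g₀ c)⁻¹) * g₀ c := by rw [h1]
        _ = t₀ c := by group
    refine ⟨hTI _ t ht (by rw [h2]; exact ht₀ c), ?_⟩
    rw [← h2]; group
  let e : (conjUnion T × Z) ≃ (G × T) :=
    { toFun := fun q => (g₀ q.1 * q.2,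
        ⟨(q.2 : G)⁻¹ * t₀ q.1 * q.2, by
          have := hZT _ (inv_mem q.2.2) _ (ht₀ q.1)
          rwa [inv_inv] at this⟩)
      invFun := fun q =>
        (⟨q.1 * q.2 * q.1⁻¹, ⟨q.1, q.2, q.2.2, rfl⟩⟩,
          ⟨(g₀ ⟨q.1 * q.2 * q.1⁻¹, ⟨q.1, q.2, q.2.2, rfl⟩⟩)⁻¹ * q.1, (key q.1 q.2 q.2.2).1⟩)
      left_inv := by
        rintro ⟨c, z⟩
        have hcc : (⟨g₀ c * z * ((z : G)⁻¹ * t₀ c * z) * (g₀ c * z)⁻¹,
            ⟨g₀ c * z, (z : G)⁻¹ * t₀ c * z, by
              have := hZT _ (inv_mem z.2) _ (ht₀ c)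
              rwa [inv_inv] at this, rfl⟩⟩ : conjUnion T) = c := by
          apply Subtype.ext
          show g₀ c * z * ((z : G)⁻¹ * t₀ c * z) * (g₀ c * z)⁻¹ = c
          rw [hc c]
          group
        apply Prod.ext
        · exact hcc
        · apply Subtype.ext
          show (g₀ ⟨g₀ c * z * ((z : G)⁻¹ * t₀ c * z) * (g₀ c * z)⁻¹, _⟩)⁻¹ * (g₀ c * z) = z
          rw [congrArg g₀ hcc]
          group
      right_inv := by
        rintro ⟨g, t⟩
        have hk := key g t t.2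
        apply Prod.ext
        · show g₀ ⟨g * t * g⁻¹, _⟩ * ((g₀ ⟨g * t * g⁻¹, _⟩)⁻¹ * g) = g
          group
        · apply Subtype.ext
          exact hk.2 }
  have h := Nat.card_congr e
  rw [Nat.card_prod, Nat.card_prod] at h
  rw [← Nat.card_coe_set_eq (conjUnion T), ← Nat.card_coe_set_eq T, mul_comm (Nat.card Z)]
  exact h

end count

/-- two subsets of a finite type, each containing more than half of the elements, meet -/
theorem exists_mem_inter_of_half [Finite G] {A B : Set G} (hA : Nat.card G < 2 * A.ncard)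
    (hB : Nat.card G < 2 * B.ncard) : ∃ a, a ∈ A ∧ a ∈ B := by
  by_contra hcon
  push_neg at hcon
  have hdisj : Disjoint A B := Set.disjoint_left.mpr hcon
  have h1 : (A ∪ B).ncard = A.ncard + B.ncard :=
    Set.ncard_union_eq hdisj (Set.toFinite A) (Set.toFinite B)
  have h2 : (A ∪ B).ncard ≤ Nat.card G := by
    have := Set.ncard_le_card (A ∪ B)
    simpa using this
  omega

variable [Finite G]

/-- the half context: a maximal subgroup with a nontrivial Hall `κ`-subgroup -/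
structure Half (H K : Subgroup G) : Prop where
  hG : IsMinSimpleOddOrder G
  hH : IsCoatom H
  hall : IsPiHallOf (kappa H) K H
  hK1 : K ≠ ⊥
  h30 : St1430 G
  h31 : St1431 G

/-- a full context gives a half context -/
theorem Half.of_ctx {M K Ms : Subgroup G} (c : Ctx M K Ms) : Half M K :=
  ⟨c.hG, c.hM, c.hall, c.hK1, c.h30, c.h31⟩

namespace Half

variable {H K : Subgroup G} (c : Half H K)
include c

theorem K_le : K ≤ H := c.hall.1

theorem Kst_le : Kst H K ≤ H := inf_le_left.trans (sigmaCore_le H)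

theorem coprime_K_sigmaCore : (Nat.card K).Coprime (Nat.card ↥(sigmaCore H)) :=
  coprime_of_isPiNum (kappa_not_sigma H) c.hall.2.1 (card_sigmaCore H)

theorem coprime_K_Kst : (Nat.card K).Coprime (Nat.card ↥(Kst H K)) :=
  c.coprime_K_sigmaCore.coprime_dvd_right (Subgroup.card_dvd_of_le inf_le_left)

theorem K_inf_Kst : K ⊓ Kst H K = ⊥ :=
  Subgroup.inf_eq_bot_of_coprime c.coprime_K_Kst

omit [Finite G] c in
theorem comm_K_Kst : ∀ a ∈ K, ∀ b ∈ Kst H K, a * b = b * a := by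
  intro a ha b hb
  exact (mem_centralizer_iff.mp hb.2) a ha

theorem exists_sylow_le_K (p : ℕ) [Fact p.Prime] (hp : p ∣ Nat.card K) :
    ∃ P : Sylow p H, (P : Subgroup H).map H.subtype ≤ K := by
  have hpk : p ∈ kappa H := c.hall.2.1 p Fact.out hp
  have hidx : ¬ p ∣ (K.subgroupOf H).index := c.hall.2.2 p Fact.out hpk
  obtain ⟨P, hP⟩ := exists_sylow_le_of_not_dvd_index (K.subgroupOf H) p hidx
  refine ⟨P, ?_⟩
  rintro _ ⟨x, hx, rfl⟩
  exact mem_subgroupOf.mp (hP hx)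

/-- `K* ≠ 1` -/
theorem Kst_ne_bot : Kst H K ≠ ⊥ := by
  obtain ⟨p, hp, hpK⟩ := Nat.exists_prime_and_dvd (n := Nat.card K) (by
    intro h
    exact c.hK1 (Subgroup.card_eq_one.mp h))
  haveI := Fact.mk hp
  obtain ⟨P, hPK⟩ := c.exists_sylow_le_K p hpK
  have hpk : p ∈ kappa H := c.hall.2.1 p hp hpK
  obtain ⟨-, x, hxP, hx1, y, hy, hy1, hxy⟩ := hpk.2.2.2 P
  have hxK : (x : G) ∈ K := hPK (mem_map_of_mem _ hxP)
  have hxne : (x : G) ≠ 1 := fun h => hx1 (Subtype.ext h)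
  have h1 := (c.h30 H c.hH K c.hall c.hK1).1 x hxK hxne
  have hyk : y ∈ sigmaCore H ⊓ centralizer ({(x : G)} : Set G) := by
    refine Subgroup.mem_inf.mpr ⟨hy, ?_⟩
    rw [mem_centralizer_iff]
    intro h hh
    rw [Set.mem_singleton_iff] at hh
    rw [hh]; exact hxy
  rw [h1] at hyk
  intro hbot
  have hyk' : y ∈ Kst H K := hyk
  rw [hbot, mem_bot] at hyk'
  exact hy1 hyk'

theorem mem_Zh_iff {z : G} :
    z ∈ Zh H K ↔ ∃ a ∈ K, a ≠ 1 ∧ ∃ b ∈ Kst H K, b ≠ 1 ∧ z = a * b := by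
  constructor
  · rintro ⟨hz, hz'⟩
    have hz2 : z ∈ K ⊔ Kst H K := hz
    rw [mem_sup_iff_of_commute K (Kst H K) comm_K_Kst] at hz2
    obtain ⟨a, ha, b, hb, rfl⟩ := hz2
    refine ⟨a, ha, ?_, b, hb, ?_, rfl⟩
    · rintro rfl
      apply hz'
      right
      rw [one_mul]; exact hb
    · rintro rfl
      apply hz'
      left
      rw [mul_one]; exact ha
  · rintro ⟨a, ha, ha1, b, hb, hb1, rfl⟩
    refine ⟨mul_mem (mem_sup_left ha) (mem_sup_right hb), ?_⟩
    rintro (h | h)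
    · have hbK : b ∈ K := by
        have := mul_mem (inv_mem ha) h
        rwa [inv_mul_cancel_left] at this
      have : b ∈ K ⊓ Kst H K := Subgroup.mem_inf.mpr ⟨hbK, hb⟩
      rw [c.K_inf_Kst, mem_bot] at this
      exact hb1 this
    · have haK : a ∈ Kst H K := by
        have := mul_mem h (inv_mem hb)
        rwa [mul_inv_cancel_right] at this
      have : a ∈ K ⊓ Kst H K := Subgroup.mem_inf.mpr ⟨ha, haK⟩
      rw [c.K_inf_Kst, mem_bot] at this
      exact ha1 this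

theorem exists_proj : ∃ m n : ℕ, ∀ a ∈ K, ∀ b ∈ Kst H K, (a * b) ^ m = a ∧ (a * b) ^ n = b := by
  have hcop := c.coprime_K_Kst
  let m := Nat.chineseRemainder hcop 1 0
  let n := Nat.chineseRemainder hcop 0 1
  refine ⟨m, n, ?_⟩
  intro a ha b hb
  have hcm : Commute a b := comm_K_Kst a ha b hb
  have hoa : orderOf a ∣ Nat.card K := by
    have := orderOf_dvd_natCard (⟨a, ha⟩ : K)
    rwa [Subgroup.orderOf_mk] at this
  have hob : orderOf b ∣ Nat.card ↥(Kst H K) := by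
    have := orderOf_dvd_natCard (⟨b, hb⟩ : ↥(Kst H K))
    rwa [Subgroup.orderOf_mk] at this
  constructor
  · rw [hcm.mul_pow]
    have h1 : a ^ (m : ℕ) = a ^ 1 := by
      rw [pow_eq_pow_iff_modEq]
      exact (m.2.1).of_dvd hoa
    have h2 : b ^ (m : ℕ) = b ^ 0 := by
      rw [pow_eq_pow_iff_modEq]
      exact (m.2.2).of_dvd hob
    rw [h1, h2, pow_one, pow_zero, mul_one]
  · rw [hcm.mul_pow]
    have h1 : a ^ (n : ℕ) = a ^ 0 := by
      rw [pow_eq_pow_iff_modEq]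
      exact (n.2.1).of_dvd hoa
    have h2 : b ^ (n : ℕ) = b ^ 1 := by
      rw [pow_eq_pow_iff_modEq]
      exact (n.2.2).of_dvd hob
    rw [h1, h2, pow_one, pow_zero, one_mul]

/-- `Ẑ` is a TI-subset: `g z g⁻¹ ∈ Ẑ` for some `z ∈ Ẑ` forces `g ∈ K K*` -/
theorem Zh_TI (g : G) (z : G) (hz : z ∈ Zh H K) (hz' : g * z * g⁻¹ ∈ Zh H K) :
    g ∈ K ⊔ Kst H K := by
  obtain ⟨a, ha, ha1, b, hb, hb1, rfl⟩ := c.mem_Zh_iff.mp hz
  obtain ⟨a', ha', ha'1, b', hb', hb'1, hab⟩ := c.mem_Zh_iff.mp hz'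
  obtain ⟨m, n, hmn⟩ := c.exists_proj
  have h1 := hmn a ha b hb
  have h2 := hmn a' ha' b' hb'
  have h3 : a' = g * a * g⁻¹ := by
    rw [← h2.1, ← hab, conj_pow, h1.1]
  have h3' : b' = g * b * g⁻¹ := by
    rw [← h2.2, ← hab, conj_pow, h1.2]
  have hgH : g ∈ H := by
    by_contra hg
    have h4 := (c.h31 H c.hH K c.hall c.hK1).1 g hg
    have h5 : b' ∈ Kst H K ⊓ H.map (MulAut.conj g).toMonoidHom :=
      Subgroup.mem_inf.mpr ⟨hb', ⟨b, c.Kst_le hb, h3'.symm⟩⟩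
    rw [h4, mem_bot] at h5
    exact hb'1 h5
  by_contra hgZ
  have h4 := (c.h31 H c.hH K c.hall c.hK1).2.1 g hgH hgZ
  have h5 : a' ∈ K ⊓ K.map (MulAut.conj g).toMonoidHom :=
    Subgroup.mem_inf.mpr ⟨ha', ⟨a, ha, h3.symm⟩⟩
  rw [h4, mem_bot] at h5
  exact ha'1 h5

omit [Finite G] c in
theorem Z_le_normalizer_K : K ⊔ Kst H K ≤ normalizer (K : Set G) := by
  refine sup_le le_normalizer ?_
  intro b hb
  have hb' : b ∈ centralizer (K : Set G) := hb.2
  exact Subgroup.centralizer_le_normalizer _ hb'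

omit [Finite G] c in
theorem Z_le_normalizer_Kst : K ⊔ Kst H K ≤ normalizer ((Kst H K : Subgroup G) : Set G) := by
  refine sup_le ?_ le_normalizer
  intro a ha
  have : a ∈ centralizer ((Kst H K : Subgroup G) : Set G) := by
    rw [mem_centralizer_iff]
    intro b hb
    exact (comm_K_Kst a ha b hb).symm
  exact Subgroup.centralizer_le_normalizer _ this

omit [Finite G] c in
/-- `Z = K K*` normalises `Ẑ` -/
theorem Zh_inv (z : G) (hz : z ∈ K ⊔ Kst H K) (t : G) (ht : t ∈ Zh H K) :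
    z * t * z⁻¹ ∈ Zh H K := by
  obtain ⟨ht1, ht2⟩ := ht
  refine ⟨mul_mem (mul_mem hz ht1) (inv_mem hz), ?_⟩
  rintro (h | h)
  · apply ht2; left
    exact (mem_normalizer_iff.mp (Z_le_normalizer_K hz) t).mpr h
  · apply ht2; right
    exact (mem_normalizer_iff.mp (Z_le_normalizer_Kst hz) t).mpr h

theorem card_Z : Nat.card ↥(K ⊔ Kst H K) = Nat.card K * Nat.card ↥(Kst H K) :=
  card_sup_of_commute K (Kst H K) comm_K_Kst c.K_inf_Kst

theorem ncard_Zh : Set.ncard (Zh H K) + Nat.card K + Nat.card ↥(Kst H K) =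
    Nat.card K * Nat.card ↥(Kst H K) + 1 := by
  have := ncard_diff_union (K ⊔ Kst H K) K (Kst H K) le_sup_left le_sup_right c.K_inf_Kst
  rw [c.card_Z] at this
  exact this

theorem card_conj_Zh :
    Nat.card K * Nat.card ↥(Kst H K) * Set.ncard (conjUnion (Zh H K)) =
      Nat.card G * Set.ncard (Zh H K) := by
  have := card_conjUnion_of_inv (K ⊔ Kst H K) (Zh H K) Zh_inv c.Zh_TI
  rw [c.card_Z] at this
  exact this

theorem three_le_card_K : 3 ≤ Nat.card K ∧ Odd (Nat.card K) := by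
  have h1 : 1 < Nat.card K := K.one_lt_card_iff_ne_bot.mpr c.hK1
  have h2 : Odd (Nat.card K) := by
    have hodd : Odd (Nat.card G) := c.hG.1
    exact Odd.of_dvd_nat hodd (Subgroup.card_subgroup_dvd_card K)
  refine ⟨?_, h2⟩
  obtain ⟨t, ht⟩ := h2
  omega

theorem three_le_card_Kst : 3 ≤ Nat.card ↥(Kst H K) ∧ Odd (Nat.card ↥(Kst H K)) := by
  have h1 : 1 < Nat.card ↥(Kst H K) := (Kst H K).one_lt_card_iff_ne_bot.mpr c.Kst_ne_bot
  have h2 : Odd (Nat.card ↥(Kst H K)) := by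
    have hodd : Odd (Nat.card G) := c.hG.1
    exact Odd.of_dvd_nat hodd (Subgroup.card_subgroup_dvd_card _)
  refine ⟨?_, h2⟩
  obtain ⟨t, ht⟩ := h2
  omega

/-- the conjugates of `Ẑ` cover more than half of `G` -/
theorem count : Nat.card G < 2 * Set.ncard (conjUnion (Zh H K)) := by
  have h1 := c.ncard_Zh
  have h2 := c.card_conj_Zh
  obtain ⟨hk3, hkodd⟩ := c.three_le_card_K
  obtain ⟨hs3, hsodd⟩ := c.three_le_card_Kst
  have hcop := c.coprime_K_Kst
  set k := Nat.card K with hk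
  set s := Nat.card ↥(Kst H K) with hs
  set T := Set.ncard (Zh H K) with hT
  set N := Set.ncard (conjUnion (Zh H K)) with hN
  have hks : k + s ≤ k * s := by nlinarith
  have h5 : 5 ≤ k ∨ 5 ≤ s := by
    by_contra hcon
    push_neg at hcon
    obtain ⟨a, ha⟩ := hkodd
    obtain ⟨b, hb⟩ := hsodd
    have hk3' : k = 3 := by omega
    have hs3' : s = 3 := by omega
    rw [hk3', hs3'] at hcop
    exact absurd hcop (by decide)
  have hgpos : 0 < Nat.card G := Nat.card_pos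
  have hT2 : k * s < 2 * T := by
    have hTe : T = k * s + 1 - k - s := by omega
    rcases h5 with h | h
    · have : k * s + 2 > 2 * k + 2 * s := by nlinarith
      omega
    · have : k * s + 2 > 2 * k + 2 * s := by nlinarith
      omega
  by_contra hcon
  push_neg at hcon
  have h3 : k * s * (2 * N) ≤ k * s * Nat.card G := Nat.mul_le_mul_left _ hcon
  have h4 : k * s * (2 * N) = 2 * (Nat.card G * T) := by rw [← h2]; ring
  have h5' : Nat.card G * (k * s) < Nat.card G * (2 * T) := Nat.mul_lt_mul_of_pos_left hT2 hgpos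
  nlinarith

end Half

end Cfsg.Agent.Helper14.BG1369
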