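import Mathlib
import Cfsg.Agent.Lib.Helper14.BG1369A
import Cfsg.Agent.Lib.Helper16.BG145B
import Cfsg.Agent.Lib.Helper1.PiHall

/-!
Towards S1369 (BG Theorem 14.7 (g)), part B: every maximal subgroup `H` with `κ(H) ≠ ∅` is conjugate to
`M` or to `M*`.
-/

set_option autoImplicit false

namespace Cfsg.Agent.Helper14.BG1369

open Cfsg Subgroup
open Cfsg.Agent.Helper10 (IsPiNum)
open Cfsg.Agent.Helper16.BG147
open Cfsg.Agent.Helper16.BG145 (prime_mem_sigma_of_mem_sigmaCore)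

variable {G : Type*} [Group G] [Finite G]

/-- a nontrivial Hall `κ(H)`-subgroup exists when `κ(H)` is nonempty -/
theorem exists_half (hG : IsMinSimpleOddOrder G) (h30 : St1430 G) (h31 : St1431 G)
    {H : Subgroup G} (hH : IsCoatom H) (hκ : (kappa H).Nonempty) : ∃ KH : Subgroup G, Half H KH := by
  haveI : Group.IsSolvable ↥H := Cfsg.Agent.Helper14.BGTrans.isSolvable_of_ne_top hG hH.1
  obtain ⟨KH, hKH⟩ := Cfsg.Agent.Helper1.PiHall.exists_isPiHallOf (kappa H) H
  refine ⟨KH, hG, hH, hKH, ?_, h30, h31⟩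
  obtain ⟨p, hp⟩ := hκ
  have hpp : p.Prime := hp.1
  have hpH : p ∣ Nat.card ↥H := hp.2.1
  have hidx : ¬ p ∣ KH.relIndex H := hKH.2.2 p hpp hp
  have hcard := Cfsg.Agent.Helper1.PiHall.card_eq_card_mul_relIndex hKH.1
  rw [hcard] at hpH
  rcases (Nat.Prime.dvd_mul hpp).mp hpH with h | h
  · intro hbot
    rw [hbot, Subgroup.card_bot] at h
    exact hpp.one_lt.ne' (Nat.dvd_one.mp h)
  · exact absurd h hidx

/-- BG 14.7(g): every maximal subgroup of type `P` is conjugate to `M` or to `M*` -/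
theorem part2 {M K Ms : Subgroup G} (c : Ctx M K Ms) (H : Subgroup G) (hH : IsCoatom H)
    (hκ : (kappa H).Nonempty) :
    ∃ g : G, H = M.map (MulAut.conj g).toMonoidHom ∨ H = Ms.map (MulAut.conj g).toMonoidHom := by
  obtain ⟨KH, d⟩ := exists_half c.hG c.h30 c.h31 hH hκ
  obtain ⟨a, ⟨g, z, hz, hagz⟩, ⟨g', z', hz', hagz'⟩⟩ := exists_mem_inter_of_half c.count.2 d.count
  obtain ⟨x, hx, hx1, y, hy, hy1, rfl⟩ := c.mem_Zh_iff.mp hz
  obtain ⟨x', hx', hx'1, y', hy', hy'1, rfl⟩ := d.mem_Zh_iff.mp hz'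
  -- the conjugate `w` of `y'` centralises `x * y`
  set u : G := g⁻¹ * g' with hu
  set w : G := u * y' * u⁻¹ with hw
  have hzz : x * y = u * (x' * y') * u⁻¹ := by
    have h1 : g * (x * y) * g⁻¹ = g' * (x' * y') * g'⁻¹ := hagz.symm.trans hagz'
    calc x * y = g⁻¹ * (g * (x * y) * g⁻¹) * g := by group
      _ = g⁻¹ * (g' * (x' * y') * g'⁻¹) * g := by rw [h1]
      _ = u * (x' * y') * u⁻¹ := by rw [hu]; group
  have hcomm' : x' * y' = y' * x' := Half.comm_K_Kst x' hx' y' hy'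
  have hwz : w ∈ centralizer ({x * y} : Set G) := by
    rw [mem_centralizer_singleton, hzz, hw]
    have h3 : x' * y' * y' = y' * (x' * y') := by
      have : x' * y' * y' = y' * x' * y' := congrArg (· * y') hcomm'
      rw [this, mul_assoc]
    calc u * (x' * y') * u⁻¹ * (u * y' * u⁻¹) = u * (x' * y' * y') * u⁻¹ := by group
      _ = u * (y' * (x' * y')) * u⁻¹ := by rw [h3]
      _ = u * y' * u⁻¹ * (u * (x' * y') * u⁻¹) := by group
  rw [c.centralizer_mul hx hx1 hy hy1] at hwz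
  have hw1 : w ≠ 1 := by
    intro h
    apply hy'1
    have : y' = u⁻¹ * w * u := by rw [hw]; group
    rw [this, h]; group
  have hord : orderOf w = orderOf y' := by
    have := MulEquiv.orderOf_eq (MulAut.conj u) y'
    rwa [MulAut.conj_apply] at this
  have hne : orderOf w ≠ 1 := by rw [Ne, orderOf_eq_one_iff]; exact hw1
  obtain ⟨t, ht, htd⟩ := Nat.exists_prime_and_dvd hne
  have htH : t ∈ sigma H := by
    apply prime_mem_sigma_of_mem_sigmaCore (hy'.1) t ht
    rw [← hord]; exact htd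
  have htZ : t ∣ Nat.card K * Nat.card ↥(Kst M K) := by
    rw [← c.card_Z]
    have := orderOf_dvd_natCard (⟨w, hwz⟩ : ↥(K ⊔ Kst M K))
    rw [Subgroup.orderOf_mk] at this
    exact htd.trans this
  rcases (Nat.Prime.dvd_mul ht).mp htZ with h | h
  · -- `t ∈ σ(M*)`
    have htMs : t ∈ sigma Ms := by
      apply card_sigmaCore Ms t ht
      exact h.trans (Subgroup.card_dvd_of_le c.K_le_sigmaCore_Ms)
    obtain ⟨g₁, hg₁⟩ := c.h78 Ms H c.hMs hH ⟨t, htMs, htH⟩
    exact ⟨g₁, Or.inr hg₁⟩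
  · have htM : t ∈ sigma M := by
      apply card_sigmaCore M t ht
      exact h.trans (Subgroup.card_dvd_of_le c.Kst_le_sigmaCore)
    obtain ⟨g₁, hg₁⟩ := c.h78 M H c.hM hH ⟨t, htM, htH⟩
    exact ⟨g₁, Or.inl hg₁⟩

end Cfsg.Agent.Helper14.BG1369
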