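import Mathlib
import Cfsg.Agent.Lib.Helper14.BG1369B
import Cfsg.Agent.Lib.Helper14.BGTransD

/-!
Towards S1369 (BG Theorem 14.7 (f)), part C: conjugation transport for `M_F`, `M_σ`, `R(x)`, and the
disjointness of the sets `Ẑ^G`, `\tilde M_σ`, `\tilde M*_σ`.
-/

set_option autoImplicit false

namespace Cfsg.Agent.Helper14.BG1369

open Cfsg Subgroup
open Cfsg.Agent.Helper10 (IsPiNum)
open Cfsg.Agent.Helper16.BG147
open Cfsg.Agent.Helper16.BG145 (prime_mem_sigma_of_mem_sigmaCore supportR_mem sigma_map_conj)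

section transport

/-- `M_F` is preserved by isomorphisms -/
theorem mem_fittingHall_map_equiv {M M' : Type*} [Group M] [Group M'] (e : M ≃* M') {x : M}
    (hx : x ∈ fittingHall M) : e x ∈ fittingHall M' := by
  have hle : fittingHall M ≤ (fittingHall M').comap e.toMonoidHom := by
    apply sSup_le
    rintro N ⟨hNn, hNnil, hNcop⟩
    intro y hy
    have hmem : N.map e.toMonoidHom ≤ fittingHall M' := by
      apply le_sSup
      refine ⟨Subgroup.Normal.map hNn e.toMonoidHom e.surjective, ?_, ?_⟩
      · haveI := hNnil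
        exact Group.nilpotent_of_mulEquiv (N.equivMapOfInjective e.toMonoidHom e.injective)
      · have h1 : Nat.card ↥(N.map e.toMonoidHom) = Nat.card ↥N :=
          Subgroup.card_map_of_injective e.injective
        have h2 : (N.map e.toMonoidHom).index = N.index := Subgroup.index_map_equiv (H := N) e
        rw [h1, h2]; exact hNcop
    exact hmem (Subgroup.mem_map_of_mem _ hy)
  exact hle hx

variable {G : Type*} [Group G]

theorem mem_map_conj_iff' {H : Subgroup G} {g x : G} :
    x ∈ H.map (MulAut.conj g).toMonoidHom ↔ g⁻¹ * x * g ∈ H := by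
  constructor
  · rintro ⟨y, hy, rfl⟩
    have : g⁻¹ * ((MulAut.conj g).toMonoidHom y) * g = y := by
      show g⁻¹ * (g * y * g⁻¹) * g = y
      group
    rw [this]; exact hy
  · intro h
    refine ⟨g⁻¹ * x * g, h, ?_⟩
    show g * (g⁻¹ * x * g) * g⁻¹ = x
    group

theorem conj_mem_map_conj {H : Subgroup G} {x : G} (hx : x ∈ H) (g : G) :
    g * x * g⁻¹ ∈ H.map (MulAut.conj g).toMonoidHom := ⟨x, hx, rfl⟩

theorem isCoatom_map_conj' {M : Subgroup G} (hM : IsCoatom M) (g : G) :
    IsCoatom (M.map (MulAut.conj g).toMonoidHom) := by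
  have := (OrderIso.isCoatom_iff (MulEquiv.mapSubgroup (MulAut.conj g)) M).mpr hM
  exact this

theorem map_conj_inv_map_conj' (A : Subgroup G) (g : G) :
    (A.map (MulAut.conj g).toMonoidHom).map (MulAut.conj g⁻¹).toMonoidHom = A := by
  ext x
  rw [mem_map_conj_iff', mem_map_conj_iff']
  have : g⁻¹ * (g⁻¹⁻¹ * x * g⁻¹) * g = x := by group
  rw [this]

/-- `M_F` of a conjugate -/
theorem conj_mem_fittingHallOf {L : Subgroup G} {r : G} (hr : r ∈ fittingHallOf L) (g : G) :
    g * r * g⁻¹ ∈ fittingHallOf (L.map (MulAut.conj g).toMonoidHom) := by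
  obtain ⟨x, hx, rfl⟩ := hr
  let e : ↥L ≃* ↥(L.map (MulAut.conj g).toMonoidHom) :=
    L.equivMapOfInjective (MulAut.conj g).toMonoidHom (MulAut.conj g).injective
  refine ⟨e x, mem_fittingHall_map_equiv e hx, ?_⟩
  rfl

/-- centralizer of a conjugate element -/
theorem conj_mem_centralizer_singleton {x h : G} (hh : h ∈ centralizer ({x} : Set G)) (g : G) :
    g * h * g⁻¹ ∈ centralizer ({g * x * g⁻¹} : Set G) := by
  rw [mem_centralizer_singleton] at hh ⊢
  calc g * x * g⁻¹ * (g * h * g⁻¹) = g * (x * h) * g⁻¹ := by group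
    _ = g * (h * x) * g⁻¹ := by rw [hh]
    _ = g * h * g⁻¹ * (g * x * g⁻¹) := by group

theorem centralizer_conj_le_iff {x g : G} {L : Subgroup G} :
    centralizer ({g * x * g⁻¹} : Set G) ≤ L.map (MulAut.conj g).toMonoidHom ↔
      centralizer ({x} : Set G) ≤ L := by
  constructor
  · intro h y hy
    have := h (conj_mem_centralizer_singleton hy g)
    rw [mem_map_conj_iff'] at this
    have e : g⁻¹ * (g * y * g⁻¹) * g = y := by group
    rwa [e] at this
  · intro h y hy
    rw [mem_map_conj_iff']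
    apply h
    have := conj_mem_centralizer_singleton hy g⁻¹
    have e : g⁻¹ * (g * x * g⁻¹) * g⁻¹⁻¹ = x := by group
    rw [e] at this
    have e2 : g⁻¹ * y * g⁻¹⁻¹ = g⁻¹ * y * g := by group
    rwa [e2] at this

/-- membership in `R(x)` from the defining data -/
theorem mem_supportR_of {M L : Subgroup G} {x r : G}
    (h1 : ¬ centralizer ({x} : Set G) ≤ M) (hL : IsCoatom L) (hxL : centralizer ({x} : Set G) ≤ L)
    (huniq : ∀ L' : Subgroup G, IsCoatom L' → centralizer ({x} : Set G) ≤ L' → L' = L)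
    (hr : r ∈ fittingHallOf L) (hrc : r ∈ centralizer ({x} : Set G)) : r ∈ supportR M x := by
  have h : ¬ centralizer ({x} : Set G) ≤ M ∧
      ∃! L : Subgroup G, IsCoatom L ∧ centralizer ({x} : Set G) ≤ L :=
    ⟨h1, L, ⟨hL, hxL⟩, fun L' h' => huniq L' h'.1 h'.2⟩
  unfold supportR
  rw [dif_pos h]
  have hch : Classical.choose h.2.exists = L :=
    huniq _ (Classical.choose_spec h.2.exists).1 (Classical.choose_spec h.2.exists).2
  rw [hch]
  exact Subgroup.mem_inf.mpr ⟨hr, hrc⟩

/-- `R(x)` is compatible with conjugation -/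
theorem conj_mem_supportR {M : Subgroup G} {x r : G} (hr : r ∈ supportR M x) (g : G) :
    g * r * g⁻¹ ∈ supportR (M.map (MulAut.conj g).toMonoidHom) (g * x * g⁻¹) := by
  rcases supportR_mem hr with h | ⟨hxM, L, hL, hxL, huniq, hrF, hrC⟩
  · rw [h]
    have : g * 1 * g⁻¹ = 1 := by group
    rw [this]; exact one_mem _
  · apply mem_supportR_of (L := L.map (MulAut.conj g).toMonoidHom)
    · rw [centralizer_conj_le_iff]; exact hxM
    · exact isCoatom_map_conj' hL g
    · rw [centralizer_conj_le_iff]; exact hxL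
    · intro L' hL' hxL'
      have h2 : centralizer ({x} : Set G) ≤ L'.map (MulAut.conj g⁻¹).toMonoidHom := by
        rw [← centralizer_conj_le_iff (g := g)]
        have e : (L'.map (MulAut.conj g⁻¹).toMonoidHom).map (MulAut.conj g).toMonoidHom = L' := by
          have := map_conj_inv_map_conj' L' g⁻¹
          rwa [inv_inv] at this
        rw [e]; exact hxL'
      have h3 := huniq _ (isCoatom_map_conj' hL' g⁻¹) h2
      rw [← h3]
      have := map_conj_inv_map_conj' L' g⁻¹
      rw [inv_inv] at this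
      exact this.symm
    · exact conj_mem_fittingHallOf hrF g
    · exact conj_mem_centralizer_singleton hrC g

variable [Finite G]

/-- `M_σ` of a conjugate -/
theorem conj_mem_sigmaCore {M : Subgroup G} {x : G} (hx : x ∈ sigmaCore M) (g : G) :
    g * x * g⁻¹ ∈ sigmaCore (M.map (MulAut.conj g).toMonoidHom) := by
  have h1 := Cfsg.Agent.Helper14.BGTrans.map_conj_piCoreOf_le (sigma M) M g
  have h2 : sigmaCore (M.map (MulAut.conj g).toMonoidHom) =
      piCoreOf (sigma M) (M.map (MulAut.conj g).toMonoidHom) := by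
    show piCoreOf (sigma (M.map (MulAut.conj g).toMonoidHom)) (M.map (MulAut.conj g).toMonoidHom) = _
    rw [sigma_map_conj]
  rw [h2]
  apply h1
  exact ⟨x, hx, rfl⟩

end transport

end Cfsg.Agent.Helper14.BG1369
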