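import Mathlib
import Cfsg.Agent.Lib.Helper3.BSWDefs
import Cfsg.Agent.Lib.Helper19.BSWFPF

/-!
# S3282 piece NINV: involutions in the normalizer of a self-centralizing subgroup of odd order
-/

set_option autoImplicit false
set_option linter.unusedSectionVars false
set_option linter.unusedVariables false

namespace Cfsg.Agent.Helper3.BSW

universe u

variable {G : Type u} [Group G] [Finite G]

namespace NINV

theorem sq_of_order_two {v : G} (hv : orderOf v = 2) : v * v = 1 := by
  rw [← pow_two, ← hv]; exact pow_orderOf_eq_one v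

theorem inv_of_order_two {v : G} (hv : orderOf v = 2) : v⁻¹ = v :=
  inv_eq_of_mul_eq_one_left (sq_of_order_two hv)

/-- an element of odd order whose square is `1` is `1` -/
theorem eq_one_of_sq {A : Subgroup G} (hodd : Odd (Nat.card A)) {a : G} (ha : a ∈ A)
    (h2 : a * a = 1) : a = 1 := by
  have hd : orderOf a ∣ 2 := orderOf_dvd_of_pow_eq_one (by rw [pow_two]; exact h2)
  have hdA : orderOf a ∣ Nat.card A := by
    have := orderOf_dvd_natCard (⟨a, ha⟩ : ↥A)
    rwa [Subgroup.orderOf_mk] at this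
  rcases (Nat.dvd_prime Nat.prime_two).mp hd with h | h
  · exact orderOf_eq_one_iff.mp h
  · exfalso
    rw [h] at hdA
    exact (Nat.not_even_iff_odd.mpr hodd) (even_iff_two_dvd.mpr hdA)

/-- an involution of `N(A)` inverts `A` -/
theorem inverts {A : Subgroup G} (hA : SelfCent A) (hodd : Odd (Nat.card A)) {v : G}
    (hv : orderOf v = 2) (hvN : v ∈ Subgroup.normalizer (A : Set G)) :
    ∀ a ∈ A, v * a * v⁻¹ = a⁻¹ := by
  refine (fpf_invol (A := A) (sq_of_order_two hv)
    (fun a ha => (Subgroup.mem_normalizer_iff.mp hvN a).mp ha) ?_).1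
  intro a ha hfix
  by_contra h1
  have hvC : v ∈ Subgroup.centralizer ({a} : Set G) := by
    rw [Subgroup.mem_centralizer_singleton_iff]
    calc v * a = v * a * v⁻¹ * v := by group
      _ = a * v := by rw [hfix]
  rw [hA a ha h1] at hvC
  have hdA : orderOf v ∣ Nat.card A := by
    have := orderOf_dvd_natCard (⟨v, hvC⟩ : ↥A)
    rwa [Subgroup.orderOf_mk] at this
  rw [hv] at hdA
  exact (Nat.not_even_iff_odd.mpr hodd) (even_iff_two_dvd.mpr hdA)

/-- every element of a group of odd order is a square -/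
theorem exists_sq {A : Subgroup G} (hodd : Odd (Nat.card A)) {a : G} (ha : a ∈ A) :
    ∃ b ∈ A, b * b = a := by
  obtain ⟨m, hm⟩ := hodd
  refine ⟨a ^ (m + 1), Subgroup.pow_mem _ ha _, ?_⟩
  have hpow : a ^ Nat.card A = 1 := by
    have hdA : orderOf a ∣ Nat.card A := by
      have := orderOf_dvd_natCard (⟨a, ha⟩ : ↥A)
      rwa [Subgroup.orderOf_mk] at this
    exact orderOf_dvd_iff_pow_eq_one.mp hdA
  rw [← pow_add]
  have : m + 1 + (m + 1) = Nat.card A + 1 := by omega
  rw [this, pow_succ, hpow, one_mul]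

end NINV

open NINV in
/-- PIECE NINV: involutions in the normalizer of a self-centralizing subgroup of odd order. -/
theorem normalizer_invol {A : Subgroup G} (hA : SelfCent A) (hne : A ≠ ⊥) (hodd : Odd (Nat.card A)) {v : G}
    (hv : orderOf v = 2) (hvN : v ∈ Subgroup.normalizer (A : Set G)) :
    (∀ a ∈ A, v * a * v⁻¹ = a⁻¹) ∧
      (∀ w ∈ Subgroup.normalizer (A : Set G), orderOf w = 2 → ∃ a ∈ A, w = a * v) ∧
      Subgroup.normalizer (A : Set G) =
        A ⊔ (Subgroup.normalizer (A : Set G) ⊓ Subgroup.centralizer ({v} : Set G)) ∧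
      A ⊓ Subgroup.centralizer ({v} : Set G) = ⊥ ∧
      (∀ w ∈ Subgroup.normalizer (A : Set G) ⊓ Subgroup.centralizer ({v} : Set G),
        orderOf w = 2 → w = v) := by
  have hvinv := inv_of_order_two hv
  have h1 : ∀ a ∈ A, v * a * v⁻¹ = a⁻¹ := inverts hA hodd hv hvN
  -- (2)
  have h2 : ∀ w ∈ Subgroup.normalizer (A : Set G), orderOf w = 2 → ∃ a ∈ A, w = a * v := by
    intro w hwN hw
    have hw1 : ∀ a ∈ A, w * a * w⁻¹ = a⁻¹ := inverts hA hodd hw hwN
    obtain ⟨a0, ha01⟩ := (Subgroup.ne_bot_iff_exists_ne_one).mp hne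
    have ha01' : (a0 : G) ≠ 1 := fun h => ha01 (Subtype.ext h)
    have hc : w * v⁻¹ ∈ Subgroup.centralizer ({(a0 : G)} : Set G) := by
      rw [Subgroup.mem_centralizer_singleton_iff]
      have e1 : v⁻¹ * (a0 : G) * v = (a0 : G)⁻¹ := by
        have := h1 a0 a0.2
        rw [hvinv] at this ⊢
        exact this
      have e2 : w * (a0 : G)⁻¹ * w⁻¹ = (a0 : G) := by
        have := hw1 (a0 : G)⁻¹ (Subgroup.inv_mem _ a0.2)
        rw [inv_inv] at this
        exact this
      calc w * v⁻¹ * (a0 : G) = w * (v⁻¹ * (a0 : G) * v) * w⁻¹ * (w * v⁻¹) := by group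
        _ = (a0 : G) * (w * v⁻¹) := by rw [e1, e2]
    rw [hA (a0 : G) a0.2 ha01'] at hc
    exact ⟨w * v⁻¹, hc, by group⟩
  -- (4)
  have h4 : A ⊓ Subgroup.centralizer ({v} : Set G) = ⊥ := by
    rw [eq_bot_iff]
    intro a ha
    obtain ⟨haA, haC⟩ := Subgroup.mem_inf.mp ha
    rw [Subgroup.mem_centralizer_singleton_iff] at haC
    rw [Subgroup.mem_bot]
    apply eq_one_of_sq hodd haA
    have e := h1 a haA
    have e' : v * a * v⁻¹ = a := by
      calc v * a * v⁻¹ = a * v * v⁻¹ := by rw [← haC]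
        _ = a := by group
    rw [e'] at e
    calc a * a = a * a⁻¹ := by rw [← e]
      _ = 1 := mul_inv_cancel a
  refine ⟨h1, h2, ?_, h4, ?_⟩
  · -- (3)
    apply le_antisymm
    · intro g hg
      have hconjN : g * v * g⁻¹ ∈ Subgroup.normalizer (A : Set G) :=
        Subgroup.mul_mem _ (Subgroup.mul_mem _ hg hvN) (Subgroup.inv_mem _ hg)
      have hconj2 : orderOf (g * v * g⁻¹) = 2 := by
        rw [← hv]; exact (MulAut.conj g).orderOf_eq v
      obtain ⟨a, haA, hav⟩ := h2 _ hconjN hconj2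
      obtain ⟨b, hbA, hbb⟩ := exists_sq hodd haA
      have hbv : b * v * b⁻¹ = a * v := by
        have e := h1 b⁻¹ (Subgroup.inv_mem _ hbA)
        rw [inv_inv] at e
        calc b * v * b⁻¹ = b * (v * b⁻¹ * v⁻¹) * v := by group
          _ = b * b * v := by rw [e]
          _ = a * v := by rw [hbb]
      have hcv : b⁻¹ * g ∈ Subgroup.centralizer ({v} : Set G) := by
        rw [Subgroup.mem_centralizer_singleton_iff]
        have e : g * v * g⁻¹ = b * v * b⁻¹ := by rw [hav, hbv]
        calc b⁻¹ * g * v = b⁻¹ * (g * v * g⁻¹) * g := by group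
          _ = b⁻¹ * (b * v * b⁻¹) * g := by rw [e]
          _ = v * (b⁻¹ * g) := by group
      have hbN : b ∈ Subgroup.normalizer (A : Set G) := Subgroup.le_normalizer hbA
      have hmem : b⁻¹ * g ∈ Subgroup.normalizer (A : Set G) ⊓ Subgroup.centralizer ({v} : Set G) :=
        Subgroup.mem_inf.mpr ⟨Subgroup.mul_mem _ (Subgroup.inv_mem _ hbN) hg, hcv⟩
      have : g = b * (b⁻¹ * g) := by group
      rw [this]
      exact Subgroup.mul_mem _ (Subgroup.mem_sup_left hbA) (Subgroup.mem_sup_right hmem)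
    · exact sup_le Subgroup.le_normalizer inf_le_left
  · -- (5)
    intro w hw hw2
    obtain ⟨hwN, hwC⟩ := Subgroup.mem_inf.mp hw
    obtain ⟨a, haA, hwa⟩ := h2 w hwN hw2
    rw [Subgroup.mem_centralizer_singleton_iff] at hwC
    have haC : a ∈ Subgroup.centralizer ({v} : Set G) := by
      rw [Subgroup.mem_centralizer_singleton_iff]
      have : a = w * v⁻¹ := by rw [hwa]; group
      rw [this]
      calc w * v⁻¹ * v = v⁻¹ * (v * w) := by group
        _ = v⁻¹ * (w * v) := by rw [hwC]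
        _ = v * (w * v⁻¹) := by rw [hvinv]
    have : a ∈ A ⊓ Subgroup.centralizer ({v} : Set G) := Subgroup.mem_inf.mpr ⟨haA, haC⟩
    rw [h4, Subgroup.mem_bot] at this
    rw [hwa, this, one_mul]

end Cfsg.Agent.Helper3.BSW
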