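import Mathlib
import Cfsg.Agent.Lib.Helper3.BSWDefs
import Cfsg.Agent.Lib.Helper14.BSWTICOUNT

/-!
# S3282 piece SCTI: self-centralizing subgroups are TI and abelian
-/

set_option autoImplicit false
set_option linter.unusedSectionVars false
set_option linter.unusedVariables false

namespace Cfsg.Agent.Helper3.BSW

universe u

variable {G : Type u} [Group G] [Finite G]

namespace SCTI

theorem mem_Kc (A : Subgroup G) (g y : G) : y ∈ Kc A g ↔ ∃ a ∈ A, g * a * g⁻¹ = y := by
  unfold Kc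
  rw [Subgroup.mem_map]
  rfl

theorem Kc_eq_of_mem_normalizer {A : Subgroup G} {g : G}
    (hg : g ∈ Subgroup.normalizer (A : Set G)) : Kc A g = A := by
  ext y
  rw [mem_Kc]
  constructor
  · rintro ⟨a, ha, rfl⟩
    exact (Subgroup.mem_normalizer_iff.mp hg a).mp ha
  · intro hy
    refine ⟨g⁻¹ * y * g, ?_, by group⟩
    have := (Subgroup.mem_normalizer_iff.mp (Subgroup.inv_mem _ hg) y).mp hy
    simpa using this

end SCTI

/-- PIECE SCTI. -/
theorem selfCent_ti {A : Subgroup G} (hA : SelfCent A) (g : G) (hne : A ⊓ Kc A g ≠ ⊥) :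
    Kc A g = A := by
  obtain ⟨x, hx1⟩ := (Subgroup.ne_bot_iff_exists_ne_one).mp hne
  have hx' : (x : G) ∈ A ⊓ Kc A g := x.2
  obtain ⟨hxA, hxK⟩ := Subgroup.mem_inf.mp hx'
  obtain ⟨a, ha, hax⟩ := (SCTI.mem_Kc A g x).mp hxK
  have ha1 : a ≠ 1 := by
    intro h
    apply hx1
    apply Subtype.ext
    rw [← hax, h]
    simp
  exact SCTI.Kc_eq_of_mem_normalizer (TICOUNT.mem_normalizer hA ha ha1 (by rw [hax]; exact hxA))

/-- PIECE SCTI. -/
theorem selfCent_normalizer {A X : Subgroup G} (hA : SelfCent A) (hX : X ≤ A) (hne : X ≠ ⊥) :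
    Subgroup.normalizer (X : Set G) ≤ Subgroup.normalizer (A : Set G) := by
  intro n hn
  obtain ⟨x, hx1⟩ := (Subgroup.ne_bot_iff_exists_ne_one).mp hne
  have hx1' : (x : G) ≠ 1 := fun h => hx1 (Subtype.ext h)
  have hxX : n * (x : G) * n⁻¹ ∈ X := (Subgroup.mem_normalizer_iff.mp hn x).mp x.2
  exact TICOUNT.mem_normalizer hA (hX x.2) hx1' (hX hxX)

/-- PIECE SCTI: a self-centralizing subgroup is abelian. -/
theorem selfCent_comm {A : Subgroup G} (hA : SelfCent A) : ∀ a ∈ A, ∀ b ∈ A, a * b = b * a := by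
  intro a ha b hb
  by_cases h1 : a = 1
  · rw [h1]; simp
  · have hb' : b ∈ Subgroup.centralizer ({a} : Set G) := by rw [hA a ha h1]; exact hb
    rw [Subgroup.mem_centralizer_singleton_iff] at hb'
    exact hb'.symm

end Cfsg.Agent.Helper3.BSW
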