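import Mathlib
import Cfsg.Prelude.Def_LinearParabolics
import Cfsg.Agent.Lib.Helper13.SemisimpleCharpolyGL

/-!
# S2425 (helper14): the Steinberg character of `GL_n(q)` at elements of order prime to the characteristic - definitions

See `plans/S2425_plan.md`.  Everything lives in the namespace `Cfsg.Agent.Helper14.StGL`.
-/

set_option autoImplicit false

namespace Cfsg.Agent.Helper14.StGL

open Module Polynomial Cfsg.Agent.Helper13.SS

open scoped Classical MatrixGroups

section defs

variable {F : Type*} [Field F] {V : Type*} [AddCommGroup V] [Module F V]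

/-- `W` is invariant under `g` -/
def Inv (g : Module.End F V) (W : Submodule F V) : Prop := ∀ v ∈ W, g v ∈ W

/-- the kernel of `f(g)` -/
noncomputable def Kf (g : Module.End F V) (f : F[X]) : Submodule F V := LinearMap.ker (aeval g f)

/-- `γ(Q, k) = (-1)^k Q^(k choose 2)`, the Moebius number of the lattice of subspaces of a `k`-dimensional space over the
field with `Q` elements -/
def gam (Q k : ℕ) : ℤ := (-1) ^ k * (Q : ℤ) ^ (k.choose 2)

/-- the multiplicative function on the invariant subspaces -/
noncomputable def Gfun (q : ℕ) (g : Module.End F V) (S : Finset F[X]) (W : Submodule F V) : ℤ :=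
  ∏ f ∈ S, gam (q ^ f.natDegree) (finrank F ↥(W ⊓ Kf g f) / f.natDegree)

/-- `C` is a chain of `g`-invariant subspaces strictly between `⊥` and `U` -/
def IsInvChain (g : Module.End F V) (U : Submodule F V) (C : Finset (Submodule F V)) : Prop :=
  (∀ W ∈ C, Inv g W ∧ ⊥ < W ∧ W < U) ∧ IsChain (· ≤ ·) (C : Set (Submodule F V))

end defs

section gl

variable {F : Type*} [Field F] {n : ℕ}

/-- the span of the first `d` vectors of the standard basis -/
def std (F : Type*) [Field F] (n d : ℕ) : Submodule F (Fin n → F) where
  carrier := {v | ∀ i : Fin n, d ≤ i.val → v i = 0}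
  add_mem' := fun {a} {b} ha hb i hi => by
    rw [Pi.add_apply, ha i hi, hb i hi, add_zero]
  zero_mem' := fun _ _ => rfl
  smul_mem' := fun c {a} ha i hi => by
    rw [Pi.smul_apply, ha i hi, smul_zero]

/-- the partial sums `μ 0 + ⋯ + μ j` that lie strictly between `0` and `n` -/
def core (μ : Fin n → ℕ) : Finset ℕ :=
  (Finset.univ.image fun j : Fin n => ∑ k ∈ Finset.univ.filter (fun k : Fin n => k ≤ j), μ k).filter
    fun d => 0 < d ∧ d < n

/-- the composition attached to a permutation in the definition of the Steinberg character -/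
def muK (κ : Equiv.Perm (Fin n)) : Fin n → ℕ := fun i => 1 + i.val - (κ i).val

/-- the condition on the permutations in the definition of the Steinberg character -/
def CondK (κ : Equiv.Perm (Fin n)) : Prop := ∀ i : Fin n, (κ i).val ≤ 1 + i.val

/-- `C` is an `x`-invariant flag with set of dimensions `D` -/
def IsInvFlag (g : Module.End F (Fin n → F)) (D : Finset ℕ) (C : Finset (Submodule F (Fin n → F))) : Prop :=
  IsChain (· ≤ ·) (C : Set (Submodule F (Fin n → F))) ∧ C.image (fun W : Submodule F (Fin n → F) => finrank F ↥W) = D ∧ ∀ W ∈ C, Inv g W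

end gl

end Cfsg.Agent.Helper14.StGL
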