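import Mathlib

/-!
S5286 piece LS-GEO (helper14): `word_geo` for reduced words in a free group.  Pure Mathlib.
-/

namespace Cfsg.Agent.Helper3.LS

universe u

variable {α : Type u} [DecidableEq α]

/-- `mk` of a reduced list has that list as its word. -/
theorem ls_geo_toWord_mk {L : List (α × Bool)} (h : FreeGroup.IsReduced L) :
    (FreeGroup.mk L).toWord = L := by
  rw [FreeGroup.toWord_mk, h.reduce_eq]

/-- Multiplying by one letter either appends it or cancels the last letter. -/
theorem ls_geo_mul_letter (v : FreeGroup α) (l : α × Bool) :
    (v * FreeGroup.mk [l]).toWord = v.toWord ++ [l] ∨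
      v.toWord = (v * FreeGroup.mk [l]).toWord ++ [(l.1, !l.2)] := by
  have hv : FreeGroup.IsReduced v.toWord := FreeGroup.isReduced_toWord
  have hmul : v * FreeGroup.mk [l] = FreeGroup.mk (v.toWord ++ [l]) := by
    rw [← FreeGroup.mul_mk, FreeGroup.mk_toWord]
  by_cases hlast : v.toWord.getLast? = some (l.1, !l.2)
  · right
    obtain ⟨A', hA'⟩ : ∃ A', v.toWord = A' ++ [(l.1, !l.2)] := by
      rcases List.eq_nil_or_concat v.toWord with h | ⟨A', b, h⟩
      · simp [h] at hlast
      · refine ⟨A', ?_⟩
        rw [h, List.concat_eq_append] at hlast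
        rw [h, List.concat_eq_append]
        simp at hlast
        rw [hlast]
    have hA'red : FreeGroup.IsReduced A' := hv.infix ⟨[], [(l.1, !l.2)], by simp [hA']⟩
    have hmk : v * FreeGroup.mk [l] = FreeGroup.mk A' := by
      rw [hmul, hA']
      have hstep : FreeGroup.Red.Step (A' ++ (l.1, !l.2) :: (l.1, l.2) :: []) (A' ++ []) :=
        FreeGroup.Red.Step.not_rev
      have : A' ++ [(l.1, !l.2)] ++ [l] = A' ++ (l.1, !l.2) :: (l.1, l.2) :: [] := by simp
      rw [this]
      have h2 : FreeGroup.mk (A' ++ (l.1, !l.2) :: (l.1, l.2) :: []) = FreeGroup.mk (A' ++ []) :=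
        Quot.sound hstep
      simpa using h2
    rw [hmk, ls_geo_toWord_mk hA'red]
    exact hA'
  · left
    rw [hmul]
    apply ls_geo_toWord_mk
    rw [FreeGroup.IsReduced, List.isChain_append]
    refine ⟨hv, List.isChain_singleton _, ?_⟩
    intro x hx y hy hxy
    simp at hy
    subst hy
    by_contra hne
    apply hlast
    rw [Option.mem_def] at hx
    rw [hx]
    congr 1
    ext
    · exact hxy
    · simp only
      cases hx2 : x.2 <;> cases hy2 : l.2 <;> simp_all

/-- List form of `word_geo`. -/
theorem ls_geo_aux (C : List (α × Bool)) :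
    ∀ (a : FreeGroup α) (D : List (α × Bool)), FreeGroup.IsReduced (C ++ D) →
      (a * FreeGroup.mk C).toWord <+: a.toWord ∨
        (a * FreeGroup.mk C).toWord <+: (a * FreeGroup.mk C * FreeGroup.mk D).toWord := by
  induction C with
  | nil =>
    intro a D _
    left
    have : (FreeGroup.mk ([] : List (α × Bool))) = 1 := rfl
    rw [this, mul_one]
  | cons l C' ih =>
    intro a D hred
    have hsplit : a * FreeGroup.mk (l :: C') = a * FreeGroup.mk [l] * FreeGroup.mk C' := by
      rw [mul_assoc, FreeGroup.mul_mk]; rfl
    have hred' : FreeGroup.IsReduced (C' ++ D) := hred.infix ⟨[l], [], by simp⟩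
    have hC'red : FreeGroup.IsReduced C' := hred.infix ⟨[l], D, by simp⟩
    rw [hsplit]
    rcases ih (a * FreeGroup.mk [l]) D hred' with h1 | h2
    · rcases ls_geo_mul_letter a l with hA | hB
      · rw [hA, List.prefix_concat_iff] at h1
        rcases h1 with h1 | h1
        · -- `C' = []`
          have hC' : C' = [] := by
            rw [← hA] at h1
            have h3 := FreeGroup.toWord_injective h1
            have h4 : FreeGroup.mk C' = 1 := by
              have := mul_left_cancel (a := a * FreeGroup.mk [l]) (b := FreeGroup.mk C') (c := 1)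
                (by rw [mul_one]; exact h3)
              exact this
            have h5 := congrArg FreeGroup.toWord h4
            rw [ls_geo_toWord_mk hC'red, FreeGroup.toWord_one] at h5
            exact h5
          subst hC'
          right
          have h1' : (FreeGroup.mk ([] : List (α × Bool))) = 1 := rfl
          rw [h1', mul_one]
          have hAl : FreeGroup.IsReduced (a.toWord ++ [l]) := by
            rw [← hA]; exact FreeGroup.isReduced_toWord
          have hlD : FreeGroup.IsReduced ([l] ++ D) := by simpa using hred
          have hall : FreeGroup.IsReduced (a.toWord ++ [l] ++ D) :=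
            hAl.append_overlap hlD (by simp)
          have hprod : a * FreeGroup.mk [l] * FreeGroup.mk D =
              FreeGroup.mk (a.toWord ++ [l] ++ D) := by
            rw [← FreeGroup.mul_mk, ← FreeGroup.mul_mk, FreeGroup.mk_toWord]
          rw [hprod, ls_geo_toWord_mk hall, hA]
          exact List.prefix_append _ _
        · left; exact h1
      · left
        refine h1.trans ?_
        rw [hB]
        exact List.prefix_append _ _
    · right; exact h2

/-- LS-GEO: a vertex on the geodesic from `a` to `a*c*d` lies on the geodesic from `1` to `a` or on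
the geodesic from `1` to `a*c*d`. -/
theorem word_geo (a c d : FreeGroup α) (h : (c * d).toWord = c.toWord ++ d.toWord) :
    (a * c).toWord <+: a.toWord ∨ (a * c).toWord <+: (a * c * d).toWord := by
  have hred : FreeGroup.IsReduced (c.toWord ++ d.toWord) := by
    rw [← h]; exact FreeGroup.isReduced_toWord
  have := ls_geo_aux c.toWord a d.toWord hred
  rwa [FreeGroup.mk_toWord, FreeGroup.mk_toWord] at this

end Cfsg.Agent.Helper3.LS
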