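import Mathlib
import Cfsg.Agent.Lib.Helper3.LSDefs
import Cfsg.Agent.Lib.Helper3.LSDefs2
import Cfsg.Agent.Lib.Helper3.LSW34
import Cfsg.Agent.Lib.Helper19.LSACT1
import Cfsg.Agent.Lib.Helper14.LSGEO

/-!
S5286 piece LS-FIX (helper14), core: a finite `q`-subgroup of `W` fixes a vertex of the hull of the
orbit of `1`.  The tree count `word_count` (piece LS-COUNT) is taken as a hypothesis here.
-/

set_option autoImplicit false

noncomputable section

namespace Cfsg.Agent.Helper3.LS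

universe u

variable {Sg : Type u} [Group Sg] (D : Data Sg)

/-- The hull of the orbit of `1` under `H`: all prefixes of the vertices `h • 1`. -/
def lsFixHull (H : Subgroup D.W) : Set (FreeGroup D.X) :=
  {u | ∃ h ∈ H, u.toWord <+: (h • (1 : FreeGroup D.X)).toWord}

theorem ls_fix_hull_finite (H : Subgroup D.W) [Finite H] : (lsFixHull D H).Finite := by
  have hsub : lsFixHull D H ⊆
      ⋃ h : H, (((h : D.W) • (1 : FreeGroup D.X)).toWord.inits.map FreeGroup.mk).toFinset := by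
    intro u hu
    obtain ⟨h, hh, hpre⟩ := hu
    rw [Set.mem_iUnion]
    refine ⟨⟨h, hh⟩, ?_⟩
    rw [Finset.mem_coe, List.mem_toFinset, List.mem_map]
    exact ⟨u.toWord, (List.mem_inits _ _).2 hpre, FreeGroup.mk_toWord⟩
  refine Set.Finite.subset ?_ hsub
  exact Set.finite_iUnion (fun h => Finset.finite_toSet _)

theorem ls_fix_one_mem (H : Subgroup D.W) : (1 : FreeGroup D.X) ∈ lsFixHull D H := by
  refine ⟨1, H.one_mem, ?_⟩
  rw [FreeGroup.toWord_one]
  exact List.nil_prefix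

theorem ls_fix_prefix_mem (H : Subgroup D.W) {v : FreeGroup D.X} (hv : v ∈ lsFixHull D H)
    (u : FreeGroup D.X) (hu : u.toWord <+: v.toWord) : u ∈ lsFixHull D H := by
  obtain ⟨h, hh, hpre⟩ := hv
  exact ⟨h, hh, hu.trans hpre⟩

/-- The hull is invariant. -/
theorem ls_fix_smul_mem (H : Subgroup D.W) {u : FreeGroup D.X} (hu : u ∈ lsFixHull D H)
    (k : D.W) (hk : k ∈ H) : k • u ∈ lsFixHull D H := by
  obtain ⟨h, hh, hpre⟩ := hu
  set v : FreeGroup D.X := h • (1 : FreeGroup D.X) with hv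
  set d : FreeGroup D.X := u⁻¹ * v with hd
  have hvw : v.toWord = u.toWord ++ d.toWord := (word_prefix_iff u v).1 hpre
  have hud : u * d = v := by rw [hd, mul_inv_cancel_left]
  have hku : k • u = (k • (1 : FreeGroup D.X)) * D.θ k.right u := by
    conv_lhs => rw [← one_mul u]
    rw [smul_mul_eq]
  have hkv : k • v = (k • (1 : FreeGroup D.X)) * D.θ k.right u * D.θ k.right d := by
    rw [← hku, ← smul_mul_eq, hud]
  have hcd : (D.θ k.right u * D.θ k.right d).toWord =
      (D.θ k.right u).toWord ++ (D.θ k.right d).toWord := by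
    rw [← map_mul, hud, θ_toWord, θ_toWord, θ_toWord, hvw, List.map_append]
  rcases word_geo (k • (1 : FreeGroup D.X)) (D.θ k.right u) (D.θ k.right d) hcd with h1 | h2
  · refine ⟨k, hk, ?_⟩
    rw [hku]; exact h1
  · refine ⟨k * h, H.mul_mem hk hh, ?_⟩
    rw [mul_smul, ← hv, hkv, hku]; exact h2

/-- The invariant set of vertices. -/
def lsFixV (H : Subgroup D.W) : SubMulAction H (FreeGroup D.X) where
  carrier := lsFixHull D H
  smul_mem' := by
    intro c x hx
    exact ls_fix_smul_mem D H hx (c : D.W) c.2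

/-- The invariant set of (oriented) edges, as pairs of vertices. -/
def lsFixE (H : Subgroup D.W) : SubMulAction H (FreeGroup D.X × FreeGroup D.X) where
  carrier := {e | e.1 ∈ lsFixHull D H ∧ e.2 ∈ lsFixHull D H ∧ ∃ x : D.X, e.2 = e.1 * FreeGroup.of x}
  smul_mem' := by
    rintro c ⟨v, w⟩ ⟨hv, hw, x, hx⟩
    refine ⟨ls_fix_smul_mem D H hv (c : D.W) c.2, ls_fix_smul_mem D H hw (c : D.W) c.2,
      (c : D.W).right • x, ?_⟩
    show (c : D.W) • w = ((c : D.W) • v) * FreeGroup.of ((c : D.W).right • x)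
    simp only at hx
    rw [hx, smul_mul_eq, θ_of]

theorem ls_fix_card_E (H : Subgroup D.W) [Finite H] :
    Nat.card (lsFixE D H) =
      Nat.card {e : FreeGroup D.X × D.X // e.1 ∈ (ls_fix_hull_finite D H).toFinset ∧
        e.1 * FreeGroup.of e.2 ∈ (ls_fix_hull_finite D H).toFinset} := by
  symm
  refine Nat.card_congr (Equiv.ofBijective
    (fun e => (⟨(e.1.1, e.1.1 * FreeGroup.of e.1.2), ?_⟩ : lsFixE D H)) ⟨?_, ?_⟩)
  · obtain ⟨⟨v, x⟩, h1, h2⟩ := e
    rw [Set.Finite.mem_toFinset] at h1 h2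
    exact ⟨h1, h2, x, rfl⟩
  · rintro ⟨⟨v, x⟩, h1, h2⟩ ⟨⟨v', x'⟩, h1', h2'⟩ heq
    have heq' := congrArg Subtype.val heq
    simp only [Prod.mk.injEq] at heq'
    obtain ⟨hvv, hxx⟩ := heq'
    subst hvv
    have hx : x = x' := FreeGroup.of_injective (mul_left_cancel hxx)
    subst hx
    rfl
  · rintro ⟨⟨v, w⟩, hv, hw, x, hx⟩
    simp only at hx
    subst hx
    refine ⟨⟨(v, x), ?_, ?_⟩, rfl⟩
    · rw [Set.Finite.mem_toFinset]; exact hv
    · rw [Set.Finite.mem_toFinset]; exact hw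

theorem ls_fix_card_V (H : Subgroup D.W) [Finite H] :
    Nat.card (lsFixV D H) = (ls_fix_hull_finite D H).toFinset.card := by
  have : Nat.card (lsFixV D H) = Nat.card (lsFixHull D H) := rfl
  rw [this, Nat.card_coe_set_eq, Set.ncard_eq_toFinset_card _ (ls_fix_hull_finite D H)]

/-- LS-FIX core, with the tree count as a hypothesis. -/
theorem fix_of_pgroup_core
    (hcount : ∀ V : Finset (FreeGroup D.X), (1 : FreeGroup D.X) ∈ V →
      (∀ v ∈ V, ∀ u : FreeGroup D.X, u.toWord <+: v.toWord → u ∈ V) →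
      Nat.card {e : FreeGroup D.X × D.X // e.1 ∈ V ∧ e.1 * FreeGroup.of e.2 ∈ V} + 1 = V.card)
    (q : ℕ) [Fact q.Prime] (H : Subgroup D.W) [Finite H] (hq : IsPGroup q H) :
    ∃ v : FreeGroup D.X, (∀ h ∈ H, h • v = v) ∧
      ∃ h ∈ H, v.toWord <+: (h • (1 : FreeGroup D.X)).toWord := by
  by_contra hno
  have hfin := ls_fix_hull_finite D H
  have : Finite (lsFixV D H) := hfin.to_subtype
  have : Finite (lsFixE D H) := by
    have : (lsFixE D H).carrier ⊆ (lsFixHull D H) ×ˢ (lsFixHull D H) := by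
      rintro ⟨v, w⟩ ⟨hv, hw, _⟩
      exact ⟨hv, hw⟩
    exact ((hfin.prod hfin).subset this).to_subtype
  -- no fixed vertex
  have hVfix : Nat.card (MulAction.fixedPoints H (lsFixV D H)) = 0 := by
    rw [Nat.card_eq_zero]
    left
    refine ⟨fun ⟨⟨v, hv⟩, hfix⟩ => hno ⟨v, ?_, hv⟩⟩
    intro h hh
    have := hfix ⟨h, hh⟩
    exact congrArg Subtype.val this
  have hEfix : Nat.card (MulAction.fixedPoints H (lsFixE D H)) = 0 := by
    rw [Nat.card_eq_zero]
    left
    refine ⟨fun ⟨⟨⟨v, w⟩, hv, hw, hx⟩, hfix⟩ => hno ⟨v, ?_, hv⟩⟩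
    intro h hh
    have := hfix ⟨h, hh⟩
    have h2 := congrArg Subtype.val this
    exact congrArg Prod.fst h2
  have hV := hq.card_modEq_card_fixedPoints (lsFixV D H)
  have hE := hq.card_modEq_card_fixedPoints (lsFixE D H)
  rw [hVfix] at hV
  rw [hEfix] at hE
  have hc := hcount hfin.toFinset (by rw [Set.Finite.mem_toFinset]; exact ls_fix_one_mem D H)
    (by
      intro v hv u hu
      rw [Set.Finite.mem_toFinset] at hv ⊢
      exact ls_fix_prefix_mem D H hv u hu)
  rw [← ls_fix_card_E, ← ls_fix_card_V] at hc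
  have h1 : q ∣ Nat.card (lsFixV D H) := (Nat.modEq_zero_iff_dvd).1 hV
  have h2 : q ∣ Nat.card (lsFixE D H) := (Nat.modEq_zero_iff_dvd).1 hE
  rw [← hc] at h1
  have h3 : q ∣ 1 := (Nat.dvd_add_right h2).1 h1
  exact (Fact.out : q.Prime).one_lt.ne' (Nat.dvd_one.1 h3)

end Cfsg.Agent.Helper3.LS
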