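import Mathlib
import Cfsg.Agent.Lib.Helper14.LSFIXCore
import Cfsg.Agent.Lib.Helper10.LSCOUNT

/-!
S5286 piece LS-FIX (helper14): `fix_of_pgroup`, exact skeleton signature.
-/

set_option autoImplicit false

noncomputable section

namespace Cfsg.Agent.Helper3.LS

universe u

variable {Sg : Type u} [Group Sg] (D : Data Sg)

/-- LS-FIX: a finite q-subgroup of `W` fixes a vertex of the convex hull of the orbit of `1`. -/
theorem fix_of_pgroup (q : ℕ) [Fact q.Prime] (H : Subgroup D.W) [Finite H] (hq : IsPGroup q H) :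
    ∃ v : FreeGroup D.X, (∀ h ∈ H, h • v = v) ∧
      ∃ h ∈ H, v.toWord <+: (h • (1 : FreeGroup D.X)).toWord :=
  fix_of_pgroup_core D (fun V h1 hV => word_count V h1 hV) q H hq

end Cfsg.Agent.Helper3.LS
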