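import Mathlib
import Cfsg.Agent.Lib.Helper20.A3Defs

/-!
# S3117 piece F3 (helper14), core: a quadratic form with six zeros on `2^4`.

The parity statement P8 (a quadratic form on a group of order 8 has an even number of zeros) enters as a
HYPOTHESIS `hP8`, so this file depends on landed files only.

* span: if the zeros generate a proper subgroup `H`, take `w ∉ H`; the 7-term identity at `(w, x, y)` shows that the zero
  set is closed under multiplication, hence a subgroup of order 6 in a group of order 16.
* product: if the product `p` of the five nontrivial zeros is `≠ 1`, take a subgroup `H` of index 2 with `p ∉ H`;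
  an odd number of the five zeros lies outside `H`, so `H` contains an odd number of zeros, against P8.
-/

set_option autoImplicit false
set_option linter.unusedSectionVars false
set_option linter.unusedVariables false

namespace Cfsg.Agent.Helper20.A3

section Forms

variable {W : Type*} [Group W] [Finite W]

omit [Finite W] in
theorem f3_inv (hW : ∀ w : W, w * w = 1) (a : W) : a⁻¹ = a :=
  inv_eq_of_mul_eq_one_right (hW a)

omit [Finite W] in
theorem f3_comm (hW : ∀ w : W, w * w = 1) (a b : W) : a * b = b * a := by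
  calc a * b = (a * b)⁻¹ := (f3_inv hW (a * b)).symm
    _ = b⁻¹ * a⁻¹ := mul_inv_rev a b
    _ = b * a := by rw [f3_inv hW a, f3_inv hW b]

theorem f3_zmod2_seven : ∀ a : ZMod 2, a + a + a + a + a + a + a = 0 → a = 0 := by decide

omit [Finite W] in
theorem f3_Q_one (Q : W → ZMod 2) (hQ : IsQuad Q) : Q 1 = 0 := by
  have h := hQ 1 1 1
  simp only [mul_one] at h
  exact f3_zmod2_seven _ h

theorem f3_zmod2_ne : ∀ a : ZMod 2, a ≠ 0 → a = 1 := by decide

theorem f3_zmod2_add : ∀ a : ZMod 2, 1 + 1 + 1 + a + 1 + 0 + 0 = 0 → a = 0 := by decide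

/-- the zero set generates `W` -/
theorem f3_span (hW : ∀ w : W, w * w = 1) (Q : W → ZMod 2) (hQ : IsQuad Q)
    (hcard : Nat.card W = 16) (h6 : Nat.card (zer Q) = 6) : Subgroup.closure (zer Q) = ⊤ := by
  by_contra hne
  obtain ⟨w, hw⟩ : ∃ w : W, w ∉ Subgroup.closure (zer Q) := by
    by_contra hcon
    push_neg at hcon
    exact hne (eq_top_iff.mpr fun x _ => hcon x)
  have hsub : zer Q ⊆ Subgroup.closure (zer Q) := Subgroup.subset_closure
  -- elements of the coset `w H` are not zeros
  have hnz : ∀ h ∈ Subgroup.closure (zer Q), Q (w * h) = 1 := by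
    intro h hh
    apply f3_zmod2_ne
    intro h0
    have h1 : w * h ∈ Subgroup.closure (zer Q) := hsub h0
    apply hw
    have h2 : w = (w * h) * h⁻¹ := by group
    rw [h2]
    exact Subgroup.mul_mem _ h1 (Subgroup.inv_mem _ hh)
  have hmul : ∀ x ∈ zer Q, ∀ y ∈ zer Q, x * y ∈ zer Q := by
    intro x hx y hy
    have hxH := hsub hx
    have hyH := hsub hy
    have h := hQ w x y
    have e1 : Q (w * x * y) = 1 := by
      rw [mul_assoc]
      exact hnz (x * y) (Subgroup.mul_mem _ hxH hyH)
    rw [e1, hnz x hxH, hnz y hyH] at h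
    have hw1 : Q w = 1 := by
      have := hnz 1 (Subgroup.one_mem _)
      rwa [mul_one] at this
    rw [hw1, (mem_zer Q x).mp hx, (mem_zer Q y).mp hy] at h
    exact f3_zmod2_add _ h
  -- the zero set is a subgroup of order 6
  let Z : Subgroup W :=
    { carrier := zer Q
      one_mem' := f3_Q_one Q hQ
      mul_mem' := fun {a b} ha hb => hmul a ha b hb
      inv_mem' := fun {a} ha => by rw [f3_inv hW a]; exact ha }
  have hZ : Nat.card Z = 6 := h6
  have hdvd := Subgroup.card_subgroup_dvd_card Z
  rw [hZ, hcard] at hdvd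
  norm_num at hdvd

/-- a subgroup of index 2 avoiding a nontrivial element -/
theorem f3_exists_hyperplane (hW : ∀ w : W, w * w = 1) (p : W) (hp : p ≠ 1) :
    ∃ H : Subgroup W, p ∉ H ∧ H.index = 2 := by
  have hbot : p ∉ (⊥ : Subgroup W) := by
    rw [Subgroup.mem_bot]
    exact hp
  obtain ⟨H, -, hmax⟩ := Finite.exists_le_maximal (p := fun K : Subgroup W => p ∉ K) hbot
  have hpH : p ∉ H := hmax.prop
  refine ⟨H, hpH, ?_⟩
  have key : ∀ y : W, y ∉ H → y * p ∈ H := by
    intro y hy
    let H' : Subgroup W :=
      { carrier := {w | w ∈ H ∨ y * w ∈ H}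
        one_mem' := Or.inl H.one_mem
        mul_mem' := by
          rintro a b (ha | ha) (hb | hb)
          · exact Or.inl (H.mul_mem ha hb)
          · right
            have : y * (a * b) = a * (y * b) := by
              rw [← mul_assoc, f3_comm hW y a, mul_assoc]
            rw [this]
            exact H.mul_mem ha hb
          · right
            rw [← mul_assoc]
            exact H.mul_mem ha hb
          · left
            have : a * b = (y * a) * (y * b) := by
              rw [mul_assoc, ← mul_assoc a y b, f3_comm hW a y, mul_assoc y a b, ← mul_assoc y y,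
                hW y, one_mul]
            rw [this]
            exact H.mul_mem ha hb
        inv_mem' := by
          intro a ha
          rw [f3_inv hW a]
          exact ha }
    have hle : H ≤ H' := fun a ha => Or.inl ha
    have hyH' : y ∈ H' := Or.inr (by rw [hW y]; exact H.one_mem)
    by_contra hyp
    have hpH' : p ∉ H' := by
      rintro (h | h)
      · exact hpH h
      · exact hyp h
    have := hmax.le_of_ge hpH' hle
    exact hy (this hyH')
  rw [Subgroup.index_eq_two_iff]
  refine ⟨p, fun b => ?_⟩
  by_cases hb : b ∈ H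
  · refine Or.inr ⟨hb, fun h => hpH ?_⟩
    have : p = b⁻¹ * (b * p) := by group
    rw [this]
    exact H.mul_mem (H.inv_mem hb) h
  · exact Or.inl ⟨key b hb, hb⟩

/-- the product of the five nontrivial zeros is `1` (given the parity statement P8 for the subgroups of order 8) -/
theorem f3_prod (hW : ∀ w : W, w * w = 1) (Q : W → ZMod 2) (hQ : IsQuad Q)
    (hcard : Nat.card W = 16) (h6 : Nat.card (zer Q) = 6)
    (hP8 : ∀ H : Subgroup W, Nat.card H = 8 → ∀ Q' : ↥H → ZMod 2, IsQuad Q' →
      Even (Nat.card (zer Q')))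
    (x y z s t : W) (hx : x ∈ zer Q) (hy : y ∈ zer Q) (hz : z ∈ zer Q) (hs : s ∈ zer Q)
    (ht : t ∈ zer Q) (hnd : [1, x, y, z, s, t].Nodup) : x * y * z * s * t = 1 := by
  classical
  by_contra hp
  obtain ⟨H, hpH, hidx⟩ := f3_exists_hyperplane hW (x * y * z * s * t) hp
  have hH8 : Nat.card H = 8 := by
    have h := H.card_mul_index
    rw [hidx, hcard] at h
    omega
  -- the zero set is `{1, x, y, z, s, t}`
  have hZsub : (↑([1, x, y, z, s, t] : List W).toFinset : Set W) ⊆ zer Q := by
    intro v hv
    rw [Finset.mem_coe, List.mem_toFinset] at hv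
    simp only [List.mem_cons, List.not_mem_nil, or_false] at hv
    rcases hv with rfl | rfl | rfl | rfl | rfl | rfl
    exacts [f3_Q_one Q hQ, hx, hy, hz, hs, ht]
  have hZ : (↑([1, x, y, z, s, t] : List W).toFinset : Set W) = zer Q := by
    apply Set.eq_of_subset_of_ncard_le hZsub _ (Set.toFinite _)
    rw [Set.ncard_coe_finset, List.toFinset_card_of_nodup hnd, ← Nat.card_coe_set_eq, h6]
    rfl
  -- the restriction of `Q` to `H`
  have hQ' : IsQuad (fun h : ↥H => Q h.1) := fun a b c => hQ a.1 b.1 c.1
  have hev := hP8 H hH8 (fun h : ↥H => Q h.1) hQ'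
  -- the number of zeros in `H`
  have hcount : Nat.card (zer (fun h : ↥H => Q h.1)) =
      (([1, x, y, z, s, t] : List W).toFinset.filter (· ∈ H)).card := by
    rw [← Nat.card_eq_finsetCard]
    apply Nat.card_congr
    exact
      { toFun := fun h => ⟨h.1.1, by
          rw [Finset.mem_filter]
          refine ⟨?_, h.1.2⟩
          rw [← Finset.mem_coe, hZ]
          exact h.2⟩
        invFun := fun v => ⟨⟨v.1, (Finset.mem_filter.mp v.2).2⟩, by
          have h1 := (Finset.mem_filter.mp v.2).1
          rw [← Finset.mem_coe, hZ] at h1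
          exact h1⟩
        left_inv := fun h => rfl
        right_inv := fun v => rfl }
  have hsum : (([1, x, y, z, s, t] : List W).toFinset.filter (· ∈ H)).card =
      (if (1 : W) ∈ H then 1 else 0) + ((if x ∈ H then 1 else 0) + ((if y ∈ H then 1 else 0) +
        ((if z ∈ H then 1 else 0) + ((if s ∈ H then 1 else 0) + ((if t ∈ H then 1 else 0) + 0))))) := by
    rw [Finset.card_filter, List.sum_toFinset _ hnd]
    rfl
  rw [hcount, hsum, if_pos H.one_mem] at hev
  -- membership of the product
  have hmem : x * y * z * s * t ∈ H ↔ ((((x ∈ H ↔ y ∈ H) ↔ z ∈ H) ↔ s ∈ H) ↔ t ∈ H) := by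
    rw [Subgroup.mul_mem_iff_of_index_two hidx, Subgroup.mul_mem_iff_of_index_two hidx,
      Subgroup.mul_mem_iff_of_index_two hidx, Subgroup.mul_mem_iff_of_index_two hidx]
  rw [hmem] at hpH
  obtain ⟨k, hk⟩ := hev
  by_cases h1 : x ∈ H <;> by_cases h2 : y ∈ H <;> by_cases h3 : z ∈ H <;> by_cases h4 : s ∈ H <;>
    by_cases h5 : t ∈ H <;> simp only [h1, h2, h3, h4, h5, if_true, if_false, iff_true, iff_false,
      not_true_eq_false, not_false_eq_true, iff_self] at hpH hk <;> omega

/-- PIECE F3, core: with P8 for the subgroups of `W` as a hypothesis -/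
theorem f3_core (hW : ∀ w : W, w * w = 1) (Q : W → ZMod 2) (hQ : IsQuad Q)
    (hcard : Nat.card W = 16) (h6 : Nat.card (zer Q) = 6)
    (hP8 : ∀ H : Subgroup W, Nat.card H = 8 → ∀ Q' : ↥H → ZMod 2, IsQuad Q' →
      Even (Nat.card (zer Q'))) :
    (∀ x y z s t : W, x ∈ zer Q → y ∈ zer Q → z ∈ zer Q → s ∈ zer Q → t ∈ zer Q →
      [1, x, y, z, s, t].Nodup → x * y * z * s * t = 1) ∧
    Subgroup.closure (zer Q) = ⊤ :=
  ⟨fun x y z s t hx hy hz hs ht hnd => f3_prod hW Q hQ hcard h6 hP8 x y z s t hx hy hz hs ht hnd,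
    f3_span hW Q hQ hcard h6⟩

end Forms

end Cfsg.Agent.Helper20.A3
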