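import Mathlib
import Cfsg.Agent.Lib.Helper20.A3Defs
import Cfsg.Agent.Lib.Helper14.A3F3Core
import Cfsg.Agent.Lib.Helper2.A3P8

/-! # S3117 piece F3 (helper14): six zeros on `2^4` (elliptic form). -/

set_option autoImplicit false
set_option linter.unusedSectionVars false
set_option linter.unusedVariables false

namespace Cfsg.Agent.Helper20.A3

section Forms

variable {W : Type*} [Group W] [Finite W]

/-- **A3-F3.** Six zeros on `2^4` (elliptic form): the five nontrivial zeros multiply to `1`
and generate `W`. -/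
theorem zer_six (hW : ∀ w : W, w * w = 1) (Q : W → ZMod 2) (hQ : IsQuad Q)
    (hcard : Nat.card W = 16) (h6 : Nat.card (zer Q) = 6) :
    (∀ x y z s t : W, x ∈ zer Q → y ∈ zer Q → z ∈ zer Q → s ∈ zer Q → t ∈ zer Q →
      [1, x, y, z, s, t].Nodup → x * y * z * s * t = 1) ∧
    Subgroup.closure (zer Q) = ⊤ :=
  f3_core hW Q hQ hcard h6 fun H hH8 Q' hQ' =>
    zer_even_of_card_eight (fun w : ↥H => Subtype.ext (hW w.1)) Q' hQ' hH8

end Forms

end Cfsg.Agent.Helper20.A3
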