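import Mathlib
import Cfsg.Agent.Lib.Helper20.A3Defs

/-! # S3117 piece Q1 (helper14): a quadratic map sends `1` to `1`. -/

set_option autoImplicit false
set_option linter.unusedSectionVars false
set_option linter.unusedVariables false

namespace Cfsg.Agent.Helper20.A3

section Abs

variable {W U : Type*} [Group W] [Group U] [Finite W] [Finite U]

/-- **A3-Q1.** A quadratic map sends `1` to `1`. -/
theorem q_one (hU : ∀ u : U, u * u = 1) (q : W → U) (hq : IsQuadMap q) : q 1 = 1 := by
  have h := hq 1 1 1
  unfold bet at h
  simp only [mul_one] at h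
  rw [hU (q 1)] at h
  simp only [one_mul] at h
  rw [hU (q 1)] at h
  exact h

end Abs

end Cfsg.Agent.Helper20.A3
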