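import Mathlib
import Cfsg.Agent.Lib.Helper20.A3Defs

/-! # S3117 piece QL (helper14): composing a quadratic map with a character gives a quadratic form. -/

set_option autoImplicit false
set_option linter.unusedSectionVars false
set_option linter.unusedVariables false

namespace Cfsg.Agent.Helper20.A3

section Abs

variable {W U : Type*} [Group W] [Group U] [Finite W] [Finite U]

theorem ql_zmod2 : ∀ A B C D E F G : ZMod 2,
    A + B + G = C + E + G + (D + F + G) → A + B + C + D + E + F + G = 0 := by decide

/-- **A3-QL.** Composing a quadratic map with a character gives a quadratic form. -/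
theorem isQuad_comp (hU : ∀ u : U, u * u = 1) (q : W → U) (hq : IsQuadMap q)
    (l : U →* Multiplicative (ZMod 2)) :
    IsQuad (fun w => Multiplicative.toAdd (l (q w))) := by
  intro x y z
  have h := congrArg (fun u => Multiplicative.toAdd (l u)) (hq x y z)
  unfold bet at h
  simp only [map_mul, toAdd_mul] at h
  exact ql_zmod2 _ _ _ _ _ _ _ h

end Abs

end Cfsg.Agent.Helper20.A3
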