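import Mathlib
import Cfsg.Agent.Lib.Helper20.A3Defs
import Cfsg.Agent.Lib.Helper14.A3Q1

/-! # S3117 piece ZER (helper14): the zero set of `λ ∘ q` for an anisotropic `q`. -/

set_option autoImplicit false
set_option linter.unusedSectionVars false
set_option linter.unusedVariables false

namespace Cfsg.Agent.Helper20.A3

section Abs

variable {W U : Type*} [Group W] [Group U] [Finite W] [Finite U]

/-- **A3-ZER.** The zero set of `λ ∘ q` for an anisotropic `q`, `ker λ = {1, u}`: it is the
fibre over `u` together with `1`. -/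
theorem card_zer_comp (hU : ∀ u : U, u * u = 1) (q : W → U) (hq : IsQuadMap q)
    (hn0 : n0 q = 0) (u : U) (hu : u ≠ 1) (l : U →* Multiplicative (ZMod 2))
    (hl : ∀ v : U, l v = 1 ↔ (v = 1 ∨ v = u)) :
    Nat.card (zer (fun w => Multiplicative.toAdd (l (q w)))) =
      Nat.card {w : W // q w = u} + 1 := by
  have hq1 : q 1 = 1 := q_one hU q hq
  have haniso : ∀ w : W, q w = 1 → w = 1 := by
    intro w hw
    by_contra hw1
    unfold n0 at hn0
    have hne : Nonempty {w : W // w ≠ 1 ∧ q w = 1} := ⟨⟨w, hw1, hw⟩⟩
    have hpos : 0 < Nat.card {w : W // w ≠ 1 ∧ q w = 1} := Nat.card_pos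
    omega
  have hset : zer (fun w => Multiplicative.toAdd (l (q w))) = insert 1 {w : W | q w = u} := by
    ext w
    rw [mem_zer, Set.mem_insert_iff, Set.mem_setOf_eq]
    constructor
    · intro h
      have h1 : l (q w) = 1 := by
        apply Multiplicative.toAdd.injective
        rw [h]
        rfl
      rcases (hl (q w)).mp h1 with h2 | h2
      · exact Or.inl (haniso w h2)
      · exact Or.inr h2
    · intro h
      have h1 : l (q w) = 1 := by
        rcases h with h | h
        · rw [h, hq1]
          exact (hl 1).mpr (Or.inl rfl)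
        · exact (hl (q w)).mpr (Or.inr h)
      show Multiplicative.toAdd (l (q w)) = 0
      rw [h1]
      rfl
  have hnot : (1 : W) ∉ {w : W | q w = u} := by
    rw [Set.mem_setOf_eq, hq1]
    exact fun h => hu h.symm
  rw [hset, Nat.card_coe_set_eq, Set.ncard_insert_of_notMem hnot (Set.toFinite _),
    ← Nat.card_coe_set_eq]
  rfl

end Abs

end Cfsg.Agent.Helper20.A3
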