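import Mathlib

set_option autoImplicit false

namespace Cfsg.Agent.Helper2.AG

open Nat in
/-- NT-BINOM -/
theorem centralBinom_le_of_few_primes {n : ℕ} (hn : 2 < n)
    (hfew : ((Finset.Ioc n (2 * n)).filter Nat.Prime).card ≤ 2) :
    Nat.centralBinom n ≤ (2 * n) ^ Nat.sqrt (2 * n) * 4 ^ (2 * n / 3) * (2 * n) ^ 2 := by
  have n_pos : 0 < n := by omega
  have n2_pos : 1 ≤ 2 * n := by omega
  let f : ℕ → ℕ := fun x => x ^ n.centralBinom.factorization x
  have hprod : ∏ p ∈ Finset.range (2 * n + 1), f p = n.centralBinom :=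
    Nat.prod_pow_factorization_centralBinom n
  have hsplit := Finset.prod_filter_mul_prod_filter_not (Finset.range (2 * n + 1))
    (· ≤ 2 * n / 3) f
  -- first factor
  have hfil : (Finset.range (2 * n + 1)).filter (· ≤ 2 * n / 3) = Finset.range (2 * n / 3 + 1) := by
    ext x
    simp only [Finset.mem_filter, Finset.mem_range]
    constructor
    · rintro ⟨_, h⟩; omega
    · intro h
      have : 2 * n / 3 ≤ 2 * n := Nat.div_le_self _ _
      omega
  have h1 : ∏ p ∈ (Finset.range (2 * n + 1)).filter (· ≤ 2 * n / 3), f p ≤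
      (2 * n) ^ Nat.sqrt (2 * n) * 4 ^ (2 * n / 3) := by
    rw [hfil]
    let S := {p ∈ Finset.range (2 * n / 3 + 1) | Nat.Prime p}
    have : ∏ x ∈ S, f x = ∏ x ∈ Finset.range (2 * n / 3 + 1), f x := by
      refine Finset.prod_filter_of_ne fun p _ h => ?_
      contrapose h; dsimp only [f]
      rw [factorization_eq_zero_of_not_prime n.centralBinom h, _root_.pow_zero]
    rw [← this, ← Finset.prod_filter_mul_prod_filter_not S (· ≤ sqrt (2 * n))]
    apply mul_le_mul'
    · refine (Finset.prod_le_prod' fun p _ => (?_ : f p ≤ 2 * n)).trans ?_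
      · exact pow_factorization_choose_le (mul_pos two_pos n_pos)
      have : (Finset.Icc 1 (sqrt (2 * n))).card = sqrt (2 * n) := by
        rw [card_Icc, Nat.add_sub_cancel]
      rw [Finset.prod_const]
      refine pow_right_mono₀ n2_pos ((Finset.card_le_card fun x hx => ?_).trans this.le)
      obtain ⟨h1, h2⟩ := Finset.mem_filter.1 hx
      exact Finset.mem_Icc.mpr ⟨(Finset.mem_filter.1 h1).2.one_lt.le, h2⟩
    · refine le_trans ?_ (primorial_le_four_pow (2 * n / 3))
      refine (Finset.prod_le_prod' fun p hp => (?_ : f p ≤ p)).trans ?_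
      · obtain ⟨h1, h2⟩ := Finset.mem_filter.1 hp
        refine (pow_right_mono₀ (Finset.mem_filter.1 h1).2.one_lt.le ?_).trans (pow_one p).le
        exact Nat.factorization_choose_le_one (sqrt_lt'.mp <| not_le.1 h2)
      refine Finset.prod_le_prod_of_subset_of_one_le' (Finset.filter_subset _ _) ?_
      exact fun p hp _ => (Finset.mem_filter.1 hp).2.one_lt.le
  -- second factor
  have h2 : ∏ p ∈ (Finset.range (2 * n + 1)).filter (fun x => ¬ x ≤ 2 * n / 3), f p ≤
      (2 * n) ^ 2 := by
    set T := (Finset.range (2 * n + 1)).filter (fun x => ¬ x ≤ 2 * n / 3) with hT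
    have hred : ∏ p ∈ T.filter (fun p => p.Prime ∧ n < p), f p = ∏ p ∈ T, f p := by
      refine Finset.prod_filter_of_ne fun p hp h => ?_
      by_contra hcon
      apply h
      dsimp only [f]
      rw [hT, Finset.mem_filter, Finset.mem_range] at hp
      obtain ⟨hp1, hp2⟩ := hp
      by_cases hpr : p.Prime
      · have hpn : p ≤ n := by
          by_contra hpn
          exact hcon ⟨hpr, by omega⟩
        have h3 : 2 * n < 3 * p := by
          have := Nat.lt_of_div_lt_div (show 2 * n / 3 < 3 * p / 3 by
            rw [Nat.mul_div_cancel_left _ (by norm_num : 0 < 3)]; omega)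
          exact this
        rw [factorization_centralBinom_of_two_mul_self_lt_three_mul hn hpn h3, _root_.pow_zero]
      · rw [factorization_eq_zero_of_not_prime n.centralBinom hpr, _root_.pow_zero]
    rw [← hred]
    have hsub : T.filter (fun p => p.Prime ∧ n < p) ⊆ (Finset.Ioc n (2 * n)).filter Nat.Prime := by
      intro p hp
      rw [Finset.mem_filter, hT, Finset.mem_filter, Finset.mem_range] at hp
      rw [Finset.mem_filter, Finset.mem_Ioc]
      exact ⟨⟨hp.2.2, by omega⟩, hp.2.1⟩
    calc ∏ p ∈ T.filter (fun p => p.Prime ∧ n < p), f p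
        ≤ (2 * n) ^ (T.filter (fun p => p.Prime ∧ n < p)).card :=
          Finset.prod_le_pow_card _ _ _ fun p _ =>
            pow_factorization_choose_le (mul_pos two_pos n_pos)
      _ ≤ (2 * n) ^ 2 := pow_right_mono₀ n2_pos ((Finset.card_le_card hsub).trans hfew)
  calc n.centralBinom = ∏ p ∈ Finset.range (2 * n + 1), f p := hprod.symm
    _ = _ * _ := hsplit.symm
    _ ≤ _ := Nat.mul_le_mul h1 h2

end Cfsg.Agent.Helper2.AG
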