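import Mathlib

set_option autoImplicit false

namespace Cfsg.Agent.Helper2.AG

namespace NTSMALL

theorem chain_step {a b c d n : ℕ} (hb : b.Prime) (hc : c.Prime) (hd : d.Prime)
    (hbc : b < c) (hcd : c < d) (hda : d ≤ 2 * a) (han : a ≤ n) (hnb : n < b) :
    3 ≤ ((Finset.Ioc n (2 * n)).filter Nat.Prime).card := by
  have hsub : ({b, c, d} : Finset ℕ) ⊆ (Finset.Ioc n (2 * n)).filter Nat.Prime := by
    intro x hx
    simp only [Finset.mem_insert, Finset.mem_singleton] at hx
    simp only [Finset.mem_filter, Finset.mem_Ioc]
    rcases hx with rfl | rfl | rfl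
    · exact ⟨⟨by omega, by omega⟩, hb⟩
    · exact ⟨⟨by omega, by omega⟩, hc⟩
    · exact ⟨⟨by omega, by omega⟩, hd⟩
  have hcard : ({b, c, d} : Finset ℕ).card = 3 := by
    rw [Finset.card_insert_of_notMem, Finset.card_insert_of_notMem, Finset.card_singleton]
    · simp only [Finset.mem_singleton]; omega
    · simp only [Finset.mem_insert, Finset.mem_singleton]; omega
  calc 3 = ({b, c, d} : Finset ℕ).card := hcard.symm
    _ ≤ _ := Finset.card_le_card hsub

end NTSMALL

open NTSMALL in
/-- NT-SMALL -/
theorem three_primes_small {n : ℕ} (h9 : 9 ≤ n) (hn : n < 2048) :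
    3 ≤ ((Finset.Ioc n (2 * n)).filter Nat.Prime).card := by
  have p11 : Nat.Prime 11 := by norm_num
  have p13 : Nat.Prime 13 := by norm_num
  have p17 : Nat.Prime 17 := by norm_num
  have p19 : Nat.Prime 19 := by norm_num
  have p23 : Nat.Prime 23 := by norm_num
  have p31 : Nat.Prime 31 := by norm_num
  have p37 : Nat.Prime 37 := by norm_num
  have p43 : Nat.Prime 43 := by norm_num
  have p61 : Nat.Prime 61 := by norm_num
  have p73 : Nat.Prime 73 := by norm_num
  have p83 : Nat.Prime 83 := by norm_num
  have p113 : Nat.Prime 113 := by norm_num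
  have p139 : Nat.Prime 139 := by norm_num
  have p163 : Nat.Prime 163 := by norm_num
  have p223 : Nat.Prime 223 := by norm_num
  have p277 : Nat.Prime 277 := by norm_num
  have p317 : Nat.Prime 317 := by norm_num
  have p443 : Nat.Prime 443 := by norm_num
  have p547 : Nat.Prime 547 := by norm_num
  have p631 : Nat.Prime 631 := by norm_num
  have p883 : Nat.Prime 883 := by norm_num
  have p1093 : Nat.Prime 1093 := by norm_num
  have p1259 : Nat.Prime 1259 := by norm_num
  have p1759 : Nat.Prime 1759 := by norm_num
  have p2179 : Nat.Prime 2179 := by norm_num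
  have p2503 : Nat.Prime 2503 := by norm_num
  have p3517 : Nat.Prime 3517 := by norm_num
  rcases lt_or_ge n 11 with h | h
  · exact chain_step (a := 9) p11 p13 p17 (by norm_num) (by norm_num) (by norm_num) h9 h
  rcases lt_or_ge n 13 with h' | h'
  · exact chain_step (a := 11) p13 p17 p19 (by norm_num) (by norm_num) (by norm_num) h h'
  rcases lt_or_ge n 17 with h | h
  · exact chain_step (a := 13) p17 p19 p23 (by norm_num) (by norm_num) (by norm_num) h' h
  rcases lt_or_ge n 19 with h' | h'
  · exact chain_step (a := 17) p19 p23 p31 (by norm_num) (by norm_num) (by norm_num) h h'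
  rcases lt_or_ge n 23 with h | h
  · exact chain_step (a := 19) p23 p31 p37 (by norm_num) (by norm_num) (by norm_num) h' h
  rcases lt_or_ge n 31 with h' | h'
  · exact chain_step (a := 23) p31 p37 p43 (by norm_num) (by norm_num) (by norm_num) h h'
  rcases lt_or_ge n 37 with h | h
  · exact chain_step (a := 31) p37 p43 p61 (by norm_num) (by norm_num) (by norm_num) h' h
  rcases lt_or_ge n 43 with h' | h'
  · exact chain_step (a := 37) p43 p61 p73 (by norm_num) (by norm_num) (by norm_num) h h'
  rcases lt_or_ge n 61 with h | h
  · exact chain_step (a := 43) p61 p73 p83 (by norm_num) (by norm_num) (by norm_num) h' h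
  rcases lt_or_ge n 73 with h' | h'
  · exact chain_step (a := 61) p73 p83 p113 (by norm_num) (by norm_num) (by norm_num) h h'
  rcases lt_or_ge n 83 with h | h
  · exact chain_step (a := 73) p83 p113 p139 (by norm_num) (by norm_num) (by norm_num) h' h
  rcases lt_or_ge n 113 with h' | h'
  · exact chain_step (a := 83) p113 p139 p163 (by norm_num) (by norm_num) (by norm_num) h h'
  rcases lt_or_ge n 139 with h | h
  · exact chain_step (a := 113) p139 p163 p223 (by norm_num) (by norm_num) (by norm_num) h' h
  rcases lt_or_ge n 163 with h' | h'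
  · exact chain_step (a := 139) p163 p223 p277 (by norm_num) (by norm_num) (by norm_num) h h'
  rcases lt_or_ge n 223 with h | h
  · exact chain_step (a := 163) p223 p277 p317 (by norm_num) (by norm_num) (by norm_num) h' h
  rcases lt_or_ge n 277 with h' | h'
  · exact chain_step (a := 223) p277 p317 p443 (by norm_num) (by norm_num) (by norm_num) h h'
  rcases lt_or_ge n 317 with h | h
  · exact chain_step (a := 277) p317 p443 p547 (by norm_num) (by norm_num) (by norm_num) h' h
  rcases lt_or_ge n 443 with h' | h'
  · exact chain_step (a := 317) p443 p547 p631 (by norm_num) (by norm_num) (by norm_num) h h'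
  rcases lt_or_ge n 547 with h | h
  · exact chain_step (a := 443) p547 p631 p883 (by norm_num) (by norm_num) (by norm_num) h' h
  rcases lt_or_ge n 631 with h' | h'
  · exact chain_step (a := 547) p631 p883 p1093 (by norm_num) (by norm_num) (by norm_num) h h'
  rcases lt_or_ge n 883 with h | h
  · exact chain_step (a := 631) p883 p1093 p1259 (by norm_num) (by norm_num) (by norm_num) h' h
  rcases lt_or_ge n 1093 with h' | h'
  · exact chain_step (a := 883) p1093 p1259 p1759 (by norm_num) (by norm_num) (by norm_num) h h'
  rcases lt_or_ge n 1259 with h | h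
  · exact chain_step (a := 1093) p1259 p1759 p2179 (by norm_num) (by norm_num) (by norm_num) h' h
  rcases lt_or_ge n 1759 with h' | h'
  · exact chain_step (a := 1259) p1759 p2179 p2503 (by norm_num) (by norm_num) (by norm_num) h h'
  · exact chain_step (a := 1759) p2179 p2503 p3517 (by norm_num) (by norm_num) (by norm_num) h'
      (by omega)

end Cfsg.Agent.Helper2.AG
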