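import Mathlib
import Cfsg.Prelude.Def_Transfer
import Cfsg.Agent.Lib.Helper22.PResidual
import Cfsg.Agent.Lib.Helper1.Coprime

/-!
# The ambient `O^p` of a subgroup (helper14)
-/

set_option autoImplicit false

namespace Cfsg.Agent.Helper14

open Subgroup

variable {G : Type*} [Group G] {p : ℕ}

/-- `O^p(L)` as a subgroup of the ambient group -/
def oup (p : ℕ) (L : Subgroup G) : Subgroup G := (Cfsg.pResidual p ↥L).map L.subtype

theorem oup_le (L : Subgroup G) : oup p L ≤ L := by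
  unfold oup
  exact Subgroup.map_subtype_le _

theorem oup_eq_closure (L : Subgroup G) :
    oup p L = Subgroup.closure {g | g ∈ L ∧ (orderOf g).Coprime p} := by
  unfold oup Cfsg.pResidual
  rw [MonoidHom.map_closure]
  congr 1
  ext g
  constructor
  · rintro ⟨y, hy, rfl⟩
    refine ⟨y.2, ?_⟩
    have : orderOf ((L.subtype y : G)) = orderOf y := Subgroup.orderOf_coe y
    rw [this]
    exact hy
  · rintro ⟨hgL, hg⟩
    refine ⟨⟨g, hgL⟩, ?_, rfl⟩
    show (orderOf (⟨g, hgL⟩ : ↥L)).Coprime p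
    rw [Subgroup.orderOf_mk]
    exact hg

theorem mem_oup_of_coprime {L : Subgroup G} {g : G} (hg : g ∈ L) (h : (orderOf g).Coprime p) :
    g ∈ oup p L := by
  rw [oup_eq_closure]
  exact Subgroup.subset_closure ⟨hg, h⟩

theorem oup_mono {L M : Subgroup G} (h : L ≤ M) : oup p L ≤ oup p M := by
  rw [oup_eq_closure, oup_eq_closure]
  apply Subgroup.closure_mono
  rintro g ⟨hg, hc⟩
  exact ⟨h hg, hc⟩

theorem map_conj_oup_le {L : Subgroup G} {g : G} (hg : g ∈ normalizer (L : Set G)) :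
    (oup p L).map (MulAut.conj g).toMonoidHom ≤ oup p L := by
  rw [oup_eq_closure, MonoidHom.map_closure]
  apply Subgroup.closure_mono
  rintro _ ⟨y, ⟨hyL, hy⟩, rfl⟩
  refine ⟨?_, ?_⟩
  · show g * y * g⁻¹ ∈ L
    exact (Subgroup.mem_normalizer_iff.mp hg y).mp hyL
  · show (orderOf ((MulAut.conj g) y)).Coprime p
    rw [(MulAut.conj g).orderOf_eq y]
    exact hy

theorem normalizer_le_normalizer_oup (L : Subgroup G) :
    normalizer (L : Set G) ≤ normalizer (oup p L : Set G) := by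
  intro g hg
  rw [Subgroup.mem_normalizer_iff]
  intro n
  constructor
  · intro hn
    exact map_conj_oup_le hg ⟨n, hn, rfl⟩
  · intro hn
    have := map_conj_oup_le (p := p) (Subgroup.inv_mem _ hg) ⟨g * n * g⁻¹, hn, rfl⟩
    have e : (MulAut.conj g⁻¹).toMonoidHom (g * n * g⁻¹) = n := by
      show g⁻¹ * (g * n * g⁻¹) * g⁻¹⁻¹ = n
      group
    rwa [e] at this

theorem le_normalizer_oup (L : Subgroup G) : L ≤ normalizer (oup p L : Set G) :=
  Subgroup.le_normalizer.trans (normalizer_le_normalizer_oup L)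

/-- an element of order prime to `p` with a `p`-power power in `N` lies in `N` -/
theorem mem_of_pow_mem_of_coprime {N : Subgroup G} {g : G} {k : ℕ} (h : g ^ p ^ k ∈ N)
    (hc : (orderOf g).Coprime p) : g ∈ N := by
  have hc' : Nat.Coprime (p ^ k) (orderOf g) := (Nat.Coprime.pow_right k hc).symm
  obtain ⟨m, hm⟩ := exists_pow_eq_self_of_coprime hc'
  rw [← hm]
  exact N.pow_mem h m

theorem oup_le_of_pow_mem {N L : Subgroup G} (h : ∀ g ∈ L, ∃ k : ℕ, g ^ p ^ k ∈ N) :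
    oup p L ≤ N := by
  rw [oup_eq_closure, Subgroup.closure_le]
  rintro g ⟨hgL, hc⟩
  obtain ⟨k, hk⟩ := h g hgL
  exact mem_of_pow_mem_of_coprime hk hc

theorem exists_pow_mem_oup [Fact p.Prime] {L : Subgroup G} [Finite L] {g : G} (hg : g ∈ L) :
    ∃ k : ℕ, g ^ p ^ k ∈ oup p L := by
  obtain ⟨a, ha⟩ := Cfsg.Agent.Helper22.exists_pow_mem_pResidual (p := p) (⟨g, hg⟩ : ↥L)
  refine ⟨a, ?_⟩
  unfold oup
  exact ⟨_, ha, rfl⟩

theorem oup_oup [Fact p.Prime] (L : Subgroup G) : oup p (oup p L) = oup p L := by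
  apply le_antisymm (oup_le _)
  conv_lhs => rw [oup_eq_closure]
  rw [Subgroup.closure_le]
  rintro g ⟨hgL, hc⟩
  exact mem_oup_of_coprime (mem_oup_of_coprime hgL hc) hc

/-- powers of a product modulo a normalized subgroup -/
theorem mul_pow_mem_mul {K : Subgroup G} {k r : G} (hk : k ∈ K)
    (hr : r ∈ normalizer (K : Set G)) (n : ℕ) : ∃ k' ∈ K, (k * r) ^ n = k' * r ^ n := by
  induction n with
  | zero => exact ⟨1, K.one_mem, by simp⟩
  | succ n ih =>
    obtain ⟨k', hk', he⟩ := ih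
    have hrn : r ^ n ∈ normalizer (K : Set G) := Subgroup.pow_mem _ hr n
    refine ⟨k' * (r ^ n * k * (r ^ n)⁻¹), K.mul_mem hk' ((Subgroup.mem_normalizer_iff.mp hrn k).mp hk), ?_⟩
    rw [pow_succ, he, pow_succ]
    group

theorem exists_pow_mem_of_mem_sup {K R : Subgroup G} (hR : IsPGroup p R)
    (hRK : R ≤ normalizer (K : Set G)) {g : G} (hg : g ∈ K ⊔ R) : ∃ k : ℕ, g ^ p ^ k ∈ K := by
  obtain ⟨k, hk, r, hr, rfl⟩ := Cfsg.Agent.Helper1.exists_mul_of_mem_sup hRK hg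
  obtain ⟨j, hj⟩ := hR ⟨r, hr⟩
  have hj' : r ^ p ^ j = 1 := by
    have := congrArg Subtype.val hj
    simpa using this
  obtain ⟨k', hk', he⟩ := mul_pow_mem_mul hk (hRK hr) (p ^ j)
  refine ⟨j, ?_⟩
  rw [he, hj', mul_one]
  exact hk'

theorem coprime_mem_of_mem_sup {K R : Subgroup G} (hR : IsPGroup p R)
    (hRK : R ≤ normalizer (K : Set G)) {g : G} (hg : g ∈ K ⊔ R) (hc : (orderOf g).Coprime p) :
    g ∈ K := by
  obtain ⟨k, hk⟩ := exists_pow_mem_of_mem_sup hR hRK hg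
  exact mem_of_pow_mem_of_coprime hk hc

theorem oup_le_of_coprime_mem {L N : Subgroup G}
    (h : ∀ y ∈ L, (orderOf y).Coprime p → y ∈ N) : oup p L ≤ N := by
  rw [oup_eq_closure, Subgroup.closure_le]
  rintro y ⟨hy, hc⟩
  exact h y hy hc

theorem map_conj_oup_le_of {L N : Subgroup G} {g : G}
    (h : ∀ y ∈ L, (orderOf y).Coprime p → g * y * g⁻¹ ∈ N) :
    (oup p L).map (MulAut.conj g).toMonoidHom ≤ N := by
  rw [oup_eq_closure, MonoidHom.map_closure, Subgroup.closure_le]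
  rintro _ ⟨y, ⟨hy, hc⟩, rfl⟩
  exact h y hy hc

end Cfsg.Agent.Helper14
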