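import Mathlib
import Cfsg.Prelude.Def_LocalStructure
import Cfsg.Agent.Lib.Helper14.Spe
import Cfsg.Agent.Lib.Helper14.AmalgamZ
import Cfsg.Agent.Lib.Helper14.OupAmb
import Cfsg.Agent.Lib.Helper14.Frattini
import Cfsg.Agent.Lib.Helper22.PResidual

/-!
# The subgroups `V_δ^{(n)}` of the amalgam method (helper14)
-/

set_option autoImplicit false

namespace Cfsg.Agent.Helper14

open Cfsg

/-- In a nilpotent group, a normal subgroup `A` with `A ≤ B [A, N]` (`B` normal) lies in `B`. -/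
theorem le_of_le_sup_commutator_top {N : Type*} [Group N] [Group.IsNilpotent N] (A B : Subgroup N)
    [A.Normal] [B.Normal] (h : A ≤ B ⊔ ⁅A, (⊤ : Subgroup N)⁆) : A ≤ B := by
  have h1 : A.map (QuotientGroup.mk' B) ≤ ⁅A.map (QuotientGroup.mk' B), (⊤ : Subgroup (N ⧸ B))⁆ := by
    have := Subgroup.map_mono (f := QuotientGroup.mk' B) h
    rw [Subgroup.map_sup, QuotientGroup.map_mk'_self, bot_sup_eq, Subgroup.map_commutator,
      ← MonoidHom.range_eq_map (QuotientGroup.mk' B),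
      MonoidHom.range_eq_top.mpr (QuotientGroup.mk'_surjective B)] at this
    exact this
  have h2 : ∀ k, A.map (QuotientGroup.mk' B) ≤ (⊤ : Subgroup (N ⧸ B)).lowerCentralSeries k := by
    intro k
    induction k with
    | zero => simp
    | succ k ih => exact h1.trans (Subgroup.commutator_mono ih le_rfl)
  obtain ⟨c, hc⟩ := nilpotent_iff_lowerCentralSeries.mp (inferInstance : Group.IsNilpotent (N ⧸ B))
  have h3 : A.map (QuotientGroup.mk' B) = ⊥ := by
    rw [eq_bot_iff, ← hc]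
    exact h2 c
  rw [Subgroup.map_eq_bot_iff, QuotientGroup.ker_mk'] at h3
  exact h3

variable {X : Type*} [Group X]

/-- Ambient form: `V ≤ W [V, Q]` with `W ≤ V ≤ Q`, `Q` nilpotent normalizing `V` and `W`, gives `V ≤ W`. -/
theorem le_of_le_sup_commutator_nilpotent {Q V W : Subgroup X} [Group.IsNilpotent ↥Q]
    (hVQ : V ≤ Q) (hWV : W ≤ V) (hQV : Q ≤ Subgroup.normalizer (V : Set X))
    (hQW : Q ≤ Subgroup.normalizer (W : Set X)) (h : V ≤ W ⊔ ⁅V, Q⁆) : V ≤ W := by
  have hWQ : W ≤ Q := hWV.trans hVQ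
  have : (V.subgroupOf Q).Normal := (Subgroup.normal_subgroupOf_iff_le_normalizer hVQ).mpr hQV
  have : (W.subgroupOf Q).Normal := (Subgroup.normal_subgroupOf_iff_le_normalizer hWQ).mpr hQW
  have hcQ : ⁅V, Q⁆ ≤ Q := by
    rw [Subgroup.commutator_le]
    intro a ha b hb
    exact Q.mul_mem (Q.mul_mem (Q.mul_mem (hVQ ha) hb) (Q.inv_mem (hVQ ha))) (Q.inv_mem hb)
  have hc : (⁅V, Q⁆).subgroupOf Q = ⁅V.subgroupOf Q, (⊤ : Subgroup ↥Q)⁆ := by
    apply Subgroup.map_injective Q.subtype_injective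
    rw [Subgroup.map_commutator, Subgroup.map_subgroupOf_eq_of_le hcQ,
      Subgroup.map_subgroupOf_eq_of_le hVQ, ← MonoidHom.range_eq_map, Q.range_subtype]
  have h' : V.subgroupOf Q ≤ W.subgroupOf Q ⊔ ⁅V.subgroupOf Q, (⊤ : Subgroup ↥Q)⁆ := by
    rw [← hc, ← Subgroup.subgroupOf_sup hWQ hcQ]
    intro x hx
    exact h hx
  have := le_of_le_sup_commutator_top _ _ h'
  intro v hv
  exact this (show (⟨v, hVQ hv⟩ : ↥Q) ∈ V.subgroupOf Q from hv)

theorem sylowCenterClosure_map_equiv (p : ℕ) (φ : X ≃* X) (H : Subgroup X) :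
    sylowCenterClosure p (H.map φ.toMonoidHom) = (sylowCenterClosure p H).map φ.toMonoidHom := by
  apply le_antisymm
  · rw [sylowCenterClosure_le_iff]
    intro T hT
    have hT' : IsSylowOf p H (T.map φ.symm.toMonoidHom) := hT.of_map_equiv φ
    have h1 := omegaZ_le_sylowCenterClosure hT'
    have h2 := Subgroup.map_mono (f := φ.toMonoidHom) h1
    rw [← omegaZ_map_equiv, map_symm_map] at h2
    exact h2
  · rw [Subgroup.map_le_iff_le_comap, sylowCenterClosure_le_iff]
    intro T hT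
    rw [← Subgroup.map_le_iff_le_comap, ← omegaZ_map_equiv]
    exact omegaZ_le_sylowCenterClosure (hT.map_equiv φ)

variable {M₁ M₂ : Subgroup X}

theorem vertexZ_smul (p : ℕ) (g : X) (δ : CosetVertex M₁ M₂) :
    vertexZ p (g • δ) = (vertexZ p δ).map (MulAut.conj g).toMonoidHom := by
  show sylowCenterClosure p (MulAction.stabilizer X (g • δ)) = _
  rw [MulAction.stabilizer_smul_eq_stabilizer_map_conj]
  exact sylowCenterClosure_map_equiv p (MulAut.conj g) _

theorem cosetGraph_dist_smul_le (hc : (cosetGraph M₁ M₂).Connected) (g : X)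
    (a b : CosetVertex M₁ M₂) :
    (cosetGraph M₁ M₂).dist (g • a) (g • b) ≤ (cosetGraph M₁ M₂).dist a b := by
  obtain ⟨w, hw⟩ := hc.exists_walk_length_eq_dist a b
  have := SimpleGraph.dist_le (w.map (cosetGraphSmulHom g))
  rw [SimpleGraph.Walk.length_map, hw] at this
  exact this

theorem cosetGraph_dist_smul (hc : (cosetGraph M₁ M₂).Connected) (g : X)
    (a b : CosetVertex M₁ M₂) :
    (cosetGraph M₁ M₂).dist (g • a) (g • b) = (cosetGraph M₁ M₂).dist a b := by
  apply le_antisymm (cosetGraph_dist_smul_le hc g a b)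
  have := cosetGraph_dist_smul_le hc g⁻¹ (g • a) (g • b)
  rwa [inv_smul_smul, inv_smul_smul] at this

theorem vertexZ_le_vertexVIter {p : ℕ} {n : ℕ} {δ μ : CosetVertex M₁ M₂}
    (h : (cosetGraph M₁ M₂).dist δ μ ≤ n) : vertexZ p μ ≤ vertexVIter p M₁ M₂ n δ := by
  unfold vertexVIter
  exact le_iSup (fun ν : {ν : CosetVertex M₁ M₂ // (cosetGraph M₁ M₂).dist δ ν ≤ n} =>
    vertexZ p (ν : CosetVertex M₁ M₂)) ⟨μ, h⟩

theorem vertexVIter_le_iff {p : ℕ} {n : ℕ} {δ : CosetVertex M₁ M₂} {K : Subgroup X} :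
    vertexVIter p M₁ M₂ n δ ≤ K ↔
      ∀ μ : CosetVertex M₁ M₂, (cosetGraph M₁ M₂).dist δ μ ≤ n → vertexZ p μ ≤ K := by
  constructor
  · intro h μ hμ
    exact (vertexZ_le_vertexVIter hμ).trans h
  · intro h
    unfold vertexVIter
    apply iSup_le
    rintro ⟨μ, hμ⟩
    exact h μ hμ

theorem vertexZ_self_le_vertexVIter (p : ℕ) (n : ℕ) (δ : CosetVertex M₁ M₂) :
    vertexZ p δ ≤ vertexVIter p M₁ M₂ n δ := by
  apply vertexZ_le_vertexVIter
  rw [SimpleGraph.dist_self]
  exact Nat.zero_le n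

theorem vertexVIter_smul (hc : (cosetGraph M₁ M₂).Connected) (p : ℕ) (n : ℕ) (g : X)
    (δ : CosetVertex M₁ M₂) :
    vertexVIter p M₁ M₂ n (g • δ) = (vertexVIter p M₁ M₂ n δ).map (MulAut.conj g).toMonoidHom := by
  apply le_antisymm
  · rw [vertexVIter_le_iff]
    intro μ hμ
    have h1 : (cosetGraph M₁ M₂).dist δ (g⁻¹ • μ) ≤ n := by
      rw [← cosetGraph_dist_smul hc g, smul_inv_smul]
      exact hμ
    have h2 : vertexZ p μ = (vertexZ p (g⁻¹ • μ)).map (MulAut.conj g).toMonoidHom := by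
      rw [← vertexZ_smul, smul_inv_smul]
    rw [h2]
    exact Subgroup.map_mono (vertexZ_le_vertexVIter h1)
  · rw [Subgroup.map_le_iff_le_comap, vertexVIter_le_iff]
    intro μ hμ
    rw [← Subgroup.map_le_iff_le_comap, ← vertexZ_smul]
    apply vertexZ_le_vertexVIter
    rw [cosetGraph_dist_smul hc]
    exact hμ

theorem stabilizer_le_normalizer_vertexVIter (hc : (cosetGraph M₁ M₂).Connected) (p : ℕ) (n : ℕ)
    (δ : CosetVertex M₁ M₂) :
    MulAction.stabilizer X δ ≤ Subgroup.normalizer (vertexVIter p M₁ M₂ n δ : Set X) := by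
  apply le_normalizer_of_conj_mem
  intro g hg z hz
  have h := vertexVIter_smul hc p n g δ
  rw [MulAction.mem_stabilizer_iff.mp hg] at h
  rw [h]
  exact ⟨z, hz, rfl⟩

theorem vertexVIter_mono (p : ℕ) {n m : ℕ} (h : n ≤ m) (δ : CosetVertex M₁ M₂) :
    vertexVIter p M₁ M₂ n δ ≤ vertexVIter p M₁ M₂ m δ := by
  rw [vertexVIter_le_iff]
  intro μ hμ
  exact vertexZ_le_vertexVIter (hμ.trans h)

theorem vertexVIter_le_of_adj (hc : (cosetGraph M₁ M₂).Connected) (p : ℕ) {n m : ℕ} (h : n + 1 ≤ m)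
    {δ μ : CosetVertex M₁ M₂} (hadj : (cosetGraph M₁ M₂).Adj δ μ) :
    vertexVIter p M₁ M₂ n μ ≤ vertexVIter p M₁ M₂ m δ := by
  rw [vertexVIter_le_iff]
  intro ν hν
  apply vertexZ_le_vertexVIter
  have h1 : (cosetGraph M₁ M₂).dist δ ν ≤ (cosetGraph M₁ M₂).dist δ μ + (cosetGraph M₁ M₂).dist μ ν :=
    hc.dist_triangle
  have h2 : (cosetGraph M₁ M₂).dist δ μ = 1 := SimpleGraph.dist_eq_one_iff_adj.mpr hadj
  omega

/-- The vertex stabilizer is transitive on the neighbours. -/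
theorem exists_smul_eq_of_adj {δ μ μ' : CosetVertex M₁ M₂} (h : (cosetGraph M₁ M₂).Adj δ μ)
    (h' : (cosetGraph M₁ M₂).Adj δ μ') : ∃ g ∈ MulAction.stabilizer X δ, g • μ = μ' := by
  rcases δ with q | q
  · obtain ⟨x, rfl⟩ := QuotientGroup.mk_surjective q
    obtain ⟨m, hm, rfl⟩ := (adj_inl_iff x μ).mp h
    obtain ⟨m', hm', rfl⟩ := (adj_inl_iff x μ').mp h'
    refine ⟨x * m' * m⁻¹ * x⁻¹, ?_, ?_⟩
    · rw [mem_stabilizer_inl]
      have : x⁻¹ * (x * m' * m⁻¹ * x⁻¹) * x = m' * m⁻¹ := by group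
      rw [this]
      exact M₁.mul_mem hm' (M₁.inv_mem hm)
    · rw [smul_inr_mk]
      congr 2
      group
  · obtain ⟨x, rfl⟩ := QuotientGroup.mk_surjective q
    obtain ⟨m, hm, rfl⟩ := (adj_inr_iff x μ).mp h
    obtain ⟨m', hm', rfl⟩ := (adj_inr_iff x μ').mp h'
    refine ⟨x * m' * m⁻¹ * x⁻¹, ?_, ?_⟩
    · rw [mem_stabilizer_inr]
      have : x⁻¹ * (x * m' * m⁻¹ * x⁻¹) * x = m' * m⁻¹ := by group
      rw [this]
      exact M₂.mul_mem hm' (M₂.inv_mem hm)
    · rw [smul_inl_mk]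
      congr 2
      group

theorem exists_adj (δ : CosetVertex M₁ M₂) : ∃ μ, (cosetGraph M₁ M₂).Adj δ μ := by
  rcases δ with q | q
  · obtain ⟨x, rfl⟩ := QuotientGroup.mk_surjective q
    exact ⟨_, cosetGraph_adj_inl_inr x⟩
  · obtain ⟨x, rfl⟩ := QuotientGroup.mk_surjective q
    exact ⟨_, (cosetGraph_adj_inl_inr x).symm⟩


section CharP

variable {p : ℕ} [Fact p.Prime]

/-- `V_λ^{(n+1)}` is generated by the `G_λ`-conjugates of `V_μ^{(n)}`, `μ` a neighbour of `λ`. -/
theorem vertexVIter_succ_le (h : IsCharPAmalgamPair p M₁ M₂) {lam μ : CosetVertex M₁ M₂}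
    (hadj : (cosetGraph M₁ M₂).Adj lam μ) (n : ℕ) (K : Subgroup X)
    (hK : ∀ g ∈ MulAction.stabilizer X lam,
      (vertexVIter p M₁ M₂ n μ).map (MulAut.conj g).toMonoidHom ≤ K) :
    vertexVIter p M₁ M₂ (n + 1) lam ≤ K := by
  have hc := charPPair_connected h
  have := charPPair_stabilizer_finite h lam
  rw [vertexVIter_le_iff]
  intro ν hν
  rcases Nat.eq_zero_or_pos ((cosetGraph M₁ M₂).dist lam ν) with h0 | hpos
  · have hνeq : lam = ν := (hc.dist_eq_zero_iff).mp h0
    subst hνeq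
    show sylowCenterClosure p (MulAction.stabilizer X lam) ≤ K
    rw [sylowCenterClosure_le_iff]
    intro T hT
    obtain ⟨S, hS⟩ := exists_isSylowOf p (edgeStabilizer lam μ)
    have hSl : IsSylowOf p (MulAction.stabilizer X lam) S := charPPair_isSylowOf_edge h hadj hS
    have hSm : IsSylowOf p (MulAction.stabilizer X μ) S := by
      rw [edgeStabilizer_comm] at hS
      exact charPPair_isSylowOf_edge h hadj.symm hS
    obtain ⟨g, hg, rfl⟩ := hSl.exists_conj hT
    rw [omegaZ_map_equiv]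
    refine le_trans (Subgroup.map_mono ?_) (hK g hg)
    exact (omegaZ_le_sylowCenterClosure hSm).trans (vertexZ_self_le_vertexVIter p n μ)
  · obtain ⟨k, hk⟩ := Nat.exists_eq_succ_of_ne_zero hpos.ne'
    obtain ⟨w, hw, hwd⟩ := exists_adj_dist_eq hc hk
    obtain ⟨g, hg, rfl⟩ := exists_smul_eq_of_adj hadj hw
    have h1 : vertexZ p ν ≤ vertexVIter p M₁ M₂ n (g • μ) := by
      apply vertexZ_le_vertexVIter
      omega
    rw [vertexVIter_smul hc] at h1
    exact h1.trans (hK g hg)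

/-- `Z_δ ≠ 1`. -/
theorem charPPair_vertexZ_ne_bot (h : IsCharPAmalgamPair p M₁ M₂) (δ : CosetVertex M₁ M₂) :
    vertexZ p δ ≠ ⊥ := by
  have hfin := charPPair_stabilizer_finite h δ
  have hdvd : p ∣ Nat.card ↥(MulAction.stabilizer X δ) := by
    obtain ⟨_, _, _, hd1, hd2, _⟩ := h
    rcases δ with q | q
    · obtain ⟨g, rfl⟩ := QuotientGroup.mk_surjective q
      rw [stabilizer_inl, ← Nat.card_congr (mapEquiv (MulAut.conj g) M₁).toEquiv]
      exact hd1
    · obtain ⟨g, rfl⟩ := QuotientGroup.mk_surjective q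
      rw [stabilizer_inr, ← Nat.card_congr (mapEquiv (MulAut.conj g) M₂).toEquiv]
      exact hd2
  obtain ⟨T, P, rfl⟩ := exists_isSylowOf p (MulAction.stabilizer X δ)
  have hPne : (P : Subgroup ↥(MulAction.stabilizer X δ)) ≠ ⊥ := by
    intro hbot
    have hcard := P.card_eq_multiplicity
    rw [hbot, Subgroup.card_bot] at hcard
    have hpos : 0 < (Nat.card ↥(MulAction.stabilizer X δ)).factorization p :=
      (Fact.out : p.Prime).factorization_pos_of_dvd Nat.card_pos.ne' hdvd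
    have : 1 < p ^ (Nat.card ↥(MulAction.stabilizer X δ)).factorization p :=
      Nat.one_lt_pow hpos.ne' (Fact.out : p.Prime).one_lt
    omega
  set T := (P : Subgroup ↥(MulAction.stabilizer X δ)).map (MulAction.stabilizer X δ).subtype with hT
  have hTS : IsSylowOf p (MulAction.stabilizer X δ) T := ⟨P, rfl⟩
  have hTp : IsPGroup p T := P.2.map _
  have hTne : T ≠ ⊥ := by
    rw [hT, ne_eq, Subgroup.map_eq_bot_iff_of_injective _ (Subgroup.subtype_injective _)]
    exact hPne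
  have hTfin : Finite T := Finite.of_injective (Subgroup.inclusion hTS.le)
    (Subgroup.inclusion_injective hTS.le)
  have hTnt : Nontrivial T := (Subgroup.nontrivial_iff_ne_bot T).mpr hTne
  have hcen := hTp.center_nontrivial
  obtain ⟨⟨z, hz⟩, hz1⟩ := exists_ne (1 : Subgroup.center T)
  have hzT : (z : X) ∈ T ⊓ Subgroup.centralizer (T : Set X) := by
    refine ⟨z.2, ?_⟩
    show (z : X) ∈ Subgroup.centralizer (T : Set X)
    rw [Subgroup.mem_centralizer_iff]
    intro t ht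
    have := Subgroup.mem_center_iff.mp hz ⟨t, ht⟩
    exact congrArg Subtype.val this
  have hne : T ⊓ Subgroup.centralizer (T : Set X) ≠ ⊥ := by
    intro hbot
    rw [hbot, Subgroup.mem_bot] at hzT
    apply hz1
    apply Subtype.ext
    apply Subtype.ext
    exact hzT
  have hp2 : IsPGroup p ↥(T ⊓ Subgroup.centralizer (T : Set X)) := hTp.to_le inf_le_left
  -- an element of order p
  have hΩ : omegaZ p T ≠ ⊥ := by
    unfold omegaZ
    obtain ⟨⟨y, hy⟩, hy1⟩ := (Subgroup.ne_bot_iff_exists_ne_one).mp hne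
    have hy1' : y ≠ 1 := fun h => hy1 (Subtype.ext h)
    have hex : ∃ k : ℕ, y ^ p ^ k = 1 := by
      obtain ⟨k, hk⟩ := hp2 ⟨y, hy⟩
      exact ⟨k, congrArg Subtype.val hk⟩
    classical
    have hk1 : y ^ p ^ (Nat.find hex) = 1 := Nat.find_spec hex
    have hkpos : Nat.find hex ≠ 0 := by
      intro h0
      rw [h0, pow_zero, pow_one] at hk1
      exact hy1' hk1
    obtain ⟨j, hj⟩ := Nat.exists_eq_succ_of_ne_zero hkpos
    have hjlt : j < Nat.find hex := by omega
    have hw1 : y ^ p ^ j ≠ 1 := Nat.find_min hex hjlt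
    have hwp : (y ^ p ^ j) ^ p = 1 := by
      rw [← pow_mul, ← pow_succ, ← Nat.succ_eq_add_one, ← hj]
      exact hk1
    intro hbot
    apply hw1
    have hmem : y ^ p ^ j ∈ omegaOne p (T ⊓ Subgroup.centralizer (T : Set X)) := by
      unfold omegaOne
      exact Subgroup.subset_closure ⟨Subgroup.pow_mem _ hy _, hwp⟩
    rw [hbot] at hmem
    exact Subgroup.mem_bot.mp hmem
  intro hbot
  apply hΩ
  rw [eq_bot_iff, ← hbot]
  exact omegaZ_le_sylowCenterClosure hTS

end CharP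

section Spe

variable {p : ℕ} [Fact p.Prime]

/-- `G_λ = O^p(L_λ) G_{λμ}`. -/
theorem spe_stabilizer_eq_oup_mul (h : IsSpeAmalgamPair p M₁ M₂) {lam μ : CosetVertex M₁ M₂}
    (hadj : (cosetGraph M₁ M₂).Adj lam μ) :
    ∀ x ∈ MulAction.stabilizer X lam,
      ∃ r ∈ oup p (pElementClosure p (MulAction.stabilizer X lam)),
        ∃ y ∈ edgeStabilizer lam μ, x = r * y := by
  intro x hx
  have hchar := h.1
  have hfin := charPPair_stabilizer_finite hchar lam
  obtain ⟨S, hS⟩ := exists_isSylowOf p (edgeStabilizer lam μ)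
  have hSl : IsSylowOf p (MulAction.stabilizer X lam) S := charPPair_isSylowOf_edge hchar hadj hS
  have hBeq := spe_normalizer_eq h hadj hS
  set L := pElementClosure p (MulAction.stabilizer X lam) with hL
  have hLG : L ≤ MulAction.stabilizer X lam := pElementClosure_le p _
  have hSL : S ≤ L := le_pElementClosure hSl.le hSl.isPGroup
  obtain ⟨l, hl, n, hn, rfl⟩ := frattini_ambient hLG (le_normalizer_pElementClosure p _) hSl hSL x hx
  have hLfin : Finite L := Finite.of_injective (Subgroup.inclusion hLG) (Subgroup.inclusion_injective hLG)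
  obtain ⟨P, hP⟩ := hSl.of_le hSL hLG
  have htop := Cfsg.Agent.Helper22.sylow_sup_pResidual_eq_top P
  have hnorm : (Cfsg.pResidual p ↥L).Normal := Cfsg.Agent.Helper22.pResidual_normal
  have hl' : (⟨l, hl⟩ : ↥L) ∈ (Cfsg.pResidual p ↥L) ⊔ (P : Subgroup ↥L) := by
    rw [sup_comm, htop]
    exact Subgroup.mem_top _
  rw [← SetLike.mem_coe, Subgroup.normal_mul] at hl'
  obtain ⟨r, hr, s, hs, hrs⟩ := hl'
  have hrs' : (r : X) * (s : X) = l := congrArg Subtype.val hrs
  refine ⟨(r : X), ⟨r, hr, rfl⟩, (s : X) * n, ?_, ?_⟩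
  · have hsS : (s : X) ∈ S := by
      rw [← hP]
      exact ⟨s, hs, rfl⟩
    have hn' : n ∈ MulAction.stabilizer X μ ⊓ Subgroup.normalizer (S : Set X) := hBeq ▸ hn
    exact Subgroup.mul_mem _ (hS.le hsS) ⟨hn.1, hn'.1⟩
  · rw [← mul_assoc, hrs']

open scoped commutatorElement in
/-- conjugating `W` by `r * y` with `y` normalizing `W`, `[R, W] ≤ K` and `W ≤ K`. -/
theorem map_conj_mul_le {W K R E : Subgroup X} (hWK : W ≤ K)
    (hE : E ≤ Subgroup.normalizer (W : Set X)) (hRW : ⁅R, W⁆ ≤ K) {r y : X} (hr : r ∈ R) (hy : y ∈ E) :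
    W.map (MulAut.conj (r * y)).toMonoidHom ≤ K := by
  rintro _ ⟨w, hw, rfl⟩
  have hyw : y * w * y⁻¹ ∈ W := (Subgroup.mem_normalizer_iff.mp (hE hy) w).mp hw
  have hcomm : ⁅r, y * w * y⁻¹⁆ ∈ K := hRW (Subgroup.commutator_mem_commutator hr hyw)
  have : (MulAut.conj (r * y)).toMonoidHom w = ⁅r, y * w * y⁻¹⁆ * (y * w * y⁻¹) := by
    simp only [MulEquiv.coe_toMonoidHom, MulAut.conj_apply, commutatorElement_def]
    group
  rw [this]
  exact K.mul_mem hcomm (hWK hyw)

/-- If `V_λ^{(n)} ≤ Q_λ` coincides with a subgroup `W` normalized by `G_μ` (`μ` a neighbour of `λ`),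
we reach a contradiction. -/
theorem spe_false_of_vertexVIter_le (h : IsSpeAmalgamPair p M₁ M₂) {lam μ : CosetVertex M₁ M₂}
    (hadj : (cosetGraph M₁ M₂).Adj lam μ) (n : ℕ) (W : Subgroup X)
    (hVQ : vertexVIter p M₁ M₂ n lam ≤ vertexQ p lam)
    (hWn : MulAction.stabilizer X μ ≤ Subgroup.normalizer (W : Set X))
    (hWV : W ≤ vertexVIter p M₁ M₂ n lam) (hVW : vertexVIter p M₁ M₂ n lam ≤ W) : False := by
  have hchar := h.1
  have hc := charPPair_connected hchar
  have hVeq : vertexVIter p M₁ M₂ n lam = W := le_antisymm hVW hWV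
  have h1 : MulAction.stabilizer X lam ≤
      Subgroup.normalizer (vertexVIter p M₁ M₂ n lam : Set X) :=
    stabilizer_le_normalizer_vertexVIter hc p n lam
  have h2 : MulAction.stabilizer X μ ≤
      Subgroup.normalizer (vertexVIter p M₁ M₂ n lam : Set X) := by
    rw [hVeq]; exact hWn
  have htop : Subgroup.normalizer (vertexVIter p M₁ M₂ n lam : Set X) = ⊤ := by
    rw [eq_top_iff, ← stabilizer_sup_eq_top hchar.1.1 hadj]
    exact sup_le h1 h2
  have hnormal : (vertexVIter p M₁ M₂ n lam).Normal := Subgroup.normalizer_eq_top_iff.mp htop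
  have hle : vertexVIter p M₁ M₂ n lam ≤ edgeStabilizer lam μ :=
    hVQ.trans (le_inf (pCoreOf_le p _) (charPPair_vertexQ_le_stabilizer_of_adj hchar hadj))
  have hbot := eq_bot_of_normal_of_le_edgeStabilizer hchar.1.2.2.2 hadj hnormal hle
  apply charPPair_vertexZ_ne_bot hchar lam
  rw [eq_bot_iff, ← hbot]
  exact vertexZ_self_le_vertexVIter p n lam

end Spe

end Cfsg.Agent.Helper14
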