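import Mathlib
import Cfsg.Agent.Lib.Helper14.PReducedAmb
import Cfsg.Agent.S2803

set_option autoImplicit false

namespace Cfsg.Agent.Helper14

open Cfsg

variable {H : Type*} [Group H]

theorem largestPReducedOf_le (p : ℕ) (L : Subgroup H) : largestPReducedOf p L ≤ L :=
  Subgroup.map_subtype_le _

theorem largestPReducedOf_subgroupOf (p : ℕ) (L : Subgroup H) :
    (largestPReducedOf p L).subgroupOf L = largestPReduced p ↥L := by
  unfold largestPReducedOf Subgroup.subgroupOf
  exact Subgroup.comap_map_eq_self_of_injective L.subtype_injective _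

/-- `Y_L` is a `p`-reduced normal subgroup of `L`, in ambient terms. -/
theorem largestPReducedOf_spec {p : ℕ} [Fact p.Prime] [Finite H] (L : Subgroup H) :
    L ≤ Subgroup.normalizer (largestPReducedOf p L : Set H) ∧
      IsElementaryAbelian p (largestPReducedOf p L) ∧
        ∀ D : Subgroup H, D ≤ L → L ≤ Subgroup.normalizer (D : Set H) →
          PowCond p D (Subgroup.centralizer (largestPReducedOf p L : Set H)) →
            D ≤ Subgroup.centralizer (largestPReducedOf p L : Set H) := by
  rw [← isPReducedNormal_subgroupOf_iff (largestPReducedOf_le p L), largestPReducedOf_subgroupOf]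
  exact (largestPReduced_spec ↥L).1

/-- `Y_L` contains every `p`-reduced normal subgroup of `L`. -/
theorem le_largestPReducedOf {p : ℕ} [Fact p.Prime] [Finite H] {X L : Subgroup H} (hXL : X ≤ L)
    (h : IsPReducedNormal p (X.subgroupOf L)) : X ≤ largestPReducedOf p L := by
  have h1 := (largestPReduced_spec (p := p) ↥L).2 _ h
  have h2 := Subgroup.map_mono (f := L.subtype) h1
  rw [Subgroup.subgroupOf_map_subtype, inf_of_le_left hXL] at h2
  exact h2

/-- `Y_L = Ω₁(Z(C_T(Y_L)))` for `L` of characteristic `p` containing the Sylow `p`-subgroup `T`. -/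
theorem largestPReducedOf_eq_omegaOne {p : ℕ} [Fact p.Prime] [Finite H] (L : Subgroup H)
    (hL : Subgroup.centralizer (pCore p ↥L : Set ↥L) ≤ pCore p ↥L) (T : Sylow p H)
    (hTL : (T : Subgroup H) ≤ L) :
    largestPReducedOf p L =
      omegaOne p (((T : Subgroup H) ⊓ Subgroup.centralizer (largestPReducedOf p L : Set H)) ⊓
        Subgroup.centralizer ((((T : Subgroup H) ⊓ Subgroup.centralizer (largestPReducedOf p L : Set H)) :
          Subgroup H) : Set H)) := by
  obtain ⟨T', hT'⟩ := isSylowOf_of_sylow_le T hTL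
  set Y' := largestPReduced p ↥L with hY'
  have hspec := largestPReduced_spec (p := p) ↥L
  have h := (Cfsg.Agent.S2803.result hL T' Y' hspec
    ((T' : Subgroup ↥L) ⊓ Subgroup.centralizer (Y' : Set ↥L)) rfl).2.2
  have hmap : ((T' : Subgroup ↥L) ⊓ Subgroup.centralizer (Y' : Set ↥L)).map L.subtype =
      (T : Subgroup H) ⊓ Subgroup.centralizer (largestPReducedOf p L : Set H) := by
    ext x
    constructor
    · rintro ⟨l, hl, rfl⟩
      obtain ⟨hlT, hlC⟩ := Subgroup.mem_inf.mp hl
      refine Subgroup.mem_inf.mpr ⟨hT' ▸ Subgroup.mem_map_of_mem _ hlT, ?_⟩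
      rw [Subgroup.mem_centralizer_iff]
      rintro _ ⟨y, hy, rfl⟩
      exact congrArg Subtype.val ((Subgroup.mem_centralizer_iff.mp hlC) y hy)
    · intro hx
      obtain ⟨hxT, hxC⟩ := Subgroup.mem_inf.mp hx
      rw [← hT'] at hxT
      obtain ⟨l, hlT, rfl⟩ := hxT
      refine ⟨l, Subgroup.mem_inf.mpr ⟨hlT, ?_⟩, rfl⟩
      rw [Subgroup.mem_centralizer_iff]
      intro y hy
      apply Subtype.ext
      exact (Subgroup.mem_centralizer_iff.mp hxC) (y : H) ⟨y, hy, rfl⟩
  have e : largestPReducedOf p L = Y'.map L.subtype := rfl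
  conv_lhs => rw [e, h]
  rw [← omegaOne_map_of_injective p L.subtype L.subtype_injective, map_subtype_inf_centralizer, hmap]

end Cfsg.Agent.Helper14
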