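import Mathlib
import Cfsg.Agent.S2821
import Cfsg.Agent.S2822
import Cfsg.Agent.S2824
import Cfsg.Agent.Lib.Helper14.LargestPReduced
import Cfsg.Agent.Lib.Helper14.Kieler
import Cfsg.Agent.Lib.Helper14.StronglyEmbedded
import Cfsg.Agent.Lib.Helper28.PReduced
import Cfsg.Agent.Lib.Helper1.Coprime
import Cfsg.Agent.Lib.Helper14.OupAmb

/-!
# Existence of subgroups with the basic property (helper14)

For a finite group `H` of parabolic characteristic `p`, a Sylow `p`-subgroup `T` and `L ∈ 𝓛_H(T)`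
we construct `M ∈ 𝔐_H(T)` and `L* ≤ M` with `Y_L = Y_{L*} ≤ Y_M` and `L C(Y_L) = L* C(Y_L)`.
-/

set_option autoImplicit false

namespace Cfsg.Agent.Helper14

open Cfsg

variable {H : Type*} [Group H]

/-- a nontrivial `p`-group has a nontrivial `Ω₁` -/
theorem omegaOne_ne_bot {p : ℕ} {K : Subgroup H} (hK : IsPGroup p K) (hne : K ≠ ⊥) :
    omegaOne p K ≠ ⊥ := by
  classical
  obtain ⟨⟨z, hz⟩, hz1⟩ := (Subgroup.ne_bot_iff_exists_ne_one).mp hne
  have hz1' : z ≠ 1 := fun h => hz1 (Subtype.ext h)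
  have hex : ∃ k : ℕ, z ^ p ^ k = 1 := by
    obtain ⟨k, hk⟩ := hK ⟨z, hz⟩
    exact ⟨k, congrArg Subtype.val hk⟩
  set k := Nat.find hex with hk
  have hk1 : z ^ p ^ k = 1 := Nat.find_spec hex
  have hkpos : k ≠ 0 := by
    intro h0
    rw [h0, pow_zero, pow_one] at hk1
    exact hz1' hk1
  obtain ⟨j, hj⟩ := Nat.exists_eq_succ_of_ne_zero hkpos
  have hjlt : j < k := by omega
  have hw1 : z ^ p ^ j ≠ 1 := Nat.find_min hex hjlt
  have hwp : (z ^ p ^ j) ^ p = 1 := by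
    rw [← pow_mul, ← pow_succ, ← Nat.succ_eq_add_one, ← hj]
    exact hk1
  intro hbot
  apply hw1
  have hmem : z ^ p ^ j ∈ omegaOne p K := by
    unfold omegaOne
    exact Subgroup.subset_closure ⟨K.pow_mem hz _, hwp⟩
  rw [hbot] at hmem
  exact Subgroup.mem_bot.mp hmem

theorem pCoreOf_ne_bot_iff {p : ℕ} (R : Subgroup H) : pCoreOf p R ≠ ⊥ ↔ pCore p ↥R ≠ ⊥ := by
  unfold pCoreOf
  rw [ne_eq, ne_eq, Subgroup.map_eq_bot_iff_of_injective _ R.subtype_injective]

/-- membership in `𝓛_H` in terms of the ambient `O_p` -/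
theorem mem_charPSubgroups_iff {p : ℕ} (R : Subgroup H) :
    R ∈ charPSubgroups p H ↔ pCoreOf p R ≠ ⊥ ∧
      Subgroup.centralizer (pCoreOf p R : Set H) ≤ pCoreOf p R := by
  rw [pCoreOf_ne_bot_iff]
  rfl

/-- members of `𝓛_H` have characteristic `p` -/
theorem charP_of_mem_charPSubgroups {p : ℕ} {R : Subgroup H} (hR : R ∈ charPSubgroups p H) :
    Subgroup.centralizer (pCore p ↥R : Set ↥R) ≤ pCore p ↥R := by
  rw [charP_iff_ambient]
  exact inf_le_right.trans ((mem_charPSubgroups_iff R).mp hR).2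

section Finite

variable [Finite H] {p : ℕ} [Fact p.Prime]

/-- in a group of parabolic characteristic `p`, parabolic subgroups with `O_p ≠ 1` lie in `𝓛_H` -/
theorem mem_charPSubgroups_of_parabolic (hpc : IsOfParabolicCharacteristic p H) (T : Sylow p H)
    {R : Subgroup H} (hTR : (T : Subgroup H) ≤ R) (hne : pCoreOf p R ≠ ⊥) :
    R ∈ charPSubgroups p H := by
  rw [mem_charPSubgroups_iff]
  refine ⟨hne, ?_⟩
  set P := pCoreOf p R with hP
  set N := Subgroup.normalizer (P : Set H) with hN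
  have hRN : R ≤ N := le_normalizer_pCoreOf p R
  have hPp : IsPGroup p P := pCoreOf_isPGroup p R
  have hchar := hpc P hPp hne ⟨T, hTR.trans hRN⟩
  rw [charP_iff_ambient] at hchar
  have hPN : P ≤ pCoreOf p N := le_pCoreOf Subgroup.le_normalizer le_rfl hPp
  have hNP : pCoreOf p N ≤ P := by
    apply le_pCoreOf
    · exact (pCoreOf_le_of_isSylowOf (isSylowOf_of_sylow_le T (hTR.trans hRN))).trans hTR
    · exact hRN.trans (le_normalizer_pCoreOf p N)
    · exact pCoreOf_isPGroup p N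
  have heq : pCoreOf p N = P := le_antisymm hNP hPN
  rw [heq] at hchar
  exact (le_inf (Subgroup.centralizer_le_normalizer _) le_rfl).trans hchar

/-- subgroups of a group of characteristic `p` containing a Sylow `p`-subgroup of it have characteristic `p` -/
theorem charP_of_parabolic_le (T : Sylow p H) {R X : Subgroup H} (hTR : (T : Subgroup H) ≤ R)
    (hRX : R ≤ X) (hX : Subgroup.centralizer (pCore p ↥X : Set ↥X) ≤ pCore p ↥X) :
    Subgroup.centralizer (pCore p ↥R : Set ↥R) ≤ pCore p ↥R := by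
  rw [charP_iff_ambient] at hX ⊢
  have hle : pCoreOf p X ≤ pCoreOf p R := by
    apply le_pCoreOf
    · exact (pCoreOf_le_of_isSylowOf (isSylowOf_of_sylow_le T (hTR.trans hRX))).trans hTR
    · exact hRX.trans (le_normalizer_pCoreOf p X)
    · exact pCoreOf_isPGroup p X
  intro x hx
  obtain ⟨hxR, hxc⟩ := Subgroup.mem_inf.mp hx
  exact hle (hX (Subgroup.mem_inf.mpr ⟨hRX hxR, Subgroup.centralizer_le hle hxc⟩))

/-- `Y_L ≠ 1` for `L` of characteristic `p` containing a nontrivial Sylow `p`-subgroup -/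
theorem largestPReducedOf_ne_bot (T : Sylow p H) {L : Subgroup H} (hTL : (T : Subgroup H) ≤ L)
    (hL : Subgroup.centralizer (pCore p ↥L : Set ↥L) ≤ pCore p ↥L) (hT1 : (T : Subgroup H) ≠ ⊥) :
    largestPReducedOf p L ≠ ⊥ := by
  have h := Cfsg.Agent.S2821.result T L hTL hL _ rfl
  have h1 : omegaOne p ((T : Subgroup H) ⊓ Subgroup.centralizer ((T : Subgroup H) : Set H)) ≤
      largestPReducedOf p L := h.2.2.2.1.trans h.2.2.2.2.1
  have h2 : omegaOne p ((T : Subgroup H) ⊓ Subgroup.centralizer ((T : Subgroup H) : Set H)) ≠ ⊥ :=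
    omegaOne_ne_bot (T.isPGroup'.to_le inf_le_left) (inf_centralizer_ne_bot T.isPGroup' hT1)
  intro hbot
  rw [hbot, le_bot_iff] at h1
  exact h2 h1

/-- ambient Sylow factorization modulo a normalized subgroup -/
theorem exists_mul_of_powCond_amb {X T D C : Subgroup H} (hT : IsSylowOf p X T) (hDX : D ≤ X)
    (hXD : X ≤ Subgroup.normalizer (D : Set H)) (hXC : X ≤ Subgroup.normalizer (C : Set H))
    (h : PowCond p D C) : ∀ d ∈ D, ∃ t ∈ T, ∃ c ∈ C ⊓ X, d = t * c := by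
  obtain ⟨T', rfl⟩ := hT
  haveI hCn : (C.subgroupOf X).Normal := by
    rw [Subgroup.normal_subgroupOf_iff_le_normalizer_inf]
    exact le_normalizer_inf hXC Subgroup.le_normalizer
  have hDn : (D.subgroupOf X).Normal := (Subgroup.normal_subgroupOf_iff_le_normalizer hDX).mpr hXD
  have hp' : PowCond p (D.subgroupOf X) (C.subgroupOf X) := by
    intro d hd
    obtain ⟨k, hk⟩ := h (d : H) (Subgroup.mem_subgroupOf.mp hd)
    refine ⟨k, ?_⟩
    rw [Subgroup.mem_subgroupOf]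
    simpa using hk
  intro d hd
  obtain ⟨t, ht, n, hn, hdtn⟩ := exists_mul_of_powCond T' hDn hp' ⟨d, hDX hd⟩
    (Subgroup.mem_subgroupOf.mpr hd)
  refine ⟨(t : H), ⟨t, ht, rfl⟩, (n : H), Subgroup.mem_inf.mpr ⟨Subgroup.mem_subgroupOf.mp hn, n.2⟩, ?_⟩
  have := congrArg Subtype.val hdtn
  simpa using this

/-- monotonicity of `Y`: for `T ≤ L ≤ X` with `X` of characteristic `p`, `Y_L ≤ Y_X` -/
theorem largestPReducedOf_mono (T : Sylow p H) {L X : Subgroup H} (hTL : (T : Subgroup H) ≤ L)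
    (hLX : L ≤ X) (hX : Subgroup.centralizer (pCore p ↥X : Set ↥X) ≤ pCore p ↥X) :
    largestPReducedOf p L ≤ largestPReducedOf p X := by
  rw [charP_iff_ambient] at hX
  set Y := largestPReducedOf p L with hY
  obtain ⟨hLY, hYe, hYred⟩ := largestPReducedOf_spec (p := p) L
  have hYL : Y ≤ L := largestPReducedOf_le p L
  set R := pCoreOf p X with hR
  have hTX : IsSylowOf p X (T : Subgroup H) := isSylowOf_of_sylow_le T (hTL.trans hLX)
  have hRL : R ≤ L := (pCoreOf_le_of_isSylowOf hTX).trans hTL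
  have hXR : X ≤ Subgroup.normalizer (R : Set H) := le_normalizer_pCoreOf p X
  have hRC : R ≤ Subgroup.centralizer (Y : Set H) :=
    hYred R hRL (hLX.trans hXR) (powCond_of_isPGroup (pCoreOf_isPGroup p X) _)
  set Sg : Set H := {g | ∃ x ∈ X, ∃ y ∈ Y, g = x * y * x⁻¹} with hSg
  set V := Subgroup.closure Sg with hV
  have hYV : Y ≤ V := by
    intro y hy
    apply Subgroup.subset_closure
    exact ⟨1, X.one_mem, y, hy, by simp⟩
  have hVX : V ≤ X := by
    rw [hV, Subgroup.closure_le]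
    rintro _ ⟨x, hx, y, hy, rfl⟩
    exact X.mul_mem (X.mul_mem hx (hLX (hYL hy))) (X.inv_mem hx)
  have hXV : X ≤ Subgroup.normalizer (V : Set H) := by
    apply le_normalizer_of_map_conj_le
    intro g hg
    rw [hV, MonoidHom.map_closure, Subgroup.closure_le]
    rintro _ ⟨_, ⟨x, hx, y, hy, rfl⟩, rfl⟩
    apply Subgroup.subset_closure
    refine ⟨g * x, X.mul_mem hg hx, y, hy, ?_⟩
    simp only [MulEquiv.coe_toMonoidHom, MulAut.conj_apply]
    group
  have hSgC : ∀ g ∈ Sg, g ∈ Subgroup.centralizer (R : Set H) := by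
    rintro _ ⟨x, hx, y, hy, rfl⟩
    rw [Subgroup.mem_centralizer_iff]
    intro r hr
    have hr' : x⁻¹ * r * x⁻¹⁻¹ ∈ R :=
      (Subgroup.mem_normalizer_iff.mp (hXR (X.inv_mem hx)) r).mp hr
    have hc := Subgroup.mem_centralizer_iff.mp (hRC hr') y hy
    calc r * (x * y * x⁻¹) = x * ((x⁻¹ * r * x⁻¹⁻¹) * y) * x⁻¹ := by group
      _ = x * (y * (x⁻¹ * r * x⁻¹⁻¹)) * x⁻¹ := by rw [hc]
      _ = x * y * x⁻¹ * r := by group
  have hVC : V ≤ Subgroup.centralizer (R : Set H) := by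
    rw [hV, Subgroup.closure_le]
    exact hSgC
  have hVR : V ≤ R := fun v hv => hX (Subgroup.mem_inf.mpr ⟨hVX hv, hVC hv⟩)
  have hcomm : ∀ a ∈ Sg, ∀ b ∈ Sg, a * b = b * a := by
    intro a ha b hb
    exact Subgroup.mem_centralizer_iff.mp (hSgC b hb) a (hVR (Subgroup.subset_closure ha))
  have hpow : ∀ a ∈ Sg, a ^ p = 1 := by
    rintro _ ⟨x, hx, y, hy, rfl⟩
    rw [conj_pow, hYe.2 y hy]
    group
  obtain ⟨hEc, hEp⟩ := Cfsg.Agent.Helper28.closure_elementaryAbelian hcomm hpow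
  have hVe : IsElementaryAbelian p V :=
    ⟨⟨⟨fun a b => Subtype.ext (hEc _ a.2 _ b.2)⟩⟩, hEp⟩
  refine hYV.trans (le_largestPReducedOf hVX ?_)
  rw [isPReducedNormal_subgroupOf_iff hVX]
  refine ⟨hXV, hVe, ?_⟩
  intro D hDX hXD hDp
  set C := Subgroup.centralizer (V : Set H) with hC
  have hXC : X ≤ Subgroup.normalizer (C : Set H) := le_normalizer_centralizer_of_le_normalizer hXV
  have hsupp : PowCond p (D ⊔ C) C := hDp.sup_of_le_normalizer (hDX.trans hXC)
  set E := (D ⊔ C) ⊓ L with hE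
  have hXDC : X ≤ Subgroup.normalizer ((D ⊔ C : Subgroup H) : Set H) := fun x hx =>
    Subgroup.normalizer_inf_normalizer_le_normalizer_sup D C (Subgroup.mem_inf.mpr ⟨hXD hx, hXC hx⟩)
  have hLE : L ≤ Subgroup.normalizer (E : Set H) :=
    le_normalizer_inf (hLX.trans hXDC) Subgroup.le_normalizer
  have hCY : C ≤ Subgroup.centralizer (Y : Set H) := Subgroup.centralizer_le hYV
  have hEC : E ≤ Subgroup.centralizer (Y : Set H) :=
    hYred E inf_le_right hLE ((hsupp.mono_left inf_le_left).mono_right hCY)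
  have hDY : D ≤ Subgroup.centralizer (Y : Set H) := by
    intro d hd
    obtain ⟨t, ht, c, hc, rfl⟩ := exists_mul_of_powCond_amb hTX hDX hXD hXC hDp d hd
    have hcC : c ∈ C := (Subgroup.mem_inf.mp hc).1
    have htE : t ∈ E := by
      refine Subgroup.mem_inf.mpr ⟨?_, hTL ht⟩
      have e : t = (t * c) * c⁻¹ := by group
      rw [e]
      exact Subgroup.mul_mem _ (Subgroup.mem_sup_left hd) (Subgroup.mem_sup_right (C.inv_mem hcC))
    exact Subgroup.mul_mem _ (hEC htE) (hCY hcC)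
  rw [hC, hV, Subgroup.centralizer_closure]
  intro d hd
  rw [Subgroup.mem_centralizer_iff]
  rintro _ ⟨x, hx, y, hy, rfl⟩
  have hd' : x⁻¹ * d * x⁻¹⁻¹ ∈ D := (Subgroup.mem_normalizer_iff.mp (hXD (X.inv_mem hx)) d).mp hd
  have hc := Subgroup.mem_centralizer_iff.mp (hDY hd') y hy
  calc x * y * x⁻¹ * d = x * (y * (x⁻¹ * d * x⁻¹⁻¹)) * x⁻¹ := by group
    _ = x * ((x⁻¹ * d * x⁻¹⁻¹) * y) * x⁻¹ := by rw [hc]
    _ = d * (x * y * x⁻¹) := by group

end Finite

/-! ### Minimal supplements -/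

/-- `M'` contains `T`, lies in `N` and supplements `Cc` in `N` -/
def IsSupp (T N Cc M' : Subgroup H) : Prop := T ≤ M' ∧ M' ≤ N ∧ M' ⊔ Cc = N

section MinSupp

variable [Finite H] {p : ℕ} [Fact p.Prime]

theorem minSupp_le_normalizer (T : Sylow p H) {N Cc M : Subgroup H}
    (hNC : N ≤ Subgroup.normalizer (Cc : Set H))
    (hM : Minimal (IsSupp (T : Subgroup H) N Cc) M) :
    M ≤ Subgroup.normalizer (((T : Subgroup H) ⊓ (M ⊓ Cc) : Subgroup H) : Set H) := by
  obtain ⟨⟨hTM, hMN, hMC⟩, hmin⟩ := hM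
  set C₀ := M ⊓ Cc with hC₀
  have hMC₀ : M ≤ Subgroup.normalizer (C₀ : Set H) :=
    le_normalizer_inf Subgroup.le_normalizer (hMN.trans hNC)
  have hTsyl : IsSylowOf p M (T : Subgroup H) := isSylowOf_of_sylow_le T hTM
  have hT₀ : IsSylowOf p C₀ ((T : Subgroup H) ⊓ C₀) :=
    hTsyl.inf_of_le_normalizer inf_le_left hMC₀
  have hfr := frattini_rel (inf_le_left : C₀ ≤ M) hMC₀ hT₀
  set M' := M ⊓ Subgroup.normalizer (((T : Subgroup H) ⊓ C₀ : Subgroup H) : Set H) with hM'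
  have hTM' : (T : Subgroup H) ≤ M' :=
    le_inf hTM (le_normalizer_inf Subgroup.le_normalizer (hTM.trans hMC₀))
  have hsupp : IsSupp (T : Subgroup H) N Cc M' := by
    refine ⟨hTM', inf_le_left.trans hMN, le_antisymm ?_ ?_⟩
    · rw [← hMC]
      exact sup_le (inf_le_left.trans le_sup_left) le_sup_right
    · rw [← hMC]
      apply sup_le _ le_sup_right
      intro m hm
      obtain ⟨k, hk, n, hn, rfl⟩ := hfr m hm
      exact Subgroup.mul_mem _ (Subgroup.mem_sup_right (inf_le_right (a := M) hk))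
        (Subgroup.mem_sup_left hn)
  exact (hmin hsupp inf_le_left).trans inf_le_right

theorem minSupp_isPClosed (T : Sylow p H) {N Cc M : Subgroup H}
    (hNC : N ≤ Subgroup.normalizer (Cc : Set H))
    (hM : Minimal (IsSupp (T : Subgroup H) N Cc) M) : IsPClosed p ↥(M ⊓ Cc) := by
  have hnorm := minSupp_le_normalizer T hNC hM
  obtain ⟨⟨hTM, hMN, hMC⟩, hmin⟩ := hM
  set C₀ := M ⊓ Cc with hC₀
  have hMC₀ : M ≤ Subgroup.normalizer (C₀ : Set H) :=
    le_normalizer_inf Subgroup.le_normalizer (hMN.trans hNC)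
  have hTsyl : IsSylowOf p M (T : Subgroup H) := isSylowOf_of_sylow_le T hTM
  have hT₀ : IsSylowOf p C₀ ((T : Subgroup H) ⊓ C₀) :=
    hTsyl.inf_of_le_normalizer inf_le_left hMC₀
  obtain ⟨P₀, hP₀⟩ := hT₀
  have hP₀n : (P₀ : Subgroup ↥C₀).Normal := by
    have e : (P₀ : Subgroup ↥C₀) = ((T : Subgroup H) ⊓ C₀).subgroupOf C₀ := by
      rw [← hP₀]
      unfold Subgroup.subgroupOf
      exact (Subgroup.comap_map_eq_self_of_injective C₀.subtype_injective _).symm
    rw [e]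
    exact (Subgroup.normal_subgroupOf_iff_le_normalizer inf_le_right).mpr
      ((inf_le_left : C₀ ≤ M).trans hnorm)
  intro P
  obtain ⟨g, hg⟩ := MulAction.exists_smul_eq ↥C₀ P₀ P
  have : g • P₀ = P₀ := Sylow.smul_eq_of_normal
  rw [this] at hg
  rw [← hg]
  exact hP₀n

theorem minSupp_frattini (T : Sylow p H) {N Cc M : Subgroup H}
    (hNC : N ≤ Subgroup.normalizer (Cc : Set H))
    (hM : Minimal (IsSupp (T : Subgroup H) N Cc) M) :
    ((M ⊓ Cc).subgroupOf M).map (QuotientGroup.mk' (pCore p ↥M)) ≤ frattini (↥M ⧸ pCore p ↥M) := by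
  have hnorm := minSupp_le_normalizer T hNC hM
  obtain ⟨⟨hTM, hMN, hMC⟩, hmin⟩ := hM
  set C₀ := M ⊓ Cc with hC₀
  have hC₀M : C₀ ≤ M := inf_le_left
  have hMC₀ : M ≤ Subgroup.normalizer (C₀ : Set H) :=
    le_normalizer_inf Subgroup.le_normalizer (hMN.trans hNC)
  have hTsyl : IsSylowOf p M (T : Subgroup H) := isSylowOf_of_sylow_le T hTM
  set T₀ := (T : Subgroup H) ⊓ C₀ with hT₀
  have hT₀syl : IsSylowOf p C₀ T₀ := hTsyl.inf_of_le_normalizer hC₀M hMC₀
  have hT₀O : T₀ ≤ pCoreOf p M :=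
    le_pCoreOf (inf_le_left.trans hTM) hnorm (T.isPGroup'.to_le inf_le_left)
  -- every `p`-subgroup of `C₀` lies in `T₀`
  have hpsub : ∀ A : Subgroup H, A ≤ C₀ → IsPGroup p A → A ≤ T₀ := by
    intro A hA hAp
    obtain ⟨T', hT', hAT'⟩ := exists_isSylowOf_ge hA hAp
    obtain ⟨c, hc, hcT'⟩ := hT₀syl.exists_conj hT'
    rw [hcT', map_conj_eq_self_of_le_normalizer (hC₀M.trans hnorm) hc] at hAT'
    exact hAT'
  unfold frattini Order.radical
  apply le_iInf
  intro Pb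
  apply le_iInf
  intro hPb
  by_contra hnot
  set Cb := (C₀.subgroupOf M).map (QuotientGroup.mk' (pCore p ↥M)) with hCb
  have hCbn : Cb.Normal :=
    Subgroup.Normal.map ((Subgroup.normal_subgroupOf_iff_le_normalizer hC₀M).mpr hMC₀) _
      (QuotientGroup.mk'_surjective _)
  have htop : Pb ⊔ Cb = ⊤ := hPb.2 _ (left_lt_sup.mpr hnot)
  set P := Pb.comap (QuotientGroup.mk' (pCore p ↥M)) with hP
  set Pa := P.map M.subtype with hPa
  have hPaM : Pa ≤ M := Subgroup.map_subtype_le _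
  have hmemPa : ∀ (m : H) (hm : m ∈ M), m ∈ Pa ↔
      QuotientGroup.mk' (pCore p ↥M) ⟨m, hm⟩ ∈ Pb := by
    intro m hm
    constructor
    · rintro ⟨y, hy, hym⟩
      have : y = ⟨m, hm⟩ := Subtype.ext hym
      rw [← this]
      exact hy
    · intro h
      exact ⟨⟨m, hm⟩, h, rfl⟩
  have hOPa : pCoreOf p M ≤ Pa := by
    rintro _ ⟨y, hy, rfl⟩
    refine ⟨y, ?_, rfl⟩
    show QuotientGroup.mk' (pCore p ↥M) y ∈ Pb
    have : QuotientGroup.mk' (pCore p ↥M) y = 1 := by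
      rw [QuotientGroup.mk'_apply, QuotientGroup.eq_one_iff]
      exact hy
    rw [this]
    exact Pb.one_mem
  have hPane : Pa ≠ M := by
    intro h
    apply hPb.1
    rw [eq_top_iff]
    intro x _
    obtain ⟨m, rfl⟩ := QuotientGroup.mk'_surjective _ x
    have : (m : H) ∈ Pa := by rw [h]; exact m.2
    exact (hmemPa m m.2).mp this
  have hMle : M ≤ Pa ⊔ C₀ := by
    intro m hm
    have h1 : QuotientGroup.mk' (pCore p ↥M) ⟨m, hm⟩ ∈ Pb ⊔ Cb := by rw [htop]; trivial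
    rw [mem_sup_of_le_normalizer (show Pb ≤ Subgroup.normalizer (Cb : Set _) from by
      rw [Subgroup.normalizer_eq_top_iff.mpr hCbn]; exact le_top)] at h1
    obtain ⟨a, ha, cb, hcb, he⟩ := h1
    obtain ⟨c, hc, rfl⟩ := hcb
    have hc : (c : H) ∈ C₀ := Subgroup.mem_subgroupOf.mp hc
    have h2 : QuotientGroup.mk' (pCore p ↥M) (⟨m, hm⟩ * c⁻¹) = a := by
      rw [map_mul, he, map_inv]
      group
    have h3 : ((⟨m, hm⟩ * c⁻¹ : ↥M) : H) ∈ Pa := by
      rw [hmemPa _ (⟨m, hm⟩ * c⁻¹ : ↥M).2]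
      have : (⟨((⟨m, hm⟩ * c⁻¹ : ↥M) : H), (⟨m, hm⟩ * c⁻¹ : ↥M).2⟩ : ↥M) = ⟨m, hm⟩ * c⁻¹ := rfl
      rw [this, h2]
      exact ha
    have e : m = ((⟨m, hm⟩ * c⁻¹ : ↥M) : H) * (c : H) := by
      simp
    rw [e]
    exact Subgroup.mul_mem _ (Subgroup.mem_sup_left h3) (Subgroup.mem_sup_right hc)
  -- a Sylow subgroup of `M` inside `Pa`
  have hPaC₀ : Pa ≤ Subgroup.normalizer (C₀ : Set H) := hPaM.trans hMC₀
  set P₁ := ((T : Subgroup H) ⊔ C₀) ⊓ Pa with hP₁
  have hTC₀ : (T : Subgroup H) ≤ Subgroup.normalizer (C₀ : Set H) := hTM.trans hMC₀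
  have hT₀P₁ : T₀ ≤ P₁ := le_inf (inf_le_left.trans le_sup_left) (hT₀O.trans hOPa)
  have hP₁M : P₁ ≤ M := inf_le_right.trans hPaM
  have hTP₁ : (T : Subgroup H) ≤ C₀ ⊔ P₁ := by
    intro t ht
    obtain ⟨c, hc, a, ha, rfl⟩ :=
      Cfsg.Agent.Helper1.exists_mul_of_mem_sup hPaC₀ (sup_comm Pa C₀ ▸ hMle (hTM ht))
    have haP₁ : a ∈ P₁ := by
      refine Subgroup.mem_inf.mpr ⟨?_, ha⟩
      have e : a = c⁻¹ * (c * a) := by group
      rw [e]
      exact Subgroup.mul_mem _ (Subgroup.mem_sup_right (C₀.inv_mem hc)) (Subgroup.mem_sup_left ht)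
    exact Subgroup.mul_mem _ (Subgroup.mem_sup_left hc) (Subgroup.mem_sup_right haP₁)
  obtain ⟨S₁, hS₁, hT₀S₁⟩ := exists_isSylowOf_ge hT₀P₁ (T.isPGroup'.to_le inf_le_left)
  have hS₁P₁ : S₁ ≤ P₁ := hS₁.le
  have hpow : PowCond p P₁ C₀ := by
    intro x hx
    have hx' : x ∈ C₀ ⊔ (T : Subgroup H) := sup_comm (T : Subgroup H) C₀ ▸ (Subgroup.mem_inf.mp hx).1
    exact exists_pow_mem_of_mem_sup T.isPGroup' hTC₀ hx'
  have hfac := exists_mul_of_powCond_amb hS₁ le_rfl Subgroup.le_normalizer (hP₁M.trans hMC₀) hpow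
  have hTS₁ : (T : Subgroup H) ≤ C₀ ⊔ S₁ := by
    intro t ht
    have h1 := hTP₁ ht
    obtain ⟨c, hc, a, ha, rfl⟩ :=
      Cfsg.Agent.Helper1.exists_mul_of_mem_sup (hP₁M.trans hMC₀) h1
    obtain ⟨s, hs, c', hc', rfl⟩ := hfac a ha
    have e : c * (s * c') = c * (s * c' * s⁻¹) * s := by group
    rw [e]
    have hsn := (hP₁M.trans hMC₀) (hS₁P₁ hs)
    have h2 : s * c' * s⁻¹ ∈ C₀ := (Subgroup.mem_normalizer_iff.mp hsn c').mp (Subgroup.mem_inf.mp hc').1
    exact Subgroup.mul_mem _ (Subgroup.mem_sup_left (C₀.mul_mem hc h2)) (Subgroup.mem_sup_right hs)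
  have hTsyl' : IsSylowOf p ((T : Subgroup H) ⊔ C₀) (T : Subgroup H) :=
    hTsyl.of_le le_sup_left (sup_le hTM hC₀M)
  have hS₁TC : S₁ ≤ (T : Subgroup H) ⊔ C₀ := hS₁P₁.trans inf_le_left
  obtain ⟨T', hT', hS₁T'⟩ := exists_isSylowOf_ge hS₁TC hS₁.isPGroup
  obtain ⟨g, hg, hgT'⟩ := hTsyl'.exists_conj hT'
  have hS₁M : S₁ ≤ M := hS₁P₁.trans hP₁M
  have hT'S₁ : T' ≤ S₁ := by
    intro x hx
    have hx1 : x ∈ C₀ ⊔ S₁ := by
      have h1 : (T : Subgroup H) ⊔ C₀ ≤ C₀ ⊔ S₁ := sup_le hTS₁ le_sup_left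
      exact h1 (hT'.le hx)
    obtain ⟨c, hc, s, hs, rfl⟩ :=
      Cfsg.Agent.Helper1.exists_mul_of_mem_sup (hS₁M.trans hMC₀) hx1
    have hcT' : c ∈ T' := by
      have e : c = (c * s) * s⁻¹ := by group
      rw [e]
      exact T'.mul_mem hx (T'.inv_mem (hS₁T' hs))
    have hcT₀ : c ∈ T₀ := hpsub (T' ⊓ C₀) inf_le_right (hT'.isPGroup.to_le inf_le_left)
      (Subgroup.mem_inf.mpr ⟨hcT', hc⟩)
    exact S₁.mul_mem (hT₀S₁ hcT₀) hs
  have hgM : g ∈ M := (sup_le hTM hC₀M) hg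
  -- `T^g ≤ Pa`
  have hTgPa : (T : Subgroup H).map (MulAut.conj g).toMonoidHom ≤ Pa := by
    rw [← hgT']
    exact hT'S₁.trans (hS₁P₁.trans inf_le_right)
  set P' := Pa.map (MulAut.conj g⁻¹).toMonoidHom with hP'
  have hTP' : (T : Subgroup H) ≤ P' := by
    have := Subgroup.map_mono (f := (MulAut.conj g⁻¹).toMonoidHom) hTgPa
    rwa [map_conj_inv_map_conj] at this
  have hginvM : g⁻¹ ∈ M := M.inv_mem hgM
  have hP'M : P' ≤ M := by
    calc P' ≤ M.map (MulAut.conj g⁻¹).toMonoidHom := Subgroup.map_mono hPaM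
      _ = M := map_conj_eq_self_of_mem hginvM
  have hMP' : M ≤ P' ⊔ C₀ := by
    have h1 := Subgroup.map_mono (f := (MulAut.conj g⁻¹).toMonoidHom) hMle
    rw [map_conj_eq_self_of_mem hginvM, Subgroup.map_sup,
      map_conj_eq_self_of_le_normalizer hMC₀ hginvM] at h1
    exact h1
  have hsupp : IsSupp (T : Subgroup H) N Cc P' := by
    refine ⟨hTP', hP'M.trans hMN, le_antisymm ?_ ?_⟩
    · rw [← hMC]
      exact sup_le (hP'M.trans le_sup_left) le_sup_right
    · rw [← hMC]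
      apply sup_le _ le_sup_right
      exact hMP'.trans (sup_le le_sup_left (inf_le_right.trans le_sup_right))
  have hMP'' : M ≤ P' := hmin hsupp hP'M
  apply hPane
  apply le_antisymm hPaM
  have h1 := Subgroup.map_mono (f := (MulAut.conj g).toMonoidHom) hMP''
  rw [map_conj_eq_self_of_mem hgM, hP', map_conj_map_conj_inv] at h1
  exact h1

end MinSupp

section Basic

variable [Finite H] {p : ℕ} [Fact p.Prime]

theorem largestPReducedOf_isPGroup (X : Subgroup H) : IsPGroup p (largestPReducedOf p X) :=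
  IsElementaryAbelian.isPGroup (largestPReducedOf_spec X).2.1

theorem largestPReducedOf_le_pCoreOf (X : Subgroup H) : largestPReducedOf p X ≤ pCoreOf p X :=
  le_pCoreOf (largestPReducedOf_le p X) (largestPReducedOf_spec X).1 (largestPReducedOf_isPGroup X)

/-- overgroups of `T` inside the normalizer of a nontrivial `p`-subgroup `Y` containing `Y` lie in `𝓛_H` -/
theorem mem_charPSubgroups_of_le_normalizer (hpc : IsOfParabolicCharacteristic p H) (T : Sylow p H)
    {Y R : Subgroup H} (hY : IsPGroup p Y) (hY1 : Y ≠ ⊥) (hTR : (T : Subgroup H) ≤ R) (hYR : Y ≤ R)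
    (hRY : R ≤ Subgroup.normalizer (Y : Set H)) : R ∈ charPSubgroups p H := by
  apply mem_charPSubgroups_of_parabolic hpc T hTR
  intro hbot
  have := le_pCoreOf hYR hRY hY
  rw [hbot, le_bot_iff] at this
  exact hY1 this

/-- existence of `M ∈ 𝔐_H(T)` and `L* ≤ M` attached to `L ∈ 𝓛_H(T)` -/
theorem exists_basic (hpc : IsOfParabolicCharacteristic p H) (T : Sylow p H) (L : Subgroup H)
    (hTL : (T : Subgroup H) ≤ L) (hL : L ∈ charPSubgroups p H) :
    ∃ M Ls : Subgroup H, (T : Subgroup H) ≤ M ∧ IsInFrakM p M ∧ (T : Subgroup H) ≤ Ls ∧ Ls ≤ M ∧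
      Ls ∈ charPSubgroups p H ∧ largestPReducedOf p L = largestPReducedOf p Ls ∧
      largestPReducedOf p L ≤ largestPReducedOf p M ∧
      L ⊔ Subgroup.centralizer (largestPReducedOf p L : Set H) =
        Ls ⊔ Subgroup.centralizer (largestPReducedOf p L : Set H) := by
  classical
  set YL := largestPReducedOf p L with hYL
  set CL := Subgroup.centralizer (YL : Set H) with hCL
  have hLc := charP_of_mem_charPSubgroups hL
  have hT1 : (T : Subgroup H) ≠ ⊥ := by
    intro hbot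
    have h1 : pCoreOf p L ≤ (T : Subgroup H) :=
      pCoreOf_le_of_isSylowOf (isSylowOf_of_sylow_le T hTL)
    rw [hbot, le_bot_iff] at h1
    exact ((mem_charPSubgroups_iff L).mp hL).1 h1
  have hYne : ∀ X : Subgroup H, (T : Subgroup H) ≤ X → X ∈ charPSubgroups p H →
      largestPReducedOf p X ≠ ⊥ :=
    fun X hTX hX => largestPReducedOf_ne_bot T hTX (charP_of_mem_charPSubgroups hX) hT1
  have hLNL : L ≤ Subgroup.normalizer (YL : Set H) := (largestPReducedOf_spec L).1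
  have hCLNL : CL ≤ Subgroup.normalizer (YL : Set H) := Subgroup.centralizer_le_normalizer _
  -- the selection set
  set Sel : Set (Subgroup H) := {X | X ∈ charPSubgroups p H ∧ (T : Subgroup H) ≤ X ∧
    YL ≤ largestPReducedOf p X ∧ ∀ l ∈ L, ∃ c ∈ CL, ∃ x ∈ X, l = c * x} with hSel
  have hLSel : L ∈ Sel :=
    ⟨hL, hTL, le_rfl, fun l hl => ⟨1, CL.one_mem, l, hl, (one_mul l).symm⟩⟩
  obtain ⟨M₀, hM₀Sel, hM₀max⟩ := Set.exists_max_image Sel
    (fun X => Nat.card (largestPReducedOf p X)) (Set.toFinite _) ⟨L, hLSel⟩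
  obtain ⟨hM₀L, hTM₀, hYLM₀, hLM₀⟩ := hM₀Sel
  set Y := largestPReducedOf p M₀ with hY
  set N := Subgroup.normalizer (Y : Set H) with hN
  set CY := Subgroup.centralizer (Y : Set H) with hCY
  have hY1 : Y ≠ ⊥ := hYne M₀ hTM₀ hM₀L
  have hM₀N : M₀ ≤ N := (largestPReducedOf_spec M₀).1
  have hTN : (T : Subgroup H) ≤ N := hTM₀.trans hM₀N
  have hYT : Y ≤ (T : Subgroup H) := (largestPReducedOf_le_pCoreOf M₀).trans
    (pCoreOf_le_of_isSylowOf (isSylowOf_of_sylow_le T hTM₀))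
  have hNL' : N ∈ charPSubgroups p H :=
    mem_charPSubgroups_of_le_normalizer hpc T (largestPReducedOf_isPGroup M₀) hY1 hTN
      Subgroup.le_normalizer le_rfl
  have hNc := charP_of_mem_charPSubgroups hNL'
  have hB : ∀ X ∈ Sel, Y ≤ largestPReducedOf p X → largestPReducedOf p X = Y := by
    intro X hX hYX
    have hcard := hM₀max X hX
    exact (Subgroup.eq_of_le_of_card_ge hYX hcard).symm
  have hNSel : N ∈ Sel := by
    refine ⟨hNL', hTN, hYLM₀.trans (largestPReducedOf_mono T hTM₀ hM₀N hNc), ?_⟩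
    intro l hl
    obtain ⟨c, hc, x, hx, e⟩ := hLM₀ l hl
    exact ⟨c, hc, x, hM₀N hx, e⟩
  have hYN : largestPReducedOf p N = Y :=
    hB N hNSel (largestPReducedOf_mono T hTM₀ hM₀N hNc)
  have hCYN : CY ≤ N := Subgroup.centralizer_le_normalizer _
  have hNCY : N ≤ Subgroup.normalizer (CY : Set H) :=
    le_normalizer_centralizer_of_le_normalizer le_rfl
  have hCYCL : CY ≤ CL := Subgroup.centralizer_le hYLM₀
  -- a minimal supplement
  have hsuppN : IsSupp (T : Subgroup H) N CY N := ⟨hTN, le_rfl, sup_of_le_left hCYN⟩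
  obtain ⟨M, hMN', hM⟩ :=
    exists_minimal_le_of_wellFoundedLT (IsSupp (T : Subgroup H) N CY) N hsuppN
  have hMisP := minSupp_isPClosed T hNCY hM
  have hMfr := minSupp_frattini T hNCY hM
  obtain ⟨hTM, hMN, hMC⟩ := hM.1
  have hML : M ∈ charPSubgroups p H :=
    mem_charPSubgroups_of_le_normalizer hpc T (largestPReducedOf_isPGroup M₀) hY1 hTM
      (hYT.trans hTM) hMN
  have hMc := charP_of_mem_charPSubgroups hML
  have hYM : largestPReducedOf p M = Y := by
    apply le_antisymm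
    · rw [← hYN]
      exact largestPReducedOf_mono T hTM hMN hNc
    · have h := Cfsg.Agent.S2822.result T M N hTM hTN hMc hNc
      rw [hYN] at h
      apply h
      rw [hMC]
      exact (sup_of_le_left hCYN).symm
  have hD : ∀ l ∈ L, ∃ c ∈ CL, ∃ m ∈ M, l = c * m := by
    intro l hl
    obtain ⟨c, hc, n, hn, rfl⟩ := hNSel.2.2.2 l hl
    have hn' : n ∈ CY ⊔ M := by rw [sup_comm, hMC]; exact hn
    obtain ⟨c', hc', m, hm, rfl⟩ :=
      Cfsg.Agent.Helper1.exists_mul_of_mem_sup (hMN.trans hNCY) hn'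
    exact ⟨c * c', CL.mul_mem hc (hCYCL hc'), m, hm, (mul_assoc _ _ _).symm⟩
  have hC : ∀ X ∈ charPSubgroups p H, M ≤ X → X ≤ N := by
    intro X hX hMX
    have hXc := charP_of_mem_charPSubgroups hX
    have hYX : Y ≤ largestPReducedOf p X := by
      rw [← hYM]; exact largestPReducedOf_mono T hTM hMX hXc
    have hXSel : X ∈ Sel := by
      refine ⟨hX, hTM.trans hMX, hYLM₀.trans hYX, ?_⟩
      intro l hl
      obtain ⟨c, hc, m, hm, e⟩ := hD l hl
      exact ⟨c, hc, m, hMX hm, e⟩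
    have := hB X hXSel hYX
    rw [hN, ← this]
    exact (largestPReducedOf_spec X).1
  -- the subgroup `L*`
  set Ld := L ⊔ CL with hLd
  have hLdNL : Ld ≤ Subgroup.normalizer (YL : Set H) := sup_le hLNL hCLNL
  have hYL1 : YL ≠ ⊥ := hYne L hTL hL
  have hLdL : Ld ∈ charPSubgroups p H :=
    mem_charPSubgroups_of_le_normalizer hpc T (largestPReducedOf_isPGroup L) hYL1
      (hTL.trans le_sup_left) ((largestPReducedOf_le p L).trans le_sup_left) hLdNL
  set L₁ := M ⊓ Ld with hL₁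
  have hTL₁ : (T : Subgroup H) ≤ L₁ := le_inf hTM (hTL.trans le_sup_left)
  have hL₁c := charP_of_parabolic_le T hTL₁ inf_le_right (charP_of_mem_charPSubgroups hLdL)
  have hfac : L₁ ⊔ CL = L ⊔ CL := by
    apply le_antisymm
    · exact sup_le inf_le_right le_sup_right
    · apply sup_le _ le_sup_right
      intro l hl
      obtain ⟨c, hc, m, hm, rfl⟩ := hD l hl
      have hmLd : m ∈ Ld := by
        have e : m = c⁻¹ * (c * m) := by group
        rw [e]
        exact Subgroup.mul_mem _ (Subgroup.mem_sup_right (CL.inv_mem hc))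
          (Subgroup.mem_sup_left hl)
      exact Subgroup.mul_mem _ (Subgroup.mem_sup_right hc)
        (Subgroup.mem_sup_left (Subgroup.mem_inf.mpr ⟨hm, hmLd⟩))
  set T₀ := (T : Subgroup H) ⊓ CL with hT₀
  set Ls := L₁ ⊓ Subgroup.normalizer (T₀ : Set H) with hLs
  obtain ⟨hYLs, hfac'⟩ :=
    Cfsg.Agent.S2824.result T L L₁ hTL hTL₁ hLc hL₁c T₀ rfl hfac Ls rfl
  have hNLCL : Subgroup.normalizer (YL : Set H) ≤ Subgroup.normalizer (CL : Set H) :=
    le_normalizer_centralizer_of_le_normalizer le_rfl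
  have hTLs : (T : Subgroup H) ≤ Ls :=
    le_inf hTL₁ (le_normalizer_inf Subgroup.le_normalizer (hTL.trans (hLNL.trans hNLCL)))
  have hLsM : Ls ≤ M := inf_le_left.trans inf_le_left
  have hLsL : Ls ∈ charPSubgroups p H := by
    apply mem_charPSubgroups_of_le_normalizer hpc T (largestPReducedOf_isPGroup Ls) _ hTLs
      (largestPReducedOf_le p Ls) (largestPReducedOf_spec Ls).1
    rw [hYLs]; exact hYL1
  refine ⟨M, Ls, hTM, ?_, hTLs, hLsM, hLsL, hYLs.symm, ?_, hfac'⟩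
  · unfold IsInFrakM
    rw [hYM, hMC]
    refine ⟨hML, ⟨hNL', fun X hX hNX => le_antisymm (hC X hX (hMN.trans hNX)) hNX⟩, ?_,
      hYN.symm, hMisP, hMfr⟩
    intro X hX hMX
    exact (hX.2 N hNL' (hC X hX.1 hMX)).symm
  · rw [hYM]; exact hYLM₀

end Basic

end Cfsg.Agent.Helper14
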