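import Mathlib

/-!
# Alternating words in two subgroups (helper14)

`reachSet M N k` is the set of products `m₀ n₁ m₁ ⋯ n_k m_k` with `mᵢ ∈ M`, `nᵢ ∈ N`.
-/

set_option autoImplicit false

namespace Cfsg.Agent.Helper14

variable {G : Type*} [Group G]

/-- the set of products `m₀ n₁ m₁ ⋯ n_k m_k` -/
def reachSet (M N : Subgroup G) : ℕ → Set G
  | 0 => (M : Set G)
  | (k + 1) => {x | ∃ x₁ ∈ reachSet M N k, ∃ n ∈ N, ∃ m ∈ M, x = x₁ * n * m}

variable {M N : Subgroup G}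

theorem mem_reachSet_zero {x : G} : x ∈ reachSet M N 0 ↔ x ∈ M := Iff.rfl

theorem mem_reachSet_succ {k : ℕ} {x : G} :
    x ∈ reachSet M N (k + 1) ↔ ∃ x₁ ∈ reachSet M N k, ∃ n ∈ N, ∃ m ∈ M, x = x₁ * n * m := Iff.rfl

theorem reachSet_mul_right {k : ℕ} {x m : G} (h : x ∈ reachSet M N k) (hm : m ∈ M) :
    x * m ∈ reachSet M N k := by
  cases k with
  | zero => exact M.mul_mem h hm
  | succ k =>
    obtain ⟨x₁, hx₁, n, hn, m', hm', rfl⟩ := h
    exact ⟨x₁, hx₁, n, hn, m' * m, M.mul_mem hm' hm, by group⟩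

theorem reachSet_step_left {k : ℕ} {x n m : G} (h : x ∈ reachSet M N k) (hn : n ∈ N) (hm : m ∈ M) :
    m * n * x ∈ reachSet M N (k + 1) := by
  induction k generalizing x with
  | zero => exact ⟨m, hm, n, hn, x, h, rfl⟩
  | succ k ih =>
    obtain ⟨x₁, hx₁, n', hn', m', hm', rfl⟩ := h
    exact ⟨m * n * x₁, ih hx₁, n', hn', m', hm', by group⟩

theorem reachSet_inv {k : ℕ} {x : G} (h : x ∈ reachSet M N k) : x⁻¹ ∈ reachSet M N k := by
  induction k generalizing x with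
  | zero => exact M.inv_mem h
  | succ k ih =>
    obtain ⟨x₁, hx₁, n, hn, m, hm, rfl⟩ := h
    have := reachSet_step_left (ih hx₁) (N.inv_mem hn) (M.inv_mem hm)
    have e : (x₁ * n * m)⁻¹ = m⁻¹ * n⁻¹ * x₁⁻¹ := by group
    rw [e]
    exact this

theorem reachSet_exists_left {k : ℕ} {x : G} (h : x ∈ reachSet M N (k + 1)) :
    ∃ m₀ ∈ M, ∃ n₁ ∈ N, ∃ z ∈ reachSet M N k, x = m₀ * n₁ * z := by
  induction k generalizing x with
  | zero =>
    obtain ⟨x₁, hx₁, n, hn, m, hm, rfl⟩ := h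
    exact ⟨x₁, hx₁, n, hn, m, hm, rfl⟩
  | succ k ih =>
    obtain ⟨x₁, hx₁, n, hn, m, hm, rfl⟩ := h
    obtain ⟨m₀, hm₀, n₁, hn₁, z, hz, rfl⟩ := ih hx₁
    exact ⟨m₀, hm₀, n₁, hn₁, z * n * m, ⟨z, hz, n, hn, m, hm, rfl⟩, by group⟩

theorem reachSet_mul {k j : ℕ} {x y : G} (hx : x ∈ reachSet M N k) (hy : y ∈ reachSet M N j) :
    x * y ∈ reachSet M N (k + j) := by
  induction j generalizing y with
  | zero => exact reachSet_mul_right hx hy
  | succ j ih =>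
    obtain ⟨y₁, hy₁, n, hn, m, hm, rfl⟩ := hy
    exact ⟨x * y₁, ih hy₁, n, hn, m, hm, by group⟩

theorem exists_mem_reachSet_of_mem_sup {x : G} (hx : x ∈ M ⊔ N) : ∃ k, x ∈ reachSet M N k := by
  rw [Subgroup.sup_eq_closure] at hx
  induction hx using Subgroup.closure_induction with
  | mem y hy =>
    rcases hy with hy | hy
    · exact ⟨0, hy⟩
    · exact ⟨1, 1, M.one_mem, y, hy, 1, M.one_mem, by group⟩
  | one => exact ⟨0, M.one_mem⟩
  | mul a b _ _ iha ihb =>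
    obtain ⟨k, hk⟩ := iha
    obtain ⟨j, hj⟩ := ihb
    exact ⟨k + j, reachSet_mul hk hj⟩
  | inv a _ ih =>
    obtain ⟨k, hk⟩ := ih
    exact ⟨k, reachSet_inv hk⟩

end Cfsg.Agent.Helper14
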