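import Mathlib
import Cfsg.Agent.S2848
import Cfsg.Agent.Lib.Helper14.BasicProperty
import Cfsg.Agent.Lib.Helper14.ReachWord
import Cfsg.Agent.Lib.Helper12.PGroup
import Cfsg.Agent.Lib.Helper1.Coprime

/-!
# The asymmetric case (helper14)

For `M ∈ 𝔐_G(S)` with `Y_M` asymmetric in a group `G` of parabolic characteristic `p`:
`N_G(L) ≤ N_G(O_p(M)) ≤ M†` for every `p`-subgroup `L ≥ O_p(M)`, and `O_p(M)` is weakly closed.
-/

set_option autoImplicit false

namespace Cfsg.Agent.Helper14

open Cfsg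

variable {G : Type*} [Group G]

local notation "cj[" g "]" A:max => Subgroup.map (MulEquiv.toMonoidHom (MulAut.conj g)) A

/-- the path argument: all conjugates of `Y` under words in `M` and `N ≤ N_G(L)` lie in `B` -/
theorem conj_le_of_mem_reachSet {M N L Y B : Subgroup G}
    (hMY : M ≤ Subgroup.normalizer (Y : Set G))
    (hYB : Y ≤ B) (hBL : B ≤ L) (hLM : L ≤ M) (hNL : N ≤ Subgroup.normalizer (L : Set G))
    (hasym : ∀ g : G, ⁅Y, cj[g] Y⁆ ≤ Y ⊓ cj[g] Y → ⁅Y, cj[g] Y⁆ = ⊥)
    (hLC : ∀ m ∈ M, cj[m] L ⊓ Subgroup.centralizer (Y : Set G) ≤ B) :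
    ∀ k x, x ∈ reachSet M N k → cj[x] Y ≤ B := by
  intro k
  induction k with
  | zero =>
    intro x hx
    rw [map_conj_eq_self_of_le_normalizer hMY hx]
    exact hYB
  | succ k ih =>
    intro x hx
    obtain ⟨m₀, hm₀, n₁, hn₁, z, hz, hxz⟩ := reachSet_exists_left hx
    obtain ⟨x₁, hx₁, n, hn, m, hm, hxx⟩ := hx
    set Y' := cj[x] Y with hY'
    have h2 : Y' ≤ cj[m₀] L := by
      rw [hY', hxz, conj_mul_map, conj_mul_map]
      apply Subgroup.map_mono
      calc cj[n₁] (cj[z] Y) ≤ cj[n₁] L := Subgroup.map_mono ((ih z hz).trans hBL)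
        _ = L := map_conj_eq_self_of_le_normalizer hNL hn₁
    have h2M : Y' ≤ M :=
      h2.trans ((Subgroup.map_mono hLM).trans_eq (map_conj_eq_self_of_mem hm₀))
    have h1 : Y ≤ cj[x] M := by
      have hinv := ih x₁⁻¹ (reachSet_inv hx₁)
      have h3 : Y ≤ cj[x₁] B := by
        have := Subgroup.map_mono (f := (MulAut.conj x₁).toMonoidHom) hinv
        rwa [map_conj_map_conj_inv] at this
      calc Y ≤ cj[x₁] B := h3
        _ ≤ cj[x₁] L := Subgroup.map_mono hBL
        _ = cj[x₁] (cj[n] L) := by rw [map_conj_eq_self_of_le_normalizer hNL hn]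
        _ = cj[x₁ * n] L := (conj_mul_map _ _ _).symm
        _ ≤ cj[x₁ * n] M := Subgroup.map_mono hLM
        _ = cj[x₁ * n] (cj[m] M) := by rw [map_conj_eq_self_of_mem hm]
        _ = cj[x₁ * n * m] M := (conj_mul_map _ _ _).symm
        _ = cj[x] M := by rw [hxx]
    have hn1 : Y' ≤ Subgroup.normalizer (Y : Set G) := h2M.trans hMY
    have hn2 : Y ≤ Subgroup.normalizer (Y' : Set G) := by
      rw [hY', normalizer_map_conj]
      exact h1.trans (Subgroup.map_mono hMY)
    have hc : ⁅Y, Y'⁆ ≤ Y ⊓ Y' :=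
      le_inf (commutator_le_of_le_normalizer hn1) (commutator_le_of_le_normalizer' hn2)
    have hbot := hasym x hc
    have hcent : Y' ≤ Subgroup.centralizer (Y : Set G) := by
      rw [Subgroup.commutator_comm, Subgroup.commutator_eq_bot_iff_le_centralizer] at hbot
      exact hbot
    exact (le_inf h2 hcent).trans (hLC m₀ hm₀)

section Setup

variable [Finite G] {p : ℕ} [Fact p.Prime]

/-- every member of `𝓛_G` containing `M ∈ 𝔐_G` lies in `M†` -/
theorem le_dagger_of_mem_charPSubgroups {M X : Subgroup G} (hM : IsInFrakM p M)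
    (hX : X ∈ charPSubgroups p G) (hMX : M ≤ X) :
    X ≤ M ⊔ Subgroup.centralizer (largestPReducedOf p M : Set G) := by
  obtain ⟨X', hXX', hX'⟩ := exists_maximal_ge_of_wellFoundedGT (· ∈ charPSubgroups p G) X hX
  have hX'max : X' ∈ maxCharPSubgroups p G :=
    ⟨hX'.1, fun Z hZ h => le_antisymm (hX'.2 hZ h) h⟩
  have := hM.2.2.1 X' hX'max (hMX.trans hXX')
  rw [← this]
  exact hXX'

/-- `M†` normalizes `Y_M` -/
theorem dagger_le_normalizer {M : Subgroup G} (hM : IsInFrakM p M) :
    M ⊔ Subgroup.centralizer (largestPReducedOf p M : Set G) ≤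
      Subgroup.normalizer (largestPReducedOf p M : Set G) :=
  sup_le (largestPReducedOf_spec M).1 (Subgroup.centralizer_le_normalizer _)

theorem sylow_ne_bot_of_frakM {S : Sylow p G} {M : Subgroup G} (hSM : (S : Subgroup G) ≤ M)
    (hM : IsInFrakM p M) : (S : Subgroup G) ≠ ⊥ := by
  intro hbot
  have h1 : pCoreOf p M ≤ (S : Subgroup G) :=
    pCoreOf_le_of_isSylowOf (isSylowOf_of_sylow_le S hSM)
  rw [hbot, le_bot_iff] at h1
  exact ((mem_charPSubgroups_iff M).mp hM.1).1 h1

theorem largestPReducedOf_ne_bot_of_frakM {S : Sylow p G} {M : Subgroup G}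
    (hSM : (S : Subgroup G) ≤ M) (hM : IsInFrakM p M) : largestPReducedOf p M ≠ ⊥ :=
  largestPReducedOf_ne_bot S hSM (charP_of_mem_charPSubgroups hM.1) (sylow_ne_bot_of_frakM hSM hM)

/-- `N_G(Y_M) = M†` -/
theorem normalizer_eq_dagger (hpc : IsOfParabolicCharacteristic p G) {S : Sylow p G}
    {M : Subgroup G} (hSM : (S : Subgroup G) ≤ M) (hM : IsInFrakM p M) :
    Subgroup.normalizer (largestPReducedOf p M : Set G) =
      M ⊔ Subgroup.centralizer (largestPReducedOf p M : Set G) := by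
  apply le_antisymm _ (dagger_le_normalizer hM)
  have hMN : M ≤ Subgroup.normalizer (largestPReducedOf p M : Set G) := (largestPReducedOf_spec M).1
  apply le_dagger_of_mem_charPSubgroups hM _ hMN
  exact mem_charPSubgroups_of_le_normalizer hpc S (largestPReducedOf_isPGroup M)
    (largestPReducedOf_ne_bot_of_frakM hSM hM) (hSM.trans hMN) Subgroup.le_normalizer le_rfl

/-- `N_G(O_p(M)) ≤ M†` -/
theorem normalizer_pCoreOf_le_dagger (hpc : IsOfParabolicCharacteristic p G) {S : Sylow p G}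
    {M : Subgroup G} (hSM : (S : Subgroup G) ≤ M) (hM : IsInFrakM p M) :
    Subgroup.normalizer (pCoreOf p M : Set G) ≤
      M ⊔ Subgroup.centralizer (largestPReducedOf p M : Set G) := by
  have hMN : M ≤ Subgroup.normalizer (pCoreOf p M : Set G) := le_normalizer_pCoreOf p M
  apply le_dagger_of_mem_charPSubgroups hM _ hMN
  exact mem_charPSubgroups_of_le_normalizer hpc S (pCoreOf_isPGroup p M)
    ((mem_charPSubgroups_iff M).mp hM.1).1 (hSM.trans hMN) Subgroup.le_normalizer le_rfl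

/-- the `p`-elements of `C_M(Y_M)` lie in `O_p(M)` -/
theorem mem_pCoreOf_of_mem_inf_centralizer {M : Subgroup G} (hM : IsInFrakM p M) {x : G}
    (hx : x ∈ M ⊓ Subgroup.centralizer (largestPReducedOf p M : Set G)) {k : ℕ}
    (hk : x ^ (p ^ k) = 1) : x ∈ pCoreOf p M := by
  set Y := largestPReducedOf p M with hY
  set C := Subgroup.centralizer ((Y : Subgroup G) : Set G) with hC
  have hMN : M ≤ Subgroup.normalizer (Y : Set G) := (largestPReducedOf_spec M).1
  have hMNC : M ≤ Subgroup.normalizer (C : Set G) := le_normalizer_centralizer_of_le_normalizer hMN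
  have hcl : IsPClosed p ↥(M ⊓ C) := hM.2.2.2.2.1
  obtain ⟨P0⟩ : Nonempty (Sylow p ↥(M ⊓ C)) := Sylow.nonempty
  set P0' := (P0 : Subgroup ↥(M ⊓ C)).map (M ⊓ C).subtype with hP0'
  have claimA : ∀ x : G, x ∈ M ⊓ C → ∀ k : ℕ, x ^ (p ^ k) = 1 → x ∈ P0' := by
    intro x hx k hk
    have hx' : (⟨x, hx⟩ : ↥(M ⊓ C)) ^ (p ^ k) = 1 := by
      apply Subtype.ext
      simpa using hk
    exact ⟨⟨x, hx⟩, Cfsg.Agent.S2848.mem_sylow_of_isPClosed hcl P0 hx', rfl⟩
  have hP0'le : P0' ≤ M ⊓ C := Subgroup.map_subtype_le _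
  have hP0'p : IsPGroup p P0' := P0.isPGroup'.map _
  have claimB : M ≤ Subgroup.normalizer (P0' : Set G) := by
    apply le_normalizer_of_conj_mem
    intro m hm z hz
    obtain ⟨k, hk⟩ := hP0'p ⟨z, hz⟩
    have hk' : z ^ (p ^ k) = 1 := by
      have := congrArg Subtype.val hk
      simpa using this
    have hzM : z ∈ M := (Subgroup.mem_inf.mp (hP0'le hz)).1
    have hzC : z ∈ C := (Subgroup.mem_inf.mp (hP0'le hz)).2
    apply claimA _ _ k
    · rw [conj_pow, hk']; group
    · refine Subgroup.mem_inf.mpr ⟨M.mul_mem (M.mul_mem hm hzM) (M.inv_mem hm), ?_⟩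
      exact (Subgroup.mem_normalizer_iff.mp (hMNC hm) _).mp hzC
  have hP0'O : P0' ≤ pCoreOf p M := le_pCoreOf (hP0'le.trans inf_le_left) claimB hP0'p
  exact hP0'O (claimA x hx k hk)

/-- `O_p(M)` is a Sylow `p`-subgroup of `C_G(Y_M)` -/
theorem pCoreOf_isSylowOf_centralizer {S : Sylow p G} {M : Subgroup G}
    (hSM : (S : Subgroup G) ≤ M) (hM : IsInFrakM p M) :
    IsSylowOf p (Subgroup.centralizer (largestPReducedOf p M : Set G)) (pCoreOf p M) := by
  set Y := largestPReducedOf p M with hY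
  set C := Subgroup.centralizer ((Y : Subgroup G) : Set G) with hC
  have hMdN := dagger_le_normalizer hM
  have hS : IsSylowOf p (M ⊔ C) (S : Subgroup G) := isSylowOf_of_sylow_le S (hSM.trans le_sup_left)
  have h1 : IsSylowOf p C ((S : Subgroup G) ⊓ C) :=
    hS.inf_of_le_normalizer le_sup_right (le_normalizer_centralizer_of_le_normalizer hMdN)
  have h2 : (S : Subgroup G) ⊓ C = pCoreOf p M := by
    apply le_antisymm
    · intro x hx
      obtain ⟨hxS, hxC⟩ := Subgroup.mem_inf.mp hx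
      obtain ⟨k, hk⟩ := S.isPGroup' ⟨x, hxS⟩
      have hk' : x ^ (p ^ k) = 1 := by
        have := congrArg Subtype.val hk
        simpa using this
      exact mem_pCoreOf_of_mem_inf_centralizer hM (Subgroup.mem_inf.mpr ⟨hSM hxS, hxC⟩) hk'
    · exact le_inf (pCoreOf_le_of_isSylowOf (isSylowOf_of_sylow_le S hSM))
        (Cfsg.Agent.Helper28.pCoreOf_le_centralizer_largestPReducedOf p M)
  rwa [h2] at h1

/-- a `p`-subgroup containing `O_p(M)` meets `C_G(Y_M)` in `O_p(M)` -/
theorem inf_centralizer_eq_pCoreOf {S : Sylow p G} {M : Subgroup G}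
    (hSM : (S : Subgroup G) ≤ M) (hM : IsInFrakM p M) {T : Subgroup G} (hT : IsPGroup p T)
    (hBT : pCoreOf p M ≤ T) :
    T ⊓ Subgroup.centralizer (largestPReducedOf p M : Set G) = pCoreOf p M := by
  have h := (isSylowOf_iff.mp (pCoreOf_isSylowOf_centralizer hSM hM)).2.2
  exact h _ (hT.to_le inf_le_left)
    (le_inf hBT (Cfsg.Agent.Helper28.pCoreOf_le_centralizer_largestPReducedOf p M)) inf_le_right

end Setup

section Asym

variable [Finite G] {p : ℕ} [Fact p.Prime] {S : Sylow p G} {M : Subgroup G}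

/-- `M†`-conjugates of `O_p(M)` lie in `C_G(Y_M)` -/
theorem conj_pCoreOf_le_centralizer (hM : IsInFrakM p M) {x : G}
    (hx : x ∈ M ⊔ Subgroup.centralizer (largestPReducedOf p M : Set G)) :
    cj[x] (pCoreOf p M) ≤ Subgroup.centralizer (largestPReducedOf p M : Set G) := by
  set Y := largestPReducedOf p M with hY
  set C := Subgroup.centralizer ((Y : Subgroup G) : Set G) with hC
  have hMN : M ≤ Subgroup.normalizer (Y : Set G) := (largestPReducedOf_spec M).1
  have hMNC : M ≤ Subgroup.normalizer (C : Set G) := le_normalizer_centralizer_of_le_normalizer hMN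
  have hx' : x ∈ C ⊔ M := by rw [sup_comm]; exact hx
  obtain ⟨c, hc, m, hm, rfl⟩ := Cfsg.Agent.Helper1.exists_mul_of_mem_sup hMNC hx'
  rw [conj_mul_map, map_conj_eq_self_of_le_normalizer (le_normalizer_pCoreOf p M) hm]
  exact (Subgroup.map_mono (Cfsg.Agent.Helper28.pCoreOf_le_centralizer_largestPReducedOf p M)).trans_eq
    (map_conj_eq_self_of_mem hc)

/-- `O_p(M)` is the only `M†`-conjugate of itself in any `p`-subgroup containing it -/
theorem conj_pCoreOf_eq_of_le (hSM : (S : Subgroup G) ≤ M) (hM : IsInFrakM p M) {x : G}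
    (hx : x ∈ M ⊔ Subgroup.centralizer (largestPReducedOf p M : Set G)) {T : Subgroup G}
    (hT : IsPGroup p T) (hBT : pCoreOf p M ≤ T) (hxT : cj[x] (pCoreOf p M) ≤ T) :
    cj[x] (pCoreOf p M) = pCoreOf p M := by
  have h3 : cj[x] (pCoreOf p M) ≤ pCoreOf p M :=
    (le_inf hxT (conj_pCoreOf_le_centralizer hM hx)).trans_eq
      (inf_centralizer_eq_pCoreOf hSM hM hT hBT)
  apply Subgroup.eq_of_le_of_card_ge h3
  rw [Subgroup.card_map_of_injective (MulAut.conj x).injective]

theorem asym_commutator_eq_bot {Y : Subgroup G} (hasym : ¬ IsSymmetricIn Y) (g : G)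
    (h : ⁅Y, cj[g] Y⁆ ≤ Y ⊓ cj[g] Y) : ⁅Y, cj[g] Y⁆ = ⊥ := by
  by_contra hne
  exact hasym ⟨g, hne, h⟩

/-- `N_G(L) ≤ M†` for `p`-subgroups `O_p(M) ≤ L ≤ M` -/
theorem normalizer_le_dagger_of_le (hpc : IsOfParabolicCharacteristic p G)
    (hSM : (S : Subgroup G) ≤ M) (hM : IsInFrakM p M)
    (hasym : ¬ IsSymmetricIn (largestPReducedOf p M)) {L : Subgroup G} (hL : IsPGroup p L)
    (hBL : pCoreOf p M ≤ L) (hLM : L ≤ M) :
    Subgroup.normalizer (L : Set G) ≤
      M ⊔ Subgroup.centralizer (largestPReducedOf p M : Set G) := by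
  set Y := largestPReducedOf p M with hY
  set C := Subgroup.centralizer ((Y : Subgroup G) : Set G) with hC
  set B := pCoreOf p M with hB
  set N := Subgroup.normalizer (L : Set G) with hN
  set P := M ⊔ N with hP
  have hMY : M ≤ Subgroup.normalizer (Y : Set G) := (largestPReducedOf_spec M).1
  have hMB : M ≤ Subgroup.normalizer (B : Set G) := le_normalizer_pCoreOf p M
  have hYB : Y ≤ B := largestPReducedOf_le_pCoreOf M
  have hLC : ∀ m ∈ M, cj[m] L ⊓ C ≤ B := by
    intro m hm
    have hp : IsPGroup p (cj[m] L) := hL.map _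
    have hB' : B ≤ cj[m] L := by
      calc B = cj[m] B := (map_conj_eq_self_of_le_normalizer hMB hm).symm
        _ ≤ cj[m] L := Subgroup.map_mono hBL
    exact (inf_centralizer_eq_pCoreOf hSM hM hp hB').le
  have key : ∀ x ∈ P, cj[x] Y ≤ B := by
    intro x hx
    obtain ⟨k, hk⟩ := exists_mem_reachSet_of_mem_sup hx
    exact conj_le_of_mem_reachSet hMY hYB hBL hLM le_rfl (asym_commutator_eq_bot hasym) hLC k x hk
  set K := ⨆ x : ↥P, cj[(x : G)] Y with hK
  have hKB : K ≤ B := iSup_le fun x => key x x.2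
  have hYK : Y ≤ K := by
    have h1 := le_iSup (fun x : ↥P => cj[(x : G)] Y) 1
    have h2 : cj[((1 : ↥P) : G)] Y = Y := map_conj_eq_self_of_mem (H := Y) (by simp)
    rw [h2] at h1
    exact h1
  have hKp : IsPGroup p K := (pCoreOf_isPGroup p M).to_le hKB
  have hK1 : K ≠ ⊥ := by
    intro hbot
    rw [hbot, le_bot_iff] at hYK
    exact largestPReducedOf_ne_bot_of_frakM hSM hM hYK
  have hKP : K ≤ P := hKB.trans ((pCoreOf_le p M).trans le_sup_left)
  have hPK : P ≤ Subgroup.normalizer (K : Set G) := by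
    apply le_normalizer_of_map_conj_le
    intro g hg
    rw [hK, Subgroup.map_iSup]
    apply iSup_le
    intro x
    rw [← conj_mul_map]
    exact le_iSup (fun x : ↥P => cj[(x : G)] Y) (⟨g, hg⟩ * x)
  have hPL : P ∈ charPSubgroups p G :=
    mem_charPSubgroups_of_le_normalizer hpc S hKp hK1 (hSM.trans le_sup_left) hKP hPK
  exact le_sup_right.trans (le_dagger_of_mem_charPSubgroups hM hPL le_sup_left)

/-- `N_G(L) ≤ M†` for `p`-subgroups `O_p(M) ≤ L ≤ M†` -/
theorem normalizer_le_dagger_of_le_dagger (hpc : IsOfParabolicCharacteristic p G)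
    (hSM : (S : Subgroup G) ≤ M) (hM : IsInFrakM p M)
    (hasym : ¬ IsSymmetricIn (largestPReducedOf p M)) {L : Subgroup G} (hL : IsPGroup p L)
    (hBL : pCoreOf p M ≤ L)
    (hLMd : L ≤ M ⊔ Subgroup.centralizer (largestPReducedOf p M : Set G)) :
    Subgroup.normalizer (L : Set G) ≤
      M ⊔ Subgroup.centralizer (largestPReducedOf p M : Set G) := by
  set Y := largestPReducedOf p M with hY
  set C := Subgroup.centralizer ((Y : Subgroup G) : Set G) with hC
  set B := pCoreOf p M with hB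
  have hMY : M ≤ Subgroup.normalizer (Y : Set G) := (largestPReducedOf_spec M).1
  have hMNC : M ≤ Subgroup.normalizer (C : Set G) := le_normalizer_centralizer_of_le_normalizer hMY
  have hMB : M ≤ Subgroup.normalizer (B : Set G) := le_normalizer_pCoreOf p M
  have hBS : B ≤ (S : Subgroup G) := pCoreOf_le_of_isSylowOf (isSylowOf_of_sylow_le S hSM)
  have hS : IsSylowOf p (M ⊔ C) (S : Subgroup G) := isSylowOf_of_sylow_le S (hSM.trans le_sup_left)
  obtain ⟨T', hT', hLT'⟩ := exists_isSylowOf_ge hLMd hL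
  obtain ⟨x, hx, hxT'⟩ := hS.exists_conj hT'
  have hx' : x ∈ C ⊔ M := by rw [sup_comm]; exact hx
  obtain ⟨c, hc, m, hm, rfl⟩ := Cfsg.Agent.Helper1.exists_mul_of_mem_sup hMNC hx'
  set L' := cj[c⁻¹] L with hL'
  have hL'S : L' ≤ cj[m] (S : Subgroup G) := by
    have := Subgroup.map_mono (f := (MulAut.conj c⁻¹).toMonoidHom) (hLT'.trans_eq hxT')
    rw [conj_mul_map, map_conj_inv_map_conj] at this
    exact this
  have hL'M : L' ≤ M :=
    hL'S.trans ((Subgroup.map_mono hSM).trans_eq (map_conj_eq_self_of_mem hm))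
  have hBc : cj[c⁻¹] B = B := by
    have hT : IsPGroup p (cj[m] (S : Subgroup G)) := S.isPGroup'.map _
    have hBT : B ≤ cj[m] (S : Subgroup G) := by
      calc B = cj[m] B := (map_conj_eq_self_of_le_normalizer hMB hm).symm
        _ ≤ cj[m] (S : Subgroup G) := Subgroup.map_mono hBS
    have h1 : cj[c⁻¹] B ≤ cj[m] (S : Subgroup G) := (Subgroup.map_mono hBL).trans hL'S
    exact conj_pCoreOf_eq_of_le hSM hM (le_sup_right (a := M) (C.inv_mem hc)) hT hBT h1
  have hBL' : B ≤ L' := by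
    rw [← hBc]
    exact Subgroup.map_mono hBL
  have hA := normalizer_le_dagger_of_le hpc hSM hM hasym (hL.map _) hBL' hL'M
  have hLL' : L = cj[c] L' := (map_conj_map_conj_inv L c).symm
  rw [hLL', normalizer_map_conj]
  calc cj[c] (Subgroup.normalizer (L' : Set G)) ≤ cj[c] (M ⊔ C) := Subgroup.map_mono hA
    _ = M ⊔ C := map_conj_eq_self_of_mem (le_sup_right (a := M) hc)

/-- `N_G(L) ≤ N_G(O_p(M))` for `p`-subgroups `O_p(M) ≤ L ≤ M†` -/
theorem normalizer_le_normalizer_pCoreOf_of_le_dagger (hpc : IsOfParabolicCharacteristic p G)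
    (hSM : (S : Subgroup G) ≤ M) (hM : IsInFrakM p M)
    (hasym : ¬ IsSymmetricIn (largestPReducedOf p M)) {L : Subgroup G} (hL : IsPGroup p L)
    (hBL : pCoreOf p M ≤ L)
    (hLMd : L ≤ M ⊔ Subgroup.centralizer (largestPReducedOf p M : Set G)) :
    Subgroup.normalizer (L : Set G) ≤ Subgroup.normalizer (pCoreOf p M : Set G) := by
  apply le_normalizer_of_map_conj_le
  intro g hg
  have hgMd := normalizer_le_dagger_of_le_dagger hpc hSM hM hasym hL hBL hLMd hg
  have h1 : cj[g] (pCoreOf p M) ≤ L :=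
    (Subgroup.map_mono hBL).trans_eq (map_conj_eq_self_of_le_normalizer le_rfl hg)
  exact (conj_pCoreOf_eq_of_le hSM hM hgMd hL hBL h1).le

/-- the main fact of the asymmetric case: `p`-subgroups `L ≥ O_p(M)` normalize `O_p(M)`, and so does
`N_G(L)` -/
theorem asym_main (hpc : IsOfParabolicCharacteristic p G)
    (hSM : (S : Subgroup G) ≤ M) (hM : IsInFrakM p M)
    (hasym : ¬ IsSymmetricIn (largestPReducedOf p M)) {L : Subgroup G} (hL : IsPGroup p L)
    (hBL : pCoreOf p M ≤ L) :
    L ≤ Subgroup.normalizer (pCoreOf p M : Set G) ∧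
      Subgroup.normalizer (L : Set G) ≤ Subgroup.normalizer (pCoreOf p M : Set G) := by
  have hNB := normalizer_pCoreOf_le_dagger hpc hSM hM
  set B := pCoreOf p M with hB
  set L₁ := L ⊓ Subgroup.normalizer (B : Set G) with hL₁
  have hBL₁ : B ≤ L₁ := le_inf hBL Subgroup.le_normalizer
  have hL₁p : IsPGroup p L₁ := hL.to_le inf_le_left
  have h1 := normalizer_le_normalizer_pCoreOf_of_le_dagger hpc hSM hM hasym hL₁p hBL₁
    (inf_le_right.trans hNB)
  have hLL₁ : L₁ = L := by
    by_contra hne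
    have hlt : L₁ < L := lt_of_le_of_ne inf_le_left hne
    obtain ⟨g, hgL, hgL₁, hgN⟩ := Cfsg.Agent.Helper12.exists_mem_normalizer_not_mem L hL L₁ hlt
    exact hgL₁ (Subgroup.mem_inf.mpr ⟨hgL, h1 hgN⟩)
  have hLN : L ≤ Subgroup.normalizer (B : Set G) := by
    rw [← hLL₁]
    exact inf_le_right
  exact ⟨hLN, normalizer_le_normalizer_pCoreOf_of_le_dagger hpc hSM hM hasym hL hBL
    (hLN.trans hNB)⟩

end Asym

section AsymWeak

variable [Finite G] {p : ℕ} [Fact p.Prime] {S : Sylow p G} {M : Subgroup G}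

/-- conjugate form of `asym_main` -/
theorem asym_main_conj (hpc : IsOfParabolicCharacteristic p G)
    (hSM : (S : Subgroup G) ≤ M) (hM : IsInFrakM p M)
    (hasym : ¬ IsSymmetricIn (largestPReducedOf p M)) (g : G) {L : Subgroup G} (hL : IsPGroup p L)
    (hBL : cj[g] (pCoreOf p M) ≤ L) :
    L ≤ Subgroup.normalizer ((cj[g] (pCoreOf p M) : Subgroup G) : Set G) ∧
      Subgroup.normalizer (L : Set G) ≤
        Subgroup.normalizer ((cj[g] (pCoreOf p M) : Subgroup G) : Set G) := by
  set B := pCoreOf p M with hB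
  have hBL' : B ≤ cj[g⁻¹] L := by
    have := Subgroup.map_mono (f := (MulAut.conj g⁻¹).toMonoidHom) hBL
    rwa [map_conj_inv_map_conj] at this
  obtain ⟨h1, h2⟩ := asym_main hpc hSM hM hasym (hL.map (MulAut.conj g⁻¹).toMonoidHom) hBL'
  rw [normalizer_map_conj]
  constructor
  · have := Subgroup.map_mono (f := (MulAut.conj g).toMonoidHom) h1
    rwa [map_conj_map_conj_inv] at this
  · rw [normalizer_map_conj] at h2
    have := Subgroup.map_mono (f := (MulAut.conj g).toMonoidHom) h2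
    rwa [map_conj_map_conj_inv] at this

/-- `O_p(M)` is weakly closed in `S` with respect to `G` -/
theorem pCoreOf_isWeaklyClosed (hpc : IsOfParabolicCharacteristic p G)
    (hSM : (S : Subgroup G) ≤ M) (hM : IsInFrakM p M)
    (hasym : ¬ IsSymmetricIn (largestPReducedOf p M)) :
    IsWeaklyClosed (pCoreOf p M) (S : Subgroup G) := by
  set Y := largestPReducedOf p M with hY
  set C := Subgroup.centralizer ((Y : Subgroup G) : Set G) with hC
  set B := pCoreOf p M with hB
  set Md := M ⊔ C with hMd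
  have hBS : B ≤ (S : Subgroup G) := pCoreOf_le_of_isSylowOf (isSylowOf_of_sylow_le S hSM)
  refine ⟨hBS, ?_⟩
  intro g hg
  have hNB := normalizer_pCoreOf_le_dagger hpc hSM hM
  -- `S` normalizes `B^g`
  have h1 := (asym_main_conj hpc hSM hM hasym g S.isPGroup' hg).1
  rw [normalizer_map_conj] at h1
  have hSgMd : (S : Subgroup G) ≤ cj[g] Md := h1.trans (Subgroup.map_mono hNB)
  have hsyl1 : IsSylowOf p (cj[g] Md) (cj[g] (S : Subgroup G)) :=
    (isSylowOf_of_sylow_le S (hSM.trans le_sup_left)).map_equiv (MulAut.conj g)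
  have hsyl2 : IsSylowOf p (cj[g] Md) (S : Subgroup G) := isSylowOf_of_sylow_le S hSgMd
  obtain ⟨x, hx, hxS⟩ := hsyl1.exists_conj hsyl2
  rw [← conj_mul_map] at hxS
  rw [mem_map_conj_iff] at hx
  set m := g⁻¹ * x * g with hm
  have hxg : x * g = g * m := by rw [hm]; group
  have hn : x * g ∈ Subgroup.normalizer ((S : Subgroup G) : Set G) :=
    mem_normalizer_of_map_conj_eq hxS.symm
  have hnB : cj[x * g] B = B :=
    map_conj_eq_self_of_le_normalizer (asym_main hpc hSM hM hasym S.isPGroup' hBS).2 hn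
  -- `B ≤ S^m`
  have hBm : B ≤ cj[m] (S : Subgroup G) := by
    have h2 : cj[g] B ≤ cj[g] (cj[m] (S : Subgroup G)) := by
      rw [← conj_mul_map, ← hxg, ← hxS]
      exact hg
    have := Subgroup.map_mono (f := (MulAut.conj g⁻¹).toMonoidHom) h2
    rwa [map_conj_inv_map_conj, map_conj_inv_map_conj] at this
  have hminv : cj[m⁻¹] B = B := by
    apply conj_pCoreOf_eq_of_le hSM hM (Md.inv_mem hx) S.isPGroup' hBS
    have := Subgroup.map_mono (f := (MulAut.conj m⁻¹).toMonoidHom) hBm
    rwa [map_conj_inv_map_conj] at this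
  have hmB : cj[m] B = B := by
    have := congrArg (fun A : Subgroup G => cj[m] A) hminv
    simp only [map_conj_map_conj_inv] at this
    exact this.symm
  calc cj[g] B = cj[g] (cj[m] B) := by rw [hmB]
    _ = cj[g * m] B := (conj_mul_map _ _ _).symm
    _ = B := by rw [← hxg]; exact hnB

/-- general form of the weak closure: any two conjugates of `O_p(M)` in a common `p`-subgroup
coincide -/
theorem conj_pCoreOf_eq_of_isPGroup (hpc : IsOfParabolicCharacteristic p G)
    (hSM : (S : Subgroup G) ≤ M) (hM : IsInFrakM p M)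
    (hasym : ¬ IsSymmetricIn (largestPReducedOf p M)) {T : Subgroup G} (hT : IsPGroup p T)
    (hBT : pCoreOf p M ≤ T) {g : G} (hgT : cj[g] (pCoreOf p M) ≤ T) :
    cj[g] (pCoreOf p M) = pCoreOf p M := by
  set B := pCoreOf p M with hB
  obtain ⟨hBS, hwc⟩ := pCoreOf_isWeaklyClosed hpc hSM hM hasym
  obtain ⟨T', hT'⟩ := hT.exists_le_sylow
  obtain ⟨h, hh⟩ := MulAction.exists_smul_eq G T' S
  -- `S = h T' h⁻¹`
  have hTS : cj[h] T ≤ (S : Subgroup G) := by
    rw [← hh]
    intro y hy
    rw [mem_map_conj_iff] at hy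
    have := hT' hy
    rw [Sylow.smul_def, Sylow.pointwise_smul_def, Subgroup.mem_pointwise_smul_iff_inv_smul_mem]
    simpa [MulAut.smul_def, mul_assoc] using this
  have e1 : cj[h] B = B := hwc h ((Subgroup.map_mono hBT).trans hTS)
  have e2 : cj[h * g] B = B := by
    apply hwc
    rw [conj_mul_map]
    exact (Subgroup.map_mono hgT).trans hTS
  rw [conj_mul_map] at e2
  have := congrArg (fun A : Subgroup G => cj[h⁻¹] A) (e2.trans e1.symm)
  simp only [map_conj_inv_map_conj] at this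
  exact this

end AsymWeak

end Cfsg.Agent.Helper14
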