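import Mathlib
import Cfsg.Agent.Lib.Helper14.Asym
import Cfsg.Agent.Lib.Helper14.Kieler
import Cfsg.Agent.Lib.Helper14.OupAmb

/-!
# The set `ℌ_G(O_p(M))` in the asymmetric case (helper14)
-/

set_option autoImplicit false

namespace Cfsg.Agent.Helper14

open Cfsg

variable {G : Type*} [Group G]

local notation "cj[" g "]" A:max => Subgroup.map (MulEquiv.toMonoidHom (MulAut.conj g)) A

/-- a subgroup between `O_p(H)` and `H` has characteristic `p` when `H` does -/
theorem charP_ambient_of_pCoreOf_le {p : ℕ} {H P : Subgroup G}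
    (hchar : H ⊓ Subgroup.centralizer (pCoreOf p H : Set G) ≤ pCoreOf p H) (hRP : pCoreOf p H ≤ P)
    (hPH : P ≤ H) : P ⊓ Subgroup.centralizer (pCoreOf p P : Set G) ≤ pCoreOf p P := by
  have hle : pCoreOf p H ≤ pCoreOf p P :=
    le_pCoreOf hRP (hPH.trans (le_normalizer_pCoreOf p H)) (pCoreOf_isPGroup p H)
  intro x hx
  obtain ⟨hxP, hxc⟩ := Subgroup.mem_inf.mp hx
  exact hle (hchar (Subgroup.mem_inf.mpr ⟨hPH hxP, Subgroup.centralizer_le hle hxc⟩))

/-- `O_p` of a normal subgroup lies in `O_p` -/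
theorem pCoreOf_le_pCoreOf_of_le_normalizer {p : ℕ} {N H : Subgroup G} (hNH : N ≤ H)
    (hHN : H ≤ Subgroup.normalizer (N : Set G)) : pCoreOf p N ≤ pCoreOf p H :=
  le_pCoreOf ((pCoreOf_le p N).trans hNH) (hHN.trans (normalizer_le_normalizer_pCoreOf p N))
    (pCoreOf_isPGroup p N)

/-- `O_p(P₁) ∩ P ≤ O_p(P)` for `P ≤ P₁` -/
theorem pCoreOf_inf_le_pCoreOf {p : ℕ} {P P₁ : Subgroup G} (hPP₁ : P ≤ P₁) :
    pCoreOf p P₁ ⊓ P ≤ pCoreOf p P :=
  le_pCoreOf inf_le_right
    (le_normalizer_inf (hPP₁.trans (le_normalizer_pCoreOf p P₁)) Subgroup.le_normalizer)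
    ((pCoreOf_isPGroup p P₁).to_le inf_le_left)

/-- the ambient normal closure of `B` in `H` -/
def nclOf (H B : Subgroup G) : Subgroup G := ⨆ h : ↥H, cj[(h : G)] B

theorem le_nclOf (H B : Subgroup G) : B ≤ nclOf H B := by
  have h1 := le_iSup (fun h : ↥H => cj[(h : G)] B) 1
  have h2 : cj[((1 : ↥H) : G)] B = B := map_conj_eq_self_of_mem (H := B) (by simp)
  rw [h2] at h1
  exact h1

theorem nclOf_le {H B : Subgroup G} (hBH : B ≤ H) : nclOf H B ≤ H := by
  apply iSup_le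
  intro h
  exact (Subgroup.map_mono hBH).trans_eq (map_conj_eq_self_of_mem h.2)

theorem le_normalizer_nclOf (H B : Subgroup G) : H ≤ Subgroup.normalizer (nclOf H B : Set G) := by
  apply le_normalizer_of_map_conj_le
  intro g hg
  unfold nclOf
  rw [Subgroup.map_iSup]
  apply iSup_le
  intro x
  rw [← conj_mul_map]
  exact le_iSup (fun x : ↥H => cj[(x : G)] B) (⟨g, hg⟩ * x)

theorem nclOf_le_of_le {H B K : Subgroup G} (hBK : B ≤ K)
    (hHK : H ≤ Subgroup.normalizer (K : Set G)) : nclOf H B ≤ K := by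
  apply iSup_le
  intro h
  exact (Subgroup.map_mono hBK).trans_eq (map_conj_eq_self_of_le_normalizer hHK h.2)

theorem map_normalClosure_subgroupOf {H B : Subgroup G} (hBH : B ≤ H) :
    (Subgroup.normalClosure ((B.subgroupOf H : Subgroup ↥H) : Set ↥H)).map H.subtype = nclOf H B := by
  apply le_antisymm
  · rw [Subgroup.map_le_iff_le_comap]
    haveI hn : ((nclOf H B).comap H.subtype).Normal := by
      constructor
      intro n hn g
      rw [Subgroup.mem_comap] at hn ⊢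
      have := le_normalizer_nclOf H B g.2
      exact (Subgroup.mem_normalizer_iff.mp this _).mp hn
    apply Subgroup.normalClosure_le_normal (N := (nclOf H B).comap H.subtype)
    intro x hx
    exact le_nclOf H B (Subgroup.mem_subgroupOf.mp hx)
  · apply iSup_le
    intro h
    rintro _ ⟨b, hb, rfl⟩
    refine ⟨h * ⟨b, hBH hb⟩ * h⁻¹, ?_, by simp⟩
    have hn : (Subgroup.normalClosure ((B.subgroupOf H : Subgroup ↥H) : Set ↥H)).Normal :=
      Subgroup.normalClosure_normal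
    exact hn.conj_mem _ (Subgroup.subset_normalClosure (Subgroup.mem_subgroupOf.mpr hb)) h

section FrakH

variable [Finite G] {p : ℕ} [Fact p.Prime] {S : Sylow p G} {M : Subgroup G}

/-- existence of members of `ℌ_G(O_p(M))` -/
theorem exists_frakH (hpc : IsOfParabolicCharacteristic p G)
    (hSM : (S : Subgroup G) ≤ M) (hM : IsInFrakM p M)
    (hasym : ¬ IsSymmetricIn (largestPReducedOf p M))
    (htall : IsCharPTall p (largestPReducedOf p M)) : ∃ H : Subgroup G, IsInFrakH p M H := by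
  set Y := largestPReducedOf p M with hY
  set C := Subgroup.centralizer ((Y : Subgroup G) : Set G) with hC
  set B := pCoreOf p M with hB
  have hYB : Y ≤ B := largestPReducedOf_le_pCoreOf M
  have hBp : IsPGroup p B := pCoreOf_isPGroup p M
  -- a member of the family
  obtain ⟨T, L, hTL, hLc, hYL⟩ := htall
  have hTsyl : IsSylowOf p C ((T : Subgroup ↥C).map C.subtype) := ⟨T, rfl⟩
  have hBsyl : IsSylowOf p C B := pCoreOf_isSylowOf_centralizer hSM hM
  obtain ⟨c, hc, hcT⟩ := hBsyl.exists_conj hTsyl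
  set L' := cj[c⁻¹] L with hL'
  have hBL' : B ≤ L' := by
    have := Subgroup.map_mono (f := (MulAut.conj c⁻¹).toMonoidHom) (hcT ▸ hTL)
    rwa [map_conj_inv_map_conj] at this
  have hL'c : Subgroup.centralizer (pCore p ↥L' : Set ↥L') ≤ pCore p ↥L' :=
    charP_map_equiv (MulAut.conj c⁻¹) hLc
  have hYL' : ¬ Y ≤ pCoreOf p L' := by
    intro h
    apply hYL
    rw [hL', pCoreOf_map_equiv] at h
    have h2 := Subgroup.map_mono (f := (MulAut.conj c).toMonoidHom) h
    have h3 : cj[c] (cj[c⁻¹] (pCoreOf p L)) = pCoreOf p L := map_conj_map_conj_inv _ c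
    have h4 : cj[c] Y = Y :=
      map_conj_eq_self_of_le_normalizer (Subgroup.centralizer_le_normalizer _) hc
    rw [MulEquiv.toMonoidHom_eq_coe] at h2 h3 h4
    rw [h3, h4] at h2
    exact h2
  -- a minimal member
  obtain ⟨H, hHL', hHmin⟩ := exists_minimal_le_of_wellFoundedLT
    (fun H : Subgroup G => Subgroup.centralizer (pCore p ↥H : Set ↥H) ≤ pCore p ↥H ∧ B ≤ H ∧
      ¬ Y ≤ pCoreOf p H) L' ⟨hL'c, hBL', hYL'⟩
  obtain ⟨⟨hHc, hBH, hYH⟩, hmin⟩ := hHmin
  refine ⟨H, hHc, hBH, hYH, ?_⟩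
  intro P hBP hPH
  by_contra hYP
  have hHc' := charP_iff_ambient.mp hHc
  set R := pCoreOf p H with hR
  have hHR : H ≤ Subgroup.normalizer (R : Set G) := le_normalizer_pCoreOf p H
  -- `H = P R`
  set P₁ := P ⊔ R with hP₁
  have hP₁H : P₁ ≤ H := sup_le hPH.le (pCoreOf_le p H)
  have hP₁c : Subgroup.centralizer (pCore p ↥P₁ : Set ↥P₁) ≤ pCore p ↥P₁ :=
    charP_iff_ambient.mpr (charP_ambient_of_pCoreOf_le hHc' le_sup_right hP₁H)
  have hYP₁ : ¬ Y ≤ pCoreOf p P₁ := by
    intro h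
    apply hYP
    exact (le_inf h ((hYB.trans hBP))).trans (pCoreOf_inf_le_pCoreOf le_sup_left)
  have hHP₁ : H ≤ P₁ := hmin ⟨hP₁c, hBP.trans le_sup_left, hYP₁⟩ hP₁H
  -- `R` normalizes `B`
  obtain ⟨TH, hTH, hBTH⟩ := exists_isSylowOf_ge hBH hBp
  have hRN : R ≤ Subgroup.normalizer (B : Set G) :=
    (pCoreOf_le_of_isSylowOf hTH).trans (asym_main hpc hSM hM hasym hTH.isPGroup hBTH).1
  -- the normal closure of `B` in `H` lies in `P`
  set H₁ := nclOf H B with hH₁
  have hH₁P : H₁ ≤ P := by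
    apply iSup_le
    intro h
    have hh : (h : G) ∈ R ⊔ P := by rw [sup_comm]; exact hHP₁ h.2
    obtain ⟨r, hr, π, hπ, hrπ⟩ := Cfsg.Agent.Helper1.exists_mul_of_mem_sup (hPH.le.trans hHR) hh
    rw [hrπ, conj_mul_map]
    have h1 : cj[π] B ≤ P := (Subgroup.map_mono hBP).trans_eq (map_conj_eq_self_of_mem hπ)
    have h2 : R ≤ Subgroup.normalizer ((cj[π] B : Subgroup G) : Set G) := by
      rw [normalizer_map_conj]
      have : R = cj[π] R := (map_conj_eq_self_of_le_normalizer hHR (hPH.le hπ)).symm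
      rw [this]
      exact Subgroup.map_mono hRN
    rw [map_conj_eq_self_of_le_normalizer h2 hr]
    exact h1
  have hH₁H : H₁ ≤ H := nclOf_le hBH
  have hHH₁ : H ≤ Subgroup.normalizer (H₁ : Set G) := le_normalizer_nclOf H B
  have hH₁c : Subgroup.centralizer (pCore p ↥H₁ : Set ↥H₁) ≤ pCore p ↥H₁ :=
    charP_iff_ambient.mpr (charP_ambient_of_le_normalizer hHc' hH₁H hHH₁)
  have hYH₁ : ¬ Y ≤ pCoreOf p H₁ := fun h =>
    hYH (h.trans (pCoreOf_le_pCoreOf_of_le_normalizer hH₁H hHH₁))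
  have := hmin ⟨hH₁c, le_nclOf H B, hYH₁⟩ hH₁H
  exact (lt_irrefl P) (lt_of_lt_of_le hPH (this.trans hH₁P))

end FrakH

end Cfsg.Agent.Helper14
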