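import Mathlib
import Cfsg.Agent.S2840
import Cfsg.Agent.Lib.Helper14.OupAmb
import Cfsg.Agent.Lib.Helper14.SubnormalClosure
import Cfsg.Agent.Lib.Helper14.Kieler
import Cfsg.Agent.Lib.Helper1.RelSubnormal
import Cfsg.Agent.Lib.Helper10.ThreeSub

/-!
# Weak closures of a weakly closed `p`-subgroup and their `O^p` (helper14)
-/

set_option autoImplicit false

namespace Cfsg.Agent.Helper14

open Subgroup Cfsg
open scoped commutatorElement

variable {G : Type*} [Group G]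

/-- the centralizer of `C` modulo `R`, inside the normalizer of `R` -/
def centMod (R : Subgroup G) (C : Set G) : Subgroup G where
  carrier := {x | x ∈ normalizer (R : Set G) ∧ ∀ c ∈ C, ⁅x, c⁆ ∈ R}
  one_mem' := by
    refine ⟨Subgroup.one_mem _, ?_⟩
    intro c _
    rw [commutatorElement_one_left]
    exact R.one_mem
  mul_mem' := by
    rintro x y ⟨hx, hxc⟩ ⟨hy, hyc⟩
    refine ⟨Subgroup.mul_mem _ hx hy, ?_⟩
    intro c hc
    have e : ⁅x * y, c⁆ = x * ⁅y, c⁆ * x⁻¹ * ⁅x, c⁆ := by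
      simp only [commutatorElement_def]; group
    rw [e]
    exact R.mul_mem ((Subgroup.mem_normalizer_iff.mp hx _).mp (hyc c hc)) (hxc c hc)
  inv_mem' := by
    rintro x ⟨hx, hxc⟩
    refine ⟨Subgroup.inv_mem _ hx, ?_⟩
    intro c hc
    have e : ⁅x⁻¹, c⁆ = x⁻¹ * ⁅x, c⁆⁻¹ * x⁻¹⁻¹ := by
      simp only [commutatorElement_def]; group
    rw [e]
    exact (Subgroup.mem_normalizer_iff.mp (Subgroup.inv_mem _ hx) _).mp (R.inv_mem (hxc c hc))

theorem mem_centMod_iff {R : Subgroup G} {C : Set G} {x : G} :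
    x ∈ centMod R C ↔ x ∈ normalizer (R : Set G) ∧ ∀ c ∈ C, ⁅x, c⁆ ∈ R := Iff.rfl

theorem le_centMod {R A C : Subgroup G} (hA : A ≤ normalizer (R : Set G)) (h : ⁅A, C⁆ ≤ R) :
    A ≤ centMod R (C : Set G) := by
  intro a ha
  refine ⟨hA ha, ?_⟩
  intro c hc
  exact h (Subgroup.commutator_mem_commutator ha hc)

theorem commutator_le_of_le_centMod {R A C : Subgroup G} (h : A ≤ centMod R (C : Set G)) :
    ⁅A, C⁆ ≤ R := by
  rw [Subgroup.commutator_le]
  intro a ha c hc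
  exact (h ha).2 c hc

theorem le_normalizer_sup' {A B C : Subgroup G} (hB : A ≤ normalizer (B : Set G))
    (hC : A ≤ normalizer (C : Set G)) : A ≤ normalizer ((B ⊔ C : Subgroup G) : Set G) := by
  apply le_normalizer_of_map_conj_le
  intro g hg
  rw [Subgroup.map_sup]
  apply sup_le
  · rw [map_conj_eq_self_of_le_normalizer hB hg]
    exact le_sup_left
  · rw [map_conj_eq_self_of_le_normalizer hC hg]
    exact le_sup_right

theorem conj_mem_sup_commutator {K Q' : Subgroup G} {k q : G} (hk : k ∈ K) (hq : q ∈ Q') :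
    k * q * k⁻¹ ∈ ⁅K, Q'⁆ ⊔ Q' := by
  have e : k * q * k⁻¹ = ⁅k, q⁆ * q := by
    simp only [commutatorElement_def]; group
  rw [e]
  exact Subgroup.mul_mem _ (Subgroup.mem_sup_left (Subgroup.commutator_mem_commutator hk hq))
    (Subgroup.mem_sup_right hq)

/-- `K Q` normalizes `[K,Q] Q` -/
theorem sup_le_normalizer_commutator_sup (K Q' : Subgroup G) :
    K ⊔ Q' ≤ normalizer ((⁅K, Q'⁆ ⊔ Q' : Subgroup G) : Set G) := by
  apply sup_le
  · apply le_normalizer_of_map_conj_le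
    intro k hk
    rw [Subgroup.map_sup]
    apply sup_le
    · rw [map_conj_eq_self_of_le_normalizer
        (Cfsg.Agent.Helper10.le_normalizer_commutator_left K Q') hk]
      exact le_sup_left
    · rintro _ ⟨q, hq, rfl⟩
      exact conj_mem_sup_commutator hk hq
  · exact le_normalizer_sup' (Cfsg.Agent.Helper10.le_normalizer_commutator_right K Q')
      Subgroup.le_normalizer

section WeakClosure

variable [Finite G] {p : ℕ} [Fact p.Prime] {Q : Subgroup G}

theorem weakClosure_eq_iSup (hQp : IsPGroup p ↥Q) (hQ1 : Q ≠ ⊥)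
    (hwc : Cfsg.IsWeaklyClosedSubgroup p Q) {L : Subgroup G} (hQL : Q ≤ L) :
    Cfsg.weakClosure Q L = ⨆ k : ↥L, Q.map (MulAut.conj (k : G)).toMonoidHom :=
  (Cfsg.Agent.S2840.result Q hQp hQ1 hwc L hQL _ rfl).1

theorem le_weakClosure (Q L : Subgroup G) (hQL : Q ≤ L) : Q ≤ Cfsg.weakClosure Q L := by
  unfold Cfsg.weakClosure
  have h2 : Q.map (MulAut.conj (1 : G)).toMonoidHom = Q := by
    ext x
    rw [mem_map_conj_iff]
    simp
  have h := le_iSup (fun g : {g : G // Q.map (MulAut.conj g).toMonoidHom ≤ L} =>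
    Q.map (MulAut.conj (g : G)).toMonoidHom) ⟨1, by rw [h2]; exact hQL⟩
  exact h2.symm.le.trans h

theorem weakClosure_le (Q L : Subgroup G) : Cfsg.weakClosure Q L ≤ L := by
  unfold Cfsg.weakClosure
  apply iSup_le
  rintro ⟨g, hg⟩
  exact hg

theorem weakClosure_le_of_le_normalizer (hQp : IsPGroup p ↥Q) (hQ1 : Q ≠ ⊥)
    (hwc : Cfsg.IsWeaklyClosedSubgroup p Q) {L Y : Subgroup G} (hQL : Q ≤ L) (hQY : Q ≤ Y)
    (hLY : L ≤ normalizer (Y : Set G)) : Cfsg.weakClosure Q L ≤ Y := by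
  rw [weakClosure_eq_iSup hQp hQ1 hwc hQL]
  apply iSup_le
  intro k
  calc Q.map (MulAut.conj (k : G)).toMonoidHom ≤ Y.map (MulAut.conj (k : G)).toMonoidHom :=
        Subgroup.map_mono hQY
    _ = Y := map_conj_eq_self_of_le_normalizer hLY k.2

theorem le_normalizer_weakClosure (hQp : IsPGroup p ↥Q) (hQ1 : Q ≠ ⊥)
    (hwc : Cfsg.IsWeaklyClosedSubgroup p Q) {L : Subgroup G} (hQL : Q ≤ L) :
    L ≤ normalizer (Cfsg.weakClosure Q L : Set G) := by
  apply le_normalizer_of_map_conj_le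
  intro g hg
  rw [weakClosure_eq_iSup hQp hQ1 hwc hQL, Subgroup.map_iSup]
  apply iSup_le
  intro k
  rw [← conj_mul_map]
  exact le_iSup (fun k : ↥L => Q.map (MulAut.conj (k : G)).toMonoidHom) (⟨g, hg⟩ * k)

theorem weakClosure_le_of_sn (hQp : IsPGroup p ↥Q) (hQ1 : Q ≠ ⊥)
    (hwc : Cfsg.IsWeaklyClosedSubgroup p Q) {L Y : Subgroup G} (hQY : Q ≤ Y) (hYL : Y ≤ L)
    (hsn : (Y.subgroupOf L).IsSubnormal) : Cfsg.weakClosure Q L ≤ Y := by
  have h2 := (Cfsg.Agent.S2840.result Q hQp hQ1 hwc L (hQY.trans hYL) _ rfl).2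
  rw [h2]
  have hle : Q.subgroupOf L ≤ Y.subgroupOf L := by
    intro x hx
    rw [Subgroup.mem_subgroupOf] at hx ⊢
    exact hQY hx
  calc (Cfsg.subnormalClosure (Q.subgroupOf L)).map L.subtype
      ≤ (Y.subgroupOf L).map L.subtype := Subgroup.map_mono (subnormalClosure_le hle hsn)
    _ = Y := Subgroup.map_subgroupOf_eq_of_le hYL

/-- `L° = O^p(L°) Q` -/
theorem weakClosure_eq_oup_sup (hQp : IsPGroup p ↥Q) (hQ1 : Q ≠ ⊥)
    (hwc : Cfsg.IsWeaklyClosedSubgroup p Q) {L : Subgroup G} (hQL : Q ≤ L) :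
    Cfsg.weakClosure Q L = oup p (Cfsg.weakClosure Q L) ⊔ Q := by
  set M := Cfsg.weakClosure Q L with hM
  have hQM : Q ≤ M := le_weakClosure Q L hQL
  have hML : M ≤ L := weakClosure_le Q L
  have hYM : oup p M ⊔ Q ≤ M := sup_le (oup_le M) hQM
  apply le_antisymm _ hYM
  apply weakClosure_le_of_sn hQp hQ1 hwc le_sup_right (hYM.trans hML)
  refine Cfsg.Agent.Helper1.sn_trans hYM hML ?_
    (Cfsg.Agent.Helper1.sn_of_le_normalizer hML (le_normalizer_weakClosure hQp hQ1 hwc hQL))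
  -- subnormal in `M` since `M / O^p(M)` is a `p`-group
  haveI hn : (Cfsg.pResidual p ↥M).Normal := Cfsg.Agent.Helper22.pResidual_normal
  have hpq : IsPGroup p (↥M ⧸ Cfsg.pResidual p ↥M) :=
    Cfsg.Agent.Helper22.isPGroup_quotient_pResidual
  haveI : Group.IsNilpotent (↥M ⧸ Cfsg.pResidual p ↥M) := hpq.isNilpotent
  have h1 : ((Q.subgroupOf M).map (QuotientGroup.mk' (Cfsg.pResidual p ↥M))).IsSubnormal :=
    isSubnormal_of_isNilpotent _
  have h2 := h1.comap (QuotientGroup.mk' (Cfsg.pResidual p ↥M))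
  rw [QuotientGroup.comap_map_mk'] at h2
  have e : (oup p M ⊔ Q).subgroupOf M = Cfsg.pResidual p ↥M ⊔ Q.subgroupOf M := by
    rw [Subgroup.subgroupOf_sup (oup_le M) hQM]
    congr 1
    unfold oup Subgroup.subgroupOf
    exact Subgroup.comap_map_eq_self_of_injective M.subtype_injective _
  rw [e]
  exact h2

/-- `[O^p(L°), Q] = O^p(L°)` -/
theorem commutator_oup_weakClosure (hQp : IsPGroup p ↥Q) (hQ1 : Q ≠ ⊥)
    (hwc : Cfsg.IsWeaklyClosedSubgroup p Q) {L : Subgroup G} (hQL : Q ≤ L) :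
    ⁅oup p (Cfsg.weakClosure Q L), Q⁆ = oup p (Cfsg.weakClosure Q L) := by
  set M := Cfsg.weakClosure Q L with hM
  have hQM : Q ≤ M := le_weakClosure Q L hQL
  have hML : M ≤ L := weakClosure_le Q L
  have hMK : M ≤ normalizer (oup p M : Set G) := le_normalizer_oup M
  have hRK : ⁅oup p M, Q⁆ ≤ oup p M := commutator_le_of_le_normalizer (hQM.trans hMK)
  apply le_antisymm hRK
  set R := ⁅oup p M, Q⁆ with hR
  have hQR : Q ≤ normalizer (R : Set G) :=
    Cfsg.Agent.Helper10.le_normalizer_commutator_right (oup p M) Q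
  have hKR : oup p M ≤ normalizer (R : Set G) :=
    Cfsg.Agent.Helper10.le_normalizer_commutator_left (oup p M) Q
  have hY'M : R ⊔ Q ≤ M := sup_le (hRK.trans (oup_le M)) hQM
  have hMeq : M = oup p M ⊔ Q := weakClosure_eq_oup_sup hQp hQ1 hwc hQL
  have hMY' : M ≤ normalizer ((R ⊔ Q : Subgroup G) : Set G) :=
    hMeq.le.trans (sup_le_normalizer_commutator_sup (oup p M) Q)
  have hle : M ≤ R ⊔ Q := by
    apply weakClosure_le_of_sn hQp hQ1 hwc le_sup_right (hY'M.trans hML)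
    exact Cfsg.Agent.Helper1.sn_trans hY'M hML
      (Cfsg.Agent.Helper1.sn_of_le_normalizer hY'M hMY')
      (Cfsg.Agent.Helper1.sn_of_le_normalizer hML (le_normalizer_weakClosure hQp hQ1 hwc hQL))
  apply oup_le_of_pow_mem
  intro g hg
  exact exists_pow_mem_of_mem_sup hQp hQR (hle hg)

end WeakClosure

end Cfsg.Agent.Helper14
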