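import Mathlib
import Cfsg.Agent.Lib.Helper14.AsymH
import Cfsg.Agent.Lib.Helper14.WeakClosureOup
import Cfsg.Agent.Lib.Helper10.ThreeSub
import Cfsg.Agent.Lib.Helper1.CommutatorBasic
import Cfsg.Agent.Lib.Helper22.PResidual

/-!
# The structure of `H ∈ ℌ_G(O_p(M))` in the asymmetric case (helper14)
-/

set_option autoImplicit false

namespace Cfsg.Agent.Helper14

open Cfsg

variable {G : Type*} [Group G]

local notation "cj[" g "]" A:max => Subgroup.map (MulEquiv.toMonoidHom (MulAut.conj g)) A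

/-- a group generated modulo the normal subgroup `K` by commuting elements of order `p`
has exponent `p` modulo `K` -/
theorem pow_mem_of_mem_closure {X : Type*} [Group X] {p : ℕ} (K : Subgroup X) [K.Normal]
    {Sg : Set X} (hcomm : ∀ a ∈ Sg, ∀ b ∈ Sg, (a * b)⁻¹ * (b * a) ∈ K)
    (hpow : ∀ a ∈ Sg, a ^ p ∈ K) : ∀ v ∈ Subgroup.closure Sg, v ^ p ∈ K := by
  intro v hv
  have h1 : QuotientGroup.mk' K v ∈ Subgroup.closure ((QuotientGroup.mk' K) '' Sg) := by
    rw [← MonoidHom.map_closure]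
    exact Subgroup.mem_map_of_mem _ hv
  have hc : ∀ x ∈ (QuotientGroup.mk' K) '' Sg, ∀ y ∈ (QuotientGroup.mk' K) '' Sg,
      x * y = y * x := by
    rintro _ ⟨a, ha, rfl⟩ _ ⟨b, hb, rfl⟩
    rw [← map_mul, ← map_mul]
    exact (QuotientGroup.eq).mpr (hcomm a ha b hb)
  have hp : ∀ x ∈ (QuotientGroup.mk' K) '' Sg, x ^ p = 1 := by
    rintro _ ⟨a, ha, rfl⟩
    rw [← map_pow]
    exact (QuotientGroup.eq_one_iff _).mpr (hpow a ha)
  have h2 := (Cfsg.Agent.Helper28.closure_elementaryAbelian hc hp).2 _ h1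
  rw [← map_pow] at h2
  exact (QuotientGroup.eq_one_iff _).mp h2

section Oup

variable [Finite G] {p : ℕ} [Fact p.Prime]

/-- `H = O^p(H) T` for a Sylow `p`-subgroup `T` of `H` -/
theorem oup_sup_eq_of_isSylowOf {H T : Subgroup G} (hT : IsSylowOf p H T) : oup p H ⊔ T = H := by
  obtain ⟨P, rfl⟩ := hT
  have h := Cfsg.Agent.Helper22.sylow_sup_pResidual_eq_top P
  have h2 := congrArg (Subgroup.map H.subtype) h
  rw [Subgroup.map_sup, ← MonoidHom.range_eq_map, Subgroup.range_subtype] at h2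
  rw [sup_comm]
  exact h2

/-- normalizers grow above `O^p(H)` -/
theorem exists_mem_normalizer_not_mem_of_oup_le {H K : Subgroup G} (hRK : oup p H ≤ K)
    (hKH : K < H) : ∃ h ∈ H, h ∉ K ∧ h ∈ Subgroup.normalizer (K : Set G) := by
  obtain ⟨TH, hTH, -⟩ := exists_isSylowOf_ge (p := p) (bot_le : (⊥ : Subgroup G) ≤ H)
    IsPGroup.of_bot
  have hHR : H ≤ Subgroup.normalizer (oup p H : Set G) := le_normalizer_oup H
  have hsup := oup_sup_eq_of_isSylowOf hTH
  have hlt : K ⊓ TH < TH := by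
    apply lt_of_le_of_ne inf_le_right
    intro h
    have h1 : TH ≤ K := by rw [← h]; exact inf_le_left
    have : H ≤ K := by rw [← hsup]; exact sup_le hRK h1
    exact (lt_irrefl K) (lt_of_lt_of_le hKH this)
  obtain ⟨t, htT, htK, htN⟩ :=
    Cfsg.Agent.Helper12.exists_mem_normalizer_not_mem TH hTH.isPGroup (K ⊓ TH) hlt
  have hK : K = oup p H ⊔ (K ⊓ TH) := by
    apply le_antisymm
    · intro k hk
      have hk' : k ∈ oup p H ⊔ TH := by rw [hsup]; exact hKH.le hk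
      obtain ⟨r, hr, t', ht', rfl⟩ :=
        Cfsg.Agent.Helper1.exists_mul_of_mem_sup (hTH.le.trans hHR) hk'
      have ht'K : t' ∈ K := by
        have e : t' = r⁻¹ * (r * t') := by group
        rw [e]
        exact K.mul_mem (K.inv_mem (hRK hr)) hk
      exact Subgroup.mul_mem _ (Subgroup.mem_sup_left hr)
        (Subgroup.mem_sup_right (Subgroup.mem_inf.mpr ⟨ht'K, ht'⟩))
    · exact sup_le hRK inf_le_left
  refine ⟨t, hTH.le htT, fun h => htK (Subgroup.mem_inf.mpr ⟨h, htT⟩), ?_⟩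
  rw [hK]
  have h1 : Subgroup.zpowers t ≤ Subgroup.normalizer (oup p H : Set G) := by
    rw [Subgroup.zpowers_le]; exact hHR (hTH.le htT)
  have h2 : Subgroup.zpowers t ≤ Subgroup.normalizer ((K ⊓ TH : Subgroup G) : Set G) := by
    rw [Subgroup.zpowers_le]; exact htN
  exact le_normalizer_sup' h1 h2 (Subgroup.mem_zpowers t)

end Oup

section FrakH

variable [Finite G] {p : ℕ} [Fact p.Prime] {S : Sylow p G} {M : Subgroup G}

/-- Sylow `p`-subgroups of `H ≥ O_p(M)` containing `O_p(M)` normalize it and lie in `M†` -/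
theorem sylowOf_le_normalizer_pCoreOf (hpc : IsOfParabolicCharacteristic p G)
    (hSM : (S : Subgroup G) ≤ M) (hM : IsInFrakM p M)
    (hasym : ¬ IsSymmetricIn (largestPReducedOf p M)) {H T : Subgroup G}
    (hT : IsSylowOf p H T) (hBT : pCoreOf p M ≤ T) :
    T ≤ Subgroup.normalizer (pCoreOf p M : Set G) ∧
      T ≤ M ⊔ Subgroup.centralizer (largestPReducedOf p M : Set G) := by
  have h1 := (asym_main hpc hSM hM hasym hT.isPGroup hBT).1
  exact ⟨h1, h1.trans (normalizer_pCoreOf_le_dagger hpc hSM hM)⟩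

/-- `O_p(H)` normalizes `O_p(M)` -/
theorem pCoreOf_le_normalizer_pCoreOf (hpc : IsOfParabolicCharacteristic p G)
    (hSM : (S : Subgroup G) ≤ M) (hM : IsInFrakM p M)
    (hasym : ¬ IsSymmetricIn (largestPReducedOf p M)) {H : Subgroup G}
    (hBH : pCoreOf p M ≤ H) : pCoreOf p H ≤ Subgroup.normalizer (pCoreOf p M : Set G) := by
  obtain ⟨TH, hTH, hBTH⟩ := exists_isSylowOf_ge hBH (pCoreOf_isPGroup p M)
  exact (pCoreOf_le_of_isSylowOf hTH).trans
    (sylowOf_le_normalizer_pCoreOf hpc hSM hM hasym hTH hBTH).1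

variable {H : Subgroup G}

/-- `H = ⟨O_p(M)^H⟩` for `H ∈ ℌ_G(O_p(M))` -/
theorem frakH_nclOf_eq (hH : IsInFrakH p M H) : nclOf H (pCoreOf p M) = H := by
  obtain ⟨hHc, hBH, hYH, hmin⟩ := hH
  by_contra hne
  have hle : nclOf H (pCoreOf p M) ≤ H := nclOf_le hBH
  have hlt : nclOf H (pCoreOf p M) < H := lt_of_le_of_ne hle hne
  exact hYH ((hmin _ (le_nclOf H _) hlt).trans
    (pCoreOf_le_pCoreOf_of_le_normalizer hle (le_normalizer_nclOf H _)))

/-- `H = O^p(H) O_p(M)` for `H ∈ ℌ_G(O_p(M))` -/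
theorem frakH_oup_sup_eq (hH : IsInFrakH p M H) : oup p H ⊔ pCoreOf p M = H := by
  obtain ⟨hHc, hBH, hYH, hmin⟩ := hH
  by_contra hne
  have hle : oup p H ⊔ pCoreOf p M ≤ H := sup_le (oup_le H) hBH
  have hlt : oup p H ⊔ pCoreOf p M < H := lt_of_le_of_ne hle hne
  obtain ⟨K, hK₂, hKmax⟩ := exists_maximal_ge_of_wellFoundedGT
    (fun K : Subgroup G => oup p H ⊔ pCoreOf p M ≤ K ∧ K < H) _ ⟨le_rfl, hlt⟩
  obtain ⟨⟨hK1, hKH⟩, hKm⟩ := hKmax
  have hRK : oup p H ≤ K := le_sup_left.trans hK1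
  have hBK : pCoreOf p M ≤ K := le_sup_right.trans hK1
  obtain ⟨h, hhH, hhK, hhN⟩ := exists_mem_normalizer_not_mem_of_oup_le hRK hKH
  set K₁ := H ⊓ Subgroup.normalizer (K : Set G) with hK₁
  have hKK₁ : K ≤ K₁ := le_inf hKH.le Subgroup.le_normalizer
  have hK₁H : K₁ = H := by
    by_contra hne'
    have hlt' : K₁ < H := lt_of_le_of_ne inf_le_left hne'
    have := hKm ⟨hK1.trans hKK₁, hlt'⟩ hKK₁
    exact hhK (this (Subgroup.mem_inf.mpr ⟨hhH, hhN⟩))
  have hHK : H ≤ Subgroup.normalizer (K : Set G) := by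
    rw [← hK₁H]; exact inf_le_right
  exact hYH ((hmin K hBK hKH).trans (pCoreOf_le_pCoreOf_of_le_normalizer hKH.le hHK))

/-- `H = ⟨Y_M^H⟩ O_p(M)` for `H ∈ ℌ_G(O_p(M))` -/
theorem frakH_nclOf_sup_eq (hH : IsInFrakH p M H) :
    nclOf H (largestPReducedOf p M) ⊔ pCoreOf p M = H := by
  obtain ⟨hHc, hBH, hYH, hmin⟩ := hH
  set Y := largestPReducedOf p M with hY
  set B := pCoreOf p M with hB
  have hYB : Y ≤ B := largestPReducedOf_le_pCoreOf M
  set V := nclOf H Y with hV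
  have hVH : V ≤ H := nclOf_le (hYB.trans hBH)
  have hHV : H ≤ Subgroup.normalizer (V : Set G) := le_normalizer_nclOf H Y
  by_contra hne
  have hle : V ⊔ B ≤ H := sup_le hVH hBH
  have hlt : V ⊔ B < H := lt_of_le_of_ne hle hne
  have h1 : Y ≤ pCoreOf p (V ⊔ B) := hmin _ le_sup_right hlt
  have h2 : Y ≤ pCoreOf p V :=
    (le_inf h1 (le_nclOf H Y)).trans (pCoreOf_inf_le_pCoreOf le_sup_left)
  exact hYH (h2.trans (pCoreOf_le_pCoreOf_of_le_normalizer hVH hHV))

/-- `O^p(H) ≤ ⟨Y_M^H⟩` for `H ∈ ℌ_G(O_p(M))` -/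
theorem frakH_oup_le_nclOf (hH : IsInFrakH p M H) :
    oup p H ≤ nclOf H (largestPReducedOf p M) := by
  have hsup := frakH_nclOf_sup_eq hH
  have hBH := hH.2.1
  apply oup_le_of_pow_mem
  intro g hg
  exact exists_pow_mem_of_mem_sup (pCoreOf_isPGroup p M)
    (hBH.trans (le_normalizer_nclOf H _)) (hsup.symm.le hg)

/-- `⟨Y_M^H⟩ = O^p(H) Y_M` for `H ∈ ℌ_G(O_p(M))` -/
theorem frakH_nclOf_eq_oup_sup (hH : IsInFrakH p M H) :
    nclOf H (largestPReducedOf p M) = oup p H ⊔ largestPReducedOf p M := by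
  have hBH := hH.2.1
  set Y := largestPReducedOf p M with hY
  set B := pCoreOf p M with hB
  have hYB : Y ≤ B := largestPReducedOf_le_pCoreOf M
  have hBC : B ≤ Subgroup.centralizer (Y : Set G) :=
    Cfsg.Agent.Helper28.pCoreOf_le_centralizer_largestPReducedOf p M
  apply le_antisymm
  · apply nclOf_le_of_le le_sup_right
    refine (frakH_oup_sup_eq hH).symm.le.trans (sup_le ?_ ?_)
    · exact le_sup_left.trans Subgroup.le_normalizer
    · exact le_normalizer_sup' (hBH.trans (le_normalizer_oup H))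
        (hBC.trans (Subgroup.centralizer_le_normalizer _))
  · exact sup_le (frakH_oup_le_nclOf hH) (le_nclOf H Y)

/-- `O^p(H) = [O^p(H), Y_M]` for `H ∈ ℌ_G(O_p(M))` -/
theorem frakH_commutator_oup (hH : IsInFrakH p M H) :
    ⁅oup p H, largestPReducedOf p M⁆ = oup p H := by
  have hBH := hH.2.1
  set Y := largestPReducedOf p M with hY
  set B := pCoreOf p M with hB
  set R := oup p H with hR
  have hYB : Y ≤ B := largestPReducedOf_le_pCoreOf M
  have hYH : Y ≤ H := hYB.trans hBH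
  have hBp : IsPGroup p B := pCoreOf_isPGroup p M
  have hBC : B ≤ Subgroup.centralizer (Y : Set G) :=
    Cfsg.Agent.Helper28.pCoreOf_le_centralizer_largestPReducedOf p M
  have hHR : H ≤ Subgroup.normalizer (R : Set G) := le_normalizer_oup H
  have hYe := (largestPReducedOf_spec (p := p) M).2.1
  set R₁ := ⁅R, Y⁆ with hR₁
  have hR₁R : R₁ ≤ R := commutator_le_of_le_normalizer (hYH.trans hHR)
  have hHR₁ : H ≤ Subgroup.normalizer (R₁ : Set G) := by
    refine (frakH_oup_sup_eq hH).symm.le.trans (sup_le ?_ ?_)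
    · exact Cfsg.Agent.Helper10.le_normalizer_commutator_left R Y
    · exact (le_inf (hBH.trans hHR) (hBC.trans (Subgroup.centralizer_le_normalizer _))).trans
        (Cfsg.Agent.Helper1.normalizer_inf_normalizer_le_normalizer_commutator R Y)
  apply le_antisymm hR₁R
  set V := nclOf H Y with hV
  have hVeq : V = R ⊔ Y := frakH_nclOf_eq_oup_sup hH
  have hVH : V ≤ H := nclOf_le hYH
  -- elements of `V` have `p`-th power in `R₁`
  haveI hn : (R₁.subgroupOf H).Normal :=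
    (Subgroup.normal_subgroupOf_iff_le_normalizer (hR₁R.trans (oup_le H))).mpr hHR₁
  set Sg : Set ↥H := {x | ∃ h : ↥H, ∃ y ∈ Y, (x : G) = h * y * (h : G)⁻¹} with hSg
  have hYcomm : ∀ a ∈ Y, ∀ b ∈ Y, a * b = b * a := fun a ha b hb =>
    congrArg Subtype.val (hYe.1.is_comm.comm ⟨a, ha⟩ ⟨b, hb⟩)
  have hkey : ∀ y ∈ Y, ∀ v ∈ V, (y * v)⁻¹ * (v * y) ∈ R₁ := by
    intro y hy v hv
    rw [hVeq] at hv
    obtain ⟨r, hr, y', hy', rfl⟩ :=
      Cfsg.Agent.Helper1.exists_mul_of_mem_sup (hYH.trans hHR) hv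
    have e : (y * (r * y'))⁻¹ * (r * y' * y) = y'⁻¹ * (r⁻¹ * y⁻¹ * r * y) * y' := by
      have := hYcomm y' hy' y hy
      calc (y * (r * y'))⁻¹ * (r * y' * y) = y'⁻¹ * r⁻¹ * y⁻¹ * r * (y' * y) := by group
        _ = y'⁻¹ * r⁻¹ * y⁻¹ * r * (y * y') := by rw [this]
        _ = y'⁻¹ * (r⁻¹ * y⁻¹ * r * y) * y' := by group
    rw [e]
    have h1 : r⁻¹ * y⁻¹ * r * y ∈ R₁ := by
      have := Subgroup.commutator_mem_commutator (R.inv_mem hr) (Y.inv_mem hy)
      rw [commutatorElement_def] at this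
      simpa using this
    have hy'N := hHR₁ (hYH (Y.inv_mem hy'))
    have := (Subgroup.mem_normalizer_iff.mp hy'N _).mp h1
    simpa using this
  have hcomm : ∀ a ∈ Sg, ∀ b ∈ Sg, (a * b)⁻¹ * (b * a) ∈ R₁.subgroupOf H := by
    rintro a ⟨h, y, hy, ha⟩ b ⟨h', y', hy', hb⟩
    rw [Subgroup.mem_subgroupOf]
    -- conjugate by `h⁻¹`
    have hv : (h : G)⁻¹ * (b : G) * h ∈ V := by
      have hbV : (b : G) ∈ V := by
        rw [hb]
        exact le_iSup (fun h : ↥H => cj[(h : G)] Y) h' ⟨y', hy', by simp⟩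
      have := (Subgroup.mem_normalizer_iff.mp (le_normalizer_nclOf H Y (H.inv_mem h.2)) _).mp hbV
      simpa using this
    have h1 := hkey y hy _ hv
    have h2 := (Subgroup.mem_normalizer_iff.mp (hHR₁ h.2) _).mp h1
    have e : ((a * b)⁻¹ * (b * a) : ↥H).val =
        h * ((y * ((h : G)⁻¹ * (b : G) * h))⁻¹ * ((h : G)⁻¹ * (b : G) * h * y)) * (h : G)⁻¹ := by
      simp only [Subgroup.coe_mul, Subgroup.coe_inv, ha]
      group
    rw [e]
    exact h2
  have hpow : ∀ a ∈ Sg, a ^ p ∈ R₁.subgroupOf H := by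
    rintro a ⟨h, y, hy, ha⟩
    rw [Subgroup.mem_subgroupOf]
    have : ((a ^ p : ↥H) : G) = 1 := by
      rw [Subgroup.coe_pow, ha, conj_pow, hYe.2 y hy]
      group
    rw [this]
    exact R₁.one_mem
  have hVpow : ∀ v ∈ V, v ^ p ∈ R₁ := by
    intro v hv
    have hvcl : (⟨v, hVH hv⟩ : ↥H) ∈ Subgroup.closure Sg := by
      have hle : V ≤ (Subgroup.closure Sg).map H.subtype := by
        apply iSup_le
        intro h
        rintro _ ⟨y, hy, rfl⟩
        have hmem : (h : G) * y * (h : G)⁻¹ ∈ H := H.mul_mem (H.mul_mem h.2 (hYH hy)) (H.inv_mem h.2)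
        refine ⟨⟨(h : G) * y * (h : G)⁻¹, hmem⟩, Subgroup.subset_closure ⟨h, y, hy, rfl⟩, ?_⟩
        simp
      obtain ⟨x, hx, hxv⟩ := hle hv
      have : x = ⟨v, hVH hv⟩ := Subtype.ext hxv
      rw [← this]
      exact hx
    have := pow_mem_of_mem_closure (p := p) (R₁.subgroupOf H) hcomm hpow _ hvcl
    rw [Subgroup.mem_subgroupOf] at this
    simpa using this
  apply oup_le_of_pow_mem
  intro g hg
  obtain ⟨k, hk⟩ := exists_pow_mem_of_mem_sup hBp (hBH.trans (le_normalizer_nclOf H Y))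
    ((frakH_nclOf_sup_eq hH).symm.le hg)
  refine ⟨k + 1, ?_⟩
  rw [pow_succ, pow_mul]
  exact hVpow _ hk

end FrakH

end Cfsg.Agent.Helper14
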