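import Mathlib
import Cfsg.Agent.Lib.Helper14.AsymH2

/-!
# `H Q^g` for `H ∈ ℌ_G(O_p(M))` normalizing `Q^g` (helper14)
-/

set_option autoImplicit false

namespace Cfsg.Agent.Helper14

open Cfsg
open scoped commutatorElement

variable {G : Type*} [Group G]

local notation "cj[" g "]" A:max => Subgroup.map (MulEquiv.toMonoidHom (MulAut.conj g)) A

/-- the centralizer of `C` modulo `R` is normalized by `N(R) ∩ N(C)` -/
theorem le_normalizer_centMod (R C : Subgroup G) :
    Subgroup.normalizer (R : Set G) ⊓ Subgroup.normalizer (C : Set G) ≤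
      Subgroup.normalizer (centMod R (C : Set G) : Set G) := by
  apply le_normalizer_of_conj_mem
  intro g hg x hx
  obtain ⟨hgR, hgC⟩ := Subgroup.mem_inf.mp hg
  obtain ⟨hxR, hxc⟩ := hx
  refine ⟨Subgroup.mul_mem _ (Subgroup.mul_mem _ hgR hxR) (Subgroup.inv_mem _ hgR), ?_⟩
  intro c hc
  have hc' : g⁻¹ * c * g⁻¹⁻¹ ∈ C :=
    (Subgroup.mem_normalizer_iff.mp (Subgroup.inv_mem _ hgC) c).mp hc
  have h1 := hxc _ hc'
  have h2 := (Subgroup.mem_normalizer_iff.mp hgR _).mp h1
  have e : ⁅g * x * g⁻¹, c⁆ = g * ⁅x, g⁻¹ * c * g⁻¹⁻¹⁆ * g⁻¹ := by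
    simp only [commutatorElement_def]; group
  rw [e]
  exact h2

/-- `p`-closedness is invariant under isomorphism -/
theorem isPClosed_of_mulEquiv {p : ℕ} {A B : Type*} [Group A] [Group B] (e : A ≃* B)
    (h : IsPClosed p A) : IsPClosed p B := by
  intro P
  have hr : (P : Subgroup B) ≤ e.toMonoidHom.range := by
    intro x _
    exact ⟨e.symm x, by simp⟩
  set P' := P.comapOfInjective e.toMonoidHom e.injective hr with hP'
  have hn := h P'
  have hcoe : (P' : Subgroup A) = (P : Subgroup B).comap e.toMonoidHom := Sylow.coe_comapOfInjective _ _ _ _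
  have hmap : (P : Subgroup B) = (P' : Subgroup A).map e.toMonoidHom := by
    rw [hcoe, Subgroup.map_comap_eq_self hr]
  rw [hmap]
  exact hn.map _ e.surjective

/-- a subgroup with a normal Sylow `p`-subgroup is `p`-closed -/
theorem isPClosed_of_isSylowOf {p : ℕ} [Fact p.Prime] {N T : Subgroup G} [Finite ↥N]
    (hT : IsSylowOf p N T) (hn : N ≤ Subgroup.normalizer (T : Set G)) : IsPClosed p ↥N := by
  have hTN := hT.le
  obtain ⟨P₀, hP₀⟩ := hT
  have hP₀n : (P₀ : Subgroup ↥N).Normal := by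
    have e : (P₀ : Subgroup ↥N) = T.subgroupOf N := by
      rw [← hP₀]
      unfold Subgroup.subgroupOf
      exact (Subgroup.comap_map_eq_self_of_injective N.subtype_injective _).symm
    rw [e]
    exact (Subgroup.normal_subgroupOf_iff_le_normalizer hTN).mpr hn
  intro P
  obtain ⟨g, hg⟩ := MulAction.exists_smul_eq ↥N P₀ P
  have : g • P₀ = P₀ := Sylow.smul_eq_of_normal
  rw [this] at hg
  rw [← hg]
  exact hP₀n

/-- a `p`-closed subgroup has a Sylow `p`-subgroup that it normalizes -/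
theorem exists_isSylowOf_of_isPClosed {p : ℕ} [Fact p.Prime] {N : Subgroup G} [Finite ↥N]
    (h : IsPClosed p ↥N) : ∃ T, IsSylowOf p N T ∧ N ≤ Subgroup.normalizer (T : Set G) := by
  obtain ⟨P⟩ : Nonempty (Sylow p ↥N) := Sylow.nonempty
  refine ⟨(P : Subgroup ↥N).map N.subtype, ⟨P, rfl⟩, ?_⟩
  have hn := h P
  have e : (P : Subgroup ↥N) = ((P : Subgroup ↥N).map N.subtype).subgroupOf N := by
    unfold Subgroup.subgroupOf
    exact (Subgroup.comap_map_eq_self_of_injective N.subtype_injective _).symm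
  rw [e] at hn
  exact (Subgroup.normal_subgroupOf_iff_le_normalizer (Subgroup.map_subtype_le _)).mp hn

section HQ

variable [Finite G] {p : ℕ} [Fact p.Prime] {S : Sylow p G} {M H : Subgroup G}

/-- a normal `p`-subgroup `Qg` of `H Qg` lies in `O_p(H Qg)` -/
theorem le_pCoreOf_sup_of_le_normalizer {Qg : Subgroup G} (hQgp : IsPGroup p Qg)
    (hHQ : H ≤ Subgroup.normalizer (Qg : Set G)) : Qg ≤ pCoreOf p (H ⊔ Qg) :=
  le_pCoreOf le_sup_right (sup_le hHQ Subgroup.le_normalizer) hQgp

/-- `H ∈ ℌ_G(O_p(M))` is normal in `H Qg` when `H` normalizes the `p`-group `Qg` -/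
theorem frakH_sup_le_normalizer (hpc : IsOfParabolicCharacteristic p G)
    (hSM : (S : Subgroup G) ≤ M) (hM : IsInFrakM p M)
    (hasym : ¬ IsSymmetricIn (largestPReducedOf p M)) (hH : IsInFrakH p M H)
    {Qg : Subgroup G} (hQgp : IsPGroup p Qg) (hHQ : H ≤ Subgroup.normalizer (Qg : Set G)) :
    H ⊔ Qg ≤ Subgroup.normalizer (H : Set G) := by
  have hBH := hH.2.1
  set B := pCoreOf p M with hB
  set H' := H ⊔ Qg with hH'
  set R' := pCoreOf p H' with hR'
  have hQR' : Qg ≤ R' := le_pCoreOf_sup_of_le_normalizer hQgp hHQ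
  have hR'B : R' ≤ Subgroup.normalizer (B : Set G) :=
    pCoreOf_le_normalizer_pCoreOf hpc hSM hM hasym (hBH.trans le_sup_left)
  have hH'R' : H' ≤ Subgroup.normalizer (R' : Set G) := le_normalizer_pCoreOf p H'
  have hncl : nclOf H' B = H := by
    apply le_antisymm
    · apply iSup_le
      intro x
      have hx : (x : G) ∈ Qg ⊔ H := by rw [sup_comm]; exact x.2
      obtain ⟨q, hq, h, hh, hqh⟩ := Cfsg.Agent.Helper1.exists_mul_of_mem_sup hHQ hx
      rw [hqh, conj_mul_map]
      have h1 : cj[h] B ≤ H := (Subgroup.map_mono hBH).trans_eq (map_conj_eq_self_of_mem hh)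
      have h2 : R' ≤ Subgroup.normalizer ((cj[h] B : Subgroup G) : Set G) := by
        rw [normalizer_map_conj]
        have : R' = cj[h] R' :=
          (map_conj_eq_self_of_le_normalizer hH'R' (le_sup_left (b := Qg) hh)).symm
        rw [this]
        exact Subgroup.map_mono hR'B
      rw [map_conj_eq_self_of_le_normalizer h2 (hQR' hq)]
      exact h1
    · refine (frakH_nclOf_eq hH).symm.le.trans ?_
      apply iSup_le
      intro h
      exact le_iSup (fun x : ↥H' => cj[(x : G)] B) ⟨h, le_sup_left (b := Qg) h.2⟩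
  have := le_normalizer_nclOf H' B
  rwa [hncl] at this

/-- `O^p(H) = O^p(H Qg)` -/
theorem oup_sup_eq_of_le_normalizer {Qg : Subgroup G} (hQgp : IsPGroup p Qg)
    (hQH : Qg ≤ Subgroup.normalizer (H : Set G)) : oup p (H ⊔ Qg) = oup p H := by
  apply le_antisymm
  · apply oup_le_of_coprime_mem
    intro y hy hc
    exact mem_oup_of_coprime (coprime_mem_of_mem_sup hQgp hQH hy hc) hc
  · exact oup_mono le_sup_left

/-- `H Qg` is not `p`-closed -/
theorem frakH_sup_not_isPClosed (hpc : IsOfParabolicCharacteristic p G)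
    (hSM : (S : Subgroup G) ≤ M) (hM : IsInFrakM p M)
    (hasym : ¬ IsSymmetricIn (largestPReducedOf p M)) (hH : IsInFrakH p M H)
    {Qg : Subgroup G} (hQgp : IsPGroup p Qg) (hHQ : H ≤ Subgroup.normalizer (Qg : Set G)) :
    ¬ IsPClosed p ↥(H ⊔ Qg) := by
  intro hcl
  have hBH := hH.2.1
  have hYH := hH.2.2.1
  set B := pCoreOf p M with hB
  set H' := H ⊔ Qg with hH'
  have hH'H : H' ≤ Subgroup.normalizer (H : Set G) :=
    frakH_sup_le_normalizer hpc hSM hM hasym hH hQgp hHQ
  obtain ⟨T', hT', hH'T'⟩ := exists_isSylowOf_of_isPClosed hcl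
  have hBT' : B ≤ T' := by
    obtain ⟨T'', hT'', hBT''⟩ := exists_isSylowOf_ge (hBH.trans le_sup_left) (pCoreOf_isPGroup p M)
    obtain ⟨x, hx, hxT⟩ := hT'.exists_conj hT''
    rw [hxT, map_conj_eq_self_of_le_normalizer hH'T' hx] at hBT''
    exact hBT''
  have h1 : T' ⊓ H ≤ pCoreOf p H :=
    le_pCoreOf inf_le_right (le_normalizer_inf (le_sup_left.trans hH'T') Subgroup.le_normalizer)
      (hT'.isPGroup.to_le inf_le_left)
  exact hYH ((largestPReducedOf_le_pCoreOf M).trans ((le_inf hBT' hBH).trans h1))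

/-- `H Qg` is `p`-irreducible, ambient form -/
theorem frakH_sup_oup_le (hpc : IsOfParabolicCharacteristic p G)
    (hSM : (S : Subgroup G) ≤ M) (hM : IsInFrakM p M)
    (hasym : ¬ IsSymmetricIn (largestPReducedOf p M)) (hH : IsInFrakH p M H)
    {Qg : Subgroup G} (hQgp : IsPGroup p Qg) (hHQ : H ≤ Subgroup.normalizer (Qg : Set G))
    {Na : Subgroup G} (hNa : Na ≤ H ⊔ Qg) (hnorm : H ⊔ Qg ≤ Subgroup.normalizer (Na : Set G))
    (hncl : ¬ IsPClosed p ↥Na) : oup p (H ⊔ Qg) ≤ Na := by
  have hBH := hH.2.1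
  set Y := largestPReducedOf p M with hY
  set B := pCoreOf p M with hB
  set H' := H ⊔ Qg with hH'
  have hYB : Y ≤ B := largestPReducedOf_le_pCoreOf M
  have hBp : IsPGroup p B := pCoreOf_isPGroup p M
  have hH'H : H' ≤ Subgroup.normalizer (H : Set G) :=
    frakH_sup_le_normalizer hpc hSM hM hasym hH hQgp hHQ
  have hQH : Qg ≤ Subgroup.normalizer (H : Set G) := le_sup_right.trans hH'H
  have houp : oup p H' = oup p H := oup_sup_eq_of_le_normalizer hQgp hQH
  have hBNa : B ≤ Subgroup.normalizer (Na : Set G) := (hBH.trans le_sup_left).trans hnorm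
  set K := Na ⊔ B with hK
  have hKH' : K ≤ H' := sup_le hNa (hBH.trans le_sup_left)
  by_cases hcase : H ≤ K
  · rw [houp]
    apply oup_le_of_pow_mem
    intro g hg
    exact exists_pow_mem_of_mem_sup hBp hBNa (hcase hg)
  · exfalso
    apply hncl
    set P := K ⊓ H with hP
    have hPH : P < H := lt_of_le_of_ne inf_le_right (fun h => hcase (h ▸ inf_le_left))
    have hBP : B ≤ P := le_inf le_sup_right hBH
    have hYP : Y ≤ pCoreOf p P := hH.2.2.2 P hBP hPH
    have hKP : K ≤ Subgroup.normalizer (P : Set G) :=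
      le_normalizer_inf Subgroup.le_normalizer (hKH'.trans hH'H)
    set W := pCoreOf p K with hW
    have hYW : Y ≤ W := hYP.trans (pCoreOf_le_pCoreOf_of_le_normalizer inf_le_left hKP)
    set D := pCoreOf p Na with hD
    have hKNa : K ≤ Subgroup.normalizer (Na : Set G) := sup_le Subgroup.le_normalizer hBNa
    have hNaY : ⁅Na, Y⁆ ≤ D := by
      have h1 : ⁅Na, Y⁆ ≤ ⁅Na, W⁆ := Subgroup.commutator_mono le_rfl hYW
      have h2 : ⁅Na, W⁆ ≤ Na := commutator_le_of_le_normalizer ((pCoreOf_le p K).trans hKNa)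
      have h3 : ⁅Na, W⁆ ≤ W :=
        commutator_le_of_le_normalizer' (le_sup_left.trans (le_normalizer_pCoreOf p K))
      have h4 : W ⊓ Na ≤ D := pCoreOf_inf_le_pCoreOf le_sup_left
      exact h1.trans ((le_inf h3 h2).trans h4)
    have hH'D : H' ≤ Subgroup.normalizer (D : Set G) :=
      hnorm.trans (normalizer_le_normalizer_pCoreOf p Na)
    -- the centralizer of `Na` modulo `D`
    set X := centMod D (Na : Set G) with hX
    have hYH' : Y ≤ H' := (hYB.trans hBH).trans le_sup_left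
    have hYX : Y ≤ X := by
      apply le_centMod (hYH'.trans hH'D)
      rw [Subgroup.commutator_comm]
      exact hNaY
    have hH'X : H' ≤ Subgroup.normalizer (X : Set G) :=
      (le_inf hH'D hnorm).trans (le_normalizer_centMod D Na)
    have hRX : oup p H' ≤ X := by
      rw [houp]
      refine (frakH_oup_le_nclOf hH).trans ?_
      exact nclOf_le_of_le hYX (le_sup_left.trans hH'X)
    have hRNa : ⁅oup p H', Na⁆ ≤ D := commutator_le_of_le_centMod hRX
    -- `Na` is `p`-closed
    obtain ⟨T', hT', -⟩ := exists_isSylowOf_ge (p := p) (bot_le : (⊥ : Subgroup G) ≤ H')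
      IsPGroup.of_bot
    have hT : IsSylowOf p Na (T' ⊓ Na) := hT'.inf_of_le_normalizer hNa hnorm
    apply isPClosed_of_isSylowOf hT
    apply le_normalizer_of_map_conj_le
    intro n hn
    have hn' : n ∈ oup p H' ⊔ T' := by
      rw [oup_sup_eq_of_isSylowOf hT']
      exact hNa hn
    obtain ⟨r, hr, t, ht, hrt⟩ :=
      Cfsg.Agent.Helper1.exists_mul_of_mem_sup (hT'.le.trans (le_normalizer_oup H')) hn'
    have htN : t ∈ Subgroup.normalizer ((T' ⊓ Na : Subgroup G) : Set G) :=
      le_normalizer_inf Subgroup.le_normalizer (hT'.le.trans hnorm) ht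
    rw [hrt, conj_mul_map, map_conj_eq_self_of_le_normalizer le_rfl htN]
    rintro _ ⟨x, hx, rfl⟩
    have hDT : D ≤ T' ⊓ Na := pCoreOf_le_of_isSylowOf hT
    have hc : ⁅r, x⁆ ∈ D :=
      hRNa (Subgroup.commutator_mem_commutator hr (Subgroup.mem_inf.mp hx).2)
    have e : (MulAut.conj r).toMonoidHom x = ⁅r, x⁆ * x := by
      simp only [MulEquiv.coe_toMonoidHom, MulAut.conj_apply, commutatorElement_def]
      group
    rw [e]
    exact Subgroup.mul_mem _ (hDT hc) hx

end HQ

end Cfsg.Agent.Helper14
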