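import Mathlib
import Cfsg.Agent.Lib.Helper14.BG1369C
import Cfsg.Agent.Lib.Helper4.BG144A

/-!
S1369 (BG Theorem 14.7 (f), (g)), part D: disjointness of `Ẑ^G`, `\tilde M_σ`, `\tilde M*_σ`, the counting
argument, and the exact frozen statement from the frozen statements S1430, S1431, S1432, S1351 (second
half), S1378 (second half), S1377, S1433 as hypotheses.
-/

set_option autoImplicit false

namespace Cfsg.Agent.Helper14.BG1369

open Cfsg Subgroup
open Cfsg.Agent.Helper10 (IsPiNum)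
open Cfsg.Agent.Helper16.BG147
open Cfsg.Agent.Helper16.BG145 (prime_mem_sigma_of_mem_sigmaCore supportR_mem sigma_map_conj)

/-- frozen statement S1377 -/
def St1377 (G : Type*) [Group G] [Finite G] : Prop :=
  ∀ (M : Subgroup G) (_hM : IsCoatom M),
    Set.ncard (Cfsg.tildeOf M ((Cfsg.sigmaCore M : Set G) \ {1})) = (Nat.card (Cfsg.sigmaCore M) - 1) * M.index

/-- frozen statement S1433 -/
def St1433 (G : Type*) [Group G] [Finite G] : Prop :=
  ∀ (M N : Subgroup G) (_hM : IsCoatom M) (_hN : IsCoatom N) (x y : G) (_hx : x ∈ Cfsg.sigmaCore M) (_hy : y ∈ Cfsg.sigmaCore N)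
    (_hx1 : x ≠ 1) (_hy1 : y ≠ 1) (_hxy : x ≠ y),
    ∀ r ∈ Cfsg.supportR M x, ∀ s ∈ Cfsg.supportR N y, x * r ≠ y * s

/-- the arithmetic of the counting argument -/
theorem arith69 (k s m ms g iM iMs a b cn : ℕ) (hk3 : 3 ≤ k) (hs3 : 3 ≤ s) (h3 : 3 * s ≤ m)
    (h3s : 3 * k ≤ ms) (hiM : iM * (k * m) = g) (hiMs : iMs * (s * ms) = g)
    (hA : a = (m - 1) * iM) (hB : b = (ms - 1) * iMs)
    (hC : k * s * cn = (k * s - k - s + 1) * g) (hsum : a + b + cn ≤ g) (hg : 0 < g) : False := by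
  obtain ⟨m', rfl⟩ : ∃ m', m = m' + 1 := ⟨m - 1, by omega⟩
  obtain ⟨ms', rfl⟩ : ∃ ms', ms = ms' + 1 := ⟨ms - 1, by omega⟩
  simp only [Nat.add_sub_cancel] at hA hB
  have hks : k + s ≤ k * s := by nlinarith
  have hT : k * s - k - s + 1 + k + s = k * s + 1 := by omega
  generalize k * s - k - s + 1 = T at hC hT
  have e1 : k * a + k * iM = g := by rw [hA, ← hiM]; ring
  have e2 : s * b + s * iMs = g := by rw [hB, ← hiMs]; ring
  have e3 : k * s * (a + b + cn) ≤ k * s * g := Nat.mul_le_mul_left _ hsum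
  have e4 : 3 * (s * k * iM) ≤ g := by
    calc 3 * (s * k * iM) = iM * k * (3 * s) := by ring
      _ ≤ iM * k * (m' + 1) := Nat.mul_le_mul_left _ h3
      _ = g := by rw [← hiM]; ring
  have e5 : 3 * (k * s * iMs) ≤ g := by
    calc 3 * (k * s * iMs) = iMs * s * (3 * k) := by ring
      _ ≤ iMs * s * (ms' + 1) := Nat.mul_le_mul_left _ h3s
      _ = g := by rw [← hiMs]; ring
  have f1 : s * (k * a) + s * k * iM = s * g := by rw [← e1]; ring
  have f2 : k * (s * b) + k * s * iMs = k * g := by rw [← e2]; ring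
  have f3 : s * (k * a) + k * (s * b) + T * g ≤ k * s * g := by
    calc s * (k * a) + k * (s * b) + T * g = k * s * (a + b + cn) := by
          rw [mul_add, mul_add, hC]; ring
      _ ≤ k * s * g := e3
  have f4 : T * g + k * g + s * g = k * s * g + g := by
    rw [← add_mul, ← add_mul, hT]; ring
  nlinarith

variable {G : Type*} [Group G] [Finite G]

variable {M K Ms : Subgroup G} (c : Ctx M K Ms)
include c

/-- `Ẑ` is the same set for `(M, K)` and for `(M*, K*)` -/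
theorem Zh_symm : Zh Ms (Kst M K) = Zh M K := by
  have h := c.Kst_Kst
  unfold Zh
  rw [h, sup_comm, Set.union_comm]

/-- a `σ(M)`-element of `K K*` lies in `K*` -/
theorem mem_Kst_of_mem_Z {w : G} (hw : w ∈ K ⊔ Kst M K)
    (hord : (orderOf w).Coprime (Nat.card K)) : w ∈ Kst M K := by
  rw [mem_sup_iff_of_commute K (Kst M K) c.comm_K_Kst] at hw
  obtain ⟨a, ha, b, hb, rfl⟩ := hw
  obtain ⟨m, n, hmn⟩ := c.exists_proj
  have h1 := (hmn a ha b hb).1
  have hoa : orderOf a ∣ Nat.card K := by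
    have := orderOf_dvd_natCard (⟨a, ha⟩ : K)
    rwa [Subgroup.orderOf_mk] at this
  have hoa2 : orderOf a ∣ orderOf (a * b) := by
    have := orderOf_pow_dvd (x := a * b) m
    rwa [h1] at this
  have h2 : orderOf a = 1 := (Nat.Coprime.coprime_dvd_left hoa2 hord).eq_one_of_dvd hoa
  rw [orderOf_eq_one_iff] at h2
  rw [h2, one_mul]; exact hb

/-- the conjugates of `Ẑ` miss `\tilde M_σ` -/
theorem disj1 : ∀ a ∈ conjUnion (Zh M K), a ∉ tildeOf M ((sigmaCore M : Set G) \ {1}) := by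
  rintro a ⟨g, z, hz, hagz⟩ ⟨a0, ⟨ha0, ha01⟩, r, hr, y, hay⟩
  have ha0' : a0 ∈ sigmaCore M := ha0
  have ha0ne : a0 ≠ 1 := fun h => ha01 (by rw [h]; rfl)
  obtain ⟨x, hx, hx1, yy, hyy, hyy1, rfl⟩ := c.mem_Zh_iff.mp hz
  set c1 : G := y⁻¹ * g with hc1
  have h1 : a0 * r = c1 * (x * yy) * c1⁻¹ := by
    have : y * (a0 * r) * y⁻¹ = g * (x * yy) * g⁻¹ := hay.symm.trans hagz
    calc a0 * r = y⁻¹ * (y * (a0 * r) * y⁻¹) * y := by group
      _ = y⁻¹ * (g * (x * yy) * g⁻¹) * y := by rw [this]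
      _ = c1 * (x * yy) * c1⁻¹ := by rw [hc1]; group
  have hcomm : a0 * r = r * a0 := by
    rcases supportR_mem hr with h | ⟨-, L, -, -, -, -, hrC⟩
    · rw [h, mul_one, one_mul]
    · exact mem_centralizer_singleton.mp hrC
  set w : G := c1⁻¹ * a0 * c1 with hw
  have h2 : x * yy = c1⁻¹ * (a0 * r) * c1 := by rw [h1]; group
  have hwz : w ∈ centralizer ({x * yy} : Set G) := by
    rw [mem_centralizer_singleton, h2, hw]
    have h3 : a0 * r * a0 = a0 * (a0 * r) := by rw [mul_assoc, ← hcomm]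
    calc c1⁻¹ * (a0 * r) * c1 * (c1⁻¹ * a0 * c1) = c1⁻¹ * (a0 * r * a0) * c1 := by group
      _ = c1⁻¹ * (a0 * (a0 * r)) * c1 := by rw [h3]
      _ = c1⁻¹ * a0 * c1 * (c1⁻¹ * (a0 * r) * c1) := by group
  rw [c.centralizer_mul hx hx1 hyy hyy1] at hwz
  have hordw : orderOf w = orderOf a0 := by
    have := MulEquiv.orderOf_eq (MulAut.conj c1⁻¹) a0
    rw [MulAut.conj_apply, inv_inv] at this
    exact this
  have hcop : (orderOf w).Coprime (Nat.card K) := by
    rw [hordw]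
    have hd : orderOf a0 ∣ Nat.card ↥(sigmaCore M) := by
      have := orderOf_dvd_natCard (⟨a0, ha0'⟩ : ↥(sigmaCore M))
      rwa [Subgroup.orderOf_mk] at this
    exact (c.coprime_K_sigmaCore.symm).coprime_dvd_left hd
  have hwK : w ∈ Kst M K := mem_Kst_of_mem_Z c hwz hcop
  have hw1 : w ≠ 1 := by
    intro h
    apply ha0ne
    have : a0 = c1 * w * c1⁻¹ := by rw [hw]; group
    rw [this, h]; group
  have ha0M : a0 ∈ M := sigmaCore_le M ha0'
  have hc1M : c1⁻¹ ∈ M := by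
    by_contra hnot
    have h4 := (c.h31 M c.hM K c.hall c.hK1).1 c1⁻¹ hnot
    have h5 : w ∈ Kst M K ⊓ M.map (MulAut.conj c1⁻¹).toMonoidHom := by
      refine Subgroup.mem_inf.mpr ⟨hwK, a0, ha0M, ?_⟩
      show c1⁻¹ * a0 * c1⁻¹⁻¹ = w
      rw [hw, inv_inv]
    rw [h4, mem_bot] at h5
    exact hw1 h5
  have hCw := c.centralizer_Kst_le hwK hw1
  have hCa0 : centralizer ({a0} : Set G) ≤ M := by
    intro h hh
    have h6 : c1⁻¹ * h * c1 ∈ centralizer ({w} : Set G) := by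
      have := conj_mem_centralizer_singleton hh c1⁻¹
      rw [inv_inv] at this
      exact this
    have h7 := hCw h6
    have h8 : h = c1⁻¹⁻¹ * (c1⁻¹ * h * c1) * c1⁻¹ := by group
    rw [h8]
    exact M.mul_mem (M.mul_mem (M.inv_mem hc1M) h7) hc1M
  have hr1 : r = 1 := by
    rcases supportR_mem hr with h | ⟨hxM, -⟩
    · exact h
    · exact absurd hCa0 hxM
  have h9 : x * yy = w := by
    rw [h2, hr1, mul_one]
  exact hz.2 (Or.inr (h9 ▸ hwK))

/-- `\tilde M_σ` and `\tilde M*_σ` are disjoint -/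
theorem disj3 (h33 : St1433 G) : ∀ a ∈ tildeOf M ((sigmaCore M : Set G) \ {1}),
    a ∉ tildeOf Ms ((sigmaCore Ms : Set G) \ {1}) := by
  rintro a ⟨a0, ⟨ha0, ha01⟩, r, hr, y, hay⟩ ⟨b0, ⟨hb0, hb01⟩, s, hs, y', hay'⟩
  have ha0' : a0 ∈ sigmaCore M := ha0
  have hb0' : b0 ∈ sigmaCore Ms := hb0
  have ha0ne : a0 ≠ 1 := fun h => ha01 (by rw [h]; rfl)
  have hb0ne : b0 ≠ 1 := fun h => hb01 (by rw [h]; rfl)
  set c1 : G := y⁻¹ * y' with hc1
  have h1 : a0 * r = (c1 * b0 * c1⁻¹) * (c1 * s * c1⁻¹) := by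
    have : y * (a0 * r) * y⁻¹ = y' * (b0 * s) * y'⁻¹ := hay.symm.trans hay'
    calc a0 * r = y⁻¹ * (y * (a0 * r) * y⁻¹) * y := by group
      _ = y⁻¹ * (y' * (b0 * s) * y'⁻¹) * y := by rw [this]
      _ = (c1 * b0 * c1⁻¹) * (c1 * s * c1⁻¹) := by rw [hc1]; group
  have hN := isCoatom_map_conj' c.hMs c1
  have hb0c := conj_mem_sigmaCore hb0' c1
  have hsc := conj_mem_supportR hs c1
  have hb0cne : c1 * b0 * c1⁻¹ ≠ 1 := by
    intro h
    apply hb0ne
    have : b0 = c1⁻¹ * (c1 * b0 * c1⁻¹) * c1 := by group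
    rw [this, h]; group
  by_cases heq : a0 = c1 * b0 * c1⁻¹
  · have hne : orderOf a0 ≠ 1 := by rw [Ne, orderOf_eq_one_iff]; exact ha0ne
    obtain ⟨t, ht, htd⟩ := Nat.exists_prime_and_dvd hne
    have h2 : t ∈ sigma M := prime_mem_sigma_of_mem_sigmaCore ha0' t ht htd
    have h3 : t ∈ sigma (Ms.map (MulAut.conj c1).toMonoidHom) := by
      rw [heq] at htd
      exact prime_mem_sigma_of_mem_sigmaCore hb0c t ht htd
    rw [sigma_map_conj] at h3
    exact c.sigma_disjoint t h2 h3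
  · exact h33 M _ c.hM hN a0 _ ha0' hb0c ha0ne hb0cne heq r hr _ hsc h1

/-- `K* < M_σ`, so `|M_σ| ≥ 3 |K*|` -/
theorem three_mul_card_Kst_le : 3 * Nat.card ↥(Kst M K) ≤ Nat.card ↥(sigmaCore M) := by
  have hle : Kst M K ≤ sigmaCore M := inf_le_left
  have hne : Kst M K ≠ sigmaCore M := by
    intro heq
    obtain ⟨p, hp, hpd⟩ := Nat.exists_prime_and_dvd (n := Nat.card ↥(Kst M K))
      (fun h => c.Kst_ne_bot (Subgroup.card_eq_one.mp h))
    haveI := Fact.mk hp
    have S : Sylow p ↥(sigmaCore M) := default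
    have := ((c.h31 M c.hM K c.hall c.hK1).2.2.1 p hp hpd S).2.2
    apply this
    exact (Subgroup.map_subtype_le _).trans heq.ge
  obtain ⟨q, hq⟩ := Subgroup.card_dvd_of_le hle
  have hpos : 0 < Nat.card ↥(sigmaCore M) := Nat.card_pos
  have hq1 : q ≠ 1 := by
    intro h
    rw [h, mul_one] at hq
    exact hne (Subgroup.eq_of_le_of_card_ge hle hq.le)
  have hq0 : q ≠ 0 := by
    intro h
    rw [h, mul_zero] at hq
    omega
  have hodd : Odd q := by
    have h1 : Odd (Nat.card G) := c.hG.1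
    have h2 : Odd (Nat.card ↥(sigmaCore M)) :=
      Odd.of_dvd_nat h1 (Subgroup.card_subgroup_dvd_card _)
    exact Odd.of_dvd_nat h2 (Dvd.intro_left _ hq.symm)
  obtain ⟨t, ht⟩ := hodd
  have hq3 : 3 ≤ q := by omega
  rw [hq]
  nlinarith

/-- `|M| = |K| |M_σ|` when `U = 1` -/
theorem card_of_U_bot {U : Subgroup G} (hKU : IsSigmaDecomposition M K U) (hU : U = ⊥) :
    Nat.card ↥M = Nat.card ↥K * Nat.card ↥(sigmaCore M) := by
  have hcompl : IsComplIn K (sigmaCore M) M := by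
    refine ⟨c.K_le, sigmaCore_le M, c.K_inf_sigmaCore, ?_⟩
    intro m hm
    obtain ⟨a, ha, b, hb, rfl⟩ := hKU.compl.2.2.2 m hm
    rw [hU, mem_bot] at ha
    subst ha
    rw [one_mul]
    have hKn : K ≤ normalizer ((sigmaCore M : Subgroup G) : Set G) :=
      c.K_le.trans (le_normalizer_sigmaCore M)
    have hb' : b ∈ ((K ⊔ sigmaCore M : Subgroup G) : Set G) := hb
    rw [Subgroup.coe_mul_of_left_le_normalizer_right K (sigmaCore M) hKn, Set.mem_mul] at hb'
    obtain ⟨k, hk, s, hs, rfl⟩ := hb'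
    exact ⟨k, hk, s, hs, rfl⟩
  exact (Cfsg.Agent.Helper4.BG144.complIn_card_mul hcompl).symm

/-- BG 14.7(f): `U` and `U*` are not both trivial -/
theorem part1 (h77 : St1377 G) (h33 : St1433 G) {U : Subgroup G}
    (hKU : IsSigmaDecomposition M K U) :
    U ≠ ⊥ ∨ ∀ Ustar : Subgroup G, IsSigmaDecomposition Ms (Kst M K) Ustar → Ustar ≠ ⊥ := by
  by_contra hcon
  push_neg at hcon
  obtain ⟨hU, Us, hKUs, hUs⟩ := hcon
  have cs := c.symm
  have hM := card_of_U_bot c hKU hU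
  have hMs := card_of_U_bot cs hKUs hUs
  have h3 := three_mul_card_Kst_le c
  have h3s := three_mul_card_Kst_le cs
  rw [c.Kst_Kst] at h3s
  have hA := h77 M c.hM
  have hB := h77 Ms c.hMs
  have hC := c.count.1
  have hiM : M.index * Nat.card ↥M = Nat.card G := Subgroup.index_mul_card M
  have hiMs : Ms.index * Nat.card ↥Ms = Nat.card G := Subgroup.index_mul_card Ms
  rw [hM] at hiM
  rw [hMs] at hiMs
  -- disjointness
  have hAB : Disjoint (tildeOf M ((sigmaCore M : Set G) \ {1}))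
      (tildeOf Ms ((sigmaCore Ms : Set G) \ {1})) :=
    Set.disjoint_left.mpr (disj3 c h33)
  have hCA : Disjoint (conjUnion (Zh M K)) (tildeOf M ((sigmaCore M : Set G) \ {1})) :=
    Set.disjoint_left.mpr (disj1 c)
  have hCB : Disjoint (conjUnion (Zh M K)) (tildeOf Ms ((sigmaCore Ms : Set G) \ {1})) := by
    have := disj1 cs
    rw [Zh_symm c] at this
    exact Set.disjoint_left.mpr this
  have hsum : Set.ncard (tildeOf M ((sigmaCore M : Set G) \ {1})) +
      Set.ncard (tildeOf Ms ((sigmaCore Ms : Set G) \ {1})) +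
      Set.ncard (conjUnion (Zh M K)) ≤ Nat.card G := by
    have h1 := Set.ncard_union_eq hAB (Set.toFinite _) (Set.toFinite _)
    have hd : Disjoint (tildeOf M ((sigmaCore M : Set G) \ {1}) ∪
        tildeOf Ms ((sigmaCore Ms : Set G) \ {1})) (conjUnion (Zh M K)) :=
      Set.disjoint_union_left.mpr ⟨hCA.symm, hCB.symm⟩
    have h2 := Set.ncard_union_eq hd (Set.toFinite _) (Set.toFinite _)
    have h3 : Set.ncard ((tildeOf M ((sigmaCore M : Set G) \ {1}) ∪
        tildeOf Ms ((sigmaCore Ms : Set G) \ {1})) ∪ conjUnion (Zh M K)) ≤ Nat.card G := by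
      have := Set.ncard_le_card ((tildeOf M ((sigmaCore M : Set G) \ {1}) ∪
        tildeOf Ms ((sigmaCore Ms : Set G) \ {1})) ∪ conjUnion (Zh M K))
      simpa using this
    omega
  exact arith69 (Nat.card ↥K) (Nat.card ↥(Kst M K)) (Nat.card ↥(sigmaCore M))
    (Nat.card ↥(sigmaCore Ms)) (Nat.card G) M.index Ms.index _ _ _
    c.three_le_card_K.1 c.three_le_card_Kst.1 h3 h3s hiM hiMs hA hB hC hsum Nat.card_pos

end Cfsg.Agent.Helper14.BG1369
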