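import Mathlib
import Cfsg.Agent.Lib.Helper14.BG1366P1

/-!
Towards S1366 (BG Theorem 14.7 (a), (b)): the polygon count, part 2.  A family `S` of maximal subgroups
`H` with nontrivial Hall `κ(H)`-subgroups `B H`, all with the same abelian `Z = B H × (B H)*`, with
pairwise disjoint `σ(H)` covering the primes of `|Z|`, and with `|H| = |B H| |H_σ|` (i.e. `U_H = 1`)
has at most one member.
-/

set_option autoImplicit false

namespace Cfsg.Agent.Helper14.BG1369

open Cfsg Subgroup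
open Cfsg.Agent.Helper10 (IsPiNum)
open Cfsg.Agent.Helper16.BG147
open Cfsg.Agent.Helper16.BG145 (prime_mem_sigma_of_mem_sigmaCore supportR_mem sigma_map_conj)

/-- pairwise disjoint subsets of a finite type -/
theorem sum_ncard_add_le {ι α : Type*} [Finite α] (S : Finset ι) (f : ι → Set α) :
    ∀ (W : Set α), (∀ i ∈ S, ∀ j ∈ S, i ≠ j → Disjoint (f i) (f j)) →
      (∀ i ∈ S, Disjoint W (f i)) → ∑ i ∈ S, (f i).ncard + W.ncard ≤ Nat.card α := by
  classical
  induction S using Finset.induction_on with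
  | empty =>
    intro W _ _
    rw [Finset.sum_empty, zero_add]
    have := Set.ncard_le_card W
    simpa using this
  | insert a S ha ih =>
    intro W hpd hW
    rw [Finset.sum_insert ha]
    have h1 : Disjoint W (f a) := hW a (Finset.mem_insert_self a S)
    have h2 := ih (W ∪ f a)
      (fun i hi j hj hij =>
        hpd i (Finset.mem_insert_of_mem hi) j (Finset.mem_insert_of_mem hj) hij)
      (fun i hi => Set.disjoint_union_left.mpr
        ⟨hW i (Finset.mem_insert_of_mem hi),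
          hpd a (Finset.mem_insert_self a S) i (Finset.mem_insert_of_mem hi)
            (by rintro rfl; exact ha hi)⟩)
    rw [Set.ncard_union_eq h1 (Set.toFinite _) (Set.toFinite _)] at h2
    omega

/-- the arithmetic of the polygon count -/
theorem arith66 (z g n Sa Saj ST N nZ : ℕ) (h1 : z * ST + Saj = g * Sa) (h2 : 3 * Saj ≤ n * g)
    (h3 : z * N = g * nZ) (h4 : ST + N ≤ g) (h5 : z + n ≤ nZ + Sa + 1) (hg : 0 < g) : n ≤ 1 := by
  have e1 : z * ST + z * N ≤ z * g := by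
    rw [← mul_add]; exact Nat.mul_le_mul_left _ h4
  have e2 : g * z + g * n ≤ g * nZ + g * Sa + g := by
    have := Nat.mul_le_mul_left g h5
    linarith
  have e3 : g * Sa + g * nZ ≤ z * g + Saj := by
    rw [← h1, ← h3]; linarith
  have e4 : g * n ≤ Saj + g := by linarith
  have e6 : 2 * n * g ≤ 3 * g := by linarith
  have : 2 * n ≤ 3 := Nat.le_of_mul_le_mul_right e6 hg
  omega

variable {G : Type*} [Group G] [Finite G]

section polygon

variable (S : Finset (Subgroup G)) (B : Subgroup G → Subgroup G) (Z : Subgroup G)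

/-- the elements of `Z` lying in no `(B H)*` -/
def Zc : Set G := {t | t ∈ Z ∧ t ≠ 1 ∧ ∀ H ∈ S, t ∉ Kst H (B H)}

variable (hhalf : ∀ H ∈ S, Half H (B H))
  (hZ : ∀ H ∈ S, B H ⊔ Kst H (B H) = Z)
  (hZab : ∀ a ∈ Z, ∀ b ∈ Z, a * b = b * a)
  (hdisj : ∀ H ∈ S, ∀ H' ∈ S, H ≠ H' → ∀ p, p ∈ sigma H → p ∉ sigma H')
  (hcover : ∀ p : ℕ, p.Prime → p ∣ Nat.card Z → ∃ H ∈ S, p ∈ sigma H)

include hhalf hZ hcover in
theorem exists_Zh_of_mem_Zc {t : G} (ht : t ∈ Zc S B Z) : ∃ H ∈ S, t ∈ Zh H (B H) := by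
  obtain ⟨htZ, ht1, htA⟩ := ht
  have hne : orderOf t ≠ 1 := by rw [Ne, orderOf_eq_one_iff]; exact ht1
  obtain ⟨p, hp, hpd⟩ := Nat.exists_prime_and_dvd hne
  have hoZ : orderOf t ∣ Nat.card Z := by
    have := orderOf_dvd_natCard (⟨t, htZ⟩ : Z)
    rwa [Subgroup.orderOf_mk] at this
  obtain ⟨H, hH, hpH⟩ := hcover p hp (hpd.trans hoZ)
  refine ⟨H, hH, ?_, ?_⟩
  · show t ∈ ((B H ⊔ Kst H (B H) : Subgroup G) : Set G)
    rw [hZ H hH]; exact htZ
  · rintro (h | h)
    · have hoB : orderOf t ∣ Nat.card (B H) := by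
        have := orderOf_dvd_natCard (⟨t, h⟩ : B H)
        rwa [Subgroup.orderOf_mk] at this
      exact (hhalf H hH).not_sigma_of_dvd_card_K hp (hpd.trans hoB) hpH
    · exact htA H hH h

include hhalf hZ hcover in
theorem Zc_TI (g : G) (t : G) (ht : t ∈ Zc S B Z) (ht' : g * t * g⁻¹ ∈ Zc S B Z) : g ∈ Z := by
  obtain ⟨H, hH, hH'⟩ := exists_Zh_of_mem_Zc S B Z hhalf hZ hcover ht'
  have := (hhalf H hH).Zh_TI' g t (by rw [hZ H hH]; exact ht.1) hH'
  rwa [hZ H hH] at this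

include hZab in
theorem Zc_inv (z : G) (hz : z ∈ Z) (t : G) (ht : t ∈ Zc S B Z) : z * t * z⁻¹ ∈ Zc S B Z := by
  have : z * t * z⁻¹ = t := by rw [hZab z hz t ht.1]; group
  rw [this]; exact ht

include hhalf hZ hZab hcover in
theorem card_conj_Zc :
    Nat.card Z * Set.ncard (conjUnion (Zc S B Z)) = Nat.card G * Set.ncard (Zc S B Z) :=
  card_conjUnion_of_inv Z (Zc S B Z) (Zc_inv S B Z hZab) (Zc_TI S B Z hhalf hZ hcover)

theorem card_Z_le :
    Nat.card Z + S.card ≤ Set.ncard (Zc S B Z) + ∑ H ∈ S, Nat.card ↥(Kst H (B H)) + 1 := by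
  classical
  have hsub : (Z : Set G) ⊆
      Zc S B Z ∪ ({1} ∪ ⋃ H ∈ S, ((Kst H (B H) : Subgroup G) : Set G) \ {1}) := by
    intro t ht
    by_cases h1 : t = 1
    · right; left; exact h1
    · by_cases h2 : ∀ H ∈ S, t ∉ Kst H (B H)
      · left; exact ⟨ht, h1, h2⟩
      · push_neg at h2
        obtain ⟨H, hH, htH⟩ := h2
        right; right
        exact Set.mem_biUnion hH ⟨htH, h1⟩
  have h1 := Set.ncard_le_ncard hsub (Set.toFinite _)
  have h2 := Set.ncard_union_le (Zc S B Z)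
    ({1} ∪ ⋃ H ∈ S, ((Kst H (B H) : Subgroup G) : Set G) \ {1})
  have h3 := Set.ncard_union_le ({1} : Set G)
    (⋃ H ∈ S, ((Kst H (B H) : Subgroup G) : Set G) \ {1})
  have h4 := Finset.set_ncard_biUnion_le S
    (fun H => ((Kst H (B H) : Subgroup G) : Set G) \ {1})
  have h5 : ∑ H ∈ S, Set.ncard (((Kst H (B H) : Subgroup G) : Set G) \ {1}) + S.card =
      ∑ H ∈ S, Nat.card ↥(Kst H (B H)) := by
    rw [Finset.card_eq_sum_ones, ← Finset.sum_add_distrib]
    apply Finset.sum_congr rfl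
    intro H _
    rw [Set.ncard_diff_singleton_of_mem (one_mem _)]
    have h6 : 0 < Nat.card ↥(Kst H (B H)) := Nat.card_pos
    have h7 : Set.ncard ((Kst H (B H) : Subgroup G) : Set G) = Nat.card ↥(Kst H (B H)) :=
      (Nat.card_coe_set_eq ((Kst H (B H) : Subgroup G) : Set G)).symm
    rw [h7]
    omega
  have h6 : Set.ncard (Z : Set G) = Nat.card Z := (Nat.card_coe_set_eq (Z : Set G)).symm
  rw [Set.ncard_singleton] at h3
  omega

include hhalf hZ hcover in
/-- the conjugates of `Zc` miss `\tilde H_σ` -/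
theorem disj1' {H : Subgroup G} (hH : H ∈ S) :
    ∀ a ∈ conjUnion (Zc S B Z), a ∉ tildeOf H ((sigmaCore H : Set G) \ {1}) := by
  rintro a ⟨g, t, ht, hagt⟩ ⟨a0, ⟨ha0, ha01⟩, r, hr, y, hay⟩
  have c := hhalf H hH
  have ha0' : a0 ∈ sigmaCore H := ha0
  have ha0ne : a0 ≠ 1 := fun h => ha01 (by rw [h]; rfl)
  obtain ⟨H', hH', htH'⟩ := exists_Zh_of_mem_Zc S B Z hhalf hZ hcover ht
  have c' := hhalf H' hH'
  obtain ⟨x, hx, hx1, yy, hyy, hyy1, rfl⟩ := c'.mem_Zh_iff.mp htH'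
  set c1 : G := y⁻¹ * g with hc1
  have h1 : a0 * r = c1 * (x * yy) * c1⁻¹ := by
    have : y * (a0 * r) * y⁻¹ = g * (x * yy) * g⁻¹ := hay.symm.trans hagt
    calc a0 * r = y⁻¹ * (y * (a0 * r) * y⁻¹) * y := by group
      _ = y⁻¹ * (g * (x * yy) * g⁻¹) * y := by rw [this]
      _ = c1 * (x * yy) * c1⁻¹ := by rw [hc1]; group
  have hcomm : a0 * r = r * a0 := by
    rcases supportR_mem hr with h | ⟨-, L, -, -, -, -, hrC⟩
    · rw [h, mul_one, one_mul]
    · exact mem_centralizer_singleton.mp hrC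
  set w : G := c1⁻¹ * a0 * c1 with hw
  have h2 : x * yy = c1⁻¹ * (a0 * r) * c1 := by rw [h1]; group
  have hwz : w ∈ centralizer ({x * yy} : Set G) := by
    rw [mem_centralizer_singleton, h2, hw]
    have h3 : a0 * r * a0 = a0 * (a0 * r) := by rw [mul_assoc, ← hcomm]
    calc c1⁻¹ * (a0 * r) * c1 * (c1⁻¹ * a0 * c1) = c1⁻¹ * (a0 * r * a0) * c1 := by group
      _ = c1⁻¹ * (a0 * (a0 * r)) * c1 := by rw [h3]
      _ = c1⁻¹ * a0 * c1 * (c1⁻¹ * (a0 * r) * c1) := by group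
  have hwZ : w ∈ B H ⊔ Kst H (B H) := by
    rw [hZ H hH, ← hZ H' hH']
    exact c'.centralizer_mul_le hx hx1 hyy hyy1 hwz
  have hordw : orderOf w = orderOf a0 := by
    have := MulEquiv.orderOf_eq (MulAut.conj c1⁻¹) a0
    rw [MulAut.conj_apply, inv_inv] at this
    exact this
  have hcop : (orderOf w).Coprime (Nat.card (B H)) := by
    rw [hordw]
    have hd : orderOf a0 ∣ Nat.card ↥(sigmaCore H) := by
      have := orderOf_dvd_natCard (⟨a0, ha0'⟩ : ↥(sigmaCore H))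
      rwa [Subgroup.orderOf_mk] at this
    exact (c.coprime_K_sigmaCore.symm).coprime_dvd_left hd
  have hwK : w ∈ Kst H (B H) := c.mem_Kst_of_mem_Z hwZ hcop
  have hw1 : w ≠ 1 := by
    intro h
    apply ha0ne
    have : a0 = c1 * w * c1⁻¹ := by rw [hw]; group
    rw [this, h]; group
  have ha0M : a0 ∈ H := sigmaCore_le H ha0'
  have hc1M : c1⁻¹ ∈ H := by
    by_contra hnot
    have h4 := (c.h31 H c.hH (B H) c.hall c.hK1).1 c1⁻¹ hnot
    have h5 : w ∈ Kst H (B H) ⊓ H.map (MulAut.conj c1⁻¹).toMonoidHom := by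
      refine Subgroup.mem_inf.mpr ⟨hwK, a0, ha0M, ?_⟩
      show c1⁻¹ * a0 * c1⁻¹⁻¹ = w
      rw [hw, inv_inv]
    rw [h4, mem_bot] at h5
    exact hw1 h5
  have hCw := c.centralizer_Kst_le hwK hw1
  have hCa0 : centralizer ({a0} : Set G) ≤ H := by
    intro h hh
    have h6 : c1⁻¹ * h * c1 ∈ centralizer ({w} : Set G) := by
      have := conj_mem_centralizer_singleton hh c1⁻¹
      rw [inv_inv] at this
      exact this
    have h7 := hCw h6
    have h8 : h = c1⁻¹⁻¹ * (c1⁻¹ * h * c1) * c1⁻¹ := by group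
    rw [h8]
    exact H.mul_mem (H.mul_mem (H.inv_mem hc1M) h7) hc1M
  have hr1 : r = 1 := by
    rcases supportR_mem hr with h | ⟨hxM, -⟩
    · exact h
    · exact absurd hCa0 hxM
  have h9 : x * yy = w := by
    rw [h2, hr1, mul_one]
  exact ht.2.2 H hH (h9 ▸ hwK)

include hhalf hdisj in
/-- `\tilde H_σ` and `\tilde H'_σ` are disjoint for `H ≠ H'` -/
theorem disj3' (h33 : St1433 G) {H H' : Subgroup G} (hH : H ∈ S) (hH' : H' ∈ S) (hne : H ≠ H') :
    ∀ a ∈ tildeOf H ((sigmaCore H : Set G) \ {1}),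
      a ∉ tildeOf H' ((sigmaCore H' : Set G) \ {1}) := by
  rintro a ⟨a0, ⟨ha0, ha01⟩, r, hr, y, hay⟩ ⟨b0, ⟨hb0, hb01⟩, s, hs, y', hay'⟩
  have ha0' : a0 ∈ sigmaCore H := ha0
  have hb0' : b0 ∈ sigmaCore H' := hb0
  have ha0ne : a0 ≠ 1 := fun h => ha01 (by rw [h]; rfl)
  have hb0ne : b0 ≠ 1 := fun h => hb01 (by rw [h]; rfl)
  set c1 : G := y⁻¹ * y' with hc1
  have h1 : a0 * r = (c1 * b0 * c1⁻¹) * (c1 * s * c1⁻¹) := by
    have : y * (a0 * r) * y⁻¹ = y' * (b0 * s) * y'⁻¹ := hay.symm.trans hay'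
    calc a0 * r = y⁻¹ * (y * (a0 * r) * y⁻¹) * y := by group
      _ = y⁻¹ * (y' * (b0 * s) * y'⁻¹) * y := by rw [this]
      _ = (c1 * b0 * c1⁻¹) * (c1 * s * c1⁻¹) := by rw [hc1]; group
  have hN := isCoatom_map_conj' (hhalf H' hH').hH c1
  have hb0c := conj_mem_sigmaCore hb0' c1
  have hsc := conj_mem_supportR hs c1
  have hb0cne : c1 * b0 * c1⁻¹ ≠ 1 := by
    intro h
    apply hb0ne
    have : b0 = c1⁻¹ * (c1 * b0 * c1⁻¹) * c1 := by group
    rw [this, h]; group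
  by_cases heq : a0 = c1 * b0 * c1⁻¹
  · have hne1 : orderOf a0 ≠ 1 := by rw [Ne, orderOf_eq_one_iff]; exact ha0ne
    obtain ⟨t, ht, htd⟩ := Nat.exists_prime_and_dvd hne1
    have h2 : t ∈ sigma H := prime_mem_sigma_of_mem_sigmaCore ha0' t ht htd
    have h3 : t ∈ sigma (H'.map (MulAut.conj c1).toMonoidHom) := by
      rw [heq] at htd
      exact prime_mem_sigma_of_mem_sigmaCore hb0c t ht htd
    rw [sigma_map_conj] at h3
    exact hdisj H hH H' hH' hne t h2 h3
  · exact h33 H _ (hhalf H hH).hH hN a0 _ ha0' hb0c ha0ne hb0cne heq r hr _ hsc h1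

include hhalf hZ in
theorem per_H (h77 : St1377 G) {H : Subgroup G} (hH : H ∈ S)
    (hP1 : Nat.card H = Nat.card (B H) * Nat.card (sigmaCore H)) :
    Nat.card Z * Set.ncard (tildeOf H ((sigmaCore H : Set G) \ {1})) +
        Nat.card ↥(Kst H (B H)) * (Nat.card (B H) * H.index) =
      Nat.card ↥(Kst H (B H)) * Nat.card G ∧
    3 * (Nat.card ↥(Kst H (B H)) * (Nat.card (B H) * H.index)) ≤ Nat.card G := by
  have c := hhalf H hH
  have hz : Nat.card Z = Nat.card (B H) * Nat.card ↥(Kst H (B H)) := by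
    rw [← hZ H hH]; exact c.card_Z
  have hi : H.index * Nat.card H = Nat.card G := Subgroup.index_mul_card H
  have h3 := c.three_mul_card_Kst_le
  have hT := h77 H c.hH
  rw [hP1] at hi
  have hm : 0 < Nat.card ↥(sigmaCore H) := Nat.card_pos
  obtain ⟨m', hm'⟩ : ∃ m', Nat.card ↥(sigmaCore H) = m' + 1 :=
    ⟨Nat.card ↥(sigmaCore H) - 1, by omega⟩
  rw [hm'] at hi hT h3
  simp only [Nat.add_sub_cancel] at hT
  rw [hT, hz, ← hi]
  constructor
  · ring
  · calc 3 * (Nat.card ↥(Kst H (B H)) * (Nat.card (B H) * H.index))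
        = Nat.card (B H) * H.index * (3 * Nat.card ↥(Kst H (B H))) := by ring
      _ ≤ Nat.card (B H) * H.index * (m' + 1) := Nat.mul_le_mul_left _ h3
      _ = H.index * (Nat.card (B H) * (m' + 1)) := by ring

end polygon

/-- the polygon count: a family of "type P" maximal subgroups with `U = 1`, a common abelian
`Z = K × K*`, and pairwise disjoint `σ`'s covering the primes of `|Z|` has at most one member -/
theorem polygon_count (hG : IsMinSimpleOddOrder G) (h30 : St1430 G) (h31 : St1431 G)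
    (h51 : St1351b G) (h78 : St1378b G) (h77 : St1377 G) (h33 : St1433 G)
    (S : Finset (Subgroup G)) (B : Subgroup G → Subgroup G) (Z : Subgroup G)
    (hhalf : ∀ H ∈ S, Half H (B H))
    (hZ : ∀ H ∈ S, B H ⊔ Kst H (B H) = Z)
    (hZab : ∀ a ∈ Z, ∀ b ∈ Z, a * b = b * a)
    (hdisj : ∀ H ∈ S, ∀ H' ∈ S, H ≠ H' → ∀ p, p ∈ sigma H → p ∉ sigma H')
    (hcover : ∀ p : ℕ, p.Prime → p ∣ Nat.card Z → ∃ H ∈ S, p ∈ sigma H)
    (hP1 : ∀ H ∈ S, Nat.card H = Nat.card (B H) * Nat.card (sigmaCore H)) :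
    S.card ≤ 1 := by
  classical
  have hper := fun H hH => per_H S B Z hhalf hZ h77 hH (hP1 H hH)
  have h1 : Nat.card Z * ∑ H ∈ S, (tildeOf H ((sigmaCore H : Set G) \ {1})).ncard +
      ∑ H ∈ S, Nat.card ↥(Kst H (B H)) * (Nat.card (B H) * H.index) =
      Nat.card G * ∑ H ∈ S, Nat.card ↥(Kst H (B H)) := by
    rw [Finset.mul_sum, Finset.mul_sum, ← Finset.sum_add_distrib]
    apply Finset.sum_congr rfl
    intro H hH
    rw [(hper H hH).1, mul_comm]
  have h2 : 3 * ∑ H ∈ S, Nat.card ↥(Kst H (B H)) * (Nat.card (B H) * H.index) ≤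
      S.card * Nat.card G := by
    rw [Finset.mul_sum, Finset.card_eq_sum_ones, Finset.sum_mul]
    apply Finset.sum_le_sum
    intro H hH
    rw [one_mul]; exact (hper H hH).2
  have h3 := card_conj_Zc S B Z hhalf hZ hZab hcover
  have h4 : ∑ H ∈ S, (tildeOf H ((sigmaCore H : Set G) \ {1})).ncard +
      (conjUnion (Zc S B Z)).ncard ≤ Nat.card G :=
    sum_ncard_add_le S (fun H => tildeOf H ((sigmaCore H : Set G) \ {1})) (conjUnion (Zc S B Z))
      (fun H hH H' hH' hne => Set.disjoint_left.mpr (disj3' S B hhalf hdisj h33 hH hH' hne))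
      (fun H hH => Set.disjoint_left.mpr (disj1' S B Z hhalf hZ hcover hH))
  have h5 := card_Z_le S B Z
  exact arith66 _ _ _ _ _ _ _ _ h1 h2 h3 h4 h5 Nat.card_pos

end Cfsg.Agent.Helper14.BG1369
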