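import Mathlib
import Cfsg.Agent.Lib.Helper14.BG1366P2

/-!
The polygon count without the hypothesis that `Z` is abelian (and without the cyclicity statement):
`Z = B H ⊔ (B H)*` normalises `(B H)*`, which is all that is needed.
-/

set_option autoImplicit false

namespace Cfsg.Agent.Helper14.BG1369

open Cfsg Subgroup
open Cfsg.Agent.Helper10 (IsPiNum)
open Cfsg.Agent.Helper16.BG147
open Cfsg.Agent.Helper16.BG145 (prime_mem_sigma_of_mem_sigmaCore supportR_mem sigma_map_conj)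

variable {G : Type*} [Group G] [Finite G]

/-- `K ⊔ K*` normalises `K*` -/
theorem sup_Kst_le_normalizer_Kst {H K : Subgroup G} (hKH : K ≤ H) :
    K ⊔ Kst H K ≤ normalizer ((Kst H K : Subgroup G) : Set G) := by
  refine sup_le ?_ le_normalizer
  intro k hk
  rw [mem_normalizer_iff]
  have hkH : k ∈ H := hKH hk
  have hN := Cfsg.Agent.Helper16.BG147.le_normalizer_sigmaCore H hkH
  intro y
  constructor
  · intro hy
    refine Subgroup.mem_inf.mpr ⟨(mem_normalizer_iff.mp hN y).mp (Subgroup.mem_inf.mp hy).1, ?_⟩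
    have hyc := (Subgroup.mem_inf.mp hy).2
    rw [mem_centralizer_iff] at hyc ⊢
    intro x hx
    have hx' : k⁻¹ * x * k ∈ K := K.mul_mem (K.mul_mem (K.inv_mem hk) hx) hk
    have h1 := hyc (k⁻¹ * x * k) hx'
    calc x * (k * y * k⁻¹) = k * ((k⁻¹ * x * k) * y) * k⁻¹ := by group
      _ = k * (y * (k⁻¹ * x * k)) * k⁻¹ := by rw [h1]
      _ = k * y * k⁻¹ * x := by group
  · intro hy
    have h2 := (mem_normalizer_iff.mp hN y).mpr (Subgroup.mem_inf.mp hy).1
    refine Subgroup.mem_inf.mpr ⟨h2, ?_⟩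
    have hyc := (Subgroup.mem_inf.mp hy).2
    rw [mem_centralizer_iff] at hyc ⊢
    intro x hx
    have hx' : k * x * k⁻¹ ∈ K := K.mul_mem (K.mul_mem hk hx) (K.inv_mem hk)
    have h1 := hyc (k * x * k⁻¹) hx'
    calc x * y = k⁻¹ * ((k * x * k⁻¹) * (k * y * k⁻¹)) * k := by group
      _ = k⁻¹ * ((k * y * k⁻¹) * (k * x * k⁻¹)) * k := by rw [h1]
      _ = y * x := by group

section polygon

variable (S : Finset (Subgroup G)) (B : Subgroup G → Subgroup G) (Z : Subgroup G)

variable (hhalf : ∀ H ∈ S, Half H (B H))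
  (hZ : ∀ H ∈ S, B H ⊔ Kst H (B H) = Z)
  (hcover : ∀ p : ℕ, p.Prime → p ∣ Nat.card Z → ∃ H ∈ S, p ∈ sigma H)

include hhalf hZ in
theorem Zc_inv' (z : G) (hz : z ∈ Z) (t : G) (ht : t ∈ Zc S B Z) : z * t * z⁻¹ ∈ Zc S B Z := by
  obtain ⟨htZ, ht1, htA⟩ := ht
  refine ⟨Z.mul_mem (Z.mul_mem hz htZ) (Z.inv_mem hz), ?_, ?_⟩
  · intro h
    apply ht1
    have : t = z⁻¹ * (z * t * z⁻¹) * z := by group
    rw [this, h]; group
  · intro H hH hmem
    apply htA H hH
    have hzN : z ∈ normalizer ((Kst H (B H) : Subgroup G) : Set G) :=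
      sup_Kst_le_normalizer_Kst (hhalf H hH).K_le (by rw [hZ H hH]; exact hz)
    exact (mem_normalizer_iff.mp hzN t).mpr hmem

include hhalf hZ hcover in
theorem card_conj_Zc' :
    Nat.card Z * Set.ncard (conjUnion (Zc S B Z)) = Nat.card G * Set.ncard (Zc S B Z) :=
  card_conjUnion_of_inv Z (Zc S B Z) (Zc_inv' S B Z hhalf hZ) (Zc_TI S B Z hhalf hZ hcover)

end polygon

/-- the polygon count, without commutativity of `Z`: a family of "type P" maximal subgroups with
`U = 1`, a common `Z = K K*`, and pairwise disjoint `σ`'s covering the primes of `|Z|` has at most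
one member -/
theorem polygon_count' (hG : IsMinSimpleOddOrder G) (h30 : St1430 G) (h31 : St1431 G)
    (h78 : St1378b G) (h77 : St1377 G) (h33 : St1433 G)
    (S : Finset (Subgroup G)) (B : Subgroup G → Subgroup G) (Z : Subgroup G)
    (hhalf : ∀ H ∈ S, Half H (B H))
    (hZ : ∀ H ∈ S, B H ⊔ Kst H (B H) = Z)
    (hdisj : ∀ H ∈ S, ∀ H' ∈ S, H ≠ H' → ∀ p, p ∈ sigma H → p ∉ sigma H')
    (hcover : ∀ p : ℕ, p.Prime → p ∣ Nat.card Z → ∃ H ∈ S, p ∈ sigma H)
    (hP1 : ∀ H ∈ S, Nat.card H = Nat.card (B H) * Nat.card (sigmaCore H)) :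
    S.card ≤ 1 := by
  classical
  have hper := fun H hH => per_H S B Z hhalf hZ h77 hH (hP1 H hH)
  have h1 : Nat.card Z * ∑ H ∈ S, (tildeOf H ((sigmaCore H : Set G) \ {1})).ncard +
      ∑ H ∈ S, Nat.card ↥(Kst H (B H)) * (Nat.card (B H) * H.index) =
      Nat.card G * ∑ H ∈ S, Nat.card ↥(Kst H (B H)) := by
    rw [Finset.mul_sum, Finset.mul_sum, ← Finset.sum_add_distrib]
    apply Finset.sum_congr rfl
    intro H hH
    rw [(hper H hH).1, mul_comm]
  have h2 : 3 * ∑ H ∈ S, Nat.card ↥(Kst H (B H)) * (Nat.card (B H) * H.index) ≤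
      S.card * Nat.card G := by
    rw [Finset.mul_sum, Finset.card_eq_sum_ones, Finset.sum_mul]
    apply Finset.sum_le_sum
    intro H hH
    rw [one_mul]; exact (hper H hH).2
  have h3 := card_conj_Zc' S B Z hhalf hZ hcover
  have h4 : ∑ H ∈ S, (tildeOf H ((sigmaCore H : Set G) \ {1})).ncard +
      (conjUnion (Zc S B Z)).ncard ≤ Nat.card G :=
    sum_ncard_add_le S (fun H => tildeOf H ((sigmaCore H : Set G) \ {1})) (conjUnion (Zc S B Z))
      (fun H hH H' hH' hne => Set.disjoint_left.mpr (disj3' S B hhalf hdisj h33 hH hH' hne))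
      (fun H hH => Set.disjoint_left.mpr (disj1' S B Z hhalf hZ hcover hH))
  have h5 := card_Z_le S B Z
  exact arith66 _ _ _ _ _ _ _ _ h1 h2 h3 h4 h5 Nat.card_pos

end Cfsg.Agent.Helper14.BG1369
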