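import Mathlib
import Cfsg.Agent.Lib.Helper14.BG1369D

/-!
S1369 (BG Theorem 14.7 (f), (g)): the exact frozen statement, from the frozen statements S1430, S1431,
S1432, S1351 (second half), S1378 (second half), S1377, S1433 as hypotheses.
-/

set_option autoImplicit false

namespace Cfsg.Agent.Helper14.BG1369

open Cfsg Subgroup
open Cfsg.Agent.Helper16.BG147

variable {G : Type*} [Group G] [Finite G]

theorem main69 (hG : IsMinSimpleOddOrder G) (h30 : St1430 G) (h31 : St1431 G) (h32 : St1432 G)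
    (h51 : St1351b G) (h78 : St1378b G) (h77 : St1377 G) (h33 : St1433 G)
    (M : Subgroup G) (hM : IsCoatom M) (K U : Subgroup G) (hKU : Cfsg.IsSigmaDecomposition M K U) (hK1 : K ≠ ⊥) (Mstar : Subgroup G) (hMstar : IsCoatom Mstar)
    (hKst : K = Cfsg.sigmaCore Mstar ⊓ Subgroup.centralizer ((Cfsg.sigmaCore M ⊓ Subgroup.centralizer (K : Set G)) : Set G))
    (hKstH : Cfsg.IsPiHallOf (Cfsg.kappa Mstar) (Cfsg.sigmaCore M ⊓ Subgroup.centralizer (K : Set G)) Mstar) :
    (U ≠ ⊥ ∨ ∀ Ustar : Subgroup G, Cfsg.IsSigmaDecomposition Mstar (Cfsg.sigmaCore M ⊓ Subgroup.centralizer (K : Set G)) Ustar → Ustar ≠ ⊥) ∧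
      ∀ H : Subgroup G, IsCoatom H → (Cfsg.kappa H).Nonempty →
        ∃ g : G, H = M.map (MulAut.conj g).toMonoidHom ∨ H = Mstar.map (MulAut.conj g).toMonoidHom := by
  have c : Ctx M K Mstar :=
    ⟨hG, hM, hMstar, hKU.cyclic, hKU.hall, hK1, hKst, hKstH, h30, h31, h32, h51, h78⟩
  exact ⟨part1 c h77 h33 hKU, fun H hH hκ => part2 c H hH hκ⟩

end Cfsg.Agent.Helper14.BG1369
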