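import Mathlib
import Cfsg.Agent.Lib.Helper7.BG13R
import Cfsg.Agent.Lib.Helper21.BG143B
import Cfsg.Agent.Lib.Helper16.BG147D
import Cfsg.Agent.Lib.Helper23.CyclicAutFix
import Cfsg.Agent.Lib.Helper7.BG121b
import Cfsg.Agent.Lib.Helper4.BG144B

/-!
Towards S1430/S1431 (BG Theorem 14.2): preliminaries for the lemma `X ≤ M*_σ`.
Hypothesis shapes (statement of S1423, THEOREM A) and a Sylow lemma.
-/

set_option autoImplicit false

namespace Cfsg.Agent.Helper14.BG14

open Cfsg Subgroup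
open Cfsg.Agent.Helper10 (IsPiNum)
open Cfsg.Agent.Helper15 (IsSylowIn isSylowIn_of_sylow_le isSylowIn_map_subtype isSylowIn_top
  map_conj_eq_of_mem_normalizer map_conj_map_conj card_map_conj map_conj_one
  map_conj_map_conj_inv map_conj_inv_map_conj isPGroup_map_conj map_conj_mono
  map_conj_eq_self_of_mem exists_isSylowIn_ge exists_isSylowIn isSylowIn_of_not_dvd_relIndex)
open Cfsg.Agent.Helper22.BG13
open Cfsg.Agent.Helper18.BG13P

universe u

variable {G : Type u} [Group G]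

/-- statement of S1423 (BG 13.1) -/
def H1423 (G : Type u) [Group G] : Prop :=
  ∀ (M : Subgroup G) (_ : IsCoatom M) (p : ℕ) [Fact p.Prime] (_ : p ∈ sigma M) (X : Subgroup G)
    (_ : X ≤ M) (_ : Nat.card X = p) (P : Sylow p ↥(sigmaCore M))
    (_ : p ∈ beta M ∨ X ≤ ⁅sigmaCore M, sigmaCore M⁆),
    (centralizer (X : Set G) ≤ M ∧
        ∀ L : Subgroup G, IsCoatom L → centralizer (X : Set G) ≤ L → L = M) ∧
      InUniqueMaximal ((P : Subgroup ↥(sigmaCore M)).map (sigmaCore M).subtype) ∧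
      (P : Subgroup ↥(sigmaCore M)).map (sigmaCore M).subtype ≤ M

/-- THEOREM A (uniqueness form of BG 13.6): for `X ≤ M` of order `p ∈ τ₁(M)` and `Y₀` a subgroup
of prime order of `C_{M_σ}(X)`, `M` is the unique maximal subgroup containing `C_G(Y₀)` -/
def HThmA (G : Type u) [Group G] : Prop :=
  ∀ (M : Subgroup G) (_ : IsCoatom M) (p : ℕ) [Fact p.Prime] (_ : p ∈ tau1 M)
    (X : Subgroup G) (_ : X ≤ M) (_ : Nat.card X = p)
    (Y₀ : Subgroup G) (_ : Y₀ ≤ sigmaCore M ⊓ centralizer (X : Set G)) (_ : (Nat.card Y₀).Prime),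
    centralizer (Y₀ : Set G) ≤ M ∧
      ∀ L : Subgroup G, IsCoatom L → centralizer (Y₀ : Set G) ≤ L → L = M

variable [Finite G]

/-- if `L` has `q`-rank at most one and `q` divides the order of the normal subgroup `N` of `L`,
then `N` contains every subgroup of order `q` of `L` -/
theorem le_of_card_prime_of_dvd_card_normal (hodd : Odd (Nat.card G)) {L N Y₀ : Subgroup G}
    (hNL : N ≤ L) (hLN : L ≤ normalizer (N : Set G)) {q : ℕ} [Fact q.Prime]
    (hr : PRankLE q 1 ↥L) (hqN : q ∣ Nat.card ↥N) (hY₀L : Y₀ ≤ L) (hY₀ : Nat.card ↥Y₀ = q) :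
    Y₀ ≤ N := by
  have hq : q.Prime := Fact.out
  obtain ⟨x, hx⟩ := exists_prime_orderOf_dvd_card' (G := ↥N) q hqN
  set Z : Subgroup G := zpowers (x : G) with hZ
  have hZc : Nat.card ↥Z = q := by
    rw [hZ, Nat.card_zpowers, Subgroup.orderOf_coe, hx]
  have hZN : Z ≤ N := by rw [hZ, zpowers_le]; exact x.2
  have hZq : IsPGroup q ↥Z := IsPGroup.of_card (n := 1) (by rw [hZc, pow_one])
  have hYq : IsPGroup q ↥Y₀ := IsPGroup.of_card (n := 1) (by rw [hY₀, pow_one])
  obtain ⟨T, hZT, hT⟩ := exists_isSylowIn_ge hZq (hZN.trans hNL)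
  obtain ⟨T', hYT', hT'⟩ := exists_isSylowIn_ge hYq hY₀L
  obtain ⟨l, hl, hlT⟩ := hT'.exists_conj hT
  have hYT : Y₀.map (MulAut.conj l).toMonoidHom ≤ T := by
    rw [← hlT]; exact map_conj_mono hYT' l
  have hT1 : Nontrivial ↥T := by
    have hx1 : (x : G) ≠ 1 := by
      intro h
      have : orderOf (x : G) = 1 := by rw [h, orderOf_one]
      rw [Subgroup.orderOf_coe, hx] at this
      exact hq.one_lt.ne' this
    exact ⟨⟨⟨(x : G), hZT (mem_zpowers _)⟩, 1, fun h => hx1 (congrArg Subtype.val h)⟩⟩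
  have hTc : IsCyclic ↥T :=
    Cfsg.Agent.Helper7.BG12.isCyclic_of_pRankLE_one_of_injective hodd hr
      (Subgroup.inclusion hT.le) (Subgroup.inclusion_injective hT.le) hT.isPGroup
  have heq : Y₀.map (MulAut.conj l).toMonoidHom = Z :=
    Cfsg.Agent.Helper23.subgroup_eq_of_card_eq_of_le_cyclic T hTc hYT hZT
      (by rw [card_map_conj, hY₀, hZc])
  intro y hy
  have h1 : l * y * l⁻¹ ∈ N := by
    apply hZN
    rw [← heq]
    exact ⟨y, hy, by simp [MulAut.conj_apply]⟩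
  have h2 := (mem_normalizer_iff.mp (hLN (L.inv_mem hl)) (l * y * l⁻¹)).mp h1
  have h3 : l⁻¹ * (l * y * l⁻¹) * l⁻¹⁻¹ = y := by group
  rwa [h3] at h2

end Cfsg.Agent.Helper14.BG14
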