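import Mathlib
import Cfsg.Agent.Lib.Helper14.BG14G2a
import Cfsg.Agent.Lib.Helper1.CoprimeSylow
import Cfsg.Agent.Lib.Helper22.BG13F

/-!
Towards S1430/S1431 (BG Theorem 14.2): LEMMA G2.  `M` maximal, `X ≤ M` of prime order `p ∉ σ(M)`
with `M` of `p`-rank one, `Y₀ ≤ C_{M_σ}(X)` of prime order such that `M` is the unique maximal
subgroup containing `C_G(Y₀)`, `H` a maximal subgroup containing `N_G(X)`.  Then `p ∈ σ(H)`.
-/

set_option autoImplicit false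

namespace Cfsg.Agent.Helper14.BG14

open Cfsg Subgroup
open Cfsg.Agent.Helper14.BGTrans Cfsg.Agent.Helper14.BGUniq
open Cfsg.Agent.Helper10 (IsPiNum)
open Cfsg.Agent.Helper15 (IsSylowIn isSylowIn_of_sylow_le isSylowIn_map_subtype isSylowIn_top
  map_conj_eq_of_mem_normalizer map_conj_map_conj card_map_conj map_conj_one
  map_conj_map_conj_inv map_conj_inv_map_conj isPGroup_map_conj map_conj_mono
  map_conj_eq_self_of_mem exists_isSylowIn_ge exists_isSylowIn isSylowIn_of_not_dvd_relIndex)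
open Cfsg.Agent.Helper22.BG13
open Cfsg.Agent.Helper18.BG13P
open Cfsg.Agent.Helper16.BG147 (St1378b)

universe u

variable {G : Type u} [Group G] [Finite G]

/-- the case `q ∈ τ₃(L)`, `p ∉ β(L)`: a Sylow `p`-subgroup of `L_σ` centralizes `Y₀` -/
theorem exists_sylow_le_centralizer (hG : IsMinSimpleOddOrder G) (h1404 : Hyp1404 G)
    (h1350 : Hyp1350 G) (h1414 : Hyp1414 G) {L : Subgroup G} (hL : IsCoatom L)
    {p q : ℕ} [Fact p.Prime] [Fact q.Prime] (hpq : p ≠ q) (hpL : p ∈ sigma L) (hpβ : p ∉ beta L)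
    (hqL : q ∉ sigma L) {Y₀ : Subgroup G} (hY₀ : Nat.card ↥Y₀ = q) (hY₀L' : Y₀ ≤ ⁅L, L⁆) :
    ∃ S : Subgroup G, IsSylowIn p S (sigmaCore L) ∧ S ≤ centralizer (Y₀ : Set G) := by
  have hp : p.Prime := Fact.out
  have hq : q.Prime := Fact.out
  have hL'L : ⁅L, L⁆ ≤ L := commutator_self_le L
  have hY₀L : Y₀ ≤ L := hY₀L'.trans hL'L
  have hLσ : Y₀ ≤ normalizer ((sigmaCore L : Subgroup G) : Set G) :=
    hY₀L.trans (le_normalizer_sigmaCore L)
  have hcop : (Nat.card ↥Y₀).Coprime (Nat.card ↥(sigmaCore L)) := by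
    rw [hY₀]
    exact (Nat.Prime.coprime_iff_not_dvd hq).mpr (not_dvd_card_sigmaCore hq hqL)
  have hsolvL : Group.IsSolvable ↥L := isSolvable_of_ne_top hG hL.1
  have hsolvσ : Group.IsSolvable ↥(sigmaCore L) :=
    Group.isSolvable_of_isSolvable_injective (f := Subgroup.inclusion (sigmaCore_le L))
      (Subgroup.inclusion_injective _)
  obtain ⟨P, hP⟩ := Cfsg.Agent.Helper1.exists_invariant_sylow (p := p) Y₀ hLσ hcop (Or.inr hsolvσ)
  set S := (P : Subgroup ↥(sigmaCore L)).map (sigmaCore L).subtype with hS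
  have hSs : IsSylowIn p S (sigmaCore L) := isSylowIn_map_subtype P
  refine ⟨S, hSs, ?_⟩
  -- the normal `p`-complement of `L'`
  obtain ⟨-, -, -, -, h5⟩ := h1414 L hL
  obtain ⟨hcompl, -, -⟩ := h5 p hp hpL.2.1 hpβ
  obtain ⟨N, hNn, hNp, hNall⟩ := exists_normal_of_hasNormalPComplement hcompl
  have hSL' : S ≤ ⁅L, L⁆ := hSs.le.trans (sigmaCore_le_commutator hG h1404 h1350 hL)
  -- the commutator computation
  intro s hs
  rw [mem_centralizer_iff]
  intro y hy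
  have hyL' : y ∈ ⁅L, L⁆ := hY₀L' hy
  have hsL' : s ∈ ⁅L, L⁆ := hSL' hs
  set y' : ↥⁅L, L⁆ := ⟨y, hyL'⟩ with hy'
  set s' : ↥⁅L, L⁆ := ⟨s, hsL'⟩ with hs'
  have hyN : y' ∈ N := by
    apply hNall
    have h1 : orderOf y' = orderOf y := by rw [hy', Subgroup.orderOf_mk]
    have h2 : orderOf y ∣ q := by
      have := orderOf_dvd_natCard (⟨y, hy⟩ : ↥Y₀)
      rwa [Subgroup.orderOf_mk, hY₀] at this
    rw [h1]
    exact Nat.Coprime.coprime_dvd_left h2
      ((Nat.coprime_primes hq hp).mpr (Ne.symm hpq))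
  -- `c = s y s⁻¹ y⁻¹` lies in `S` and in `N`
  have hcN : s' * y' * s'⁻¹ * y'⁻¹ ∈ N := N.mul_mem (hNn.conj_mem y' hyN s') (N.inv_mem hyN)
  have hcS : s * y * s⁻¹ * y⁻¹ ∈ S := by
    have h1 : y * s⁻¹ * y⁻¹ ∈ S := (mem_normalizer_iff.mp (hP hy) s⁻¹).mp (S.inv_mem hs)
    have h2 : s * y * s⁻¹ * y⁻¹ = s * (y * s⁻¹ * y⁻¹) := by group
    rw [h2]; exact S.mul_mem hs h1
  have hcop2 : (Nat.card ↥(S.subgroupOf ⁅L, L⁆)).Coprime (Nat.card ↥N) := by
    rw [Nat.card_congr (Subgroup.subgroupOfEquivOfLe hSL').toEquiv]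
    obtain ⟨k, hk⟩ := hSs.isPGroup.exists_card_eq
    rw [hk]
    exact (Nat.Coprime.pow_right k hNp).symm
  have hbot := (Subgroup.disjoint_of_coprime_natCard hcop2).eq_bot
  have hmem : s' * y' * s'⁻¹ * y'⁻¹ ∈ S.subgroupOf ⁅L, L⁆ ⊓ N := by
    refine Subgroup.mem_inf.mpr ⟨?_, hcN⟩
    rw [Subgroup.mem_subgroupOf]
    exact hcS
  rw [hbot, Subgroup.mem_bot] at hmem
  have h3 : s * y * s⁻¹ * y⁻¹ = 1 := congrArg Subtype.val hmem
  calc y * s = (s * y * s⁻¹ * y⁻¹)⁻¹ * (s * y) := by group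
    _ = s * y := by rw [h3]; group

end Cfsg.Agent.Helper14.BG14
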