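import Mathlib
import Cfsg.Agent.Lib.Helper14.BG14G2b

/-!
Towards S1430/S1431 (BG Theorem 14.2): LEMMA G2.  `M` maximal, `X ≤ M` of prime order `p ∉ σ(M)`
with `M` of `p`-rank one, `Y₀ ≤ C_{M_σ}(X)` of prime order such that `M` is the unique maximal
subgroup containing `C_G(Y₀)`, `H` a maximal subgroup containing `N_G(X)`.  Then `p ∈ σ(H)`.
-/

set_option autoImplicit false

namespace Cfsg.Agent.Helper14.BG14

open Cfsg Subgroup
open Cfsg.Agent.Helper14.BGTrans Cfsg.Agent.Helper14.BGUniq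
open Cfsg.Agent.Helper10 (IsPiNum)
open Cfsg.Agent.Helper15 (IsSylowIn isSylowIn_of_sylow_le isSylowIn_map_subtype isSylowIn_top
  map_conj_eq_of_mem_normalizer map_conj_map_conj card_map_conj map_conj_one
  map_conj_map_conj_inv map_conj_inv_map_conj isPGroup_map_conj map_conj_mono
  map_conj_eq_self_of_mem exists_isSylowIn_ge exists_isSylowIn isSylowIn_of_not_dvd_relIndex)
open Cfsg.Agent.Helper22.BG13
open Cfsg.Agent.Helper18.BG13P
open Cfsg.Agent.Helper16.BG147 (St1378b)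

universe u

variable {G : Type u} [Group G] [Finite G]

/-- **LEMMA G2** -/
theorem mem_sigma_of_normalizer_le (hG : IsMinSimpleOddOrder G) (h1403 : Hyp1403 G)
    (h1404 : Hyp1404 G) (h1350 : Hyp1350 G) (h1414 : Hyp1414 G) (h1418 : Hyp1418 G)
    (h1409 : H1409 G) (h1423 : H1423 G) (h78 : St1378b G) (hA : HThmA G)
    {M H : Subgroup G} (hM : IsCoatom M) (hH : IsCoatom H)
    {p : ℕ} [Fact p.Prime] (hpM : p ∉ sigma M) (hr1 : PRankLE p 1 ↥M)
    {X : Subgroup G} (hX : Nat.card ↥X = p) (hNH : normalizer (X : Set G) ≤ H)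
    {Y₀ : Subgroup G} (hY₀ : Y₀ ≤ sigmaCore M ⊓ centralizer (X : Set G))
    (hY₀c : (Nat.card ↥Y₀).Prime)
    (huniq : centralizer (Y₀ : Set G) ≤ M ∧
      ∀ L : Subgroup G, IsCoatom L → centralizer (Y₀ : Set G) ≤ L → L = M) :
    p ∈ sigma H := by
  have hp : p.Prime := Fact.out
  by_contra hpH
  obtain ⟨⟨hr2H, hr1H⟩, -, -⟩ := h1409 H hH p hpH X hX hNH
  have hτ : p ∈ tau2 H := ⟨hp, hpH, hr2H, hr1H⟩
  have hconj : ∀ g : G, H ≠ M.map (MulAut.conj g).toMonoidHom := by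
    intro g hg
    apply hr1H
    rw [hg]
    exact pRankLE_map_conj hr1 g
  obtain ⟨q, hqdef⟩ : ∃ q, Nat.card ↥Y₀ = q := ⟨_, rfl⟩
  have hq : q.Prime := hqdef ▸ hY₀c
  haveI : Fact q.Prime := ⟨hq⟩
  have hY₀σ : Y₀ ≤ sigmaCore M := hY₀.trans inf_le_left
  have hY₀X : Y₀ ≤ centralizer (X : Set G) := hY₀.trans inf_le_right
  have hXY₀ : X ≤ centralizer (Y₀ : Set G) := Subgroup.le_centralizer_iff.mp hY₀X
  have hqM : q ∈ sigma M :=
    isPiNum_card_sigmaCore M q hq (hqdef ▸ Subgroup.card_dvd_of_le hY₀σ)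
  have hqH : q ∉ sigma H := by
    intro h
    obtain ⟨g, hg⟩ := h78 M H hM hH ⟨q, hqM, h⟩
    exact hconj g hg
  have hpq : p ≠ q := fun h => hpM (h ▸ hqM)
  have hXH : X ≤ H := Subgroup.le_normalizer.trans hNH
  have hCXH : centralizer (X : Set G) ≤ H := (Subgroup.centralizer_le_normalizer _).trans hNH
  have hY₀H : Y₀ ≤ H := hY₀X.trans hCXH
  have hXp : IsPGroup p ↥X := IsPGroup.of_card (n := 1) (by rw [hX, pow_one])
  have hYq : IsPGroup q ↥Y₀ := IsPGroup.of_card (n := 1) (by rw [hqdef, pow_one])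
  have hX1 : X ≠ ⊥ := card_prime_ne_bot hX
  -- a complement `E` of `H_σ` in `H` containing `X Y₀`
  have hpHσ : ¬ p ∣ Nat.card ↥(sigmaCore H) := not_dvd_card_sigmaCore hp hpH
  have hqHσ : ¬ q ∣ Nat.card ↥(sigmaCore H) := not_dvd_card_sigmaCore hq hqH
  have hY₀N : Y₀ ≤ normalizer (X : Set G) := hY₀X.trans (Subgroup.centralizer_le_normalizer _)
  have hYcard : (Nat.card ↥(X ⊔ Y₀ : Subgroup G)).Coprime (Nat.card ↥(sigmaCore H)) :=
    Nat.Coprime.coprime_dvd_left (Cfsg.Agent.Helper7.card_sup_dvd_mul_of_le_normalizer hY₀N)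
      (Nat.Coprime.mul_left (by rw [hX]; exact (Nat.Prime.coprime_iff_not_dvd hp).mpr hpHσ)
        (by rw [hqdef]; exact (Nat.Prime.coprime_iff_not_dvd hq).mpr hqHσ))
  have hsolvH : Group.IsSolvable ↥H := isSolvable_of_ne_top hG hH.1
  obtain ⟨hHhall, -, -⟩ := h1350 H hH
  obtain ⟨E, hE, hYE⟩ := exists_isComplIn_ge hsolvH (sigmaCore_le H)
    (coprime_of_isPiHallOf hHhall) (sup_le hXH hY₀H) hYcard
  have hXE : X ≤ E := le_sup_left.trans hYE
  have hY₀E : Y₀ ≤ E := le_sup_right.trans hYE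
  obtain ⟨A, hAE, hAe, hAc⟩ :=
    Cfsg.Agent.Helper21.BG143.exists_elemAb_sq_le_compl hG h1350 hH hE hτ
  obtain ⟨⟨hEA, hXA'⟩, ⟨-, -, hNA⟩, -⟩ := h1418 H hH E hE p hτ A ⟨hAE, hAe, hAc⟩
  have hXA : X ≤ A := hXA' X hXE hX
  have hA1 : A ≠ ⊥ := fun h => hX1 (le_bot_iff.mp (h ▸ hXA))
  have hAtop : A ≠ ⊤ := fun h => hH.1 (top_le_iff.mp (h ▸ hAE.trans hE.1))
  -- the maximal subgroup `L` over `N_G(A)`
  obtain ⟨L, hL, hNL⟩ :=
    exists_isCoatom_ge (Cfsg.Agent.Helper4.BG144.normalizer_ne_top' hG hA1 hAtop)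
  have hLH : L ≠ H := fun h => hNA (h ▸ hNL)
  have hEL : E ≤ L := hEA.trans hNL
  have hAL : A ≤ L := Subgroup.le_normalizer.trans hNL
  have hpp2 : p ^ 1 < p ^ 2 := by
    have := hp.one_lt
    nlinarith
  have hr1L : ¬ PRankLE p 1 ↥L := not_pRankLE_of_le hAL hAe (by rw [hAc]; exact hpp2)
  have hsolvL : Group.IsSolvable ↥L := isSolvable_of_ne_top hG hL.1
  obtain ⟨hLhall, -, -⟩ := h1350 L hL
  -- `p ∈ σ(L)`
  have hpL : p ∈ sigma L := by
    by_contra hpL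
    have hr2L : PRankLE p 2 ↥L := by
      by_contra h
      exact hpL (Cfsg.Agent.Helper23.BG10.alpha_subset_sigma hG h1403 hL ⟨hp, h⟩)
    have hτL : p ∈ tau2 L := ⟨hp, hpL, hr2L, hr1L⟩
    have hAcop : (Nat.card ↥A).Coprime (Nat.card ↥(sigmaCore L)) := by
      rw [hAc]
      exact Nat.Coprime.pow_left 2
        ((Nat.Prime.coprime_iff_not_dvd hp).mpr (not_dvd_card_sigmaCore hp hpL))
    obtain ⟨E', hE', hAE'⟩ := exists_isComplIn_ge hsolvL (sigmaCore_le L)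
      (coprime_of_isPiHallOf hLhall) hAL hAcop
    exact (h1418 L hL E' hE' p hτL A ⟨hAE', hAe, hAc⟩).2.1.2.2 hNL
  have hXL : X ≤ L := hXA.trans hAL
  have hXLσ : X ≤ sigmaCore L :=
    le_sigmaCore_of_isPiNum h1350 hL hXL (isPiNum_of_isPGroup hpL hXp)
  have hY₀L : Y₀ ≤ L := hY₀E.trans hEL
  have hqL : q ∉ sigma L := by
    intro h
    obtain ⟨g, hg⟩ := h78 M L hM hL ⟨q, hqM, h⟩
    rw [hg] at hpL
    exact hpM (mem_sigma_of_map_conj hpL)
  have hCσ : sigmaCore L ⊓ centralizer (Y₀ : Set G) ≠ ⊥ := by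
    intro h
    apply hX1
    rw [eq_bot_iff, ← h]
    exact le_inf hXLσ hXY₀
  have hr2qL : PRankLE q 2 ↥L := by
    by_contra h
    exact hqL (Cfsg.Agent.Helper23.BG10.alpha_subset_sigma hG h1403 hL ⟨hq, h⟩)
  have hqdL : q ∣ Nat.card ↥L := hqdef ▸ Subgroup.card_dvd_of_le hY₀L
  by_cases hr1qL : PRankLE q 1 ↥L
  · by_cases hqL' : q ∣ Nat.card ↥⁅L, L⁆
    · -- `q ∈ τ₃(L)`
      have hY₀L' : Y₀ ≤ ⁅L, L⁆ :=
        le_of_card_prime_of_dvd_card_normal hG.1 (commutator_self_le L)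
          (Cfsg.Agent.Helper7.BG12.le_normalizer_commutator_self L) hr1qL hqL' hY₀L hqdef
      by_cases hβ : p ∈ beta L
      · have h1 := (h1423 L hL p hpL X hXL hX default (Or.inl hβ)).1.2 H hH hCXH
        exact hLH h1.symm
      · obtain ⟨S, hS, hSC⟩ := exists_sylow_le_centralizer hG h1404 h1350 h1414 hL hpq hpL hβ
          hqL hqdef hY₀L'
        have hSM : S ≤ M := hSC.trans huniq.1
        have hALσ : A ≤ sigmaCore L :=
          le_sigmaCore_of_isPiNum h1350 hL hAL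
            (isPiNum_of_isPGroup hpL (isPGroup_of_isElementaryAbelian hAe))
        obtain ⟨T, hAT, hT⟩ := exists_isSylowIn_ge (isPGroup_of_isElementaryAbelian hAe) hALσ
        obtain ⟨k, -, hk⟩ := hT.exists_conj hS
        have hAk : A.map (MulAut.conj k).toMonoidHom ≤ M := by
          refine le_trans ?_ hSM
          rw [← hk]
          exact map_conj_mono hAT k
        exact not_pRankLE_of_le hAk (isElementaryAbelian_map_conj hAe k)
          (by rw [card_map_conj, hAc]; exact hpp2) hr1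
    · -- `q ∈ τ₁(L)`
      have hτ1 : q ∈ tau1 L := ⟨hq, hqL, hqdL, hqL', hr1qL⟩
      obtain ⟨-, huL⟩ := hA L hL q hτ1 Y₀ hY₀L hqdef X (le_inf hXLσ hXY₀) (by rw [hX]; exact hp)
      exact hLH (huL H hH hCXH).symm
  · -- `q ∈ τ₂(L)`
    have hτ2 : q ∈ tau2 L := ⟨hq, hqL, hr2qL, hr1qL⟩
    have hYcop : (Nat.card ↥Y₀).Coprime (Nat.card ↥(sigmaCore L)) := by
      rw [hqdef]
      exact (Nat.Prime.coprime_iff_not_dvd hq).mpr (not_dvd_card_sigmaCore hq hqL)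
    obtain ⟨E', hE', hYE'⟩ := exists_isComplIn_ge hsolvL (sigmaCore_le L)
      (coprime_of_isPiHallOf hLhall) hY₀L hYcop
    obtain ⟨B, hBE, hBe, hBc⟩ :=
      Cfsg.Agent.Helper21.BG143.exists_elemAb_sq_le_compl hG h1350 hL hE' hτ2
    obtain ⟨⟨-, hYB'⟩, -, h3⟩ := h1418 L hL E' hE' q hτ2 B ⟨hBE, hBe, hBc⟩
    have hYB : Y₀ ≤ B := hYB' Y₀ hYE' hqdef
    obtain ⟨hCL, -⟩ := h3 Y₀ hYB hqdef hCσ
    have hLM : L = M := huniq.2 L hL hCL
    rw [hLM] at hpL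
    exact hpM hpL

end Cfsg.Agent.Helper14.BG14
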