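import Mathlib
import Cfsg.Agent.Lib.Helper14.BG14G2c

/-!
Towards S1430/S1431 (BG Theorem 14.2): the last clause of 14.2(b), `X ≤ M*_σ`, for subgroups `X`
of prime order `p ∈ τ₁(M) ∪ τ₃(M)` centralizing a non-identity element of `M_σ`.
-/

set_option autoImplicit false

namespace Cfsg.Agent.Helper14.BG14

open Cfsg Subgroup
open Cfsg.Agent.Helper14.BGTrans Cfsg.Agent.Helper14.BGUniq
open Cfsg.Agent.Helper10 (IsPiNum)
open Cfsg.Agent.Helper15 (IsSylowIn isSylowIn_of_sylow_le isSylowIn_map_subtype isSylowIn_top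
  map_conj_eq_of_mem_normalizer map_conj_map_conj card_map_conj map_conj_one
  map_conj_map_conj_inv map_conj_inv_map_conj isPGroup_map_conj map_conj_mono
  map_conj_eq_self_of_mem exists_isSylowIn_ge exists_isSylowIn isSylowIn_of_not_dvd_relIndex)
open Cfsg.Agent.Helper22.BG13
open Cfsg.Agent.Helper18.BG13P
open Cfsg.Agent.Helper7.BG13R (H1408 strong_propA)
open Cfsg.Agent.Helper16.BG147 (St1378b)

universe u

variable {G : Type u} [Group G] [Finite G]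

/-- a non-trivial subgroup has a subgroup of prime order -/
theorem exists_le_card_prime {D : Subgroup G} (hD : D ≠ ⊥) :
    ∃ Y₀ : Subgroup G, Y₀ ≤ D ∧ (Nat.card ↥Y₀).Prime := by
  have hne : Nat.card ↥D ≠ 1 := fun h => hD (Subgroup.card_eq_one.mp h)
  obtain ⟨q, hq, hqd⟩ := Nat.exists_prime_and_dvd hne
  haveI : Fact q.Prime := ⟨hq⟩
  obtain ⟨x, hx⟩ := exists_prime_orderOf_dvd_card' (G := ↥D) q hqd
  refine ⟨zpowers (x : G), ?_, ?_⟩
  · rw [zpowers_le]; exact x.2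
  · rw [Nat.card_zpowers, Subgroup.orderOf_coe, hx]; exact hq

/-- subgroups of prime order `p ∈ τ₃(M)` of a complement `E` are normal in `E` -/
theorem le_normalizer_of_mem_tau3 (hG : IsMinSimpleOddOrder G) (h1415 : H1415 G)
    {M E : Subgroup G} (hM : IsCoatom M) (hE : IsComplIn E (sigmaCore M) M)
    {p : ℕ} (hp3 : p ∈ tau3 M) {X : Subgroup G} (hXE : X ≤ E) (hX : Nat.card ↥X = p) :
    E ≤ normalizer (X : Set G) := by
  have hp : p.Prime := hp3.1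
  have hsolvE : Group.IsSolvable ↥E := isSolvable_of_ne_top hG
    (fun h => hM.1 (top_le_iff.mp (h ▸ hE.1)))
  obtain ⟨E₃, hXE₃, hE₃⟩ := Cfsg.Agent.Helper4.BGSig.exists_isPiHallOf_ge hsolvE (tau3 M) hXE
    (by
      intro r hr hrd
      rw [hX] at hrd
      rw [(Nat.prime_dvd_prime_iff_eq hr hp).mp hrd]
      exact hp3)
  obtain ⟨hcyc, -, hnorm⟩ := (h1415 M hM E hE).2.2 E₃ hE₃
  exact hnorm.trans (normalizer_le_normalizer_of_le_cyclic hcyc hXE₃)

/-- **[G2] for `τ₁`** -/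
theorem mem_sigma_of_mem_tau1 (hG : IsMinSimpleOddOrder G) (h1403 : Hyp1403 G)
    (h1404 : Hyp1404 G) (h1350 : Hyp1350 G) (h1414 : Hyp1414 G) (h1418 : Hyp1418 G)
    (h1409 : H1409 G) (h1423 : H1423 G) (h78 : St1378b G) (hA : HThmA G)
    {M H : Subgroup G} (hM : IsCoatom M) (hH : IsCoatom H)
    {p : ℕ} [Fact p.Prime] (hp1 : p ∈ tau1 M)
    {X : Subgroup G} (hXM : X ≤ M) (hX : Nat.card ↥X = p)
    (hD : sigmaCore M ⊓ centralizer (X : Set G) ≠ ⊥)
    (hNH : normalizer (X : Set G) ≤ H) : p ∈ sigma H := by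
  obtain ⟨Y₀, hY₀, hY₀c⟩ := exists_le_card_prime hD
  exact mem_sigma_of_normalizer_le hG h1403 h1404 h1350 h1414 h1418 h1409 h1423 h78 hA hM hH
    hp1.2.1 hp1.2.2.2.2 hX hNH hY₀ hY₀c (hA M hM p hp1 X hXM hX Y₀ hY₀ hY₀c)

/-- **[G2] for `τ₃`** -/
theorem mem_sigma_of_mem_tau3 (hG : IsMinSimpleOddOrder G) (h1403 : Hyp1403 G)
    (h1404 : Hyp1404 G) (h1413 : Hyp1413 G) (h1416 : Hyp1416 G) (h1350 : Hyp1350 G)
    (h1414 : Hyp1414 G) (h1417 : Hyp1417 G) (h1418 : Hyp1418 G) (h1415 : H1415 G)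
    (h1408 : H1408 G) (h1409 : H1409 G) (h1423 : H1423 G) (h78 : St1378b G) (hA : HThmA G)
    {M H E : Subgroup G} (hM : IsCoatom M) (hH : IsCoatom H)
    (hE : IsComplIn E (sigmaCore M) M)
    {p : ℕ} [Fact p.Prime] (hp3 : p ∈ tau3 M)
    {X : Subgroup G} (hXE : X ≤ E) (hX : Nat.card ↥X = p)
    (hD : sigmaCore M ⊓ centralizer (X : Set G) ≠ ⊥)
    (hNH : normalizer (X : Set G) ≤ H) : p ∈ sigma H := by
  have hp : p.Prime := Fact.out
  by_contra hpH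
  have hpM : p ∉ sigma M := hp3.2.1
  have hr1 : PRankLE p 1 ↥M := hp3.2.2.2
  obtain ⟨⟨hr2H, hr1H⟩, -, -⟩ := h1409 H hH p hpH X hX hNH
  have hτ : p ∈ tau2 H := ⟨hp, hpH, hr2H, hr1H⟩
  have hconj : ∀ g : G, H ≠ M.map (MulAut.conj g).toMonoidHom := by
    intro g hg
    apply hr1H
    rw [hg]
    exact pRankLE_map_conj hr1 g
  have hXp : IsPGroup p ↥X := IsPGroup.of_card (n := 1) (by rw [hX, pow_one])
  have hX1 : X ≠ ⊥ := card_prime_ne_bot hX
  have hXM : X ≤ M := hXE.trans hE.1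
  have hXH : X ≤ H := Subgroup.le_normalizer.trans hNH
  have hEX : E ≤ normalizer (X : Set G) := le_normalizer_of_mem_tau3 hG h1415 hM hE hp3 hXE hX
  have hEH : E ≤ H := hEX.trans hNH
  have hsp := strong_propA hG h1403 h1404 h1413 h1416 h1350 h1414 h1417 h1418 h1415 h1408
    hM hH hconj hpM hτ hXp hX1 hXM hXH
  rw [Subgroup.commutator_eq_bot_iff_le_centralizer] at hsp
  -- `D ≤ C_{M_σ}(E) ≤ (M_σ)'`
  set D := sigmaCore M ⊓ centralizer (X : Set G) with hDdef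
  have hDH : D ≤ H := inf_le_right.trans ((Subgroup.centralizer_le_normalizer _).trans hNH)
  have hDE : D ≤ centralizer (E : Set G) :=
    (le_inf inf_le_left hDH).trans (hsp.trans (Subgroup.centralizer_le (le_inf hE.1 hEH)))
  have hDσ' : D ≤ ⁅sigmaCore M, sigmaCore M⁆ :=
    (le_inf inf_le_left hDE).trans (sigmaCore_compl_action hG h1404 h1350 hM hE).1
  obtain ⟨Y₀, hY₀, hY₀c⟩ := exists_le_card_prime hD
  obtain ⟨q, hqdef⟩ : ∃ q, Nat.card ↥Y₀ = q := ⟨_, rfl⟩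
  have hq : q.Prime := hqdef ▸ hY₀c
  haveI : Fact q.Prime := ⟨hq⟩
  have hY₀σ : Y₀ ≤ sigmaCore M := hY₀.trans inf_le_left
  have hqM : q ∈ sigma M :=
    isPiNum_card_sigmaCore M q hq (hqdef ▸ Subgroup.card_dvd_of_le hY₀σ)
  have hu := (h1423 M hM q hqM Y₀ (hY₀σ.trans (sigmaCore_le M)) hqdef default
    (Or.inr (hY₀.trans hDσ'))).1
  exact hpH (mem_sigma_of_normalizer_le hG h1403 h1404 h1350 h1414 h1418 h1409 h1423 h78 hA hM hH
    hpM hr1 hX hNH hY₀ hY₀c hu)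

end Cfsg.Agent.Helper14.BG14
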