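import Mathlib
import Cfsg.Agent.Lib.Helper14.BG14G2d
import Cfsg.Agent.Lib.Helper4.BGSigH

/-!
Towards S1430/S1431 (BG Theorem 14.2), WORLD I (no subgroup of order `p ∈ τ₃(M)` centralizes a
non-identity element of `M_σ`): `κ(M) = τ₁(M)`, `K` is a cyclic Hall `τ₁(M)`-subgroup of `E`,
and `K` acts on `M_σ` in a prime manner.
-/

set_option autoImplicit false

namespace Cfsg.Agent.Helper14.BG14

open Cfsg Subgroup
open Cfsg.Agent.Helper14.BGTrans Cfsg.Agent.Helper14.BGUniq
open Cfsg.Agent.Helper10 (IsPiNum)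
open Cfsg.Agent.Helper15 (IsSylowIn isSylowIn_of_sylow_le isSylowIn_map_subtype isSylowIn_top
  map_conj_eq_of_mem_normalizer map_conj_map_conj card_map_conj map_conj_one
  map_conj_map_conj_inv map_conj_inv_map_conj isPGroup_map_conj map_conj_mono
  map_conj_eq_self_of_mem exists_isSylowIn_ge exists_isSylowIn isSylowIn_of_not_dvd_relIndex)
open Cfsg.Agent.Helper22.BG13
open Cfsg.Agent.Helper18.BG13P
open Cfsg.Agent.Helper4.BGSig (H1427 H1428)

universe u

variable {G : Type u} [Group G] [Finite G]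

/-- Cauchy inside a subgroup -/
theorem exists_le_card_eq {D : Subgroup G} {p : ℕ} [Fact p.Prime] (hpd : p ∣ Nat.card ↥D) :
    ∃ X : Subgroup G, X ≤ D ∧ Nat.card ↥X = p := by
  obtain ⟨x, hx⟩ := exists_prime_orderOf_dvd_card' (G := ↥D) p hpd
  refine ⟨zpowers (x : G), ?_, ?_⟩
  · rw [zpowers_le]; exact x.2
  · rw [Nat.card_zpowers, Subgroup.orderOf_coe, hx]

/-- a prime dividing `|M|` outside `σ(M)` divides the order of a complement of `M_σ` -/
theorem dvd_card_compl {M E : Subgroup G} (hE : IsComplIn E (sigmaCore M) M) {p : ℕ}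
    (hp : p.Prime) (hpM : p ∉ sigma M) (hpd : p ∣ Nat.card ↥M) : p ∣ Nat.card ↥E := by
  have h1 := Cfsg.Agent.Helper4.BG144.complIn_card_mul hE
  rw [← h1] at hpd
  rcases (Nat.Prime.dvd_mul hp).mp hpd with h | h
  · exact h
  · exact absurd h (not_dvd_card_sigmaCore hp hpM)

/-- the centralizer in `M_σ` of a generator -/
theorem centralizer_zpowers_eq (x : G) :
    centralizer ((zpowers x : Subgroup G) : Set G) = centralizer ({x} : Set G) := by
  apply le_antisymm
  · apply Subgroup.centralizer_le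
    intro y hy
    rw [Set.mem_singleton_iff] at hy
    rw [hy]; exact mem_zpowers x
  · intro g hg
    rw [mem_centralizer_iff] at hg ⊢
    intro y hy
    obtain ⟨k, rfl⟩ := mem_zpowers_iff.mp hy
    have h1 : Commute x g := hg x rfl
    exact (h1.zpow_left k).eq

end Cfsg.Agent.Helper14.BG14
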