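import Mathlib
import Cfsg.Agent.Lib.Helper14.BG14W1a

/-!
Towards S1430/S1431 (BG Theorem 14.2), WORLD I, part (a): `κ(M) = τ₁(M)`, `K` is a cyclic Hall
`τ₁(M)`-subgroup of `E`, and `K` acts on `M_σ` in a prime manner.
-/

set_option autoImplicit false

namespace Cfsg.Agent.Helper14.BG14

open Cfsg Subgroup
open Cfsg.Agent.Helper14.BGTrans Cfsg.Agent.Helper14.BGUniq
open Cfsg.Agent.Helper10 (IsPiNum)
open Cfsg.Agent.Helper15 (IsSylowIn isSylowIn_of_sylow_le isSylowIn_map_subtype isSylowIn_top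
  map_conj_eq_of_mem_normalizer map_conj_map_conj card_map_conj map_conj_one
  map_conj_map_conj_inv map_conj_inv_map_conj isPGroup_map_conj map_conj_mono
  map_conj_eq_self_of_mem exists_isSylowIn_ge exists_isSylowIn isSylowIn_of_not_dvd_relIndex)
open Cfsg.Agent.Helper22.BG13
open Cfsg.Agent.Helper18.BG13P
open Cfsg.Agent.Helper4.BGSig (H1427 H1428)

universe u

variable {G : Type u} [Group G] [Finite G]

/-- the world-I hypothesis -/
def WorldI (M : Subgroup G) : Prop :=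
  ∀ p ∈ tau3 M, ∀ X : Subgroup G, X ≤ M → Nat.card ↥X = p →
    sigmaCore M ⊓ centralizer (X : Set G) = ⊥

/-- `κ(M) ⊆ τ₁(M) ∪ τ₃(M)` -/
def KappaSub (M : Subgroup G) : Prop := ∀ p ∈ kappa M, p ∈ tau1 M ∨ p ∈ tau3 M

/-- for `p ∈ τ₁(M) ∪ τ₃(M)` and `X ≤ E` of order `p`: `p ∈ κ(M)` iff `C_{M_σ}(X) ≠ 1` -/
def KappaIff (M E : Subgroup G) : Prop :=
  ∀ p : ℕ, (p ∈ tau1 M ∨ p ∈ tau3 M) → ∀ X : Subgroup G, X ≤ E → Nat.card ↥X = p →
    (p ∈ kappa M ↔ sigmaCore M ⊓ centralizer (X : Set G) ≠ ⊥)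

/-- **WORLD I, part (a)** -/
theorem worldI_a (hG : IsMinSimpleOddOrder G) (h1415 : H1415 G)
    (h1427 : H1427 G) (h1428 : H1428 G)
    {M E K : Subgroup G} (hM : IsCoatom M) (hE : IsComplIn E (sigmaCore M) M)
    (hK : IsPiHallOf (kappa M) K M) (hK1 : K ≠ ⊥) (hKE : K ≤ E)
    (hI : WorldI M) (hκs : KappaSub M) (hκi : KappaIff M E) :
    (∀ p, p ∈ kappa M ↔ p ∈ tau1 M) ∧ IsPiHallOf (tau1 M) K E ∧ IsCyclic ↥K ∧
      (∀ k ∈ K, k ≠ 1 → sigmaCore M ⊓ centralizer ({k} : Set G) =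
        sigmaCore M ⊓ centralizer (K : Set G)) ∧
      sigmaCore M ⊓ centralizer (K : Set G) ≠ ⊥ := by
  have hEM : E ≤ M := hE.1
  have hsolvE : Group.IsSolvable ↥E := isSolvable_of_ne_top hG
    (fun h => hM.1 (top_le_iff.mp (h ▸ hEM)))
  -- `κ ⊆ τ₁`
  have hκτ : ∀ p ∈ kappa M, p ∈ tau1 M := by
    intro p hpκ
    rcases hκs p hpκ with h | h
    · exact h
    · exfalso
      haveI : Fact p.Prime := ⟨hpκ.1⟩
      obtain ⟨X, hXE, hX⟩ := exists_le_card_eq (dvd_card_compl hE hpκ.1 hpκ.2.2.1 hpκ.2.1)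
      exact ((hκi p (Or.inr h) X hXE hX).mp hpκ) (hI p h X (hXE.trans hEM) hX)
  -- a Hall `τ₁`-subgroup `E₁ ≥ K` of `E`, cyclic
  obtain ⟨E₁, hKE₁, hE₁⟩ := Cfsg.Agent.Helper4.BGSig.exists_isPiHallOf_ge hsolvE (tau1 M) hKE
    (fun p hp hpd => hκτ p (hK.2.1 p hp hpd))
  have hE₁c : IsCyclic ↥E₁ := (h1415 M hM E hE).2.1 E₁ hE₁
  -- a subgroup `R₀ ≤ K` of prime order with `C_{M_σ}(R₀) ≠ 1`
  have hKc1 : Nat.card ↥K ≠ 1 := fun h => hK1 (Subgroup.card_eq_one.mp h)
  obtain ⟨r, hr, hrd⟩ := Nat.exists_prime_and_dvd hKc1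
  haveI : Fact r.Prime := ⟨hr⟩
  obtain ⟨R₀, hR₀K, hR₀⟩ := exists_le_card_eq hrd
  have hrκ : r ∈ kappa M := hK.2.1 r hr hrd
  have hrτ : r ∈ tau1 M := hκτ r hrκ
  have hDR₀ : sigmaCore M ⊓ centralizer (R₀ : Set G) ≠ ⊥ :=
    (hκi r (Or.inl hrτ) R₀ (hR₀K.trans hKE) hR₀).mp hrκ
  -- `τ₁ ⊆ κ`
  have hτκ : ∀ p ∈ tau1 M, p ∈ kappa M := by
    intro p hpτ
    have hp : p.Prime := hpτ.1
    haveI : Fact p.Prime := ⟨hp⟩
    have hpE : p ∣ Nat.card ↥E := dvd_card_compl hE hp hpτ.2.1 hpτ.2.2.1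
    have hpE₁ : p ∣ Nat.card ↥E₁ := by
      have h1 := Cfsg.Agent.Helper7.relIndex_mul_card_of_le hE₁.1
      rw [← h1] at hpE
      rcases (Nat.Prime.dvd_mul hp).mp hpE with h | h
      · exact absurd h (hE₁.2.2 p hp hpτ)
      · exact h
    obtain ⟨P₀, hP₀E₁, hP₀⟩ := exists_le_card_eq hpE₁
    have hP₀E : P₀ ≤ E := hP₀E₁.trans hE₁.1
    have hP₀C : P₀ ≤ E ⊓ centralizer (R₀ : Set G) := by
      refine le_inf hP₀E ?_
      intro x hx
      rw [mem_centralizer_iff]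
      intro y hy
      exact Cfsg.Agent.Helper23.comm_of_mem_cyclic E₁ hE₁c (hKE₁ (hR₀K hy)) (hP₀E₁ hx)
    have h1 := h1428 M hM E hE r hrτ R₀ (hR₀K.trans hKE) hR₀ P₀ hP₀C (by rw [hP₀]; exact hp)
    refine (hκi p (Or.inl hpτ) P₀ hP₀E hP₀).mpr ?_
    intro h
    apply hDR₀
    rw [eq_bot_iff, ← h]
    exact h1
  have hiff : ∀ p, p ∈ kappa M ↔ p ∈ tau1 M := fun p => ⟨hκτ p, hτκ p⟩
  -- `K` is a Hall `τ₁`-subgroup of `E`
  have hKhall : IsPiHallOf (tau1 M) K E := by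
    refine ⟨hKE, fun p hp hpd => hκτ p (hK.2.1 p hp hpd), ?_⟩
    intro p hp hpτ hd
    apply hK.2.2 p hp (hτκ p hpτ)
    rw [← Subgroup.relIndex_mul_relIndex K E M hKE hEM]
    exact Dvd.dvd.mul_right hd _
  have hKc : IsCyclic ↥K := (h1415 M hM E hE).2.1 K hKhall
  -- prime action
  have hprime : ∀ k ∈ K, k ≠ 1 → sigmaCore M ⊓ centralizer ({k} : Set G) =
      sigmaCore M ⊓ centralizer (K : Set G) := by
    intro k hk hk1
    have hne : orderOf k ≠ 1 := by rw [Ne, orderOf_eq_one_iff]; exact hk1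
    obtain ⟨r', hr', hr'd⟩ := Nat.exists_prime_and_dvd hne
    haveI : Fact r'.Prime := ⟨hr'⟩
    have hord : orderOf (k ^ (orderOf k / r')) = r' :=
      orderOf_pow_orderOf_div (orderOf_pos k).ne' hr'd
    set R : Subgroup G := zpowers (k ^ (orderOf k / r')) with hR
    have hRK : R ≤ K := by rw [hR, zpowers_le]; exact pow_mem hk _
    have hRc : Nat.card ↥R = r' := by rw [hR, Nat.card_zpowers, hord]
    have hr'τ : r' ∈ tau1 M :=
      hκτ r' (hK.2.1 r' hr' (hRc ▸ Subgroup.card_dvd_of_le hRK))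
    have h1 : sigmaCore M ⊓ centralizer ({k} : Set G) ≤ sigmaCore M ⊓ centralizer (R : Set G) := by
      refine inf_le_inf_left _ ?_
      rw [← centralizer_zpowers_eq k]
      apply Subgroup.centralizer_le
      rw [hR]
      exact zpowers_le.mpr (pow_mem (mem_zpowers k) _)
    have h2 : sigmaCore M ⊓ centralizer (R : Set G) ≤ sigmaCore M ⊓ centralizer (K : Set G) := by
      refine le_inf inf_le_left ?_
      rw [Subgroup.le_centralizer_iff]
      apply le_of_forall_sylow_le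
      intro t _ T hT
      have ht : t.Prime := Fact.out
      by_cases hT1 : T = ⊥
      · rw [hT1]; exact bot_le
      have htd : t ∣ Nat.card ↥T := dvd_card_of_isPGroup_ne_bot hT.isPGroup hT1
      have htK : t ∣ Nat.card ↥K := htd.trans (Subgroup.card_dvd_of_le hT.le)
      have htτ : t ∈ tau1 M := hκτ t (hK.2.1 t ht htK)
      have hTE : IsSylowIn t T E := by
        apply isSylowIn_of_not_dvd_relIndex hT.isPGroup (hT.le.trans hKE)
        rw [← Subgroup.relIndex_mul_relIndex T K E hT.le hKE]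
        intro hdvd
        rcases (Nat.Prime.dvd_mul ht).mp hdvd with h | h
        · exact hT.not_dvd_relIndex h
        · exact hKhall.2.2 t ht htτ h
      have hTc : IsCyclic ↥T := isCyclic_of_le_aux hT.le hKc
      obtain ⟨T₀, hT₀T, hT₀⟩ := exists_le_card_eq htd
      have hT₀C : T₀ ≤ E ⊓ centralizer (R : Set G) := by
        refine le_inf (hT₀T.trans hTE.le) ?_
        intro x hx
        rw [mem_centralizer_iff]
        intro y hy
        exact Cfsg.Agent.Helper23.comm_of_mem_cyclic K hKc (hRK hy) (hT.le (hT₀T hx))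
      have h3 := h1428 M hM E hE r' hr'τ R (hRK.trans hKE) hRc T₀ hT₀C (by rw [hT₀]; exact ht)
      -- a generator of `T₀`
      obtain ⟨x, hx⟩ := exists_prime_orderOf_dvd_card' (G := ↥T₀) t (by rw [hT₀])
      have hx1 : (x : G) ≠ 1 := by
        intro h
        have : orderOf (x : G) = 1 := by rw [h, orderOf_one]
        rw [Subgroup.orderOf_coe, hx] at this
        exact ht.one_lt.ne' this
      have hxT : (x : G) ∈ T := hT₀T x.2
      have hS1 : ((hTE.toSylow : Sylow t ↥E) : Subgroup ↥E) ≠ ⊥ := by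
        intro h
        apply hT1
        rw [← hTE.map_toSylow, h, Subgroup.map_bot]
      have hSc : IsCyclic ((hTE.toSylow : Sylow t ↥E) : Subgroup ↥E) := by
        rw [hTE.coe_toSylow]
        haveI := hTc
        exact isCyclic_of_surjective (Subgroup.subgroupOfEquivOfLe hTE.le).symm.toMonoidHom
          (Subgroup.subgroupOfEquivOfLe hTE.le).symm.surjective
      have h4 := h1427 M hM E hE t hTE.toSylow hS1 hSc (x : G)
        (by rw [hTE.map_toSylow]; exact hxT) hx1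
      rw [hTE.map_toSylow] at h4
      have h5 : sigmaCore M ⊓ centralizer (T₀ : Set G) ≤
          sigmaCore M ⊓ centralizer ({(x : G)} : Set G) := by
        refine inf_le_inf_left _ (Subgroup.centralizer_le ?_)
        intro y hy
        rw [Set.mem_singleton_iff] at hy
        rw [hy]; exact x.2
      have h6 : sigmaCore M ⊓ centralizer (R : Set G) ≤ centralizer (T : Set G) :=
        (h3.trans (h5.trans h4.le)).trans inf_le_right
      exact Subgroup.le_centralizer_iff.mp h6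
    have h3 : sigmaCore M ⊓ centralizer (K : Set G) ≤ sigmaCore M ⊓ centralizer ({k} : Set G) :=
      inf_le_inf_left _ (Subgroup.centralizer_le (by
        intro y hy
        rw [Set.mem_singleton_iff] at hy
        rw [hy]; exact hk))
    exact le_antisymm (h1.trans h2) h3
  refine ⟨hiff, hKhall, hKc, hprime, ?_⟩
  -- `K* ≠ 1`
  obtain ⟨x, hx⟩ := exists_prime_orderOf_dvd_card' (G := ↥R₀) r (by rw [hR₀])
  have hx1 : (x : G) ≠ 1 := by
    intro h
    have : orderOf (x : G) = 1 := by rw [h, orderOf_one]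
    rw [Subgroup.orderOf_coe, hx] at this
    exact hr.one_lt.ne' this
  have h1 := hprime (x : G) (hR₀K x.2) hx1
  intro h
  apply hDR₀
  rw [eq_bot_iff, ← h, ← h1]
  refine inf_le_inf_left _ (Subgroup.centralizer_le ?_)
  intro y hy
  rw [Set.mem_singleton_iff] at hy
  rw [hy]; exact x.2

end Cfsg.Agent.Helper14.BG14
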