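import Mathlib
import Cfsg.Agent.Lib.Helper14.BG14W1b

/-!
Towards S1430/S1431 (BG Theorem 14.2), WORLD I, part (c): `C_E(X) = K` for every subgroup `X` of
prime order of `K`.
-/

set_option autoImplicit false

namespace Cfsg.Agent.Helper14.BG14

open Cfsg Subgroup
open Cfsg.Agent.Helper14.BGTrans Cfsg.Agent.Helper14.BGUniq
open Cfsg.Agent.Helper10 (IsPiNum)
open Cfsg.Agent.Helper15 (IsSylowIn isSylowIn_of_sylow_le isSylowIn_map_subtype isSylowIn_top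
  map_conj_eq_of_mem_normalizer map_conj_map_conj card_map_conj map_conj_one
  map_conj_map_conj_inv map_conj_inv_map_conj isPGroup_map_conj map_conj_mono
  map_conj_eq_self_of_mem exists_isSylowIn_ge exists_isSylowIn isSylowIn_of_not_dvd_relIndex)
open Cfsg.Agent.Helper22.BG13
open Cfsg.Agent.Helper18.BG13P
open Cfsg.Agent.Helper7.BG13R (H1408)
open Cfsg.Agent.Helper4.BGSig (H1427 H1428)
open Cfsg.Agent.Helper16.BG147 (St1378b)

universe u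

variable {G : Type u} [Group G] [Finite G]

/-- a maximal subgroup `L` containing `N_G(A)`, `A` elementary abelian of order `p²`, has
`p ∈ σ(L)` -/
theorem mem_sigma_of_normalizer_elemAb_le (hG : IsMinSimpleOddOrder G) (h1403 : Hyp1403 G)
    (h1350 : Hyp1350 G) (h1418 : Hyp1418 G) {L : Subgroup G} (hL : IsCoatom L)
    {p : ℕ} [Fact p.Prime] {A : Subgroup G} (hAe : IsElementaryAbelian p A)
    (hAc : Nat.card ↥A = p ^ 2) (hNL : normalizer (A : Set G) ≤ L) : p ∈ sigma L := by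
  have hp : p.Prime := Fact.out
  have hAL : A ≤ L := Subgroup.le_normalizer.trans hNL
  have hpp2 : p ^ 1 < p ^ 2 := by
    have := hp.one_lt
    nlinarith
  have hr1L : ¬ PRankLE p 1 ↥L := not_pRankLE_of_le hAL hAe (by rw [hAc]; exact hpp2)
  have hsolvL : Group.IsSolvable ↥L := isSolvable_of_ne_top hG hL.1
  obtain ⟨hLhall, -, -⟩ := h1350 L hL
  by_contra hpL
  have hr2L : PRankLE p 2 ↥L := by
    by_contra h
    exact hpL (Cfsg.Agent.Helper23.BG10.alpha_subset_sigma hG h1403 hL ⟨hp, h⟩)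
  have hτL : p ∈ tau2 L := ⟨hp, hpL, hr2L, hr1L⟩
  have hAcop : (Nat.card ↥A).Coprime (Nat.card ↥(sigmaCore L)) := by
    rw [hAc]
    exact Nat.Coprime.pow_left 2
      ((Nat.Prime.coprime_iff_not_dvd hp).mpr (not_dvd_card_sigmaCore hp hpL))
  obtain ⟨E', hE', hAE'⟩ := exists_isComplIn_ge hsolvL (sigmaCore_le L)
    (coprime_of_isPiHallOf hLhall) hAL hAcop
  exact (h1418 L hL E' hE' p hτL A ⟨hAE', hAe, hAc⟩).2.1.2.2 hNL

/-- **WORLD I, part (c)**: the primes of `C_E(X)` lie in `τ₁(M)` -/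
theorem worldI_c_prime (hG : IsMinSimpleOddOrder G) (h1403 : Hyp1403 G)
    (h1404 : Hyp1404 G) (h1413 : Hyp1413 G) (h1416 : Hyp1416 G) (h1350 : Hyp1350 G)
    (h1414 : Hyp1414 G) (h1417 : Hyp1417 G) (h1418 : Hyp1418 G) (h1415 : H1415 G)
    (h1408 : H1408 G) (h1409 : H1409 G) (h1423 : H1423 G) (h78 : St1378b G) (hA : HThmA G)
    (h1428 : H1428 G)
    {M E : Subgroup G} (hM : IsCoatom M) (hE : IsComplIn E (sigmaCore M) M)
    (hI : WorldI M) {p : ℕ} [Fact p.Prime] (hpτ : p ∈ tau1 M)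
    {X : Subgroup G} (hXE : X ≤ E) (hXc : Nat.card ↥X = p)
    (hDX : sigmaCore M ⊓ centralizer (X : Set G) ≠ ⊥)
    {r : ℕ} [Fact r.Prime] {R₀ : Subgroup G} (hR₀C : R₀ ≤ E ⊓ centralizer (X : Set G))
    (hR₀ : Nat.card ↥R₀ = r) : r ∈ tau1 M := by
  have hp : p.Prime := Fact.out
  have hr : r.Prime := Fact.out
  have hEM : E ≤ M := hE.1
  have hXM : X ≤ M := hXE.trans hEM
  have hR₀E : R₀ ≤ E := hR₀C.trans inf_le_left
  have hR₀X : R₀ ≤ centralizer (X : Set G) := hR₀C.trans inf_le_right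
  have hXR₀ : X ≤ centralizer (R₀ : Set G) := Subgroup.le_centralizer_iff.mp hR₀X
  have hR₀M : R₀ ≤ M := hR₀E.trans hEM
  obtain ⟨hhall, -, -⟩ := h1350 M hM
  have hrdE : r ∣ Nat.card ↥E := hR₀ ▸ Subgroup.card_dvd_of_le hR₀E
  have hrM : r ∉ sigma M := by
    intro h
    have := hhall.2.2 r hr h
    rw [Cfsg.Agent.Helper4.BG144.complIn_relIndex_eq' hE] at this
    exact this hrdE
  have hrdM : r ∣ Nat.card ↥M := hrdE.trans (Subgroup.card_dvd_of_le hEM)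
  have hDR : sigmaCore M ⊓ centralizer (R₀ : Set G) ≠ ⊥ := by
    have h1 := h1428 M hM E hE p hpτ X hXE hXc R₀ hR₀C (by rw [hR₀]; exact hr)
    intro h
    apply hDX
    rw [eq_bot_iff, ← h]
    exact h1
  have hr2 : PRankLE r 2 ↥M := by
    by_contra h
    exact hrM (Cfsg.Agent.Helper23.BG10.alpha_subset_sigma hG h1403 hM ⟨hr, h⟩)
  by_cases hr1 : PRankLE r 1 ↥M
  · by_cases hrM' : r ∣ Nat.card ↥⁅M, M⁆
    · exact absurd (hI r ⟨hr, hrM, hrM', hr1⟩ R₀ hR₀M hR₀) hDR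
    · exact ⟨hr, hrM, hrdM, hrM', hr1⟩
  exfalso
  -- `r ∈ τ₂(M)`
  have hτ2 : r ∈ tau2 M := ⟨hr, hrM, hr2, hr1⟩
  obtain ⟨B, hBE, hBe, hBc⟩ :=
    Cfsg.Agent.Helper21.BG143.exists_elemAb_sq_le_compl hG h1350 hM hE hτ2
  obtain ⟨⟨hEB, hRB'⟩, -, h3⟩ := h1418 M hM E hE r hτ2 B ⟨hBE, hBe, hBc⟩
  have hR₀B : R₀ ≤ B := hRB' R₀ hR₀E hR₀
  obtain ⟨hCR₀M, huR⟩ := h3 R₀ hR₀B hR₀ hDR
  have hX1 : X ≠ ⊥ := card_prime_ne_bot hXc
  have hXtop : X ≠ ⊤ := fun h => hM.1 (top_le_iff.mp (h ▸ hXM))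
  have hR₀1 : R₀ ≠ ⊥ := card_prime_ne_bot hR₀
  have hR₀top : R₀ ≠ ⊤ := fun h => hM.1 (top_le_iff.mp (h ▸ hR₀M))
  obtain ⟨H, hH, hNH⟩ :=
    exists_isCoatom_ge (Cfsg.Agent.Helper4.BG144.normalizer_ne_top' hG hX1 hXtop)
  have hpH : p ∈ sigma H :=
    mem_sigma_of_mem_tau1 hG h1403 h1404 h1350 h1414 h1418 h1409 h1423 h78 hA hM hH hpτ hXM hXc
      hDX hNH
  have hHM : H ≠ M := fun h => hpτ.2.1 (h ▸ hpH)
  have hCXH : centralizer (X : Set G) ≤ H := (Subgroup.centralizer_le_normalizer _).trans hNH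
  have hXH : X ≤ H := Subgroup.le_normalizer.trans hNH
  have hR₀H : R₀ ≤ H := hR₀X.trans hCXH
  have hXp : IsPGroup p ↥X := IsPGroup.of_card (n := 1) (by rw [hXc, pow_one])
  have hXHσ : X ≤ sigmaCore H :=
    le_sigmaCore_of_isPiNum h1350 hH hXH (isPiNum_of_isPGroup hpH hXp)
  have hCσ : sigmaCore H ⊓ centralizer (R₀ : Set G) ≠ ⊥ := by
    intro h
    apply hX1
    rw [eq_bot_iff, ← h]
    exact le_inf hXHσ hXR₀
  have hNR₀M : normalizer (R₀ : Set G) ≤ M :=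
    le_of_inUniqueMaximal (Cfsg.Agent.Helper4.BG144.normalizer_ne_top' hG hR₀1 hR₀top)
      (Subgroup.centralizer_le_normalizer _) (fun L hL => huR L hL.1 hL.2)
  have hsolvH : Group.IsSolvable ↥H := isSolvable_of_ne_top hG hH.1
  obtain ⟨hHhall, -, -⟩ := h1350 H hH
  by_cases hrH : r ∈ sigma H
  · -- the maximal subgroup over `N_G(B)`
    have hB1 : B ≠ ⊥ := fun h => hR₀1 (le_bot_iff.mp (h ▸ hR₀B))
    have hBtop : B ≠ ⊤ := fun h => hM.1 (top_le_iff.mp (h ▸ hBE.trans hEM))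
    obtain ⟨L, hL, hNL⟩ :=
      exists_isCoatom_ge (Cfsg.Agent.Helper4.BG144.normalizer_ne_top' hG hB1 hBtop)
    have hBL : B ≤ L := Subgroup.le_normalizer.trans hNL
    have hEL : E ≤ L := hEB.trans hNL
    have hrL : r ∈ sigma L := mem_sigma_of_normalizer_elemAb_le hG h1403 h1350 h1418 hL hBe hBc hNL
    obtain ⟨g, hg⟩ := h78 H L hH hL ⟨r, hrH, hrL⟩
    have hXL : X ≤ L := hXE.trans hEL
    have h1 : X.map (MulAut.conj g⁻¹).toMonoidHom ≤ H := by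
      have := map_conj_mono hXL g⁻¹
      rwa [hg, map_conj_inv_map_conj] at this
    obtain ⟨m, hm, c, hc, hgmc⟩ := (h1404 H hH p hpH X hXp hX1 hXH).1 g⁻¹ h1
    have hgH : g ∈ H := by
      have h2 : g⁻¹ ∈ H := hgmc ▸ H.mul_mem hm (hCXH hc)
      simpa using H.inv_mem h2
    have hLH : L = H := by rw [hg]; exact map_conj_eq_self_of_mem hgH
    have hBH : B ≤ H := hLH ▸ hBL
    have h2 := sigmaCore_inf_eq_bot_of_elemAb hG h1403 h1417 hM hH hHM hrM (hBE.trans hEM) hBH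
      hBe hBc
    apply hDX
    rw [eq_bot_iff, ← h2]
    exact inf_le_inf_left _ hCXH
  · -- `r ∉ σ(H)`
    have hrdH : r ∣ Nat.card ↥H := hR₀ ▸ Subgroup.card_dvd_of_le hR₀H
    have hR₀cop : (Nat.card ↥R₀).Coprime (Nat.card ↥(sigmaCore H)) := by
      rw [hR₀]
      exact (Nat.Prime.coprime_iff_not_dvd hr).mpr (not_dvd_card_sigmaCore hr hrH)
    obtain ⟨E_H, hE_H, hR₀E_H⟩ := exists_isComplIn_ge hsolvH (sigmaCore_le H)
      (coprime_of_isPiHallOf hHhall) hR₀H hR₀cop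
    have hr2H : PRankLE r 2 ↥H := by
      by_contra h
      exact hrH (Cfsg.Agent.Helper23.BG10.alpha_subset_sigma hG h1403 hH ⟨hr, h⟩)
    by_cases hr1H : PRankLE r 1 ↥H
    · by_cases hrH' : r ∣ Nat.card ↥⁅H, H⁆
      · exact hrM (mem_sigma_of_mem_tau3 hG h1403 h1404 h1413 h1416 h1350 h1414 h1417 h1418 h1415
          h1408 h1409 h1423 h78 hA hH hM hE_H ⟨hr, hrH, hrH', hr1H⟩ hR₀E_H hR₀ hCσ hNR₀M)
      · exact hrM (mem_sigma_of_mem_tau1 hG h1403 h1404 h1350 h1414 h1418 h1409 h1423 h78 hA hH hM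
          ⟨hr, hrH, hrdH, hrH', hr1H⟩ hR₀H hR₀ hCσ hNR₀M)
    · have hτ2H : r ∈ tau2 H := ⟨hr, hrH, hr2H, hr1H⟩
      obtain ⟨B', hB'E, hB'e, hB'c⟩ :=
        Cfsg.Agent.Helper21.BG143.exists_elemAb_sq_le_compl hG h1350 hH hE_H hτ2H
      obtain ⟨⟨-, hRB''⟩, -, h3'⟩ := h1418 H hH E_H hE_H r hτ2H B' ⟨hB'E, hB'e, hB'c⟩
      obtain ⟨hCR₀H, -⟩ := h3' R₀ (hRB'' R₀ hR₀E_H hR₀) hR₀ hCσ
      exact hHM (huR H hH hCR₀H)

/-- **WORLD I, part (c)**: `C_E(X) = K` -/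
theorem worldI_c (hG : IsMinSimpleOddOrder G) (h1403 : Hyp1403 G)
    (h1404 : Hyp1404 G) (h1413 : Hyp1413 G) (h1416 : Hyp1416 G) (h1350 : Hyp1350 G)
    (h1414 : Hyp1414 G) (h1417 : Hyp1417 G) (h1418 : Hyp1418 G) (h1415 : H1415 G)
    (h1408 : H1408 G) (h1409 : H1409 G) (h1423 : H1423 G) (h78 : St1378b G) (hA : HThmA G)
    (h1428 : H1428 G)
    {M E K : Subgroup G} (hM : IsCoatom M) (hE : IsComplIn E (sigmaCore M) M)
    (hI : WorldI M) (hKhall : IsPiHallOf (tau1 M) K E) (hKc : IsCyclic ↥K)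
    {X : Subgroup G} (hXK : X ≤ K) (hXc : (Nat.card ↥X).Prime)
    (hDX : sigmaCore M ⊓ centralizer (X : Set G) ≠ ⊥) :
    E ⊓ centralizer (X : Set G) ≤ K := by
  obtain ⟨p, hpdef⟩ : ∃ p, Nat.card ↥X = p := ⟨_, rfl⟩
  have hp : p.Prime := hpdef ▸ hXc
  haveI : Fact p.Prime := ⟨hp⟩
  have hKE : K ≤ E := hKhall.1
  have hpτ : p ∈ tau1 M := hKhall.2.1 p hp (hpdef ▸ Subgroup.card_dvd_of_le hXK)
  set C := E ⊓ centralizer (X : Set G) with hC
  have hKC : K ≤ C := by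
    refine le_inf hKE ?_
    intro k hk
    rw [mem_centralizer_iff]
    intro x hx
    exact Cfsg.Agent.Helper23.comm_of_mem_cyclic K hKc (hXK hx) hk
  have h1 : K.relIndex C = 1 := by
    by_contra hne
    obtain ⟨r, hr, hrd⟩ := Nat.exists_prime_and_dvd hne
    haveI : Fact r.Prime := ⟨hr⟩
    have hrC : r ∣ Nat.card ↥C := hrd.trans (Subgroup.relIndex_dvd_card K C)
    obtain ⟨R₀, hR₀C, hR₀⟩ := exists_le_card_eq hrC
    have hrτ : r ∈ tau1 M :=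
      worldI_c_prime hG h1403 h1404 h1413 h1416 h1350 h1414 h1417 h1418 h1415 h1408 h1409 h1423
        h78 hA h1428 hM hE hI hpτ (hXK.trans hKE) hpdef hDX hR₀C hR₀
    apply hKhall.2.2 r hr hrτ
    rw [← Subgroup.relIndex_mul_relIndex K C E hKC inf_le_left]
    exact Dvd.dvd.mul_right hrd _
  exact Subgroup.relIndex_eq_one.mp h1

end Cfsg.Agent.Helper14.BG14
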