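import Mathlib
import Cfsg.Agent.Lib.Helper14.BG14W1c
import Cfsg.Agent.Lib.Helper21.BG14In

/-!
Towards S1430 (BG Theorem 14.2), WORLD I: the body of the frozen statement S1430 for `(M, K)`,
assembled from parts (a), (c), (n) and (d) (the last one as a hypothesis `HypU`).
-/

set_option autoImplicit false

namespace Cfsg.Agent.Helper14.BG14

open Cfsg Subgroup
open Cfsg.Agent.Helper14.BGTrans Cfsg.Agent.Helper14.BGUniq
open Cfsg.Agent.Helper10 (IsPiNum)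
open Cfsg.Agent.Helper22.BG13
open Cfsg.Agent.Helper18.BG13P
open Cfsg.Agent.Helper7.BG13R (H1408)
open Cfsg.Agent.Helper4.BGSig (H1427 H1428)
open Cfsg.Agent.Helper16.BG147 (St1378b)

universe u

variable {G : Type u} [Group G] [Finite G]

/-- part (d) of world I (the subgroup `U`), as a hypothesis -/
def HypU (G : Type u) [Group G] : Prop :=
  ∀ (M E K : Subgroup G), IsCoatom M → IsComplIn E (sigmaCore M) M →
    IsPiHallOf (kappa M) K M → K ≠ ⊥ → K ≤ E → (∀ p, p ∈ kappa M ↔ p ∈ tau1 M) → IsCyclic ↥K →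
    (∀ X : Subgroup G, X ≤ K → (Nat.card ↥X).Prime → E ⊓ centralizer (X : Set G) ≤ K) →
    ∃ U : Subgroup G, IsMulCommutative ↥U ∧
      IsPiHallOf {q | q.Prime ∧ q ∉ kappa M ∧ q ∉ sigma M} U M ∧
      K ≤ normalizer (U : Set G) ∧ ∀ k ∈ K, k ≠ 1 → U ⊓ centralizer ({k} : Set G) = ⊥

/-- **S1430 in WORLD I** -/
theorem st1430_worldI (hG : IsMinSimpleOddOrder G) (h1403 : Hyp1403 G)
    (h1404 : Hyp1404 G) (h1413 : Hyp1413 G) (h1416 : Hyp1416 G) (h1350 : Hyp1350 G)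
    (h1414 : Hyp1414 G) (h1417 : Hyp1417 G) (h1418 : Hyp1418 G) (h1415 : H1415 G)
    (h1408 : H1408 G) (h1409 : H1409 G) (h1423 : H1423 G) (h78 : St1378b G) (hA : HThmA G)
    (h1427 : H1427 G) (h1428 : H1428 G) (hU : HypU G)
    {M K : Subgroup G} (hM : IsCoatom M) (hK : IsPiHallOf (kappa M) K M) (hK1 : K ≠ ⊥)
    (hI : WorldI M) (hκs : KappaSub M)
    (hκi : ∀ E : Subgroup G, IsComplIn E (sigmaCore M) M → KappaIff M E) :
    (∀ k ∈ K, k ≠ 1 → sigmaCore M ⊓ centralizer ({k} : Set G) =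
        sigmaCore M ⊓ centralizer (K : Set G)) ∧
      (∃ U : Subgroup G, IsMulCommutative ↥U ∧
        IsPiHallOf {q | q.Prime ∧ q ∉ kappa M ∧ q ∉ sigma M} U M ∧
        K ≤ normalizer (U : Set G) ∧ ∀ k ∈ K, k ≠ 1 → U ⊓ centralizer ({k} : Set G) = ⊥) ∧
      ∀ X : Subgroup G, X ≤ K → (Nat.card ↥X).Prime →
        M ⊓ normalizer (X : Set G) = K ⊔ (sigmaCore M ⊓ centralizer (K : Set G)) ∧
        M ⊓ normalizer (K : Set G) = K ⊔ (sigmaCore M ⊓ centralizer (K : Set G)) ∧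
        ∀ Mstar : Subgroup G, IsCoatom Mstar → normalizer (X : Set G) ≤ Mstar →
          X ≤ sigmaCore Mstar := by
  have hKM : K ≤ M := hK.1
  have hsolvM : Group.IsSolvable ↥M := isSolvable_of_ne_top hG hM.1
  obtain ⟨hhall, -, -⟩ := h1350 M hM
  -- a complement `E ≥ K`
  have hKcop : (Nat.card ↥K).Coprime (Nat.card ↥(sigmaCore M)) := by
    apply Nat.coprime_of_dvd
    intro q hq h1 h2
    exact (hK.2.1 q hq h1).2.2.1 (isPiNum_card_sigmaCore M q hq h2)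
  obtain ⟨E, hE, hKE⟩ := exists_isComplIn_ge hsolvM (sigmaCore_le M)
    (coprime_of_isPiHallOf hhall) hKM hKcop
  obtain ⟨hiff, hKhall, hKc, hprime, hKst⟩ :=
    worldI_a hG h1415 h1427 h1428 hM hE hK hK1 hKE hI hκs (hκi E hE)
  have hDX : ∀ X : Subgroup G, X ≤ K → sigmaCore M ⊓ centralizer (X : Set G) ≠ ⊥ := by
    intro X hXK h
    apply hKst
    rw [eq_bot_iff, ← h]
    exact inf_le_inf_left _ (Subgroup.centralizer_le hXK)
  have hreg : ∀ X : Subgroup G, X ≤ K → (Nat.card ↥X).Prime →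
      E ⊓ centralizer (X : Set G) ≤ K := fun X hXK hXc =>
    worldI_c hG h1403 h1404 h1413 h1416 h1350 h1414 h1417 h1418 h1415 h1408 h1409 h1423 h78 hA
      h1428 hM hE hI hKhall hKc hXK hXc (hDX X hXK)
  refine ⟨hprime, hU M E K hM hE hK hK1 hKE hiff hKc hreg, ?_⟩
  intro X hXK hXc
  obtain ⟨h1, h2⟩ :=
    Cfsg.Agent.Helper21.BG14In.normalizer_eq_worldI hE hK hKE hiff hKc hprime hreg X hXK hXc
  refine ⟨h1, h2, ?_⟩
  intro Mstar hMstar hN
  obtain ⟨p, hpdef⟩ : ∃ p, Nat.card ↥X = p := ⟨_, rfl⟩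
  have hp : p.Prime := hpdef ▸ hXc
  haveI : Fact p.Prime := ⟨hp⟩
  have hpτ : p ∈ tau1 M := hKhall.2.1 p hp (hpdef ▸ Subgroup.card_dvd_of_le hXK)
  have hpS : p ∈ sigma Mstar :=
    mem_sigma_of_mem_tau1 hG h1403 h1404 h1350 h1414 h1418 h1409 h1423 h78 hA hM hMstar hpτ
      (hXK.trans hKM) hpdef (hDX X hXK) hN
  have hXp : IsPGroup p ↥X := IsPGroup.of_card (n := 1) (by rw [hpdef, pow_one])
  exact le_sigmaCore_of_isPiNum h1350 hMstar (Subgroup.le_normalizer.trans hN)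
    (isPiNum_of_isPGroup hpS hXp)

end Cfsg.Agent.Helper14.BG14
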