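import Mathlib
import Cfsg.Agent.Lib.Helper14.BG14W1d
import Cfsg.Agent.Lib.Helper25.BG14K
import Cfsg.Agent.Lib.Helper8.BG14R0D
import Cfsg.Agent.Lib.Helper10.BG142E1

/-!
BG Theorem 14.2 (S1430 and S1431): the final case split.  Either `κ(M)` meets `τ₃(M)` (the world
of BG 13.11, treated by helper8 from helper5's structure theorem `Tau3World`), or `κ(M) ⊆ τ₁(M)`
(world I).  Pending pieces enter as hypotheses: `Tau3World G` (helper5), `HypU G` (helper19),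
`HThmAU G` (helper20's Theorem A with its Sylow clause).
-/

set_option autoImplicit false

namespace Cfsg.Agent.Helper14.BG14

open Cfsg Subgroup
open Cfsg.Agent.Helper22.BG13
open Cfsg.Agent.Helper18.BG13P
open Cfsg.Agent.Helper7.BG13R (H1408)
open Cfsg.Agent.Helper4.BGSig (H1427 H1428)
open Cfsg.Agent.Helper16.BG147 (St1378b)

universe u

variable {G : Type u} [Group G] [Finite G]

/-- THEOREM A together with its Sylow clause (the shape of helper20's `theoremA_unique`) -/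
def HThmAU (G : Type u) [Group G] : Prop :=
  ∀ (M X Y : Subgroup G) (p q : ℕ) [Fact q.Prime], IsCoatom M → p ∈ tau1 M → X ≤ M →
    Nat.card ↥X = p → Y ≤ sigmaCore M ⊓ centralizer (X : Set G) → Nat.card ↥Y = q →
    q ∈ sigma M ∧
      (centralizer (Y : Set G) ≤ M ∧
        ∀ L : Subgroup G, IsCoatom L → centralizer (Y : Set G) ≤ L → L = M) ∧
      ∀ P : Sylow q ↥(sigmaCore M),
        InUniqueMaximal ((P : Subgroup ↥(sigmaCore M)).map (sigmaCore M).subtype) ∧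
        (P : Subgroup ↥(sigmaCore M)).map (sigmaCore M).subtype ≤ M

theorem hThmA_of_hThmAU (h : HThmAU G) : HThmA G := by
  intro M hM p _ hp X hXM hX Y₀ hY₀ hY₀c
  haveI : Fact (Nat.card ↥Y₀).Prime := ⟨hY₀c⟩
  exact (h M X Y₀ p (Nat.card ↥Y₀) hM hp hXM hX hY₀ rfl).2.1

/-- `κ(M) ⊆ τ₁(M) ∪ τ₃(M)` (helper25) -/
theorem kappaSub (M : Subgroup G) : KappaSub M :=
  fun _ hp => Cfsg.Agent.Helper25.BG14K.mem_tau13_of_mem_kappa hp

/-- the criterion for membership in `κ(M)` (helper25) -/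
theorem kappaIff (hG : IsMinSimpleOddOrder G) {M E : Subgroup G}
    (hE : IsComplIn E (sigmaCore M) M) : KappaIff M E := by
  intro p hp X hXE hX
  have hXM : X ≤ M := hXE.trans hE.1
  constructor
  · intro hκ
    exact Cfsg.Agent.Helper25.BG14K.centralizer_ne_bot_of_mem_kappa hκ hXM hX
  · intro hne
    rcases hp with h | h
    · exact Cfsg.Agent.Helper25.BG14K.mem_kappa_of_centralizer_ne_bot hG h.1 h.2.1 h.2.2.2.2
        hXM hX hne
    · exact Cfsg.Agent.Helper25.BG14K.mem_kappa_of_centralizer_ne_bot hG h.1 h.2.1 h.2.2.2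
        hXM hX hne

/-- if `κ(M)` does not meet `τ₃(M)` we are in world I -/
theorem worldI_of_not (hG : IsMinSimpleOddOrder G) {M : Subgroup G}
    (h : ¬ ∃ p, p ∈ kappa M ∧ p ∈ tau3 M) : WorldI M := by
  intro p hp X hXM hX
  by_contra hne
  exact h ⟨p, Cfsg.Agent.Helper25.BG14K.mem_kappa_of_centralizer_ne_bot hG hp.1 hp.2.1 hp.2.2.2
    hXM hX hne, hp⟩

/-- LEMMA G2 in helper8's shape -/
theorem hypG2 (hG : IsMinSimpleOddOrder G) (h1403 : Hyp1403 G)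
    (h1404 : Hyp1404 G) (h1350 : Hyp1350 G) (h1414 : Hyp1414 G) (h1418 : Hyp1418 G)
    (h1409 : H1409 G) (h1423 : H1423 G) (h78 : St1378b G) (hA : HThmA G) :
    Cfsg.Agent.Helper8.BG14R0.HypG2 G := by
  intro M hM p _ hpM hr1 X _ hX Y₀ hY₀ hY₀c huniq H hH hNH
  exact mem_sigma_of_normalizer_le hG h1403 h1404 h1350 h1414 h1418 h1409 h1423 h78 hA hM hH
    hpM hr1 hX hNH hY₀ hY₀c huniq

/-- **the body of S1430** -/
theorem st1430_final (hG : IsMinSimpleOddOrder G) (h1403 : Hyp1403 G)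
    (h1404 : Hyp1404 G) (h1413 : Hyp1413 G) (h1416 : Hyp1416 G) (h1350 : Hyp1350 G)
    (h1414 : Hyp1414 G) (h1417 : Hyp1417 G) (h1418 : Hyp1418 G) (h1415 : H1415 G)
    (h1408 : H1408 G) (h1409 : H1409 G) (h1423 : H1423 G) (h78 : St1378b G)
    (h1427 : H1427 G) (h1428 : H1428 G)
    (h23 : Cfsg.Agent.Helper4.BGSig.H1423 G) (h25 : Cfsg.Agent.Helper4.BG1379.H1425 G)
    (h26 : Cfsg.Agent.Helper4.BGSig.H1426 G) (h05 : Hyp1405 G)
    (h06 : Cfsg.Agent.Helper18.BG13Q.H1406 G)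
    (tw : Cfsg.Agent.Helper8.BG14R0.Tau3World G) (hU : HypU G) (hAU : HThmAU G)
    {M K : Subgroup G} (hM : IsCoatom M) (hK : IsPiHallOf (kappa M) K M) (hK1 : K ≠ ⊥) :
    (∀ k ∈ K, k ≠ 1 → sigmaCore M ⊓ centralizer ({k} : Set G) =
        sigmaCore M ⊓ centralizer (K : Set G)) ∧
      (∃ U : Subgroup G, IsMulCommutative ↥U ∧
        IsPiHallOf {q | q.Prime ∧ q ∉ kappa M ∧ q ∉ sigma M} U M ∧
        K ≤ normalizer (U : Set G) ∧ ∀ k ∈ K, k ≠ 1 → U ⊓ centralizer ({k} : Set G) = ⊥) ∧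
      ∀ X : Subgroup G, X ≤ K → (Nat.card ↥X).Prime →
        M ⊓ normalizer (X : Set G) = K ⊔ (sigmaCore M ⊓ centralizer (K : Set G)) ∧
        M ⊓ normalizer (K : Set G) = K ⊔ (sigmaCore M ⊓ centralizer (K : Set G)) ∧
        ∀ Mstar : Subgroup G, IsCoatom Mstar → normalizer (X : Set G) ≤ Mstar →
          X ≤ sigmaCore Mstar := by
  have hA : HThmA G := hThmA_of_hThmAU hAU
  by_cases h : ∃ p, p ∈ kappa M ∧ p ∈ tau3 M
  · obtain ⟨p, hpκ, hp3⟩ := h
    exact (Cfsg.Agent.Helper8.BG14R0.st1430_st1431_of_tau3World hG h1350 tw h23 h25 h26 h05 h06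
      h1409 (hypG2 hG h1403 h1404 h1350 h1414 h1418 h1409 h1423 h78 hA) hM hK hpκ hp3).1
  · exact st1430_worldI hG h1403 h1404 h1413 h1416 h1350 h1414 h1417 h1418 h1415 h1408 h1409
      h1423 h78 hA h1427 h1428 hU hM hK hK1 (worldI_of_not hG h) (kappaSub M)
      (fun E hE => kappaIff hG hE)

/-- **the body of S1431** -/
theorem st1431_final (hG : IsMinSimpleOddOrder G) (h1403 : Hyp1403 G)
    (h1404 : Hyp1404 G) (h1413 : Hyp1413 G) (h1416 : Hyp1416 G) (h1350 : Hyp1350 G)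
    (h1414 : Hyp1414 G) (h1417 : Hyp1417 G) (h1418 : Hyp1418 G) (h1415 : H1415 G)
    (h1408 : H1408 G) (h1409 : H1409 G) (h1423 : H1423 G) (h78 : St1378b G)
    (h1427 : H1427 G) (h1428 : H1428 G)
    (h23 : Cfsg.Agent.Helper4.BGSig.H1423 G) (h25 : Cfsg.Agent.Helper4.BG1379.H1425 G)
    (h26 : Cfsg.Agent.Helper4.BGSig.H1426 G) (h05 : Hyp1405 G)
    (h06 : Cfsg.Agent.Helper18.BG13Q.H1406 G)
    (tw : Cfsg.Agent.Helper8.BG14R0.Tau3World G) (hU : HypU G) (hAU : HThmAU G)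
    {M K : Subgroup G} (hM : IsCoatom M) (hK : IsPiHallOf (kappa M) K M) (hK1 : K ≠ ⊥) :
    (∀ g : G, g ∉ M → (sigmaCore M ⊓ centralizer (K : Set G)) ⊓
        M.map (MulAut.conj g).toMonoidHom = ⊥) ∧
      (∀ g ∈ M, g ∉ K ⊔ (sigmaCore M ⊓ centralizer (K : Set G)) →
        K ⊓ K.map (MulAut.conj g).toMonoidHom = ⊥) ∧
      (∀ (p : ℕ), p.Prime → p ∣ Nat.card ↥(sigmaCore M ⊓ centralizer (K : Set G)) →
        ∀ S : Sylow p ↥(sigmaCore M),
        InUniqueMaximal ((S : Subgroup ↥(sigmaCore M)).map (sigmaCore M).subtype) ∧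
        (S : Subgroup ↥(sigmaCore M)).map (sigmaCore M).subtype ≤ M ∧
        ¬ (S : Subgroup ↥(sigmaCore M)).map (sigmaCore M).subtype ≤
          (sigmaCore M ⊓ centralizer (K : Set G))) ∧
      ∀ Y : Subgroup G, (∀ p : ℕ, p.Prime → p ∣ Nat.card ↥Y → p ∈ sigma M) →
        Y ⊓ (sigmaCore M ⊓ centralizer (K : Set G)) ≠ ⊥ → Y ≤ sigmaCore M := by
  have hA : HThmA G := hThmA_of_hThmAU hAU
  by_cases h : ∃ p, p ∈ kappa M ∧ p ∈ tau3 M
  · obtain ⟨p, hpκ, hp3⟩ := h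
    exact (Cfsg.Agent.Helper8.BG14R0.st1430_st1431_of_tau3World hG h1350 tw h23 h25 h26 h05 h06
      h1409 (hypG2 hG h1403 h1404 h1350 h1414 h1418 h1409 h1423 h78 hA) hM hK hpκ hp3).2
  · have hI : WorldI M := worldI_of_not hG h
    have hKM : K ≤ M := hK.1
    have hsolvM : Group.IsSolvable ↥M := Cfsg.Agent.Helper14.BGTrans.isSolvable_of_ne_top hG hM.1
    obtain ⟨hhall, -, -⟩ := h1350 M hM
    have hKcop : (Nat.card ↥K).Coprime (Nat.card ↥(sigmaCore M)) := by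
      apply Nat.coprime_of_dvd
      intro q hq h1 h2
      exact (hK.2.1 q hq h1).2.2.1 (isPiNum_card_sigmaCore M q hq h2)
    obtain ⟨E, hE, hKE⟩ := exists_isComplIn_ge hsolvM (sigmaCore_le M)
      (coprime_of_isPiHallOf hhall) hKM hKcop
    obtain ⟨hiff, -, hKc, -, -⟩ :=
      worldI_a hG h1415 h1427 h1428 hM hE hK hK1 hKE hI (kappaSub M) (kappaIff hG hE)
    have h30 := st1430_worldI hG h1403 h1404 h1413 h1416 h1350 h1414 h1417 h1418 h1415 h1408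
      h1409 h1423 h78 hA h1427 h1428 hU hM hK hK1 hI (kappaSub M) (fun E hE => kappaIff hG hE)
    obtain ⟨X0, hX0K, hX0c⟩ := exists_le_card_prime hK1
    have hpκ : Nat.card ↥X0 ∈ kappa M := hK.2.1 _ hX0c (Subgroup.card_dvd_of_le hX0K)
    have hpτ : Nat.card ↥X0 ∈ tau1 M := (hiff _).mp hpκ
    have hKsX : sigmaCore M ⊓ centralizer (K : Set G) ≤
        sigmaCore M ⊓ centralizer (X0 : Set G) :=
      inf_le_inf_left _ (Subgroup.centralizer_le hX0K)
    refine Cfsg.Agent.Helper10.BG142E.s1431_of_reductions hG hM hK hK1 hKc ?_ ?_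
      (fun X hXK hXc => (h30.2.2 X hXK hXc).1)
    · intro Y₀ hY₀ hY₀c
      haveI : Fact (Nat.card ↥Y₀).Prime := ⟨hY₀c⟩
      exact (hAU M X0 Y₀ _ _ hM hpτ (hX0K.trans hKM) rfl (hY₀.trans hKsX) rfl).2.1.1
    · intro p hp hpd S
      haveI : Fact p.Prime := ⟨hp⟩
      obtain ⟨Y₀, hY₀, hY₀c⟩ := exists_le_card_eq hpd
      exact ((hAU M X0 Y₀ _ p hM hpτ (hX0K.trans hKM) rfl (hY₀.trans hKsX) hY₀c).2.2 S).1

end Cfsg.Agent.Helper14.BG14
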