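import Mathlib
import Cfsg.Agent.S1378
import Cfsg.Agent.S1425
import Cfsg.Agent.S1428
import Cfsg.Agent.Lib.Helper14.BG14Fin
import Cfsg.Agent.Lib.Helper19.BG14Id
import Cfsg.Agent.Lib.Helper20.BG14B

/-!
BG Theorem 14.2 (S1430 and S1431): the hypotheses of `st1430_final` / `st1431_final` supplied from
the proved earlier rows.  Only `Tau3World G` (helper5's BG 13.11) remains as a hypothesis here.
-/

set_option autoImplicit false

namespace Cfsg.Agent.Helper14.BG14Plug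

open Cfsg Subgroup
open Cfsg.Agent.Helper14.BG14

universe u

variable {G : Type u} [Group G] [Finite G]

theorem sigHyps (hG : IsMinSimpleOddOrder G) : Cfsg.Agent.Helper4.BGSig.Hyps G :=
  ⟨hG,
   fun M hM => Cfsg.Agent.S1350.result hG M hM,
   fun M hM => Cfsg.Agent.S1414.result hG M hM,
   fun M hM p _ hp A hA => Cfsg.Agent.S1417.result hG M hM p hp A hA,
   fun p _ P hP hPna => Cfsg.Agent.S1422.result hG p P hP hPna,
   fun M hM p _ hp X hXM hX P h => Cfsg.Agent.S1423.result hG M hM p hp X hXM hX P h,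
   fun M hM E hE => Cfsg.Agent.S1426.result hG M hM E hE,
   fun M hM E hE p _ S hS1 hSc => Cfsg.Agent.S1427.result hG M hM E hE p S hS1 hSc,
   fun M hM E hE p hp P hPE hP R hRE hR =>
     Cfsg.Agent.S1428.result hG M hM E hE p hp P hPE hP R hRE hR⟩

theorem h1408 (hG : IsMinSimpleOddOrder G) : Cfsg.Agent.Helper7.BG13R.H1408 G :=
  fun M hM p _ hp hr2 hr1 => Cfsg.Agent.S1408.result hG M hM p hp hr2 hr1

theorem h1423 (hG : IsMinSimpleOddOrder G) : Cfsg.Agent.Helper14.BG14.H1423 G :=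
  fun M hM p _ hp X hXM hX P h => Cfsg.Agent.S1423.result hG M hM p hp X hXM hX P h

theorem st1378b (hG : IsMinSimpleOddOrder G) : Cfsg.Agent.Helper16.BG147.St1378b G :=
  (Cfsg.Agent.S1378.result hG).2

theorem h1425 (hG : IsMinSimpleOddOrder G) : Cfsg.Agent.Helper4.BG1379.H1425 G :=
  fun M hM Y hY1 hY => Cfsg.Agent.S1425.result hG M hM Y hY1 hY

theorem h1415' (hG : IsMinSimpleOddOrder G) : Cfsg.Agent.Helper20.BG12.H1415 G :=
  fun M hM E hE => Cfsg.Agent.S1415.result hG M hM E hE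

theorem h1418' (hG : IsMinSimpleOddOrder G) : Cfsg.Agent.Helper4.BG144.H1418 G :=
  fun M hM E hE p _ hp A hA => Cfsg.Agent.S1418.result hG M hM E hE p hp A hA

/-- THEOREM A (helper20) -/
theorem hThmAU (hG : IsMinSimpleOddOrder G) : HThmAU G :=
  fun _ _ _ _ _ _ hM hp hXM hXc hY hYc =>
    Cfsg.Agent.Helper20.BG14.theoremA_unique (sigHyps hG) (h1415' hG) (h1418' hG) hM hp hXM hXc
      hY hYc

/-- the subgroup `U` in world I (helper19) -/
theorem hypU (hG : IsMinSimpleOddOrder G) : HypU G :=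
  fun _ _ _ hM hE hK hK1 hKE hκτ hKc hreg =>
    Cfsg.Agent.Helper19.BG14.exists_U_worldI hG (Cfsg.Agent.S1428.hyps hG).h1403
      (Cfsg.Agent.S1428.hyps hG).h1350 (Cfsg.Agent.S1428.hyps hG).h1415
      (Cfsg.Agent.S1428.hyps hG).h1417 hM hE hK hK1 hKE hκτ hKc hreg

/-- **the body of S1430**, given BG 13.11 -/
theorem st1430_of_tau3World (hG : IsMinSimpleOddOrder G)
    (tw : Cfsg.Agent.Helper8.BG14R0.Tau3World G)
    {M K : Subgroup G} (hM : IsCoatom M) (hK : IsPiHallOf (kappa M) K M) (hK1 : K ≠ ⊥) :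
    (∀ k ∈ K, k ≠ 1 → sigmaCore M ⊓ centralizer ({k} : Set G) =
        sigmaCore M ⊓ centralizer (K : Set G)) ∧
      (∃ U : Subgroup G, IsMulCommutative ↥U ∧
        IsPiHallOf {q | q.Prime ∧ q ∉ kappa M ∧ q ∉ sigma M} U M ∧
        K ≤ normalizer (U : Set G) ∧ ∀ k ∈ K, k ≠ 1 → U ⊓ centralizer ({k} : Set G) = ⊥) ∧
      ∀ X : Subgroup G, X ≤ K → (Nat.card ↥X).Prime →
        M ⊓ normalizer (X : Set G) = K ⊔ (sigmaCore M ⊓ centralizer (K : Set G)) ∧
        M ⊓ normalizer (K : Set G) = K ⊔ (sigmaCore M ⊓ centralizer (K : Set G)) ∧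
        ∀ Mstar : Subgroup G, IsCoatom Mstar → normalizer (X : Set G) ≤ Mstar →
          X ≤ sigmaCore Mstar :=
  have h := Cfsg.Agent.S1428.hyps hG
  have s := sigHyps hG
  st1430_final hG h.h1403 h.h1404 h.h1413 h.h1416 h.h1350 h.h1414 h.h1417 h.h1418 h.h1415
    (h1408 hG) h.h1409 (h1423 hG) (st1378b hG) s.h1427 s.h1428 s.h1423 (h1425 hG) s.h1426
    h.h1405 h.h1406 tw (hypU hG) (hThmAU hG) hM hK hK1

/-- **the body of S1431**, given BG 13.11 -/
theorem st1431_of_tau3World (hG : IsMinSimpleOddOrder G)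
    (tw : Cfsg.Agent.Helper8.BG14R0.Tau3World G)
    {M K : Subgroup G} (hM : IsCoatom M) (hK : IsPiHallOf (kappa M) K M) (hK1 : K ≠ ⊥) :
    (∀ g : G, g ∉ M → (sigmaCore M ⊓ centralizer (K : Set G)) ⊓
        M.map (MulAut.conj g).toMonoidHom = ⊥) ∧
      (∀ g ∈ M, g ∉ K ⊔ (sigmaCore M ⊓ centralizer (K : Set G)) →
        K ⊓ K.map (MulAut.conj g).toMonoidHom = ⊥) ∧
      (∀ (p : ℕ), p.Prime → p ∣ Nat.card ↥(sigmaCore M ⊓ centralizer (K : Set G)) →
        ∀ S : Sylow p ↥(sigmaCore M),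
        InUniqueMaximal ((S : Subgroup ↥(sigmaCore M)).map (sigmaCore M).subtype) ∧
        (S : Subgroup ↥(sigmaCore M)).map (sigmaCore M).subtype ≤ M ∧
        ¬ (S : Subgroup ↥(sigmaCore M)).map (sigmaCore M).subtype ≤
          (sigmaCore M ⊓ centralizer (K : Set G))) ∧
      ∀ Y : Subgroup G, (∀ p : ℕ, p.Prime → p ∣ Nat.card ↥Y → p ∈ sigma M) →
        Y ⊓ (sigmaCore M ⊓ centralizer (K : Set G)) ≠ ⊥ → Y ≤ sigmaCore M :=
  have h := Cfsg.Agent.S1428.hyps hG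
  have s := sigHyps hG
  st1431_final hG h.h1403 h.h1404 h.h1413 h.h1416 h.h1350 h.h1414 h.h1417 h.h1418 h.h1415
    (h1408 hG) h.h1409 (h1423 hG) (st1378b hG) s.h1427 s.h1428 s.h1423 (h1425 hG) s.h1426
    h.h1405 h.h1406 tw (hypU hG) (hThmAU hG) hM hK hK1

end Cfsg.Agent.Helper14.BG14Plug
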