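import Mathlib
import Cfsg.Prelude.Def_Blocks
import Cfsg.Agent.Lib.Helper24.CharLinear
import Cfsg.Agent.Lib.Helper24.CharOrtho
import Cfsg.Agent.Lib.Helper24.CharComplete
import Cfsg.Agent.Lib.Helper24.CharAlgebra
import Cfsg.Agent.Lib.Helper24.CharHom
import Cfsg.Agent.Lib.Helper24.CharQuotient
import Cfsg.Agent.Lib.Helper25.BRBCONS
import Cfsg.Agent.S4503

/-!
# S4504 PIECE IRR (helper14): at the boundary `2 χ(1) + 1 = p` a faithful character is irreducible

If `χ` is reducible, every irreducible constituent `ζ` has degree `< (p-1)/2`, so by S4503 applied to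
`G ⧸ ker ζ` there is a normal subgroup `R_ζ ⊇ ker ζ` containing every element of order dividing `p`,
with `g ^ p ∈ ker ζ` for `g ∈ R_ζ`.  The intersection `D` of the `R_ζ` is normal, contains every
element of order `p` and has exponent `p` (`χ` is faithful): a normal subgroup of order `p`.
-/

set_option autoImplicit false
set_option linter.unusedSectionVars false
set_option linter.unusedVariables false

namespace Cfsg.Agent.Helper21.BH

open scoped ComplexConjugate
open Cfsg Cfsg.Agent.Helper24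

universe u

namespace IRR

/-- a normal subgroup of order `p` of a group whose order is not divisible by `p²` contains every
element of order dividing `p`. -/
theorem mem_of_pow_eq_one {Q : Type u} [Group Q] [Finite Q] (p : ℕ) (hp : p.Prime)
    (hsq : ¬ p ^ 2 ∣ Nat.card Q) (H : Subgroup Q) [H.Normal] (hH : Nat.card H = p) (x : Q)
    (hx : x ^ p = 1) : x ∈ H := by
  haveI : Fact p.Prime := ⟨hp⟩
  have ho : orderOf x ∣ p := orderOf_dvd_of_pow_eq_one hx
  rcases (Nat.dvd_prime hp).1 ho with h1 | h1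
  · rw [orderOf_eq_one_iff] at h1
    rw [h1]
    exact H.one_mem
  · have hH' : IsPGroup p H := IsPGroup.of_card (n := 1) (by rw [hH, pow_one])
    have hZ' : IsPGroup p (Subgroup.zpowers x) :=
      IsPGroup.of_card (n := 1) (by rw [Nat.card_zpowers, h1, pow_one])
    have hS : IsPGroup p (H ⊔ Subgroup.zpowers x : Subgroup Q) :=
      IsPGroup.to_sup_of_normal_left hH' hZ'
    obtain ⟨n, hn⟩ := hS.exists_card_eq
    have hle : H ≤ H ⊔ Subgroup.zpowers x := le_sup_left
    have hdvd : Nat.card (H ⊔ Subgroup.zpowers x : Subgroup Q) ∣ Nat.card Q :=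
      Subgroup.card_subgroup_dvd_card _
    have hn2 : n < 2 := by
      by_contra hge
      push Not at hge
      apply hsq
      rw [hn] at hdvd
      exact dvd_trans (pow_dvd_pow p hge) hdvd
    have hcard : Nat.card (H ⊔ Subgroup.zpowers x : Subgroup Q) ≤ Nat.card H := by
      rw [hn, hH]
      interval_cases n
      · simp [hp.one_lt.le]
      · simp
    have heq : H = H ⊔ Subgroup.zpowers x := Subgroup.eq_of_le_of_card_ge hle hcard
    rw [heq]
    exact (le_sup_right : Subgroup.zpowers x ≤ H ⊔ Subgroup.zpowers x) (Subgroup.mem_zpowers x)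

/-- a constituent of a reducible character has smaller degree. -/
theorem deg_lt {G : Type u} [Group G] [Fintype G] {χ : G → ℂ} (hχ : IsCharacter G χ)
    (hirr : ¬ IsIrrCharacter G χ) (ζ : IrrCharacter G) (h : classInner χ (ζ : G → ℂ) ≠ 0) :
    charDegree (ζ : G → ℂ) < charDegree χ := by
  classical
  haveI : Fintype (IrrCharacter G) := irrFintype
  by_contra hge
  push Not at hge
  apply hirr
  obtain ⟨hm, hdec⟩ := isCharacter_decomp hχ
  choose a ha using hm
  have hdeg : charDegree χ = ∑ ψ : IrrCharacter G, a ψ * charDegree (ψ : G → ℂ) := by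
    have h1 : χ 1 = ∑ ψ : IrrCharacter G, ((a ψ * charDegree (ψ : G → ℂ) : ℕ) : ℂ) := by
      have := congrFun hdec 1
      rw [Finset.sum_apply] at this
      rw [this]
      apply Finset.sum_congr rfl
      intro ψ _
      rw [Pi.smul_apply, smul_eq_mul, ha ψ, irr_one_eq_charDegree ψ.2]
      push_cast
      ring
    have h2 : χ 1 = ((∑ ψ : IrrCharacter G, a ψ * charDegree (ψ : G → ℂ) : ℕ) : ℂ) := by
      rw [h1]
      push_cast
      rfl
    exact charDegree_natCast _ h2
  have haζ : a ζ ≠ 0 := by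
    intro h0
    apply h
    rw [ha ζ, h0]
    simp
  have hdζ : 0 < charDegree (ζ : G → ℂ) := charDegree_pos ζ.2
  have hsplit := Finset.add_sum_erase Finset.univ (fun ψ : IrrCharacter G =>
    a ψ * charDegree (ψ : G → ℂ)) (Finset.mem_univ ζ)
  rw [← hdeg] at hsplit
  beta_reduce at hsplit
  have h3 : charDegree (ζ : G → ℂ) ≤ a ζ * charDegree (ζ : G → ℂ) :=
    Nat.le_mul_of_pos_left _ (Nat.pos_of_ne_zero haζ)
  have hrest : ∑ ψ ∈ Finset.univ.erase ζ, a ψ * charDegree (ψ : G → ℂ) = 0 := by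
    omega
  have haζ1 : a ζ = 1 := by
    have h4 : a ζ * charDegree (ζ : G → ℂ) = charDegree (ζ : G → ℂ) := by
      omega
    have h5 : a ζ * charDegree (ζ : G → ℂ) = 1 * charDegree (ζ : G → ℂ) := by rw [h4, one_mul]
    exact Nat.eq_of_mul_eq_mul_right hdζ h5
  have hzero : ∀ ψ : IrrCharacter G, ψ ≠ ζ → a ψ = 0 := by
    intro ψ hψ
    have := (Finset.sum_eq_zero_iff.mp hrest) ψ (Finset.mem_erase.mpr ⟨hψ, Finset.mem_univ _⟩)
    rcases Nat.mul_eq_zero.1 this with h0 | h0
    · exact h0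
    · exact absurd h0 (charDegree_pos ψ.2).ne'
  have : χ = (ζ : G → ℂ) := by
    rw [hdec, Finset.sum_eq_single ζ]
    · rw [ha, haζ1]
      simp
    · intro ψ _ hψ
      rw [ha, hzero ψ hψ]
      simp
    · intro hn
      exact absurd (Finset.mem_univ _) hn
  rw [this]
  exact ζ.2

/-- S4503 on `G ⧸ ker ζ`. -/
theorem exists_normal {G : Type u} [Group G] [Finite G] (p : ℕ) (hp : p.Prime)
    (hsq : ¬ p ^ 2 ∣ Nat.card G) (ζ : IrrCharacter G)
    (hdeg : 2 * charDegree (ζ : G → ℂ) + 1 < p) :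
    ∃ R : Subgroup G, R.Normal ∧ (∀ a : G, a ^ p = 1 → a ∈ R) ∧
      ∀ g ∈ R, (ζ : G → ℂ) (g ^ p) = (ζ : G → ℂ) 1 := by
  classical
  have hζc : IsCharacter G (ζ : G → ℂ) := isCharacter_of_isIrrCharacter ζ.2
  set K : Subgroup G := charKer hζc with hK
  haveI hKn : K.Normal := charKer_normal hζc
  obtain ⟨ψ, hψ, hζψ⟩ := exists_deflate_char K hζc (fun n hn => (mem_charKer hζc n).1 hn)
  have hval : ∀ g : G, (ζ : G → ℂ) g = ψ (QuotientGroup.mk g) := fun g => congrFun hζψ g
  have hfaith : ∀ q : G ⧸ K, ψ q = ψ 1 → q = 1 := by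
    intro q hq
    induction q using QuotientGroup.induction_on with
    | H g =>
      have h1 : (ζ : G → ℂ) g = (ζ : G → ℂ) 1 := by
        rw [hval g, hval 1, hq]
        rfl
      exact (QuotientGroup.eq_one_iff g).2 ((mem_charKer hζc g).2 h1)
  have hdegψ : charDegree ψ = charDegree (ζ : G → ℂ) := by
    rw [hζψ, charDegree_inflate]
  have hsq' : ¬ p ^ 2 ∣ Nat.card (G ⧸ K) := fun h =>
    hsq (dvd_trans h (Subgroup.card_quotient_dvd_card K))
  have hkerpow : ∀ g : G, (QuotientGroup.mk g : G ⧸ K) ^ p = 1 →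
      (ζ : G → ℂ) (g ^ p) = (ζ : G → ℂ) 1 := by
    intro g hg
    have h1 : ((g ^ p : G) : G ⧸ K) = 1 := by
      rw [QuotientGroup.mk_pow]
      exact hg
    exact (mem_charKer hζc _).1 ((QuotientGroup.eq_one_iff _).1 h1)
  by_cases hdiv : p ∣ Nat.card (G ⧸ K)
  · by_cases hex : ∃ H : Subgroup (G ⧸ K), H.Normal ∧ Nat.card H = p
    · obtain ⟨H, hHn, hHc⟩ := hex
      haveI := hHn
      refine ⟨H.comap (QuotientGroup.mk' K), hHn.comap _, ?_, ?_⟩
      · intro a ha
        rw [Subgroup.mem_comap]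
        apply mem_of_pow_eq_one p hp hsq' H hHc
        rw [QuotientGroup.mk'_apply, ← QuotientGroup.mk_pow, ha]
        rfl
      · intro g hg
        rw [Subgroup.mem_comap, QuotientGroup.mk'_apply] at hg
        apply hkerpow
        have h1 : (⟨(QuotientGroup.mk g : G ⧸ K), hg⟩ : H) ^ Nat.card H = 1 := pow_card_eq_one'
        rw [hHc] at h1
        exact congrArg Subtype.val h1
    · exfalso
      push Not at hex
      have := Cfsg.Agent.S4503.result p hp hdiv hsq' (fun H hH hc => hex H hH hc) ψ hψ hfaith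
      omega
  · refine ⟨K, hKn, ?_, ?_⟩
    · intro a ha
      have h1 : (QuotientGroup.mk a : G ⧸ K) ^ p = 1 := by
        rw [← QuotientGroup.mk_pow, ha]
        rfl
      have h2 : orderOf (QuotientGroup.mk a : G ⧸ K) ∣ p := orderOf_dvd_of_pow_eq_one h1
      have h3 : orderOf (QuotientGroup.mk a : G ⧸ K) ∣ Nat.card (G ⧸ K) := orderOf_dvd_natCard _
      rcases (Nat.dvd_prime hp).1 h2 with h4 | h4
      · rw [orderOf_eq_one_iff] at h4
        exact (QuotientGroup.eq_one_iff a).1 h4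
      · rw [h4] at h3
        exact absurd h3 hdiv
    · intro g hg
      exact (mem_charKer hζc _).1 (K.pow_mem hg p)

end IRR

/-- PIECE IRR. -/
theorem irr_of_boundary {G : Type u} [Group G] [Finite G] (p : ℕ) (hp : p.Prime)
    (hdiv : p ∣ Nat.card G) (hsq : ¬ p ^ 2 ∣ Nat.card G)
    (hnn : ∀ K : Subgroup G, K.Normal → Nat.card K ≠ p) (χ : G → ℂ) (hχ : IsCharacter G χ)
    (hfaith : ∀ g : G, χ g = χ 1 → g = 1) (hdeg : 2 * charDegree χ + 1 = p) :
    IsIrrCharacter G χ := by
  classical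
  by_contra hirr
  haveI : Fact p.Prime := ⟨hp⟩
  haveI : Fintype G := Fintype.ofFinite G
  have key : ∀ ζ : IrrCharacter G, classInner χ (ζ : G → ℂ) ≠ 0 →
      ∃ R : Subgroup G, R.Normal ∧ (∀ a : G, a ^ p = 1 → a ∈ R) ∧
        ∀ g ∈ R, (ζ : G → ℂ) (g ^ p) = (ζ : G → ℂ) 1 := by
    intro ζ hζ
    have := IRR.deg_lt hχ hirr ζ hζ
    exact IRR.exists_normal p hp hsq ζ (by omega)
  choose R hRn hRa hRg using key
  set D : Subgroup G :=
    ⨅ ζ : {ζ : IrrCharacter G // classInner χ (ζ : G → ℂ) ≠ 0}, R ζ.1 ζ.2 with hD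
  have hDn : D.Normal := Subgroup.normal_iInf_normal fun ζ => hRn ζ.1 ζ.2
  have hDpow : ∀ g ∈ D, g ^ p = 1 := by
    intro g hg
    apply hfaith
    apply Cfsg.Agent.Helper14.BRB.eq_of_constituents hχ
    intro ζ hζ
    exact hRg ζ hζ g ((Subgroup.mem_iInf.1 hg) ⟨ζ, hζ⟩)
  have hDmem : ∀ a : G, a ^ p = 1 → a ∈ D := by
    intro a ha
    exact Subgroup.mem_iInf.2 fun ζ => hRa ζ.1 ζ.2 a ha
  have hDp : IsPGroup p D := by
    intro g
    refine ⟨1, ?_⟩
    rw [pow_one]
    exact Subtype.ext (hDpow g g.2)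
  obtain ⟨n, hn⟩ := hDp.exists_card_eq
  obtain ⟨a, ha⟩ := exists_prime_orderOf_dvd_card' p hdiv
  have haD : a ∈ D := hDmem a (by rw [← ha]; exact pow_orderOf_eq_one a)
  have ha1 : a ≠ 1 := by
    intro h
    rw [h, orderOf_one] at ha
    exact hp.one_lt.ne ha
  have hn0 : n ≠ 0 := by
    intro h0
    rw [h0, pow_zero] at hn
    have hbot : D = ⊥ := Subgroup.card_eq_one.1 hn
    rw [hbot, Subgroup.mem_bot] at haD
    exact ha1 haD
  have hn2 : n < 2 := by
    by_contra hge
    push Not at hge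
    apply hsq
    have hdvd : Nat.card D ∣ Nat.card G := Subgroup.card_subgroup_dvd_card D
    rw [hn] at hdvd
    exact dvd_trans (pow_dvd_pow p hge) hdvd
  have hn1 : n = 1 := by omega
  rw [hn1, pow_one] at hn
  exact hnn D hDn hn

end Cfsg.Agent.Helper21.BH
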