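import Mathlib
import Cfsg.Prelude.Def_Blocks
import Cfsg.Prelude.Def_Local
import Cfsg.Agent.Lib.Helper24.CharLinear
import Cfsg.Agent.Lib.Helper24.CharHom
import Cfsg.Agent.Lib.Helper2.BRR1
import Cfsg.Agent.S4468

/-!
# S4504 PIECE RCENT (helper14): a normal subgroup not containing `P` centralizes `⟨P^G⟩`

`K ⊔ P` is `p`-solvable (`K` is a `p'`-group, the quotient has order `p`) and has the faithful character `χ|_{K P}`
of degree `(p-1)/2 < p - 1`, so by S4468 its Sylow `p`-subgroup `P` is normal in it; `[K, P] ≤ K ⊓ P = ⊥`.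
Since `K` is normal it centralizes every conjugate of `P`, hence the normal closure.
-/

set_option autoImplicit false
set_option linter.unusedSectionVars false
set_option linter.unusedVariables false

namespace Cfsg.Agent.Helper21.BH

open scoped ComplexConjugate
open Cfsg Cfsg.Agent.Helper24

universe u

variable {G : Type u} [Group G] [Finite G] (p : ℕ) [Fact p.Prime] (P : Sylow p G)

local notation "𝓛" => Subgroup.normalClosure ((P : Subgroup G) : Set G)

namespace RCENT

/-- `p² ∤ |G|` when the Sylow `p`-subgroup has order `p`. -/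
theorem not_sq_dvd (hP : Nat.card P = p) : ¬ p ^ 2 ∣ Nat.card G := by
  have hpp : p.Prime := Fact.out
  intro h
  have hG0 : Nat.card G ≠ 0 := Nat.card_pos.ne'
  have h2 : 2 ≤ (Nat.card G).factorization p := (hpp.pow_dvd_iff_le_factorization hG0).mp h
  have h3 := Sylow.card_eq_multiplicity P
  rw [hP] at h3
  have h4 : p ^ 1 = p ^ (Nat.card G).factorization p := by rw [pow_one]; exact h3
  have := Nat.pow_right_injective hpp.two_le h4
  omega

/-- a group with a normal `p'`-subgroup of index `p` is `p`-solvable. -/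
theorem isPSolvable_of_normal {J : Type u} [Group J] [Finite J] (K' : Subgroup J) [K'.Normal]
    (hcop : (Nat.card K').Coprime p) (hidx : K'.index = p) : IsPSolvable p J := by
  refine ⟨2, ![⊥, K', ⊤], rfl, rfl, ?_, ?_, ?_⟩
  · rw [Fin.monotone_iff_le_succ]
    intro i
    fin_cases i
    · exact bot_le
    · exact le_top
  · intro i
    fin_cases i
    · show (⊥ : Subgroup J).Normal
      infer_instance
    · show K'.Normal
      infer_instance
    · show (⊤ : Subgroup J).Normal
      infer_instance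
  · intro i
    fin_cases i
    · right
      show ((⊥ : Subgroup J).relIndex K').Coprime p
      rw [Subgroup.relIndex_bot_left]
      exact hcop
    · left
      refine ⟨1, ?_⟩
      show K'.relIndex ⊤ = p ^ 1
      rw [Subgroup.relIndex_top_right, pow_one]
      exact hidx

end RCENT

/-- PIECE RCENT. -/
theorem normal_centralizes (hP : Nat.card P = p) (χ : G → ℂ) (hχ : IsCharacter G χ)
    (hfaith : ∀ g : G, χ g = χ 1 → g = 1) (hdeg : 2 * charDegree χ + 1 = p)
    (K : Subgroup G) (hK : K.Normal) (hPK : ¬ (P : Subgroup G) ≤ K) :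
    K ≤ Subgroup.centralizer (𝓛 : Set G) := by
  classical
  have hpp : p.Prime := Fact.out
  haveI := hK
  have hsq : ¬ p ^ 2 ∣ Nat.card G := RCENT.not_sq_dvd p P hP
  have hPc : Nat.card (P : Subgroup G) = p := hP
  have hpK : ¬ p ∣ Nat.card K := fun h =>
    hPK (Cfsg.Agent.Helper2.BRR.le_of_normal_of_dvd hsq hPc K h)
  have hcop : (Nat.card (P : Subgroup G)).Coprime (Nat.card K) := by
    rw [hPc]
    exact (Nat.Prime.coprime_iff_not_dvd hpp).mpr hpK
  have hinf : (P : Subgroup G) ⊓ K = ⊥ := (Subgroup.disjoint_of_coprime_natCard hcop).eq_bot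
  -- the group `J = K P`
  set J : Subgroup G := K ⊔ (P : Subgroup G) with hJ
  have hKJ : K ≤ J := le_sup_left
  have hPJ : (P : Subgroup G) ≤ J := le_sup_right
  set K' : Subgroup J := K.subgroupOf J with hK'
  haveI hK'n : K'.Normal := hK.subgroupOf J
  have hcardK' : Nat.card K' = Nat.card K :=
    Nat.card_congr (Subgroup.subgroupOfEquivOfLe hKJ).toEquiv
  have hidx : K'.index = p := by
    have h1 : K.relIndex (K ⊔ (P : Subgroup G)) = K.relIndex (P : Subgroup G) :=
      Subgroup.relIndex_sup_left _ _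
    have h2 : K.relIndex (P : Subgroup G) = p := by
      rw [← Subgroup.inf_relIndex_right, inf_comm, hinf, Subgroup.relIndex_bot_left, hPc]
    show K.relIndex J = p
    rw [hJ, h1, h2]
  have hsolv : IsPSolvable p J :=
    RCENT.isPSolvable_of_normal p K' (by
      rw [hcardK']
      exact ((Nat.Prime.coprime_iff_not_dvd hpp).mpr hpK).symm) hidx
  -- S4468
  set PJ : Sylow p J := P.subtype hPJ with hPJdef
  have hPJn : (PJ : Subgroup J).Normal := by
    by_contra hnot
    have h1 := Cfsg.Agent.S4468.result (fun x : J => χ (x : G)) (isCharacter_restrict J hχ)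
      (fun g hg => Subtype.ext (hfaith (g : G) hg)) (charDegree χ) rfl p hpp hsolv
      (by omega) PJ hnot
    have h2 := h1.1
    have h3 := hpp.two_le
    omega
  -- elements of `K` centralize `P`
  have hcent : ∀ k ∈ K, ∀ a ∈ (P : Subgroup G), k * a = a * k := by
    intro k hk a ha
    have hconj : k * a * k⁻¹ ∈ (P : Subgroup G) := by
      have h1 : (⟨a, hPJ ha⟩ : J) ∈ (PJ : Subgroup J) := by
        rw [hPJdef, Sylow.coe_subtype, Subgroup.mem_subgroupOf]
        exact ha
      have h2 := hPJn.conj_mem _ h1 (⟨k, hKJ hk⟩ : J)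
      rw [hPJdef, Sylow.coe_subtype, Subgroup.mem_subgroupOf] at h2
      exact h2
    have h1 : k * a * k⁻¹ * a⁻¹ ∈ (P : Subgroup G) :=
      (P : Subgroup G).mul_mem hconj ((P : Subgroup G).inv_mem ha)
    have h2 : k * a * k⁻¹ * a⁻¹ ∈ K := by
      have h3 : k * (a * k⁻¹ * a⁻¹) ∈ K := K.mul_mem hk (hK.conj_mem _ (K.inv_mem hk) a)
      have e : k * a * k⁻¹ * a⁻¹ = k * (a * k⁻¹ * a⁻¹) := by group
      rw [e]
      exact h3
    have h4 : k * a * k⁻¹ * a⁻¹ ∈ (P : Subgroup G) ⊓ K := Subgroup.mem_inf.mpr ⟨h1, h2⟩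
    rw [hinf, Subgroup.mem_bot] at h4
    calc k * a = (k * a * k⁻¹ * a⁻¹) * (a * k) := by group
      _ = a * k := by rw [h4, one_mul]
  -- the normal closure
  intro k hk
  rw [Subgroup.mem_centralizer_iff]
  have hle : 𝓛 ≤ Subgroup.centralizer ({k} : Set G) := by
    rw [Subgroup.normalClosure, Subgroup.closure_le]
    intro y hy
    obtain ⟨a, ha, hay⟩ := Group.mem_conjugatesOfSet_iff.1 hy
    obtain ⟨g, rfl⟩ := isConj_iff.1 hay
    rw [SetLike.mem_coe, Subgroup.mem_centralizer_iff]
    intro k' hk'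
    rw [Set.mem_singleton_iff] at hk'
    subst hk'
    have hk2 : g⁻¹ * k' * g ∈ K := by
      have := hK.conj_mem k' hk g⁻¹
      rwa [inv_inv] at this
    have h5 := hcent (g⁻¹ * k' * g) hk2 a ha
    calc k' * (g * a * g⁻¹) = g * ((g⁻¹ * k' * g) * a) * g⁻¹ := by group
      _ = g * (a * (g⁻¹ * k' * g)) * g⁻¹ := by rw [h5]
      _ = g * a * g⁻¹ * k' := by group
  intro l hl
  have := hle hl
  rw [Subgroup.mem_centralizer_iff] at this
  exact (this k rfl).symm

end Cfsg.Agent.Helper21.BH
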