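import Mathlib
import Cfsg.Prelude.Def_Blocks
import Cfsg.Agent.Lib.Helper14.BRBTHA
import Cfsg.Agent.Lib.Helper4.BHTHANUMB
import Cfsg.Agent.Lib.Helper21.BTDefs
import Cfsg.Agent.Lib.Helper21.BHDefs

/-!
# S4504 PIECE THAB (helper14): Theorem A at the boundary `2 ζ(1) + 1 ≤ p`

Same proof as `Cfsg.Agent.Helper14.BRB.restrict_structure` (Lib/Helper14/BRBTHA.lean), with helper4's
`tha_numerics_bdry` in place of `tha_numerics`; the character `ψ'` it returns replaces `ψ`.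
-/

set_option autoImplicit false
set_option linter.unusedSectionVars false
set_option linter.unusedVariables false
set_option linter.style.haveILetI false

namespace Cfsg.Agent.Helper21.BH

open scoped ComplexConjugate
open Cfsg Cfsg.Agent.Helper24 Cfsg.Agent.Helper5.TLD Cfsg.Agent.Helper5.TLG Cfsg.Agent.Helper14.BRB

universe u

variable {G : Type u} [Group G] [Fintype G] (p : ℕ) [Fact p.Prime]
variable (P : Sylow p G)

local notation "𝒞" => Subgroup.centralizer ((P : Subgroup G) : Set G)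
local notation "𝒩" => Subgroup.normalizer ((P : Subgroup G) : Set G)

set_option maxHeartbeats 3200000 in
/-- PIECE THAB (boundary version of Theorem A: `2 ζ(1) + 1 ≤ p`), proved from THA1, THA2, THANUMB. -/
theorem restrict_structure_bdry (M : Ideal AlgInt) (hM : IsPModular p M) (hP : Nat.card P = p)
    (f : ℕ) (hf : (𝒞).relIndex 𝒩 = f)
    (ν : MulAut (P : Subgroup G)) (hνf : ν ^ f = 1)
    (hfpf : ∀ k : ℕ, 0 < k → k < f → ∀ a : (P : Subgroup G), (ν ^ k) a = a → a = 1)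
    (hν3 : ∀ t ∈ 𝒩, ∃ k < f, ∀ a : (P : Subgroup G),
      t * (a : G) * t⁻¹ = (((ν ^ k) a : (P : Subgroup G)) : G))
    (hν4 : ∀ k : ℕ, ∃ t ∈ 𝒩, ∀ a : (P : Subgroup G),
      t * (a : G) * t⁻¹ = (((ν ^ k) a : (P : Subgroup G)) : G))
    (ζ : IrrCharacter G) (hdeg : 2 * charDegree (ζ : G → ℂ) + 1 ≤ p)
    (hker : ∃ x ∈ (P : Subgroup G), (ζ : G → ℂ) x ≠ (ζ : G → ℂ) 1) :
    ∃ (ψ : IrrCharacter (P : Subgroup G)) (m : ℕ), ψ ≠ principalChar _ ∧ 0 < m ∧
      (∀ a : (P : Subgroup G), (ζ : G → ℂ) (a : G) =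
        (m : ℂ) * ∑ k ∈ Finset.range f, (ψ : ↥(P : Subgroup G) → ℂ) ((ν ^ k) a)) ∧
      ((∀ c ∈ 𝒞, ∀ c' ∈ 𝒞, c * c' = c' * c) → m = 1) := by
  classical
  have hpp : p.Prime := Fact.out
  haveI hMp : M.IsPrime := hM.2.1.isPrime
  letI : Fintype (IrrCharacter G) := irrFintype
  haveI : Fintype (P : Subgroup G) := Fintype.ofFinite _
  have hζc : IsCharacter G (ζ : G → ℂ) := isCharacter_of_isIrrCharacter ζ.2
  have hζcf : IsClassFunction G (ζ : G → ℂ) := isClassFunction_of_isIrrCharacter ζ.2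
  have hn0 : 0 < charDegree (ζ : G → ℂ) := charDegree_pos ζ.2
  have hresP : IsCharacter (P : Subgroup G) (fun a : (P : Subgroup G) => (ζ : G → ℂ) (a : G)) :=
    isCharacter_restrict _ hζc
  have hdegP : charDegree (fun a : (P : Subgroup G) => (ζ : G → ℂ) (a : G)) =
      charDegree (ζ : G → ℂ) := rfl
  obtain ⟨x, hxP, hx⟩ := hker
  have hfd : f ∣ p - 1 := hf ▸ Cfsg.Agent.Helper5.TL.relIndex_dvd p P hP
  have hp1 : 0 < p - 1 := by have := hpp.two_le; omega
  have hf0 : 0 < f := Nat.pos_of_dvd_of_pos hfd hp1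
  -- a nonidentity element of `P`
  obtain ⟨a₀, ha₀⟩ : ∃ a₀ : (P : Subgroup G), a₀ ≠ 1 := abs_exists_ne_one hP
  -- the consequence of constancy
  have hconst_false : ∀ c : ℂ, (∀ a : (P : Subgroup G), a ≠ 1 → (ζ : G → ℂ) (a : G) = c) →
      False := by
    intro c hc
    have h1 := tha_const p hP _ hresP c hc (by rw [hdegP]; omega)
    exact hx (h1 ⟨x, hxP⟩)
  -- Step 0: `f ≠ p - 1`
  have hfne : f ≠ p - 1 := by
    intro hfe
    apply hconst_false ((ζ : G → ℂ) (a₀ : G))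
    intro a ha
    obtain ⟨k, rfl⟩ := tha_trans p hP ν (hfe ▸ hfpf) a₀ a ha₀ ha
    obtain ⟨t, ht, htk⟩ := hν4 k
    rw [← htk a₀]
    exact hζcf (a₀ : G) t
  have hf2 : 2 * f ≤ p - 1 := by
    obtain ⟨q, hq⟩ := hfd
    rcases Nat.lt_or_ge q 2 with h | h
    · interval_cases q
      · omega
      · omega
    · calc 2 * f ≤ q * f := Nat.mul_le_mul_right f h
        _ = p - 1 := by rw [hq, mul_comm]
  -- `p ‖ |G|`
  have hG0 : Nat.card G ≠ 0 := Nat.card_pos.ne'
  have hfac : (Nat.card G).factorization p = 1 := by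
    have h1 : Nat.card P = p ^ (Nat.card G).factorization p := Sylow.card_eq_multiplicity P
    rw [hP] at h1
    exact (Nat.pow_right_injective hpp.two_le (by simpa using h1)).symm
  have hdiv : p ∣ Nat.card G := by
    have := Nat.ordProj_dvd (Nat.card G) p
    rwa [hfac, pow_one] at this
  have hsq : ¬ p ^ 2 ∣ Nat.card G := by
    intro h
    have := (hpp.pow_dvd_iff_le_factorization hG0).1 h
    omega
  -- the block of `ζ` and its root
  set B : Set (IrrCharacter G) := blockOf M (ζ : G → ℂ) with hBdef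
  have hB : IsPBlock M B := ⟨ζ, rfl⟩
  have hζB : ζ ∈ B := Cfsg.Agent.Helper23.Blk.mem_blockOf_self ζ
  have hndvd : ¬ p ∣ charDegree (ζ : G → ℂ) := Nat.not_dvd_of_pos_of_lt hn0 (by omega)
  have hd := Cfsg.Agent.Helper12.MK1.defect_pos_of_not_dvd p hdiv hsq B ζ hζB hndvd
  obtain ⟨θ, hθP, hind⟩ := Cfsg.Agent.Helper12.MK1.exists_root_at p M hM hdiv hsq P B hB hd
  have hBP := Cfsg.Agent.Helper12.MK1.isDefectGroup_of_defect_pos p M hM hdiv hsq P B hB hd
  haveI : Fintype 𝒞 := Fintype.ofFinite _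
  set b : Set (IrrCharacter 𝒞) := blockOf M (θ : 𝒞 → ℂ) with hbdef
  have hθ : θ ∈ b := Cfsg.Agent.Helper23.Blk.mem_blockOf_self θ
  obtain ⟨T, hT⟩ := exists_stab p P θ
  obtain ⟨hCT, hTN⟩ := cent_le_T_le_norm p P θ T hT
  set e := (𝒞).relIndex T with he
  have hmul : e * T.relIndex 𝒩 = f := by
    rw [← hf, he]
    exact Subgroup.relIndex_mul_relIndex _ _ _ hCT hTN
  have hef : e ∣ f := ⟨_, hmul.symm⟩
  have hed : e ∣ p - 1 := hef.trans hfd
  have he0 : 0 < e := Nat.pos_of_dvd_of_pos hed hp1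
  have hele : e ≤ f := Nat.le_of_dvd hf0 hef
  have he2 : 2 * e ≤ p - 1 := by omega
  obtain ⟨νT, hνe, hfpfT, hνT3, hνT4⟩ := exists_T_package p P hP T hCT hTN e he.symm
  set X : Finset (IrrCharacter G) := Finset.univ.filter (fun χ => χ ∈ B) with hXdef
  have hX : ∀ χ, χ ∈ X ↔ χ ∈ B := by
    intro χ
    rw [hXdef, Finset.mem_filter]
    exact ⟨fun h => h.2, fun h => ⟨Finset.mem_univ _, h⟩⟩
  set F : IrrCharacter G → ↥(P : Subgroup G) → ℂ := fun χ a =>
    FP p P (θ : 𝒞 → ℂ) (χ : G → ℂ) (a : G) with hF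
  set d : IrrCharacter G → ℕ := fun χ => charDegree (χ : G → ℂ) with hd'
  obtain ⟨Xs, Y, s, ε, δ, dd, ζf, hunion, hdisj, hXs, hY, hXsval, hε, hδ, hYval, hζY, hζsurj,
      hζorb, hζval, hw⟩ :=
    abs_structure' (A := (P : Subgroup G)) p hP X F d νT e he0 hed hνe hfpfT
      (fun χ _ => isCharacter_FP p P hP θ hθP χ)
      (fun χ _ a => FP_nu_invariant p P θ T hT νT hνT4 χ a)
      (fun χ _ => Cfsg.Agent.Helper24.charDegree_pos χ.2)
      (fun a a' ha ha' => col_rel p M hM P hP B hB b hind θ hθ hθP T hT e νT hfpfT hνT3 hνT4 X hX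
        a a' ha ha')
      (fun a ha => deg_rel p M hM P hP B hB b hind θ hθ hθP X hX a ha)
      (fun χ hχ => by
        obtain ⟨a, haP, ha1, hne⟩ :=
          exists_FP_ne_zero p M hM P hP B hB hBP b hind θ hθ hθP χ ((hX χ).1 hχ)
        exact ⟨⟨a, haP⟩, fun h => ha1 (congrArg Subtype.val h), hne⟩)
      (fun χ hχ a ha => tl_rel p M hM P hP B hB b hind θ hθ hθP X hX χ a ha)
  have hζX : ζ ∈ Xs ∨ ζ ∈ Y := by
    rw [← Finset.mem_union, hunion, hX]
    exact hζB
  obtain ⟨hA1, hA2⟩ := char_eq_sum_FP p P M hM hP B hB b hind θ hθ hθP T hT e f he.symm hf ζ hζB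
  -- cardinalities
  have hcardT : (Nat.card T : ℂ) = (Nat.card 𝒞 : ℂ) * (e : ℂ) := by
    have h1 := Subgroup.relIndex_mul_relIndex (⊥ : Subgroup G) 𝒞 T bot_le hCT
    rw [Subgroup.relIndex_bot_left, Subgroup.relIndex_bot_left, ← he] at h1
    rw [← h1]
    push_cast
    ring
  have hC0 : (Nat.card 𝒞 : ℂ) ≠ 0 := by
    exact_mod_cast (Nat.card_pos (α := 𝒞)).ne'
  have he0' : (e : ℂ) ≠ 0 := by exact_mod_cast he0.ne'
  have hT0 : (Nat.card T : ℂ) ≠ 0 := by
    rw [hcardT]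
    exact mul_ne_zero hC0 he0'
  -- THA2 for `N` applied to the `θ`-part of `ζ`
  have hsumN : ∀ a : (P : Subgroup G), a ≠ 1 →
      (ζ : G → ℂ) (a : G) * (e : ℂ) = (θ : 𝒞 → ℂ) 1 *
        ∑ j ∈ Finset.range f, F ζ ((ν ^ j) a) := by
    intro a ha
    have ha' : (a : G) ≠ 1 := fun h => ha (Subtype.ext h)
    have h1 := hA1 (a : G) a.2 ha'
    have h2 := sum_conj_package p P hP 𝒩 (Subgroup.centralizer_le_normalizer _) le_rfl f hf ν hνf
      hfpf hν3 hν4 (FP p P (θ : 𝒞 → ℂ) (ζ : G → ℂ)) a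
    rw [h2, hcardT] at h1
    have h3 : (ζ : G → ℂ) (a : G) * (e : ℂ) * (Nat.card 𝒞 : ℂ) =
        ((θ : 𝒞 → ℂ) 1 * ∑ j ∈ Finset.range f, F ζ ((ν ^ j) a)) * (Nat.card 𝒞 : ℂ) := by
      rw [hF]
      linear_combination h1
    exact mul_right_cancel₀ hC0 h3
  have hνne : ∀ (j : ℕ) (a : (P : Subgroup G)), a ≠ 1 → (ν ^ j) a ≠ 1 := by
    intro j a ha h
    apply ha
    have : (ν ^ j) a = (ν ^ j) 1 := by rw [h, map_one]
    exact (ν ^ j).injective this
  rcases hζX with hζXs | hζY'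
  · -- `ζ ∈ Xs`: constant on `P^#`
    exfalso
    obtain ⟨-, hsval, -⟩ := hXsval ζ hζXs
    apply hconst_false ((θ : 𝒞 → ℂ) 1 * ((f : ℂ) * (s ζ : ℂ)) / (e : ℂ))
    intro a ha
    rw [eq_div_iff he0', hsumN a ha]
    congr 1
    rw [Finset.sum_congr rfl (fun j _ => hsval _ (hνne j a ha)), Finset.sum_const,
      Finset.card_range, nsmul_eq_mul]
  · -- `ζ ∈ Y`
    obtain ⟨ψ, hψ, hζψ⟩ := hζsurj ζ hζY'
    have hπ : IsCharacter (P : Subgroup G) (F ζ) := isCharacter_FP p P hP θ hθP ζ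
    obtain ⟨z, hz⟩ : ∃ z : ℕ, F ζ 1 = z := char_one_eq hπ
    obtain ⟨zz, hzz, hzc⟩ := hYval ζ hζY'
    have hzz' : zz = (z : ℤ) := by
      have h1 : ((zz : ℤ) : ℂ) = ((z : ℤ) : ℂ) := by
        rw [← hzz, hz]
        simp
      exact_mod_cast h1
    rw [hzz'] at hzc
    have hFP1 : FP p P (θ : 𝒞 → ℂ) (ζ : G → ℂ) 1 = (z : ℂ) := by
      have := hz
      simpa [hF] using this
    obtain ⟨r, hr⟩ := hA2 z hFP1
    have hθ0 : 0 < charDegree (θ : 𝒞 → ℂ) := charDegree_pos θ.2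
    have hfe0 : 0 < f / e := Nat.div_pos hele he0
    have hfee : f / e * e = f := Nat.div_mul_cancel hef
    have hr0 : r = 0 := by
      by_contra hne
      have h1 : p ≤ p * r := Nat.le_mul_of_pos_right p (Nat.pos_of_ne_zero hne)
      omega
    rw [hr0, mul_zero, add_zero] at hr
    have hzle : z ≤ charDegree (ζ : G → ℂ) := by
      rw [hr]
      exact Nat.le_mul_of_pos_left z (Nat.mul_pos hfe0 hθ0)
    obtain ⟨ψ', hψ', hze, hval'⟩ := tha_numerics_bdry p hP νT e he0 he2 hνe hfpfT (F ζ) hπ ψ hψ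
      dd δ ε (z : ℤ) hδ hε (fun a ha => by rw [← hζψ]; exact hζval ψ hψ a ha)
      (by rw [hz]; simp) hzc (by omega)
    have hze' : z = e := by exact_mod_cast hze
    -- `νT` is a power of `ν`
    obtain ⟨t₁, ht₁, ht₁ν⟩ := hνT4 1
    obtain ⟨i₀, -, hi₀⟩ := hν3 t₁ (hTN ht₁)
    have hνT : ∀ (k : ℕ) (a : (P : Subgroup G)), (νT ^ k) a = (ν ^ (i₀ * k)) a := by
      have h1 : νT = ν ^ i₀ := by
        ext a
        have h2 := ht₁ν a
        rw [hi₀ a, pow_one] at h2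
        exact h2.symm
      intro k a
      rw [h1, ← pow_mul]
    have hper : ∀ (a : (P : Subgroup G)) (j : ℕ), (ν ^ (j + f)) a = (ν ^ j) a := by
      intro a j
      rw [pow_add, hνf, mul_one]
    refine ⟨ψ', charDegree (θ : 𝒞 → ℂ), hψ', hθ0, ?_, ?_⟩
    · intro a
      by_cases ha : a = 1
      · subst ha
        have hψ1 : (ψ' : ↥(P : Subgroup G) → ℂ) 1 = 1 := by
          letI : Fintype (IrrCharacter (P : Subgroup G)) := irrFintype
          rw [irr_one_eq_charDegree ψ'.2, charDegree_eq_one_of_comm (abs_comm hP) ψ'.2]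
          simp
        simp only [map_one, hψ1, Finset.sum_const, Finset.card_range, nsmul_eq_mul, mul_one,
          Subgroup.coe_one]
        rw [irr_one_eq_charDegree ζ.2, hr, hze', mul_assoc, mul_comm (charDegree (θ : 𝒞 → ℂ)) e,
          ← mul_assoc, hfee]
        push_cast
        ring
      · have h1 := hsumN a ha
        have h2 : ∀ j ∈ Finset.range f, F ζ ((ν ^ j) a) =
            ∑ k ∈ Finset.range e, (ψ' : ↥(P : Subgroup G) → ℂ) ((ν ^ (j + i₀ * k)) a) := by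
          intro j _
          have h3 := hval' ((ν ^ j) a) (hνne j a ha)
          rw [h3]
          refine Finset.sum_congr rfl fun k _ => ?_
          rw [hνT k, ← MulAut.mul_apply, ← pow_add, add_comm]
        rw [Finset.sum_congr rfl h2, Finset.sum_comm] at h1
        have h4 : ∀ k ∈ Finset.range e, ∑ j ∈ Finset.range f,
            (ψ' : ↥(P : Subgroup G) → ℂ) ((ν ^ (j + i₀ * k)) a) =
            ∑ j ∈ Finset.range f, (ψ' : ↥(P : Subgroup G) → ℂ) ((ν ^ j) a) := by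
          intro k _
          exact tha_sum_shift (fun j => (ψ' : ↥(P : Subgroup G) → ℂ) ((ν ^ j) a)) f
            (fun j => by rw [hper a j]) (i₀ * k)
        rw [Finset.sum_congr rfl h4, Finset.sum_const, Finset.card_range, nsmul_eq_mul] at h1
        rw [← irr_one_eq_charDegree θ.2]
        have h5 : (ζ : G → ℂ) (a : G) * (e : ℂ) =
            ((θ : 𝒞 → ℂ) 1 * ∑ j ∈ Finset.range f, (ψ' : ↥(P : Subgroup G) → ℂ) ((ν ^ j) a)) *
              (e : ℂ) := by
          linear_combination h1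
        exact mul_right_cancel₀ he0' h5
    · intro hcomm
      letI : Fintype (IrrCharacter 𝒞) := irrFintype
      exact charDegree_eq_one_of_comm
        (fun a b : 𝒞 => Subtype.ext (hcomm (a : G) a.2 (b : G) b.2)) θ.2

end Cfsg.Agent.Helper21.BH
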