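import Mathlib

/-!
# S4700 (Brauer-Reynolds Theorem 2), piece P-A: the arithmetic   (helper14)

`NC p n` : every divisor `d ≡ 1 (mod p)` of `(p-1)(1+np)` is `1` or `1+np`.

* `NC_of_not_c` (Lemma A): if alternative (c) of S4700 fails then `NC p n`;
* `L5'`, `L6'`, `L7'` : drop-in replacements of `Cfsg.Agent.Helper10.BRArith.L5/L6/L7` with `NC p n` in place
  of the bound `2 n ≤ p + 1`;
* `B1`, `B2`, `B4` : the general forms (Lemma B of plans/S4700_helper6_plan.md).
-/

set_option autoImplicit false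

namespace Cfsg.Agent.Helper14.BR4700

/-- every divisor `≡ 1 (mod p)` of `(p-1)(1+np)` is trivial -/
def NC (p n : ℕ) : Prop :=
  ∀ d : ℕ, d ∣ (p - 1) * (1 + n * p) → d % p = 1 → d = 1 ∨ d = 1 + n * p

/-- **Lemma A.** If alternative (c) fails, then `NC p n`. -/
theorem NC_of_not_c {p n : ℕ} (hp : 2 ≤ p)
    (hc : ¬ ∃ h u : ℕ, 0 < h ∧ 0 < u ∧ n * (u + 1) = h * u * p + u ^ 2 + u + h) : NC p n := by
  intro d hd hmod
  by_contra hne
  push Not at hne
  obtain ⟨hd1, hdr⟩ := hne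
  apply hc
  obtain ⟨y, hy⟩ := hd
  -- `d = u p + 1`
  obtain ⟨u, hdu⟩ : ∃ u : ℕ, d = u * p + 1 := by
    refine ⟨d / p, ?_⟩
    have := Nat.div_add_mod d p
    rw [hmod] at this
    rw [mul_comm]
    exact this.symm
  have hu1 : 1 ≤ u := by
    rcases Nat.eq_zero_or_pos u with h0 | h0
    · exfalso
      rw [h0] at hdu
      apply hd1
      rw [hdu]
      ring
    · exact h0
  have hpZ : (2 : ℤ) ≤ p := by exact_mod_cast hp
  have hyZ : ((p : ℤ) - 1) * (1 + n * p) = (u * p + 1) * y := by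
    have h1 : (((p - 1) * (1 + n * p) : ℕ) : ℤ) = ((d * y : ℕ) : ℤ) := by rw [hy]
    rw [hdu] at h1
    push_cast [Nat.cast_sub (by omega : 1 ≤ p)] at h1
    exact h1
  -- `y + 1 = k p`
  set k : ℤ := 1 + n * p - n - u * y with hk
  have hkp : k * p = y + 1 := by rw [hk]; linear_combination hyZ
  have hkpos : 1 ≤ k := by
    by_contra hcon
    have hk0 : k ≤ 0 := by omega
    have hy0 : (0 : ℤ) ≤ y := Nat.cast_nonneg y
    nlinarith
  have hmain : (n : ℤ) * ((p : ℤ) - 1) = u * ((p : ℤ) - 1) + (k - 1) * (u * p + 1) := by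
    rw [hk]; linear_combination (-(u : ℤ)) * hyZ
  have hk2 : 2 ≤ k := by
    by_contra hcon
    have hk1 : k = 1 := by omega
    rw [hk1] at hmain
    have h2 : ((n : ℤ) - u) * ((p : ℤ) - 1) = 0 := by linear_combination hmain
    rcases mul_eq_zero.1 h2 with h | h
    · have : n = u := by
        have : (n : ℤ) = u := by linarith
        exact_mod_cast this
      apply hdr
      rw [hdu, this]
      ring
    · omega
  -- `h = n - k u`
  set h : ℤ := n - k * u with hh
  have hh1 : h * ((p : ℤ) - 1) = (k - 1) * (u + 1) := by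
    rw [hh]; linear_combination hmain
  have hhpos : 1 ≤ h := by
    by_contra hcon
    have hh0 : h ≤ 0 := by omega
    have hu0 : (1 : ℤ) ≤ u := by exact_mod_cast hu1
    nlinarith
  have hfin : ((n : ℤ) * (u + 1) - (h * u * p + u ^ 2 + u + h)) * ((p : ℤ) - 1) = 0 := by
    linear_combination ((u : ℤ) + 1) * hmain - ((u : ℤ) * p + 1) * hh1
  have hfin' : (n : ℤ) * (u + 1) = h * u * p + u ^ 2 + u + h := by
    rcases mul_eq_zero.1 hfin with h' | h'
    · linarith
    · omega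
  refine ⟨h.toNat, u, ?_, hu1, ?_⟩
  · omega
  · have hcast : ((h.toNat : ℕ) : ℤ) = h := Int.toNat_of_nonneg (by omega)
    have : ((n * (u + 1) : ℕ) : ℤ) = ((h.toNat * u * p + u ^ 2 + u + h.toNat : ℕ) : ℤ) := by
      push_cast
      rw [hcast]
      exact hfin'
    exact_mod_cast this

/-- a number of the form `p c + 1` has residue `1` -/
theorem mod_eq_one_of_int {p d : ℕ} (hp : 2 ≤ p) (c : ℤ) (h : (d : ℤ) = p * c + 1) : d % p = 1 := by
  have h1 : d ≡ 1 [MOD p] := by
    rw [Nat.modEq_iff_dvd]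
    refine ⟨-c, ?_⟩
    push_cast
    rw [h]
    ring
  have h2 : d % p = 1 % p := h1
  rw [h2]
  exact Nat.mod_eq_of_lt (by omega)

/-- `L5` without the bound on `n`. -/
theorem L5' {p w t n u x : ℕ} (hp : p = w * t + 1) (hw : 1 ≤ w) (ht : 1 ≤ t)
    (hNC : NC p n) (hu : 1 ≤ u) (hx : x = u * p + 1) (hdvd : x ∣ w * (1 + n * p)) :
    u = n := by
  have hp2 : 2 ≤ p := by
    have : 1 ≤ w * t := Nat.mul_pos hw ht
    omega
  have hd : x ∣ (p - 1) * (1 + n * p) := by
    have : p - 1 = w * t := by omega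
    rw [this]
    exact hdvd.trans ⟨t, by ring⟩
  have hmod : x % p = 1 := mod_eq_one_of_int hp2 u (by rw [hx]; push_cast; ring)
  rcases hNC x hd hmod with h | h
  · exfalso
    rw [hx] at h
    have : u * p = 0 := by omega
    rcases Nat.mul_eq_zero.1 this with h' | h' <;> omega
  · rw [hx] at h
    have : u * p = n * p := by omega
    exact Nat.eq_of_mul_eq_mul_right (by omega) this

/-- **(B2).** `x ≡ -1 (mod p)`, `x ∣ w r`: `x = p - 1`, or `t = 1` and `x = (p-1) r`. -/
theorem B2 {p w t n u x : ℕ} (hp : p = w * t + 1) (hw : 1 ≤ w) (ht : 1 ≤ t)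
    (hNC : NC p n) (hx : x + 1 = u * p) (hdvd : x ∣ w * (1 + n * p)) :
    x + 1 = p ∨ (t = 1 ∧ x = w * (1 + n * p)) := by
  have hp2 : 2 ≤ p := by
    have : 1 ≤ w * t := Nat.mul_pos hw ht
    omega
  obtain ⟨y, hy⟩ := hdvd
  have hy0 : 0 < y := by
    rcases Nat.eq_zero_or_pos y with h | h
    · exfalso
      rw [h, mul_zero] at hy
      have : 0 < w * (1 + n * p) := Nat.mul_pos hw (by omega)
      omega
    · exact h
  have hpw : p - 1 = w * t := by omega
  have hd : t * y ∣ (p - 1) * (1 + n * p) := by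
    rw [hpw]
    refine ⟨x, ?_⟩
    calc w * t * (1 + n * p) = t * (w * (1 + n * p)) := by ring
      _ = t * (x * y) := by rw [hy]
      _ = t * y * x := by ring
  have hxZ : (x : ℤ) = u * p - 1 := by
    have : (x : ℤ) + 1 = u * p := by exact_mod_cast hx
    linarith
  have hyZ : (w : ℤ) * (1 + n * p) = x * y := by exact_mod_cast hy
  have hpZ : (p : ℤ) = w * t + 1 := by exact_mod_cast hp
  have hmod : (t * y) % p = 1 := by
    apply mod_eq_one_of_int hp2 (n + (t * y : ℕ) * u - 1 - n * p)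
    push_cast
    rw [hxZ] at hyZ
    rw [hpZ] at hyZ ⊢
    linear_combination (t : ℤ) * hyZ
  rcases hNC (t * y) hd hmod with h | h
  · right
    have ht1 : t = 1 := Nat.eq_one_of_mul_eq_one_right h
    have hy1 : y = 1 := Nat.eq_one_of_mul_eq_one_left h
    refine ⟨ht1, ?_⟩
    rw [hy, hy1, mul_one]
  · left
    -- `x r = x t y = t w r = (p-1) r`
    have h1 : x * (1 + n * p) = (p - 1) * (1 + n * p) := by
      rw [hpw]
      calc x * (1 + n * p) = x * (t * y) := by rw [h]
        _ = t * (x * y) := by ring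
        _ = t * (w * (1 + n * p)) := by rw [hy]
        _ = w * t * (1 + n * p) := by ring
    have h2 : x = p - 1 := Nat.eq_of_mul_eq_mul_right (by omega) h1
    omega

/-- `L6` without the bound on `n` (and without the size hypothesis). -/
theorem L6' {p w t n u x : ℕ} (hp : p = w * t + 1) (hw : 1 ≤ w) (ht : 2 ≤ t)
    (hNC : NC p n) (hx : x + 1 = u * p) (hdvd : x ∣ w * (1 + n * p)) : u = 1 := by
  have hp2 : 2 ≤ p := by
    have : 1 ≤ w * t := Nat.mul_pos hw (by omega)
    omega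
  rcases B2 hp hw (by omega) hNC hx hdvd with h | ⟨h, -⟩
  · rw [hx] at h
    have : u * p = 1 * p := by omega
    exact Nat.eq_of_mul_eq_mul_right (by omega) this
  · omega

/-- `L7` without the bound on `n`. -/
theorem L7' {p w t n u0 x0 : ℕ} (hp : p = w * t + 1) (hw : 1 ≤ w) (ht : 2 ≤ t)
    (hNC : NC p n) (hx : x0 + w = u0 * p) (hx0 : 0 < x0) (hdvd : x0 ∣ w * (1 + n * p)) :
    n + 1 = u0 * t := by
  have hp2 : 2 ≤ p := by
    have : 1 ≤ w * t := Nat.mul_pos hw (by omega)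
    omega
  have hpw : p - 1 = w * t := by omega
  have hd : t * x0 ∣ (p - 1) * (1 + n * p) := by
    rw [hpw]
    obtain ⟨y, hy⟩ := hdvd
    refine ⟨y, ?_⟩
    calc w * t * (1 + n * p) = t * (w * (1 + n * p)) := by ring
      _ = t * (x0 * y) := by rw [hy]
      _ = t * x0 * y := by ring
  have hxZ : (x0 : ℤ) = u0 * p - w := by
    have : (x0 : ℤ) + w = u0 * p := by exact_mod_cast hx
    linarith
  have hpZ : (p : ℤ) = w * t + 1 := by exact_mod_cast hp
  have hmodZ : ((t * x0 : ℕ) : ℤ) = p * ((t : ℤ) * u0 - 1) + 1 := by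
    push_cast
    rw [hxZ]
    linear_combination hpZ
  have hmod : (t * x0) % p = 1 := mod_eq_one_of_int hp2 _ hmodZ
  rcases hNC (t * x0) hd hmod with h | h
  · exfalso
    have := Nat.eq_one_of_mul_eq_one_right h
    omega
  · have h1 : ((t * x0 : ℕ) : ℤ) = ((1 + n * p : ℕ) : ℤ) := by rw [h]
    rw [hmodZ] at h1
    push_cast at h1
    have h2 : (p : ℤ) * ((t : ℤ) * u0 - 1 - n) = 0 := by linear_combination h1
    rcases mul_eq_zero.1 h2 with h' | h'
    · exfalso
      have : (2 : ℤ) ≤ p := by exact_mod_cast hp2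
      omega
    · have : ((n + 1 : ℕ) : ℤ) = ((u0 * t : ℕ) : ℤ) := by push_cast; linarith
      exact_mod_cast this

/-- **(B1).** `x ≡ 1 (mod p)`, `x ∣ w r`: `x = 1` or `x = r`. -/
theorem B1 {p w t n x : ℕ} (hp : p = w * t + 1) (hNC : NC p n) (hx : x % p = 1)
    (hdvd : x ∣ w * (1 + n * p)) : x = 1 ∨ x = 1 + n * p := by
  have hpw : p - 1 = w * t := by omega
  apply hNC x _ hx
  rw [hpw]
  exact hdvd.trans ⟨t, by ring⟩

/-- **(B4).** `x ≡ w (mod p)`, `x ∣ w r`: `x = w` or `x = w r`. -/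
theorem B4 {p w t n u x : ℕ} (hp : p = w * t + 1) (hw : 1 ≤ w) (ht : 1 ≤ t)
    (hNC : NC p n) (hx : x = u * p + w) (hdvd : x ∣ w * (1 + n * p)) :
    x = w ∨ x = w * (1 + n * p) := by
  have hp2 : 2 ≤ p := by
    have : 1 ≤ w * t := Nat.mul_pos hw ht
    omega
  obtain ⟨y, hy⟩ := hdvd
  have hpw : p - 1 = w * t := by omega
  have hd : y ∣ (p - 1) * (1 + n * p) := by
    rw [hpw]
    refine ⟨x * t, ?_⟩
    calc w * t * (1 + n * p) = t * (w * (1 + n * p)) := by ring
      _ = t * (x * y) := by rw [hy]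
      _ = y * (x * t) := by ring
  have hcop : Nat.Coprime w p := by
    rw [hp]
    have : Nat.Coprime w (w * t + 1) := by
      rw [Nat.coprime_mul_left_add_right]
      exact Nat.coprime_one_right w
    exact this
  have hyZ : (w : ℤ) * (1 + n * p) = (u * p + w) * y := by
    have : ((w * (1 + n * p) : ℕ) : ℤ) = ((x * y : ℕ) : ℤ) := by rw [hy]
    rw [hx] at this
    exact_mod_cast this
  -- `p ∣ w (y - 1)`
  have h1 : (p : ℤ) ∣ (w : ℤ) * ((y : ℤ) - 1) := ⟨(w : ℤ) * n - u * y, by linear_combination (-1 : ℤ) * hyZ⟩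
  have hcopZ : IsCoprime (p : ℤ) (w : ℤ) := by
    rw [Int.isCoprime_iff_gcd_eq_one]
    have : Int.gcd (p : ℤ) (w : ℤ) = Nat.gcd p w := Int.gcd_natCast_natCast p w
    rw [this]
    exact hcop.symm
  have h2 : (p : ℤ) ∣ (y : ℤ) - 1 := hcopZ.dvd_of_dvd_mul_left h1
  obtain ⟨c, hc⟩ := h2
  have hmod : y % p = 1 := mod_eq_one_of_int hp2 c (by linarith)
  have hw0 : 0 < w * (1 + n * p) := Nat.mul_pos hw (by omega)
  rcases hNC y hd hmod with h | h
  · right
    rw [hy, h, mul_one]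
  · left
    rw [h] at hy
    have : w * (1 + n * p) = x * (1 + n * p) := hy
    exact (Nat.eq_of_mul_eq_mul_right (by omega) this).symm

end Cfsg.Agent.Helper14.BR4700
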