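import Mathlib
import Cfsg.Agent.Lib.Helper17.BRRedCor
import Cfsg.Agent.Lib.Helper23.PSolvable

/-!
# S4700 (Brauer-Reynolds Theorem 2), piece P-D: the reduction R1 to `O_{p'}(G) = 1`   (helper14)

* `card_sylow_quotient_dvd` : `|Syl_p(G/K)|` divides `|Syl_p(G)|` for every normal `K`;
* `card_sylow_eq_mul` : `|Syl_p(G)| = |Syl_p(G/K)| * (1 + m p)`;
* `R1_witness` : `1 + n p = (1 + u p)(1 + m p)`, `u, m ≥ 1` gives the alternative (c) of S4700;
* `quotient_facts` : `G/O_{p'}(G)` is perfect, its Sylow `p`-subgroups have order `p`, and it has no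
  nontrivial normal `p'`-subgroup;
* `R1` : alternative (c), or `G/O_{p'}(G)` has the same number `1 + n p` of Sylow `p`-subgroups.
-/

set_option autoImplicit false
set_option linter.style.haveILetI false

namespace Cfsg.Agent.Helper14.BR4700

open Subgroup Cfsg

/-- The number of Sylow `p`-subgroups of a quotient divides the number of Sylow `p`-subgroups. -/
theorem card_sylow_quotient_dvd {G : Type*} [Group G] [Finite G] (p : ℕ) [hpF : Fact p.Prime]
    (K : Subgroup G) [K.Normal] : Nat.card (Sylow p (G ⧸ K)) ∣ Nat.card (Sylow p G) := by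
  obtain ⟨P⟩ : Nonempty (Sylow p G) := inferInstance
  have hsurj : Function.Surjective (QuotientGroup.mk' K) := QuotientGroup.mk'_surjective K
  let Q : Sylow p (G ⧸ K) := P.mapSurjective hsurj
  have hQ : (Q : Subgroup (G ⧸ K)) = (P : Subgroup G).map (QuotientGroup.mk' K) := rfl
  rw [Sylow.card_eq_index_normalizer P, Sylow.card_eq_index_normalizer Q,
    ← Subgroup.index_comap_of_surjective _ hsurj]
  apply Subgroup.index_dvd_of_le
  intro g hg
  rw [Subgroup.mem_comap]
  have h1 := Subgroup.le_normalizer_map (H := (P : Subgroup G)) (QuotientGroup.mk' K)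
    (Subgroup.mem_map_of_mem _ hg)
  rw [← hQ] at h1
  exact h1

/-- `|Syl_p(G)| = |Syl_p(G/K)| (1 + m p)`. -/
theorem card_sylow_eq_mul {G : Type*} [Group G] [Finite G] (p : ℕ) [hpF : Fact p.Prime]
    (K : Subgroup G) [K.Normal] :
    ∃ m : ℕ, Nat.card (Sylow p G) = Nat.card (Sylow p (G ⧸ K)) * (1 + m * p) := by
  have hp : p.Prime := hpF.out
  obtain ⟨c, hc⟩ := card_sylow_quotient_dvd p K
  have h1 : Nat.card (Sylow p G) ≡ 1 [MOD p] := card_sylow_modEq_one p G
  have h2 : Nat.card (Sylow p (G ⧸ K)) ≡ 1 [MOD p] := card_sylow_modEq_one p (G ⧸ K)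
  have h3 : c ≡ 1 [MOD p] := by
    have h4 : Nat.card (Sylow p (G ⧸ K)) * c ≡ 1 * c [MOD p] := Nat.ModEq.mul_right c h2
    rw [← hc, one_mul] at h4
    exact h4.symm.trans h1
  have hcpos : 0 < c := by
    rcases Nat.eq_zero_or_pos c with h | h
    · exfalso
      subst h
      have : 0 < Nat.card (Sylow p G) := Nat.card_pos
      omega
    · exact h
  have h5 := (Nat.modEq_iff_dvd' hcpos).mp h3.symm
  obtain ⟨m, hm⟩ := h5
  refine ⟨m, ?_⟩
  rw [hc]
  congr 1
  rw [mul_comm m p, ← hm]
  omega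

/-- The arithmetic of R1: a proper factorization of `1 + n p` into two factors `≡ 1 (mod p)` gives
alternative (c). -/
theorem R1_witness (p u m n : ℕ) (hu : 0 < u) (hm : 0 < m)
    (h : 1 + n * p = (1 + u * p) * (1 + m * p)) (hp : 0 < p) :
    ∃ h' u' : ℕ, 0 < h' ∧ 0 < u' ∧ n * (u' + 1) = h' * u' * p + u' ^ 2 + u' + h' := by
  have hn : n = u + m + u * m * p := by
    have h1 : n * p = (u + m + u * m * p) * p := by
      have : (1 + u * p) * (1 + m * p) = 1 + (u + m + u * m * p) * p := by ring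
      omega
    exact Nat.eq_of_mul_eq_mul_right hp h1
  refine ⟨m * (u + 1), u, Nat.mul_pos hm (Nat.succ_pos u), hu, ?_⟩
  rw [hn]
  ring

/-- `G/O_{p'}(G)` inherits the hypotheses, and has trivial `p'`-core. -/
theorem quotient_facts {G : Type*} [Group G] [Finite G] (hperf : commutator G = ⊤) (p : ℕ)
    [hpF : Fact p.Prime] (P : Sylow p G) (hP : Nat.card P = p) :
    haveI := Cfsg.Agent.Helper22.pPrimeCore_normal (G := G) p
    commutator (G ⧸ pPrimeCore p G) = ⊤ ∧
    (∀ Q : Sylow p (G ⧸ pPrimeCore p G), Nat.card Q = p) ∧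
    (∀ N : Subgroup (G ⧸ pPrimeCore p G), N.Normal → (Nat.card N).Coprime p → N = ⊥) := by
  have hp : p.Prime := hpF.out
  haveI hKn : (pPrimeCore p G).Normal := Cfsg.Agent.Helper22.pPrimeCore_normal p
  have hK : (Nat.card (pPrimeCore p G)).Coprime p := Cfsg.Agent.Helper22.card_pPrimeCore_coprime p
  refine ⟨Cfsg.Agent.Helper17.BRRed.commutator_quotient_eq_top hperf _, ?_, ?_⟩
  · intro Q
    set K := pPrimeCore p G with hKdef
    have hmul : Nat.card G = Nat.card (G ⧸ K) * Nat.card K :=
      Subgroup.card_eq_card_quotient_mul_card_subgroup K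
    have hKpos : 0 < Nat.card K := Nat.card_pos
    have hQpos : 0 < Nat.card (G ⧸ K) := Nat.card_pos
    have hfac : (Nat.card (G ⧸ K)).factorization p = 1 := by
      have h1 : (Nat.card G).factorization p = 1 := by
        have := Sylow.card_eq_multiplicity P
        rw [hP] at this
        have h2 : p ^ 1 = p ^ (Nat.card G).factorization p := by rw [pow_one]; exact this
        exact (Nat.pow_right_injective hp.two_le h2).symm
      rw [hmul, Nat.factorization_mul hQpos.ne' hKpos.ne', Finsupp.add_apply] at h1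
      have h3 : (Nat.card K).factorization p = 0 := by
        apply Nat.factorization_eq_zero_of_not_dvd
        exact (Nat.Prime.coprime_iff_not_dvd hp).mp hK.symm
      omega
    have := Sylow.card_eq_multiplicity Q
    rw [hfac, pow_one] at this
    exact this
  · intro N hN hc
    have h1 := Cfsg.Agent.Helper22.le_pPrimeCore p N hN hc
    rw [Cfsg.Agent.Helper23.PSolv.pPrimeCore_quotient_pPrimeCore p] at h1
    exact le_bot_iff.mp h1

/-- **Reduction R1.** Either alternative (c) of S4700 holds, or `G/O_{p'}(G)` has the same number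
`1 + n p` of Sylow `p`-subgroups as `G`. -/
theorem R1 {G : Type*} [Group G] [Finite G] (hperf : commutator G = ⊤) (p : ℕ)
    [hpF : Fact p.Prime] (P : Sylow p G) (hP : Nat.card P = p) (n : ℕ)
    (hn : Nat.card (Sylow p G) = 1 + n * p) :
    haveI := Cfsg.Agent.Helper22.pPrimeCore_normal (G := G) p
    (∃ h u : ℕ, 0 < h ∧ 0 < u ∧ n * (u + 1) = h * u * p + u ^ 2 + u + h) ∨
      Nat.card (Sylow p (G ⧸ pPrimeCore p G)) = 1 + n * p := by
  have hp : p.Prime := hpF.out
  haveI hKn : (pPrimeCore p G).Normal := Cfsg.Agent.Helper22.pPrimeCore_normal p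
  obtain ⟨hperf', hQc, -⟩ := quotient_facts hperf p P hP
  obtain ⟨Q⟩ : Nonempty (Sylow p (G ⧸ pPrimeCore p G)) := inferInstance
  obtain ⟨q, v, u, -, -, -, hu1, -, -, hu, -, -, -⟩ :=
    Cfsg.Agent.Helper17.BRRed.numerics hperf' Q (hQc Q)
  obtain ⟨m, hm⟩ := card_sylow_eq_mul p (pPrimeCore p G)
  rw [hn, hu] at hm
  rcases Nat.eq_zero_or_pos m with h0 | hmpos
  · right
    subst h0
    rw [hu]
    simp only [zero_mul, add_zero, mul_one] at hm
    exact hm.symm
  · left
    exact R1_witness p u m n hu1 hmpos hm hp.pos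

end Cfsg.Agent.Helper14.BR4700
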