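import Mathlib
import Cfsg.Agent.Lib.Helper24.CharComplete
import Cfsg.Agent.Lib.Helper3.BSWCharDefs

/-!
# S3282 piece DEG: `∑_ψ b μ ψ * ψ(1) = 0`
-/

set_option autoImplicit false

namespace Cfsg.Agent.Helper3.BSW

open Cfsg Cfsg.Agent.Helper24
open scoped ComplexConjugate

universe u

variable {G : Type u} [Group G] [Fintype G] [Fintype (IrrCharacter G)] [DecidableEq (IrrCharacter G)]
  {t s : G} {K : Subgroup G} [Fintype K] [Fintype (JK K)] [DecidableEq (JK K)]
  {a1 : IrrCharacter G → ℤ} {b : JK K → IrrCharacter G → ℤ} {sgn : JK K → ℤ}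

namespace DEG

/-- column orthogonality against the identity column -/
theorem sum_irr_mul_one (x : G) (hx : x ≠ 1) :
    ∑ ψ : IrrCharacter G, (ψ : G → ℂ) x * (ψ : G → ℂ) 1 = 0 := by
  classical
  have h := second_orthogonality' (G := G) x 1
  have hnc : ¬ IsConj (1 : G) x := by
    intro hc
    rw [isConj_iff] at hc
    obtain ⟨c, hc⟩ := hc
    apply hx
    rw [← hc]; group
  rw [if_neg hnc] at h
  rw [← h]
  apply Finset.sum_congr rfl
  intro ψ _
  rw [irr_one_eq_charDegree ψ.2, Complex.conj_natCast]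

end DEG

/-- PIECE DEG (C2). -/
theorem deg_sum_K (h : Hyp t s K) (cd : CharData K t h.htK a1 b sgn) (μ : JK K) :
    ∑ ψ, b μ ψ * degZ ψ = 0 := by
  classical
  have hC : ((∑ ψ, b μ ψ * degZ ψ : ℤ) : ℂ) = 0 := by
    push_cast
    have h1 : ∀ ψ : IrrCharacter G, (b μ ψ : ℂ) * ((degZ ψ : ℤ) : ℂ) =
        (Nat.card K : ℂ)⁻¹ * ∑ x : K, (1 - conj ((μ.1 x : ℂˣ) : ℂ)) *
          ((ψ : G → ℂ) x * (ψ : G → ℂ) 1) := by
      intro ψ
      rw [cd.hb μ ψ, irr_one_eq_charDegree ψ.2]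
      unfold bC degZ
      rw [mul_assoc, Finset.sum_mul]
      congr 1
      apply Finset.sum_congr rfl
      intro x _
      push_cast
      ring
    rw [Finset.sum_congr rfl (fun ψ _ => h1 ψ), ← Finset.mul_sum, Finset.sum_comm]
    have h2 : ∀ x : K, ∑ ψ : IrrCharacter G, (1 - conj ((μ.1 x : ℂˣ) : ℂ)) *
          ((ψ : G → ℂ) x * (ψ : G → ℂ) 1) = 0 := by
      intro x
      rw [← Finset.mul_sum]
      by_cases hx : (x : G) = 1
      · have hx' : x = 1 := Subtype.ext hx
        rw [hx', map_one]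
        simp
      · rw [DEG.sum_irr_mul_one (x : G) hx, mul_zero]
    rw [Finset.sum_congr rfl (fun x _ => h2 x)]
    simp
  exact_mod_cast hC

end Cfsg.Agent.Helper3.BSW
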