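import Mathlib
import Cfsg.Agent.Lib.Lead.M11T5
import Cfsg.Agent.Lib.Helper3.BSWDefs

/-!
# S3282 piece NCGEN: the class multiplication count through the pairs of conjugates
-/

set_option autoImplicit false

namespace Cfsg.Agent.Helper3.BSW

universe u

variable {G : Type u} [Group G] [Finite G]

namespace NCGEN

/-- the pairs of conjugating elements, sorted by the pair of conjugates -/
def pairEquiv (a b y : G) :
    {c : G × G // (c.1 * a * c.1⁻¹) * (c.2 * b * c.2⁻¹) = y} ≃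
      Σ p : {p : G × G // IsConj a p.1 ∧ IsConj b p.2 ∧ p.1 * p.2 = y},
        {c : G // c * a * c⁻¹ = p.1.1} × {c : G // c * b * c⁻¹ = p.1.2} where
  toFun c := ⟨⟨(c.1.1 * a * c.1.1⁻¹, c.1.2 * b * c.1.2⁻¹),
    isConj_iff.mpr ⟨c.1.1, rfl⟩, isConj_iff.mpr ⟨c.1.2, rfl⟩, c.2⟩, ⟨c.1.1, rfl⟩, ⟨c.1.2, rfl⟩⟩
  invFun x := ⟨(x.2.1.1, x.2.2.1), by
    have h1 := x.2.1.2
    have h2 := x.2.2.2
    simp only
    rw [h1, h2]
    exact x.1.2.2.2⟩
  left_inv c := by
    apply Subtype.ext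
    rfl
  right_inv x := by
    obtain ⟨⟨p, hp⟩, ⟨c1, h1⟩, ⟨c2, h2⟩⟩ := x
    simp only at h1 h2
    obtain ⟨p1, p2⟩ := p
    simp only at h1 h2
    subst h1 h2
    rfl

end NCGEN

/-- PIECE NCGEN (G6), no hypotheses: `NC a b y = |C(a)| |C(b)| #{(u,v) : u ~ a, v ~ b, u v = y}`. -/
theorem NC_eq (a b y : G) :
    NC a b y = Nat.card (Subgroup.centralizer ({a} : Set G)) *
      Nat.card (Subgroup.centralizer ({b} : Set G)) *
      Nat.card {p : G × G // IsConj a p.1 ∧ IsConj b p.2 ∧ p.1 * p.2 = y} := by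
  classical
  unfold NC
  have : Fintype {p : G × G // IsConj a p.1 ∧ IsConj b p.2 ∧ p.1 * p.2 = y} := Fintype.ofFinite _
  rw [Nat.card_congr (NCGEN.pairEquiv a b y), Nat.card_sigma]
  have hconst : ∀ p : {p : G × G // IsConj a p.1 ∧ IsConj b p.2 ∧ p.1 * p.2 = y},
      Nat.card ({c : G // c * a * c⁻¹ = p.1.1} × {c : G // c * b * c⁻¹ = p.1.2}) =
        Nat.card (Subgroup.centralizer ({a} : Set G)) *
          Nat.card (Subgroup.centralizer ({b} : Set G)) := by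
    intro p
    rw [Nat.card_prod, Cfsg.Agent.Helper17.M11.T5.card_fib a p.1.1 (isConj_iff.mp p.2.1),
      Cfsg.Agent.Helper17.M11.T5.card_fib b p.1.2 (isConj_iff.mp p.2.2.1)]
  rw [Finset.sum_congr rfl (fun p _ => hconst p), Finset.sum_const, Finset.card_univ,
    smul_eq_mul, ← Nat.card_eq_fintype_card, mul_comm]

end Cfsg.Agent.Helper3.BSW
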