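import Mathlib
import Cfsg.Agent.Lib.Helper3.BSWDefs

/-!
# S3282 piece ODDCL1: a normal `l`-complement by Burnside's transfer theorem
-/

set_option autoImplicit false
set_option linter.unusedSectionVars false
set_option linter.unusedVariables false

namespace Cfsg.Agent.Helper3.BSW

universe u

variable {G : Type u} [Group G] [Finite G]

namespace ODDCL1

/-- the output for a normal complement `K` (in the group `↥N`) of a Sylow `l`-subgroup `L` of `↥N` -/
theorem of_complement {l : ℕ} [Fact l.Prime] {N : Subgroup G} (L : Sylow l ↥N) (K : Subgroup ↥N)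
    [K.Normal] (hK : K.IsComplement' (L : Subgroup ↥N)) :
    ∃ M : Subgroup G, M ≤ N ∧ N ≤ Subgroup.normalizer (M : Set G) ∧ ¬ l ∣ Nat.card M ∧
      ∃ i : ℕ, Nat.card N = l ^ i * Nat.card M := by
  refine ⟨K.map N.subtype, Subgroup.map_subtype_le K, ?_, ?_, ?_⟩
  · intro n hn
    rw [Subgroup.mem_normalizer_iff]
    intro x
    constructor
    · rintro ⟨k, hk, rfl⟩
      refine ⟨⟨n, hn⟩ * k * ⟨n, hn⟩⁻¹, ?_, by simp⟩
      exact ‹K.Normal›.conj_mem k hk ⟨n, hn⟩
    · rintro ⟨k, hk, hkx⟩
      refine ⟨⟨n, hn⟩⁻¹ * k * ⟨n, hn⟩, ?_, ?_⟩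
      · have := ‹K.Normal›.conj_mem k hk (⟨n, hn⟩⁻¹ : ↥N)
        simpa using this
      · simp only [Subgroup.subtype_apply, Subgroup.coe_mul, Subgroup.coe_inv]
        have : (k : G) = n * x * n⁻¹ := hkx
        rw [this]; group
  · rw [Subgroup.card_map_of_injective N.subtype_injective, ← hK.index_eq_card]
    exact L.not_dvd_index
  · refine ⟨(Nat.card ↥N).factorization l, ?_⟩
    rw [Subgroup.card_map_of_injective N.subtype_injective, ← L.card_eq_multiplicity,
      mul_comm]
    exact hK.card_mul_card.symm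

end ODDCL1

/-- PIECE ODDCL1 (Burnside transfer). -/
theorem exists_normal_compl {l : ℕ} (hl : l.Prime) {N : Subgroup G} (hN : Odd (Nat.card N))
    (hab : ∀ w ∈ N, w ≠ 1 → (∃ j : ℕ, orderOf w = l ^ j) → ∃ A : Subgroup G,
      (∀ a ∈ A, ∀ b ∈ A, a * b = b * a) ∧ Subgroup.centralizer ({w} : Set G) ≤ A ∧
      ∀ L : Subgroup G, L ≤ A → L ≠ ⊥ → ∀ g ∈ Subgroup.normalizer (L : Set G), Odd (orderOf g) → g ∈ A) :
    ∃ M : Subgroup G, M ≤ N ∧ N ≤ Subgroup.normalizer (M : Set G) ∧ ¬ l ∣ Nat.card M ∧
      ∃ i : ℕ, Nat.card N = l ^ i * Nat.card M := by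
  classical
  haveI : Fact l.Prime := ⟨hl⟩
  let L : Sylow l ↥N := default
  -- `N_N(L) ≤ C_N(L)`
  have hNC : Subgroup.normalizer ((L : Subgroup ↥N) : Set ↥N) ≤
      Subgroup.centralizer ((L : Subgroup ↥N) : Set ↥N) := by
    by_cases hbot : (L : Subgroup ↥N) = ⊥
    · intro g _
      rw [Subgroup.mem_centralizer_iff]
      intro x hx
      have : x = 1 := by
        have : x ∈ (L : Subgroup ↥N) := hx
        rw [hbot, Subgroup.mem_bot] at this
        exact this
      rw [this]; simp
    · -- a central element `w ≠ 1` of `L`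
      haveI : Nontrivial ↥(L : Subgroup ↥N) := (Subgroup.nontrivial_iff_ne_bot _).mpr hbot
      haveI := L.isPGroup'.center_nontrivial
      obtain ⟨z, hz⟩ := exists_ne (1 : ↥(Subgroup.center ↥(L : Subgroup ↥N)))
      -- `w` in `G`
      set w : G := (((z : ↥(L : Subgroup ↥N)) : ↥N) : G) with hw
      have hwN : w ∈ N := ((z : ↥(L : Subgroup ↥N)) : ↥N).2
      have hw1 : w ≠ 1 := by
        intro h
        apply hz
        apply Subtype.ext
        apply Subtype.ext
        apply Subtype.ext
        exact h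
      have hword : ∃ j : ℕ, orderOf w = l ^ j := by
        obtain ⟨j, hj⟩ := (IsPGroup.iff_orderOf.mp L.isPGroup') (z : ↥(L : Subgroup ↥N))
        refine ⟨j, ?_⟩
        rw [← hj, hw, Subgroup.orderOf_coe, Subgroup.orderOf_coe]
      obtain ⟨A, hAab, hCA, hAN⟩ := hab w hwN hw1 hword
      -- `L ≤ A` (in `G`)
      have hLA : ∀ x : ↥N, x ∈ (L : Subgroup ↥N) → (x : G) ∈ A := by
        intro x hx
        apply hCA
        rw [Subgroup.mem_centralizer_singleton_iff]
        have hc := (Subgroup.mem_center_iff.mp z.2) ⟨x, hx⟩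
        have hc' := congrArg (fun y : ↥(L : Subgroup ↥N) => ((y : ↥N) : G)) hc
        simpa using hc'
      have hmapA : (L : Subgroup ↥N).map N.subtype ≤ A := by
        rintro _ ⟨x, hx, rfl⟩
        exact hLA x hx
      have hmapne : (L : Subgroup ↥N).map N.subtype ≠ ⊥ := by
        intro h
        apply hbot
        rw [eq_bot_iff]
        intro x hx
        have : (x : G) ∈ (L : Subgroup ↥N).map N.subtype := ⟨x, hx, rfl⟩
        rw [h, Subgroup.mem_bot] at this
        rw [Subgroup.mem_bot]
        exact Subtype.ext this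
      intro g hg
      -- `g ∈ A`
      have hgodd : Odd (orderOf (g : G)) := by
        apply Odd.of_dvd_nat hN
        rw [Subgroup.orderOf_coe]
        exact orderOf_dvd_natCard g
      have hgN : (g : G) ∈ Subgroup.normalizer (((L : Subgroup ↥N).map N.subtype : Subgroup G) : Set G) := by
        have := Subgroup.le_normalizer_map (H := (L : Subgroup ↥N)) N.subtype
        exact this ⟨g, hg, rfl⟩
      have hgA : (g : G) ∈ A := hAN _ hmapA hmapne _ hgN hgodd
      rw [Subgroup.mem_centralizer_iff]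
      intro x hx
      apply Subtype.ext
      simp only [Subgroup.coe_mul]
      exact hAab _ (hLA x hx) _ hgA
  have hcomp := MonoidHom.ker_transferSylow_isComplement' L hNC
  exact ODDCL1.of_complement L _ hcomp

end Cfsg.Agent.Helper3.BSW
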