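import Mathlib
import Cfsg.Agent.Lib.Helper3.BSWDefs

/-!
# S3282 piece ODDCL2: normal `l`-complements for all `l ≠ p` give a normal Sylow `p`-subgroup
-/

set_option autoImplicit false
set_option linter.unusedSectionVars false
set_option linter.unusedVariables false

namespace Cfsg.Agent.Helper3.BSW

universe u

variable {G : Type u} [Group G] [Finite G]

namespace ODDCL2

/-- an element of `N` of order prime to `l` lies in a normal subgroup `M` of `N` of index a power of `l` -/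
theorem mem_of_coprime {l : ℕ} (hl : l.Prime) {N M : Subgroup G} (hMN : M ≤ N)
    (hnorm : N ≤ Subgroup.normalizer (M : Set G)) {i : ℕ} (hcard : Nat.card N = l ^ i * Nat.card M)
    {x : G} (hx : x ∈ N) (hcop : Nat.Coprime l (orderOf x)) : x ∈ M := by
  haveI : (M.subgroupOf N).Normal := Subgroup.normal_subgroupOf_of_le_normalizer hnorm
  have hidx : (M.subgroupOf N).index = l ^ i := by
    have h1 := (M.subgroupOf N).card_mul_index
    rw [Nat.card_congr (Subgroup.subgroupOfEquivOfLe hMN).toEquiv, hcard] at h1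
    have hpos : 0 < Nat.card M := Nat.card_pos
    have : Nat.card M * (M.subgroupOf N).index = Nat.card M * l ^ i := by rw [h1]; ring
    exact Nat.eq_of_mul_eq_mul_left hpos this
  have hpow := Subgroup.pow_index_mem (M.subgroupOf N) (⟨x, hx⟩ : ↥N)
  rw [hidx] at hpow
  have hpow' : x ^ (l ^ i) ∈ M := by
    have := Subgroup.mem_subgroupOf.mp hpow
    simpa using this
  have hc : Nat.Coprime (l ^ i) (orderOf x) := Nat.Coprime.pow_left i hcop
  obtain ⟨m, hm⟩ := exists_pow_eq_self_of_coprime hc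
  rw [← hm]
  exact Subgroup.pow_mem _ hpow' m

end ODDCL2

/-- PIECE ODDCL2: normal `l`-complements for all primes `l ≠ p` give a normal Sylow `p`-subgroup. -/
theorem p_closed_of_compl {p : ℕ} (hp : p.Prime) {N : Subgroup G}
    (hc : ∀ l : ℕ, l.Prime → l ≠ p → ∃ M : Subgroup G, M ≤ N ∧ N ≤ Subgroup.normalizer (M : Set G) ∧
      ¬ l ∣ Nat.card M ∧ ∃ i : ℕ, Nat.card N = l ^ i * Nat.card M) :
    ∃ P : Subgroup G, P ≤ N ∧ IsPGroup p P ∧ N ≤ Subgroup.normalizer (P : Set G) ∧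
      ∀ x ∈ N, (∃ j : ℕ, orderOf x = p ^ j) → x ∈ P := by
  classical
  choose Mf hMf using hc
  -- the family indexed by the primes `l ≠ p`
  let I := {l : ℕ // l.Prime ∧ l ≠ p}
  let Ml : I → Subgroup G := fun l => Mf l.1 l.2.1 l.2.2
  have hMl : ∀ l : I, Ml l ≤ N ∧ N ≤ Subgroup.normalizer ((Ml l : Subgroup G) : Set G) ∧
      ¬ l.1 ∣ Nat.card (Ml l) ∧ ∃ i : ℕ, Nat.card N = l.1 ^ i * Nat.card (Ml l) :=
    fun l => hMf l.1 l.2.1 l.2.2
  refine ⟨N ⊓ ⨅ l : I, Ml l, inf_le_left, ?_, ?_, ?_⟩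
  · -- a `p`-group
    have hpos : Nat.card ↥(N ⊓ ⨅ l : I, Ml l) ≠ 0 := Nat.card_pos.ne'
    have huniq : ∀ {d : ℕ}, d.Prime → d ∣ Nat.card ↥(N ⊓ ⨅ l : I, Ml l) → d = p := by
      intro d hd hdvd
      by_contra hne
      have hle : N ⊓ ⨅ l : I, Ml l ≤ Ml ⟨d, hd, hne⟩ := inf_le_right.trans (iInf_le _ _)
      have := Subgroup.card_dvd_of_le hle
      exact (hMl ⟨d, hd, hne⟩).2.2.1 (hdvd.trans this)
    exact IsPGroup.of_card (Nat.eq_prime_pow_of_unique_prime_dvd hpos huniq)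
  · -- normalized by `N`
    intro n hn
    rw [Subgroup.mem_normalizer_iff]
    intro x
    simp only [Subgroup.mem_inf, Subgroup.mem_iInf]
    constructor
    · rintro ⟨hxN, hxM⟩
      refine ⟨Subgroup.mul_mem _ (Subgroup.mul_mem _ hn hxN) (Subgroup.inv_mem _ hn), fun l => ?_⟩
      exact (Subgroup.mem_normalizer_iff.mp ((hMl l).2.1 hn) x).mp (hxM l)
    · rintro ⟨hxN, hxM⟩
      refine ⟨?_, fun l => ?_⟩
      · have := Subgroup.mul_mem _ (Subgroup.mul_mem _ (Subgroup.inv_mem _ hn) hxN) hn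
        simpa [mul_assoc] using this
      · exact (Subgroup.mem_normalizer_iff.mp ((hMl l).2.1 hn) x).mpr (hxM l)
  · -- contains the `p`-elements
    rintro x hx ⟨j, hj⟩
    simp only [Subgroup.mem_inf, Subgroup.mem_iInf]
    refine ⟨hx, fun l => ?_⟩
    obtain ⟨hle, hnorm, -, i, hi⟩ := hMl l
    apply ODDCL2.mem_of_coprime l.2.1 hle hnorm hi hx
    rw [hj]
    apply Nat.Coprime.pow_right
    exact (Nat.coprime_primes l.2.1 hp).mpr l.2.2

end Cfsg.Agent.Helper3.BSW
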