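import Mathlib
import Cfsg.Agent.Lib.Helper24.CharComplete
import Cfsg.Agent.Lib.Helper24.CharLinear
import Cfsg.Agent.Lib.Helper3.BSWCharDefs

/-!
# S3282 piece VANY, core: the vanishing relation `∑_ψ b μ ψ ψ(y) = 0` on the explicit shape
-/

set_option autoImplicit false

namespace Cfsg.Agent.Helper3.BSW

open Cfsg Cfsg.Agent.Helper24
open scoped ComplexConjugate

universe u

variable {G : Type u} [Group G] [Fintype G] [Fintype (IrrCharacter G)] [DecidableEq (IrrCharacter G)]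
  {t s : G} {K : Subgroup G} [Fintype K] [Fintype (JK K)] [DecidableEq (JK K)]
  {a1 : IrrCharacter G → ℤ} {b : JK K → IrrCharacter G → ℤ} {sgn : JK K → ℤ}

namespace VANY

theorem sum_ind_mul (X : IrrCharacter G) (F : IrrCharacter G → ℂ) :
    ∑ ψ : IrrCharacter G, ((ind X ψ : ℤ) : ℂ) * F ψ = F X := by
  classical
  rw [Finset.sum_eq_single X]
  · unfold ind; simp
  · intro ψ _ hψ
    unfold ind
    rw [if_neg hψ]; simp
  · intro hX
    exact absurd (Finset.mem_univ X) hX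

theorem principal_apply (y : G) : ((principalChar G : IrrCharacter G) : G → ℂ) y = 1 := rfl

variable {j0 : JK K} {P : IrrCharacter G} {S : JK K → IrrCharacter G} {Z1 Z2 : IrrCharacter G} {ε : ℤ}

/-- the core of VANY, with `van_K` as a hypothesis -/
theorem van_shape_core (hε : ε = 1 ∨ ε = -1)
    (hS : Shape (principalChar G) (invJ K) j0 b degZ P S Z1 Z2 ε ε) {y : G}
    (hvan : ∀ μ : JK K, ∑ ψ : IrrCharacter G, (b μ ψ : ℂ) * (ψ : G → ℂ) y = 0) :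
    (∀ j, j ≠ j0 → (S j : G → ℂ) y = (P : G → ℂ) y + (ε : ℂ)) ∧
      (Z1 : G → ℂ) y + (Z2 : G → ℂ) y = (P : G → ℂ) y + (ε : ℂ) := by
  classical
  have hε2 : (ε : ℂ) * (ε : ℂ) = 1 := by
    rcases hε with h | h <;> rw [h] <;> norm_num
  constructor
  · intro j hj
    have h1 := hvan j
    have h2 : ∀ ψ : IrrCharacter G, (b j ψ : ℂ) * (ψ : G → ℂ) y =
        ((ind (principalChar G) ψ : ℤ) : ℂ) * (ψ : G → ℂ) y +
          (ε : ℂ) * (((ind P ψ : ℤ) : ℂ) * (ψ : G → ℂ) y) -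
          (ε : ℂ) * (((ind (S j) ψ : ℤ) : ℂ) * (ψ : G → ℂ) y) := by
      intro ψ
      rw [hS.bj j hj ψ]
      push_cast
      ring
    rw [Finset.sum_congr rfl (fun ψ _ => h2 ψ), Finset.sum_sub_distrib, Finset.sum_add_distrib,
      ← Finset.mul_sum, ← Finset.mul_sum, sum_ind_mul, sum_ind_mul, sum_ind_mul,
      principal_apply] at h1
    have h3 : (ε : ℂ) * (1 + (ε : ℂ) * (P : G → ℂ) y - (ε : ℂ) * (S j : G → ℂ) y) = 0 := by
      rw [h1, mul_zero]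
    have h4 : (ε : ℂ) * (1 + (ε : ℂ) * (P : G → ℂ) y - (ε : ℂ) * (S j : G → ℂ) y) =
        (ε : ℂ) + ((ε : ℂ) * (ε : ℂ)) * (P : G → ℂ) y - ((ε : ℂ) * (ε : ℂ)) * (S j : G → ℂ) y := by
      ring
    rw [h4, hε2, one_mul, one_mul] at h3
    linear_combination -h3
  · have h1 := hvan j0
    have h2 : ∀ ψ : IrrCharacter G, (b j0 ψ : ℂ) * (ψ : G → ℂ) y =
        ((ind (principalChar G) ψ : ℤ) : ℂ) * (ψ : G → ℂ) y +
          (ε : ℂ) * (((ind P ψ : ℤ) : ℂ) * (ψ : G → ℂ) y) -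
          (ε : ℂ) * (((ind Z1 ψ : ℤ) : ℂ) * (ψ : G → ℂ) y) -
          (ε : ℂ) * (((ind Z2 ψ : ℤ) : ℂ) * (ψ : G → ℂ) y) := by
      intro ψ
      rw [hS.bj0 ψ]
      push_cast
      ring
    rw [Finset.sum_congr rfl (fun ψ _ => h2 ψ), Finset.sum_sub_distrib, Finset.sum_sub_distrib,
      Finset.sum_add_distrib,
      ← Finset.mul_sum, ← Finset.mul_sum, ← Finset.mul_sum, sum_ind_mul, sum_ind_mul, sum_ind_mul,
      sum_ind_mul, principal_apply] at h1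
    have h3 : (ε : ℂ) * (1 + (ε : ℂ) * (P : G → ℂ) y - (ε : ℂ) * (Z1 : G → ℂ) y -
        (ε : ℂ) * (Z2 : G → ℂ) y) = 0 := by
      rw [h1, mul_zero]
    have h4 : (ε : ℂ) * (1 + (ε : ℂ) * (P : G → ℂ) y - (ε : ℂ) * (Z1 : G → ℂ) y -
        (ε : ℂ) * (Z2 : G → ℂ) y) =
        (ε : ℂ) + ((ε : ℂ) * (ε : ℂ)) * (P : G → ℂ) y - ((ε : ℂ) * (ε : ℂ)) * (Z1 : G → ℂ) y -
          ((ε : ℂ) * (ε : ℂ)) * (Z2 : G → ℂ) y := by
      ring
    rw [h4, hε2, one_mul, one_mul, one_mul] at h3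
    linear_combination -h3

end VANY

end Cfsg.Agent.Helper3.BSW
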