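import Mathlib
import Cfsg.Agent.Lib.Helper14.BSWVANYCore
import Cfsg.Agent.Lib.Helper17.BSWVAN

/-!
# S3282 piece VANY: `S_j(y) = P(y) + ε`, `Z1(y) + Z2(y) = P(y) + ε` on `R'`
-/

set_option autoImplicit false

namespace Cfsg.Agent.Helper3.BSW

open Cfsg Cfsg.Agent.Helper24
open scoped ComplexConjugate

universe u

variable {G : Type u} [Group G] [Fintype G] [Fintype (IrrCharacter G)] [DecidableEq (IrrCharacter G)]
  {t s : G} {K : Subgroup G} [Fintype K] [Fintype (JK K)] [DecidableEq (JK K)]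
  {a1 : IrrCharacter G → ℤ} {b : JK K → IrrCharacter G → ℤ} {sgn : JK K → ℤ}

variable {j0 : JK K} {P : IrrCharacter G} {S : JK K → IrrCharacter G} {Z1 Z2 : IrrCharacter G} {ε : ℤ}

/-- PIECE VANY (S2). -/
theorem van_shape (h : Hyp t s K) (cd : CharData K t h.htK a1 b sgn) (hε : ε = 1 ∨ ε = -1)
    (hS : Shape (principalChar G) (invJ K) j0 b degZ P S Z1 Z2 ε ε) {y : G} (hy : InR K y) :
    (∀ j, j ≠ j0 → (S j : G → ℂ) y = (P : G → ℂ) y + (ε : ℂ)) ∧
      (Z1 : G → ℂ) y + (Z2 : G → ℂ) y = (P : G → ℂ) y + (ε : ℂ) :=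
  VANY.van_shape_core hε hS (fun μ => van_K h cd μ hy)

end Cfsg.Agent.Helper3.BSW
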