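import Mathlib
import Cfsg.Agent.Lib.Helper14.BhsDefs

/-! # S2999 piece BHS-BASIC (helper14): four tiny consequences of `Hyp`. -/

set_option autoImplicit false

namespace Cfsg.Agent.Helper14.Bhs

open Pointwise

universe u v

section grp

variable {P : Type u} [Group P] [Finite P] {W : Type v} [AddCommGroup W] [Finite W]
  [DistribMulAction P W] {p : ℕ} [Fact p.Prime] {T : Sylow p P} {M A : Subgroup P}

theorem exists_not_mem (h : Hyp W p T M A) : ∃ x : P, x ∉ M := by
  by_contra hcon
  exact h.coatom.1 (eq_top_iff.2 fun x _ => by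
    by_contra hx
    exact hcon ⟨x, hx⟩)

theorem A_ne_bot (h : Hyp W p T M A) : A ≠ ⊥ := by
  intro hA
  obtain ⟨x, hx⟩ := exists_not_mem h
  have h3 := h.hiii x hx
  rw [hA, Subgroup.map_bot, sup_bot_eq] at h3
  apply hx
  have : x ∈ (⊤ : Subgroup P) := Subgroup.mem_top x
  rw [← h3, Subgroup.mem_bot] at this
  rw [this]
  exact M.one_mem

theorem interConj (h : Hyp W p T M A) : InterConj W M A := by
  intro g hg
  rw [← fix_conj, ← fix_sup, h.hiii g hg]

theorem fixA_not_le (h : Hyp W p T M A) : ¬ fix W A ≤ fix W (⊤ : Subgroup P) :=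
  fun hle => h.hii ((fix_anti h.hAT).trans hle)

end grp

end Cfsg.Agent.Helper14.Bhs
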