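import Mathlib
import Cfsg.Agent.Lib.Helper14.BhsDefs
import Cfsg.Agent.Lib.Helper14.BhsBRALG
import Cfsg.Agent.Lib.Helper14.BhsAlg
import Cfsg.Agent.Lib.Helper14.BhsBASIC
import Cfsg.Agent.Lib.Helper1.BhsQUADA
import Cfsg.Agent.Lib.Helper27.BhsQUADB
import Cfsg.Agent.Lib.Helper27.BhsCARD
import Cfsg.Agent.Lib.Helper19.BhsINV
import Cfsg.Agent.Lib.Helper19.BhsKEY
import Cfsg.Agent.Lib.Helper25.BhsFRAT
import Cfsg.Agent.Lib.Helper22.BhsCORE
import Cfsg.Agent.Lib.Helper20.BhsIDEAL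
import Cfsg.Agent.Lib.Helper12.BhsGEN
import Cfsg.Agent.Lib.Helper12.BhsPART
import Cfsg.Agent.Lib.Helper11.BhsSYMM
import Cfsg.Agent.Lib.Helper9.BhsPAIR
import Cfsg.Agent.Lib.Helper16.BhsFAITH
import Cfsg.Agent.Lib.Helper1.BhsREC

/-!
# S2999: the abstract main theorem (helper14, assembly of the pieces BHS-*)

A finite group `P` acting faithfully on a finite elementary abelian `p`-group `W`, `P` `p`-minimal with Sylow `T ≤ M`
(the maximal subgroup over `T`), `A ≤ T` a strict best offender with `C_W(T) ≰ C_W(P)` and `P = ⟨A, A^x⟩` for all `x ∉ M`.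
Then `P ≅ SL₂(F)`, `|F| = |A|`, and `W / C_W(P)` is the natural module.
-/

set_option autoImplicit false

namespace Cfsg.Agent.Helper14.Bhs

open Pointwise

universe u v

variable {P : Type u} [Group P] [Finite P] {W : Type v} [AddCommGroup W] [Finite W]
  [DistribMulAction P W] {p : ℕ} [Fact p.Prime] {T : Sylow p P} {M A : Subgroup P}

/-- BHS-BRALG: coordinates. -/
theorem coords (hpW : ∀ w : W, p • w = 0) (hAc : ∀ a ∈ A, ∀ b ∈ A, a * b = b * a)
    (hq : Quad W A) {x : P} (hI : Ideal W A x)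
    (hq' : Quad W (A.map (MulAut.conj x).toMonoidHom))
    (hI' : Ideal W (A.map (MulAut.conj x).toMonoidHom) x⁻¹) (hpair : Pair W A x) :
    ∃ (F : Type) (_ : Field F) (_ : Fintype F) (ψ : W →+ (Fin 2 → F)),
      Fintype.card F = Nat.card A ∧ Coords W A (A.map (MulAut.conj x).toMonoidHom) F ψ :=
  coords_core hAc hq hI hq' hI' hpair
    (fun A₀ B₀ _ _ D E β γ h1 h2 h3 h4 h5 h6 h7 h8 h9 =>
      alg_field_ker' p hpW D E β γ h1 h2 h3 h4 h5 h6 h7 h8 h9)

/-- the abstract form of S2999, with the quadratic action and the trivial core as outputs of separate steps. -/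
theorem main_abs (h : Hyp W p T M A) :
    ∃ (F : Type) (_ : Field F) (_ : Fintype F), Fintype.card F = Nat.card A ∧
      ∃ (ρ : P ≃* Matrix.SpecialLinearGroup (Fin 2) F) (ψ : W →+ (Fin 2 → F)),
        Function.Surjective ψ ∧ (∀ w : W, ψ w = 0 ↔ w ∈ fix W (⊤ : Subgroup P)) ∧
        (∀ (g : P) (w : W), ψ (g • w) = Matrix.mulVec
          ((ρ g : Matrix.SpecialLinearGroup (Fin 2) F) : Matrix (Fin 2) (Fin 2) F) (ψ w)) ∧
        fix W A = AddSubgroup.closure {v : W | ∃ a ∈ A, ∃ w : W, v = cm w a} ⊔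
          fix W (⊤ : Subgroup P) := by
  obtain ⟨x, hx⟩ := exists_not_mem h
  have hA := A_ne_bot h
  have hic := interConj h
  have hne := fixA_not_le h
  have hq : Quad W A := quad_of_count h hA (quad_count h.hAc)
  have hcard := card_fix_le h hic hx
  have hinv := inv_of_quad h hq hx
  have hkey := key_of_inv h hic hx hinv
  have hfr : Frat T M := frat h.pmin h.coatom h.hTM
  have hcore := core_bot h hq hic hx hkey hfr
  have hI := ideal h hq hic hx hkey hcore hcard hne
  have hgen := fix_eq_comm_sup hq hI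
  have hq' := quad_symm hq x
  have hI' := ideal_symm hq hI
  have hpart := part h hic hx hI
  have hpair := pair hq hI hq' hI' hpart
  have hf := faithQ h hI hI'
  obtain ⟨F, i1, i2, ψ, hcardF, hC⟩ := coords h.hpW h.hAc hq hI hq' hI' hpair
  obtain ⟨ρ, hρ⟩ := rec_sl2 A (A.map (MulAut.conj x).toMonoidHom) (h.hiii x hx) ψ hC hf
  exact ⟨F, i1, i2, hcardF, ρ, ψ, hC.1, hC.2.1, hρ, hgen⟩

end Cfsg.Agent.Helper14.Bhs
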