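import Mathlib
import Cfsg.Agent.S1473
import Cfsg.Agent.S1477
import Cfsg.Agent.S1479
import Cfsg.Agent.S1483
import Cfsg.Agent.S1526
import Cfsg.Agent.S1527

set_option autoImplicit false
open Cfsg

namespace Cfsg.Agent.Helper14.CNOdd

variable {G : Type*} [Group G]

/-- Subgroups of CN-groups are CN-groups. -/
theorem cn_subgroup (hCN : Cfsg.IsCNGroup G) (K : Subgroup G) : Cfsg.IsCNGroup K := by
  intro k hk
  have hk1 : (k : G) ≠ 1 := fun h => hk (Subtype.ext h)
  have hn := hCN (k : G) hk1
  let f : ↥(Subgroup.centralizer ({k} : Set K)) →* ↥(Subgroup.centralizer ({(k : G)} : Set G)) :=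
    { toFun := fun x => ⟨(x.1 : G), by
        rw [Subgroup.mem_centralizer_singleton_iff]
        have := x.2
        rw [Subgroup.mem_centralizer_singleton_iff] at this
        have h2 := congrArg (fun y : K => (y : G)) this
        simpa using h2⟩
      map_one' := rfl
      map_mul' := fun _ _ => rfl }
  have hinj : Function.Injective f := by
    intro a b hab
    have h1 : ((a.1 : K) : G) = ((b.1 : K) : G) := congrArg (fun y => (y.1 : G)) hab
    exact Subtype.ext (Subtype.ext h1)
  haveI := hn
  refine isNilpotent_of_ker_le_center f ?_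
  rw [(MonoidHom.ker_eq_bot_iff f).mpr hinj]
  exact bot_le

/-- The maximal nilpotent subgroups. -/
def MaxNil (H : Subgroup G) : Prop :=
  Group.IsNilpotent H ∧ ∀ L : Subgroup G, Group.IsNilpotent L → H ≤ L → L = H

theorem conj_mem_normalizer_of_map_eq {H : Subgroup G} {g : G}
    (h : H.map (MulAut.conj g).toMonoidHom = H) : g ∈ Subgroup.normalizer (H : Set G) := by
  rw [Subgroup.mem_normalizer_iff]
  intro x
  constructor
  · intro hx
    rw [← h]
    exact ⟨x, hx, by simp⟩
  · intro hx
    rw [← h] at hx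
    obtain ⟨y, hy, hxy⟩ := hx
    have : y = x := by
      have h1 : g * y * g⁻¹ = g * x * g⁻¹ := by simpa using hxy
      have h2 : g * y = g * x := mul_right_cancel h1
      exact mul_left_cancel h2
    exact this ▸ hy

theorem map_eq_of_mem_normalizer {H : Subgroup G} {g : G}
    (h : g ∈ Subgroup.normalizer (H : Set G)) : H.map (MulAut.conj g).toMonoidHom = H := by
  rw [Subgroup.mem_normalizer_iff] at h
  ext x
  constructor
  · rintro ⟨y, hy, rfl⟩
    simpa using (h y).mp hy
  · intro hx
    refine ⟨g⁻¹ * x * g, ?_, by simp [mul_assoc]⟩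
    have := (h (g⁻¹ * x * g))
    refine this.mpr ?_
    simpa [mul_assoc] using hx

theorem maxNil_conj {H : Subgroup G} (hH : MaxNil H) (g : G) :
    MaxNil (H.map (MulAut.conj g).toMonoidHom) := by
  refine ⟨?_, ?_⟩
  · haveI := hH.1
    exact nilpotent_of_mulEquiv (H.equivMapOfInjective (MulAut.conj g).toMonoidHom
      (MulAut.conj g).injective)
  · intro L hL hle
    have h1 : H ≤ L.map (MulAut.conj g⁻¹).toMonoidHom := by
      intro x hx
      refine ⟨g * x * g⁻¹, hle ⟨x, hx, by simp⟩, by simp [mul_assoc]⟩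
    have h2 : Group.IsNilpotent ↥(L.map (MulAut.conj g⁻¹).toMonoidHom) := by
      haveI := hL
      exact nilpotent_of_mulEquiv (L.equivMapOfInjective (MulAut.conj g⁻¹).toMonoidHom
        (MulAut.conj g⁻¹).injective)
    have h3 := hH.2 _ h2 h1
    rw [← h3, Subgroup.map_map]
    ext x
    simp only [Subgroup.mem_map, MonoidHom.coe_comp, MulEquiv.coe_toMonoidHom, Function.comp_apply,
      MulAut.conj_apply, inv_inv]
    constructor
    · intro hx
      exact ⟨x, hx, by group⟩
    · rintro ⟨y, hy, rfl⟩
      have : g * (g⁻¹ * y * g) * g⁻¹ = y := by group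
      rw [this]; exact hy

end Cfsg.Agent.Helper14.CNOdd
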