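import Mathlib
import Cfsg.Agent.Lib.Helper14.CNOdd

set_option autoImplicit false
open Cfsg

namespace Cfsg.Agent.Helper14.CNOdd

variable {G : Type*} [Group G]

theorem map_conj_map_conj (H : Subgroup G) (g h : G) :
    (H.map (MulAut.conj g).toMonoidHom).map (MulAut.conj h).toMonoidHom =
      H.map (MulAut.conj (h * g)).toMonoidHom := by
  rw [Subgroup.map_map]
  congr 1
  ext x
  simp [mul_assoc]

theorem map_conj_one (H : Subgroup G) : H.map (MulAut.conj (1 : G)).toMonoidHom = H := by
  ext x
  simp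

theorem zpowers_nilpotent (g : G) : Group.IsNilpotent (Subgroup.zpowers g) := by
  letI : CommGroup (Subgroup.zpowers g) :=
    { (inferInstance : Group (Subgroup.zpowers g)) with mul_comm := mul_comm' }
  exact CommGroup.isNilpotent

theorem no_minsimple [Finite G]
    (hG : Cfsg.IsMinSimpleOddOrder G) (hCN : Cfsg.IsCNGroup G) : False := by
  classical
  obtain ⟨h79a, h79b⟩ := Cfsg.Agent.S1479.result hG hCN
  obtain ⟨h83, -⟩ := Cfsg.Agent.S1483.result hG hCN
  haveI hsimple : IsSimpleGroup G := hG.2.1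
  have hodd : Odd (Nat.card G) := hG.1
  -- centralizers inside maximal nilpotent subgroups
  have hF1 : ∀ H : Subgroup G, MaxNil H → ∀ x ∈ H, x ≠ 1 →
      Subgroup.centralizer ({x} : Set G) ≤ H := by
    intro H hH x hx hx1
    exact (Cfsg.Agent.S1477.result hCN H hH.1 hH.2).2.2 (h79a H hH.1 hH.2).2.1 x hx hx1
  -- coatoms are self-normalizing
  have hF3 : ∀ M : Subgroup G, IsCoatom M → M ≠ ⊥ → ∀ b : G,
      M.map (MulAut.conj b).toMonoidHom = M → b ∈ M := by
    intro M hM hMb b hb
    have hbN := conj_mem_normalizer_of_map_eq hb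
    have hle : M ≤ Subgroup.normalizer (M : Set G) := Subgroup.le_normalizer
    rcases hM.le_iff.mp hle with h | h
    · have hn : M.Normal := Subgroup.normalizer_eq_top_iff.mp h
      rcases IsSimpleGroup.eq_bot_or_eq_top_of_normal M hn with h1 | h1
      · exact absurd h1 hMb
      · exact absurd h1 hM.1
    · rw [h] at hbN; exact hbN
  have hF5 : ∀ (M H : Subgroup G), IsCoatom M → MaxNil H →
      M ≤ Subgroup.normalizer (H : Set G) → Subgroup.normalizer (H : Set G) = M := by
    intro M H hM hH hle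
    have hco := (h79a H hH.1 hH.2).2.2.1
    rcases hM.le_iff.mp hle with h | h
    · exact absurd h hco.1
    · exact h
  choose! HH EE hHH using h79b
  -- representatives of conjugacy classes of coatoms
  let C := {M : Subgroup G // IsCoatom M}
  let r : Setoid C :=
    { r := fun a b => ∃ g : G, b.1 = a.1.map (MulAut.conj g).toMonoidHom
      iseqv := ⟨fun a => ⟨1, (map_conj_one a.1).symm⟩,
        fun {a b} ⟨g, hg⟩ => ⟨g⁻¹, by rw [hg, map_conj_map_conj, inv_mul_cancel, map_conj_one]⟩,
        fun {a b c} ⟨g, hg⟩ ⟨h, hh⟩ => ⟨h * g, by rw [hh, hg, map_conj_map_conj]⟩⟩ }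
  let ι := Quotient r
  haveI : Finite ι := by
    haveI : Finite C := inferInstance
    exact Quotient.finite r
  letI : Fintype ι := Fintype.ofFinite ι
  let rep : ι → C := fun i => Quotient.out i
  have hrep_ne : ∀ i j : ι, i ≠ j → ∀ g : G,
      (rep j).1 ≠ (rep i).1.map (MulAut.conj g).toMonoidHom := by
    intro i j hij g hg
    apply hij
    have h1 : (⟦rep i⟧ : Quotient r) = ⟦rep j⟧ := Quotient.sound ⟨g, hg⟩
    simpa [rep, Quotient.out_eq] using h1
  have hrep_all : ∀ M : Subgroup G, IsCoatom M → ∃ i : ι, ∃ g : G,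
      M = (rep i).1.map (MulAut.conj g).toMonoidHom := by
    intro M hM
    refine ⟨⟦⟨M, hM⟩⟧, ?_⟩
    have := Quotient.mk_out (s := r) (⟨M, hM⟩ : C)
    exact this
  -- data
  have hdata : ∀ i : ι, MaxNil (HH (rep i).1) ∧
      (rep i).1 ≤ Subgroup.normalizer ((HH (rep i).1 : Subgroup G) : Set G) ∧
      Cfsg.IsComplIn (HH (rep i).1) (EE (rep i).1) (rep i).1 ∧ HH (rep i).1 ≠ ⊥ ∧
      EE (rep i).1 ≠ ⊥ := by
    intro i
    obtain ⟨h1, h2, h3, h4, h5, h6, -⟩ := hHH (rep i).1 (rep i).2
    exact ⟨⟨h1, h2⟩, h3, h4, h5, h6⟩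
  have hnorm : ∀ i : ι, Subgroup.normalizer ((HH (rep i).1 : Subgroup G) : Set G) = (rep i).1 :=
    fun i => hF5 _ _ (rep i).2 (hdata i).1 (hdata i).2.1
  have hTI : ∀ i : ι, Cfsg.IsTISubset ((HH (rep i).1 : Subgroup G) : Set G) := by
    intro i g hg x hx hgx
    have hne : (HH (rep i).1).map (MulAut.conj g).toMonoidHom ≠ HH (rep i).1 :=
      fun h => hg (conj_mem_normalizer_of_map_eq h)
    have hinf := (h79a _ (hdata i).1.1 (hdata i).1.2).2.1 g hne
    have hmem : g * x * g⁻¹ ∈ HH (rep i).1 ⊓ (HH (rep i).1).map (MulAut.conj g).toMonoidHom :=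
      ⟨hgx, ⟨x, hx, by simp⟩⟩
    rw [hinf, Subgroup.mem_bot] at hmem
    have : x = g⁻¹ * (g * x * g⁻¹) * g := by group
    rw [this, hmem]; simp
  have hcover : ∀ g : G, g ≠ 1 → ∃ i : ι, ∃ x : G, x * g * x⁻¹ ∈ HH (rep i).1 := by
    intro g hg
    have hz : Group.IsNilpotent (Subgroup.zpowers g) := zpowers_nilpotent g
    obtain ⟨H', hle, hmax⟩ :=
      Finite.exists_le_maximal (p := fun L : Subgroup G => Group.IsNilpotent L) hz
    have hH' : MaxNil H' := ⟨hmax.1, fun L hL hHL => le_antisymm (hmax.2 hL hHL) hHL⟩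
    have hgH' : g ∈ H' := hle (Subgroup.mem_zpowers g)
    obtain ⟨-, -, hco', -⟩ := h79a H' hH'.1 hH'.2
    obtain ⟨i, a, hia⟩ := hrep_all _ hco'
    obtain ⟨hK0, hK0norm, -, hK0ne, -⟩ := hdata i
    have hK : MaxNil ((HH (rep i).1).map (MulAut.conj a).toMonoidHom) := maxNil_conj hK0 a
    have hKne : (HH (rep i).1).map (MulAut.conj a).toMonoidHom ≠ ⊥ := by
      intro h
      apply hK0ne
      exact (Subgroup.map_eq_bot_iff_of_injective _ (MulAut.conj a).injective).mp h
    have hM'K : Subgroup.normalizer (H' : Set G) ≤ Subgroup.normalizer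
        (((HH (rep i).1).map (MulAut.conj a).toMonoidHom : Subgroup G) : Set G) := by
      rw [hia, ← Subgroup.map_equiv_normalizer_eq]
      exact Subgroup.map_mono hK0norm
    have hNK := hF5 _ _ hco' hK hM'K
    have hH'M' : H' ≤ Subgroup.normalizer (H' : Set G) := Subgroup.le_normalizer
    have hKM' : (HH (rep i).1).map (MulAut.conj a).toMonoidHom ≤
        Subgroup.normalizer (H' : Set G) := by
      rw [← hNK]; exact Subgroup.le_normalizer
    rcases h83 H' _ hH' hK with ⟨b, hb⟩ | hcop
    · have h1 : (Subgroup.normalizer (H' : Set G)).map (MulAut.conj b).toMonoidHom =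
          Subgroup.normalizer (H' : Set G) := by
        have := Subgroup.map_equiv_normalizer_eq H' (MulAut.conj b)
        rw [← hb, hNK] at this
        exact this
      have hM'ne : Subgroup.normalizer (H' : Set G) ≠ ⊥ := by
        intro h
        apply hg
        have := hH'M' hgH'
        rw [h] at this
        simpa using this
      have hbM' := hF3 _ hco' hM'ne b h1
      have hKH : (HH (rep i).1).map (MulAut.conj a).toMonoidHom = H' := by
        rw [hb]; exact map_eq_of_mem_normalizer hbM'
      rw [← hKH] at hgH'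
      obtain ⟨y, hy, hyg⟩ := hgH'
      refine ⟨i, a⁻¹, ?_⟩
      have : a⁻¹ * g * a⁻¹⁻¹ = y := by
        rw [← hyg]; simp [mul_assoc]
      rw [this]; exact hy
    · exfalso
      have hinf : H' ⊓ (HH (rep i).1).map (MulAut.conj a).toMonoidHom = ⊥ :=
        (Subgroup.disjoint_of_coprime_natCard hcop).eq_bot
      have hKle : (HH (rep i).1).map (MulAut.conj a).toMonoidHom ≤ H' := by
        intro k hk
        have hkM := hKM' hk
        have hgM := hH'M' hgH'
        have h1 : k * g * k⁻¹ ∈ H' := (Subgroup.mem_normalizer_iff.mp hkM g).mp hgH'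
        have h2 : g * k⁻¹ * g⁻¹ ∈ (HH (rep i).1).map (MulAut.conj a).toMonoidHom := by
          have hgN : g ∈ Subgroup.normalizer
              (((HH (rep i).1).map (MulAut.conj a).toMonoidHom : Subgroup G) : Set G) := by
            rw [hNK]; exact hgM
          exact (Subgroup.mem_normalizer_iff.mp hgN k⁻¹).mp (Subgroup.inv_mem _ hk)
        have h3 : k * g * k⁻¹ * g⁻¹ ∈
            H' ⊓ (HH (rep i).1).map (MulAut.conj a).toMonoidHom := by
          refine ⟨H'.mul_mem h1 (H'.inv_mem hgH'), ?_⟩
          have : k * g * k⁻¹ * g⁻¹ = k * (g * k⁻¹ * g⁻¹) := by group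
          rw [this]; exact Subgroup.mul_mem _ hk h2
        rw [hinf, Subgroup.mem_bot] at h3
        have hcomm : k ∈ Subgroup.centralizer ({g} : Set G) := by
          rw [Subgroup.mem_centralizer_singleton_iff]
          have : k * g = g * k := by
            have h4 : k * g * k⁻¹ * g⁻¹ * (g * k) = g * k := by rw [h3, one_mul]
            rw [← h4]; group
          exact this
        exact hF1 H' hH' g hgH' hg hcomm
      have : (HH (rep i).1).map (MulAut.conj a).toMonoidHom = ⊥ := by
        rw [eq_bot_iff, ← hinf]; exact le_inf hKle le_rfl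
      exact hKne this
  have hcop : ∀ i j : ι, i ≠ j →
      Nat.Coprime (Nat.card (HH (rep i).1)) (Nat.card (HH (rep j).1)) := by
    intro i j hij
    rcases h83 _ _ (hdata i).1 (hdata j).1 with ⟨g, hg⟩ | h
    · exfalso
      apply hrep_ne i j hij g
      have := Subgroup.map_equiv_normalizer_eq (HH (rep i).1) (MulAut.conj g)
      rw [← hg, hnorm i, hnorm j] at this
      exact this.symm
    · exact h
  -- at least two classes
  have hι : 2 ≤ Fintype.card ι := by
    by_contra hlt
    push Not at hlt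
    -- there is a coatom
    haveI : Nontrivial G := hsimple.toNontrivial
    obtain ⟨M0, hM0⟩ : ∃ M : Subgroup G, IsCoatom M := by
      obtain ⟨M, hM, -⟩ := (eq_top_or_exists_le_coatom (⊥ : Subgroup G)).resolve_left bot_ne_top
      exact ⟨M, hM⟩
    obtain ⟨i0, -, -⟩ := hrep_all M0 hM0
    haveI : Subsingleton ι := by
      rw [← Fintype.card_le_one_iff_subsingleton]; omega
    have hsum := Cfsg.Agent.S1527.result (fun i : ι => HH (rep i).1) hcop hTI hcover
    have huniv : (Finset.univ : Finset ι) = {i0} := by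
      ext j; simp [Subsingleton.elim j i0]
    rw [huniv, Finset.sum_singleton, hnorm i0] at hsum
    obtain ⟨-, -, hcompl, hne, hEne⟩ := hdata i0
    have hHle : HH (rep i0).1 ≤ (rep i0).1 := hcompl.1
    have hcardle : Nat.card (HH (rep i0).1) ≤ Nat.card (rep i0).1 :=
      Subgroup.card_le_of_le hHle
    have hidx : (rep i0).1.index * Nat.card (rep i0).1 = Nat.card G :=
      Subgroup.index_mul_card _
    have hpos : 0 < Nat.card (HH (rep i0).1) := Nat.card_pos
    have hidx1 : (rep i0).1.index ≠ 1 := by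
      intro h
      exact (rep i0).2.1 (Subgroup.index_eq_one.mp h)
    have hidx0 : 0 < (rep i0).1.index := Nat.pos_of_ne_zero (Subgroup.index_ne_zero_of_finite)
    -- arithmetic
    set a := (rep i0).1.index
    set h := Nat.card (HH (rep i0).1)
    set m := Nat.card (rep i0).1
    have h1 : a * h ≤ a * m := Nat.mul_le_mul_left a hcardle
    have h2 : a * (h - 1) = a * h - a := by
      rw [Nat.mul_sub, Nat.mul_one]
    have h3 : a ≤ a * h := Nat.le_mul_of_pos_right a hpos
    have h4 : 2 ≤ a := by omega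
    omega
  -- apply the partition theorem
  refine Cfsg.Agent.S1526.result hodd hι (fun i => (rep i).1) (fun i => HH (rep i).1)
    ?_ (fun i => (hdata i).2.2.2.1) ?_ ?_ hcop (fun i => ⟨hTI i, hnorm i⟩) hcover
  · intro i
    obtain ⟨-, -, hcompl, hne, hEne⟩ := hdata i
    refine lt_of_le_of_ne hcompl.1 ?_
    intro heq
    apply hEne
    have hEle : EE (rep i).1 ≤ HH (rep i).1 := by rw [heq]; exact hcompl.2.1
    have := hcompl.2.2.1
    rw [inf_eq_right.mpr hEle] at this
    exact this
  · intro i x hx h hh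
    have hxN : x ∈ Subgroup.normalizer ((HH (rep i).1 : Subgroup G) : Set G) :=
      (hdata i).2.1 hx
    exact (Subgroup.mem_normalizer_iff.mp hxN h).mp hh
  · intro i h hh hh1
    exact inf_le_right.trans (hF1 _ (hdata i).1 h hh hh1)

end Cfsg.Agent.Helper14.CNOdd
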