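import Mathlib
import Cfsg.Agent.Lib.Helper4.QuadRing
import Cfsg.Agent.Lib.Helper21.BaerSuzuki

set_option autoImplicit false

/-! Transvections whose centre is generated by the `p`-th power of the acting element: such an
element lies in the kernel of the action, if the kernel is the largest normal `p`-subgroup and
`p` is odd. -/

namespace Cfsg.Agent.Helper14.PowerTransv

section ring

variable {R : Type*} [Ring R]

/-- the square of the Weyl element acts as `-1` on a transvection -/
theorem weyl_sq (N M : R) (hNN : N * N = 0) (hMM : M * M = 0) (hNMN : N * M * N = -N)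
    (hMNM : M * N * M = -M) :
    ((1 + N) * (1 + M) * (1 + N)) * ((1 + N) * (1 + M) * (1 + N)) * N = -N ∧
    N * (((1 + N) * (1 + M) * (1 + N)) * ((1 + N) * (1 + M) * (1 + N))) = -N := by
  have hNMN' : N * (M * N) = -N := by rw [← mul_assoc]; exact hNMN
  have hMMN : M * (M * N) = 0 := by rw [← mul_assoc, hMM, zero_mul]
  have hNMM : N * M * M = 0 := by rw [mul_assoc, hMM, mul_zero]
  have h1 : (1 + N) * N = N := by rw [add_mul, one_mul, hNN, add_zero]
  have h2 : (1 + M) * N = N + M * N := by rw [add_mul, one_mul]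
  have h3 : (1 + N) * (N + M * N) = M * N := by
    rw [add_mul, one_mul, mul_add, hNN, hNMN']; abel
  have huN : ((1 + N) * (1 + M) * (1 + N)) * N = M * N := by
    rw [mul_assoc, h1, mul_assoc, h2, h3]
  have h4 : (1 + N) * (M * N) = M * N - N := by
    rw [add_mul, one_mul, hNMN']; abel
  have h5 : (1 + M) * (M * N - N) = -N := by
    rw [add_mul, one_mul, mul_sub, hMMN]; abel
  have h6 : (1 + N) * (-N) = -N := by
    rw [mul_neg, h1]
  have huMN : ((1 + N) * (1 + M) * (1 + N)) * (M * N) = -N := by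
    rw [mul_assoc, h4, mul_assoc, h5, h6]
  have k1 : N * (1 + N) = N := by rw [mul_add, mul_one, hNN, add_zero]
  have k2 : N * (1 + M) = N + N * M := by rw [mul_add, mul_one]
  have k3 : (N + N * M) * (1 + N) = N * M := by
    rw [mul_add, mul_one, add_mul, hNN, hNMN]; abel
  have hNu : N * ((1 + N) * (1 + M) * (1 + N)) = N * M := by
    rw [← mul_assoc, ← mul_assoc, k1, k2, k3]
  have k4 : N * M * (1 + N) = N * M - N := by
    rw [mul_add, mul_one, hNMN]; abel
  have k5 : (N * M - N) * (1 + M) = -N := by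
    rw [mul_add, mul_one, sub_mul, hNMM]; abel
  have k6 : (-N) * (1 + N) = -N := by
    rw [neg_mul, k1]
  have hNMu : N * M * ((1 + N) * (1 + M) * (1 + N)) = -N := by
    rw [← mul_assoc, ← mul_assoc, k4, k5, k6]
  constructor
  · rw [mul_assoc, huN, huMN]
  · rw [← mul_assoc, hNu, hNMu]

theorem scaled_relations (N M J C : R) (hJ : ∀ r : R, r * J = J * r) (hMM : M * M = 0)
    (hNMN : N * M * N = C * N) (hMNM : M * N * M = C * M) (hJC : J * C + 1 = 0) :
    (J * M) * (J * M) = 0 ∧ N * (J * M) * N = -N ∧ (J * M) * N * (J * M) = -(J * M) := by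
  have hjc : ∀ r : R, J * (C * r) = -r := by
    intro r
    have h2 : (J * C + 1) * r = 0 := by rw [hJC, zero_mul]
    rw [add_mul, one_mul, mul_assoc] at h2
    exact eq_neg_of_add_eq_zero_left h2
  refine ⟨?_, ?_, ?_⟩
  · rw [mul_assoc, ← mul_assoc M, hJ M, mul_assoc _ M M, hMM, mul_zero, mul_zero]
  · rw [← mul_assoc, hJ N, mul_assoc _ N M, mul_assoc _ (N * M) N, hNMN]
    exact hjc N
  · have h1 : (J * M) * N * (J * M) = J * (J * (M * N * M)) := by
      rw [mul_assoc _ M N, mul_assoc _ (M * N), ← mul_assoc (M * N), hJ (M * N),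
        mul_assoc _ (M * N) M]
    rw [h1, hMNM, hjc M, mul_neg]

theorem one_add_pow_of_sq_zero (M : R) (hMM : M * M = 0) (j : ℕ) :
    (1 + M) ^ j = 1 + (j : R) * M := by
  induction j with
  | zero => simp
  | succ j ih =>
    rw [pow_succ, ih, Nat.cast_succ, mul_add, mul_one, add_mul, one_mul, mul_assoc, hMM, mul_zero,
      add_zero, add_mul, one_mul]
    abel

/-- unipotent elements of exponent `p` -/
theorem one_add_pow_prime (p : ℕ) (hp : p.Prime) (hp2 : p ≠ 2) (hpR : (p : R) = 0) (s : R)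
    (hs : s ^ 3 = 0) : (1 + s) ^ p = 1 := by
  have hp3 : 3 ≤ p := by
    have := hp.two_le
    omega
  have hsp : s ^ p = 0 := by
    obtain ⟨k, rfl⟩ : ∃ k, p = 3 + k := ⟨p - 3, by omega⟩
    rw [pow_add, hs, zero_mul]
  rw [add_comm, (Commute.one_right s).add_pow p]
  rw [Finset.sum_eq_single 0]
  · simp
  · intro m hm hm0
    rw [Finset.mem_range] at hm
    by_cases hmp : m = p
    · rw [hmp, hsp, zero_mul, zero_mul]
    · have hlt : m < p := by omega
      obtain ⟨k, hk⟩ := hp.dvd_choose_self hm0 hlt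
      rw [hk, Nat.cast_mul, hpR, zero_mul, mul_zero]
  · intro h
    exact absurd (Finset.mem_range.mpr (Nat.succ_pos p)) h

end ring

section chain

variable {A : Type*} [AddCommGroup A]

/-- `r` stabilizes the chain `0 ≤ V₁ ≤ V₂ ≤ A` attached to `N`, `M`. -/
def St (N M r : AddMonoid.End A) : Prop :=
  (∀ v : A, N v = 0 → M v = 0 → r v = v) ∧
  (∀ v : A, M (N v) = 0 → N (M v) = 0 → N (r v - v) = 0 ∧ M (r v - v) = 0) ∧
  (∀ v : A, M (N (r v - v)) = 0 ∧ N (M (r v - v)) = 0)

variable (N M : AddMonoid.End A)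

theorem st_one : St N M 1 := by
  refine ⟨fun v _ _ => rfl, fun v _ _ => ?_, fun v => ?_⟩
  · show N (v - v) = 0 ∧ M (v - v) = 0
    rw [sub_self, map_zero, map_zero]; exact ⟨rfl, rfl⟩
  · show M (N (v - v)) = 0 ∧ N (M (v - v)) = 0
    rw [sub_self, map_zero, map_zero, map_zero]; exact ⟨rfl, rfl⟩

theorem st_one_add_left (hNN : ∀ v, N (N v) = 0) (hNMN : ∀ v, N (M (N v)) = 0) :
    St N M (1 + N) := by
  have e : ∀ v : A, (1 + N) v - v = N v := fun v => by
    show v + N v - v = N v
    abel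
  refine ⟨fun v h1 _ => ?_, fun v h1 _ => ?_, fun v => ?_⟩
  · show v + N v = v
    rw [h1, add_zero]
  · rw [e]; exact ⟨hNN v, h1⟩
  · rw [e, hNN, map_zero]; exact ⟨rfl, hNMN v⟩

theorem st_one_add_right (hMM : ∀ v, M (M v) = 0) (hMNM : ∀ v, M (N (M v)) = 0) :
    St N M (1 + M) := by
  have e : ∀ v : A, (1 + M) v - v = M v := fun v => by
    show v + M v - v = M v
    abel
  refine ⟨fun v _ h2 => ?_, fun v _ h2 => ?_, fun v => ?_⟩
  · show v + M v = v
    rw [h2, add_zero]
  · rw [e]; exact ⟨h2, hMM v⟩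
  · rw [e, hMM, map_zero]; exact ⟨hMNM v, rfl⟩

variable {N M}

theorem St.mul {r r' : AddMonoid.End A} (h : St N M r) (h' : St N M r') : St N M (r * r') := by
  obtain ⟨h1, h2, h3⟩ := h
  obtain ⟨h1', h2', h3'⟩ := h'
  have e : ∀ v : A, (r * r') v - v = (r (r' v - v) - (r' v - v)) + (r' v - v) + (r v - v) := by
    intro v
    show r (r' v) - v = _
    rw [map_sub]; abel
  refine ⟨fun v hv1 hv2 => ?_, fun v hv1 hv2 => ?_, fun v => ?_⟩
  · show r (r' v) = v
    rw [h1' v hv1 hv2, h1 v hv1 hv2]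
  · obtain ⟨a1, a2⟩ := h2' v hv1 hv2
    obtain ⟨b1, b2⟩ := h2 v hv1 hv2
    have c := h1 (r' v - v) a1 a2
    rw [e, c, sub_self, zero_add, map_add, map_add, a1, a2, b1, b2, add_zero]
    exact ⟨rfl, rfl⟩
  · obtain ⟨a1, a2⟩ := h3' v
    obtain ⟨b1, b2⟩ := h3 v
    obtain ⟨c1, c2⟩ := h2 (r' v - v) a1 a2
    rw [e]
    simp only [map_add, a1, a2, b1, b2, c1, c2, map_zero, add_zero, and_self]

theorem St.inv {r r' : AddMonoid.End A} (h : St N M r) (hinv : r' * r = 1) : St N M r' := by
  obtain ⟨h1, h2, h3⟩ := h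
  have hr' : ∀ v : A, r' (r v) = v := fun v => by
    have := congrArg (fun f : AddMonoid.End A => f v) hinv
    exact this
  have k1 : ∀ v : A, N v = 0 → M v = 0 → r' v = v := by
    intro v hv1 hv2
    have := h1 v hv1 hv2
    calc r' v = r' (r v) := by rw [this]
      _ = v := hr' v
  have e : ∀ v : A, r' v - v = -(r' (r v - v)) := by
    intro v
    rw [map_sub, hr']; abel
  have k2 : ∀ v : A, M (N v) = 0 → N (M v) = 0 → N (r' v - v) = 0 ∧ M (r' v - v) = 0 := by
    intro v hv1 hv2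
    obtain ⟨b1, b2⟩ := h2 v hv1 hv2
    rw [e, k1 _ b1 b2, map_neg, map_neg, b1, b2, neg_zero]
    exact ⟨rfl, rfl⟩
  refine ⟨k1, k2, fun v => ?_⟩
  obtain ⟨b1, b2⟩ := h3 v
  obtain ⟨c1, c2⟩ := k2 (r v - v) b1 b2
  have e2 : r' (r v - v) = (r' (r v - v) - (r v - v)) + (r v - v) := by abel
  rw [e, e2]
  simp only [map_neg, map_add, b1, b2, c1, c2, map_zero, add_zero, neg_zero, and_self]

theorem St.cube {r : AddMonoid.End A} (h : St N M r) : (r - 1) ^ 3 = 0 := by
  obtain ⟨h1, h2, h3⟩ := h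
  ext v
  show ((r - 1) ^ 3 : AddMonoid.End A) v = 0
  rw [pow_succ, pow_two]
  show (r - 1) ((r - 1) ((r - 1) v)) = 0
  have e : ∀ w : A, (r - 1) w = r w - w := fun w => rfl
  obtain ⟨b1, b2⟩ := h3 v
  obtain ⟨c1, c2⟩ := h2 (r v - v) b1 b2
  have d := h1 _ c1 c2
  rw [e v, e (r v - v), e, d, sub_self]

end chain

section main

open Cfsg.Agent.Helper4.QR

variable {Γ W : Type*} [Group Γ] [Finite Γ] [CommGroup W] [Finite W] {p : ℕ} [hp : Fact p.Prime]

theorem toEnd_injective : Function.Injective (toEnd W) := by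
  intro f g h
  ext w
  have := congrArg (fun r : AddMonoid.End (Additive W) => r (Additive.ofMul w)) h
  exact this

omit [Finite Γ] [Finite W] in
/-- inverses modulo `p` -/
theorem exists_inv_mod (k : ℤ) (hk : ¬ (p : ℤ) ∣ k) : ∃ k' : ℤ, (p : ℤ) ∣ k' * k - 1 := by
  have hk0 : ((k : ℤ) : ZMod p) ≠ 0 := by
    rw [Ne, ZMod.intCast_zmod_eq_zero_iff_dvd]; exact hk
  refine ⟨(((k : ZMod p)⁻¹).val : ℤ), ?_⟩
  rw [← ZMod.intCast_zmod_eq_zero_iff_dvd]
  push_cast
  rw [ZMod.natCast_zmod_val, inv_mul_cancel₀ hk0, sub_self]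

/-- **No power transvections** for odd `p`. -/
theorem no_power_transvection (hp2 : p ≠ 2) (act : Γ →* MulAut W) (hW : ∀ w : W, w ^ p = 1)
    (hker : IsPGroup p act.ker)
    (hO : ∀ K : Subgroup Γ, K.Normal → IsPGroup p K → K ≤ act.ker)
    (a : Γ) (e : W) (ha : act a ≠ 1)
    (htr : ∀ w : W, act a w / w ∈ Subgroup.zpowers e)
    (hcompat : ∀ z : Γ, act (z * a * z⁻¹) = act a → act z e = e) : False := by
  classical
  obtain ⟨ρ, hρ⟩ : ∃ ρ : Γ →* AddMonoid.End (Additive W), ρ = (toEnd W).comp act := ⟨_, rfl⟩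
  have hρapp : ∀ (x : Γ) (w : W), ρ x (Additive.ofMul w) = Additive.ofMul (act x w) := by
    intro x w; rw [hρ]; rfl
  have hρinj : ∀ x y : Γ, ρ x = ρ y → act x = act y := by
    intro x y h
    rw [hρ] at h
    exact toEnd_injective h
  have hpA : ∀ v : Additive W, p • v = 0 := by
    intro v
    obtain ⟨w, rfl⟩ := Additive.ofMul.surjective v
    rw [← ofMul_pow, hW, ofMul_one]
  have hpR : ((p : ℕ) : AddMonoid.End (Additive W)) = 0 := by
    ext v
    rw [AddMonoid.End.natCast_apply, hpA]; rfl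
  have hdvdR : ∀ k : ℤ, (p : ℤ) ∣ k → (k : AddMonoid.End (Additive W)) = 0 := by
    rintro k ⟨k', rfl⟩
    rw [Int.cast_mul, Int.cast_natCast, hpR, zero_mul]
  have hdvdA : ∀ (k : ℤ) (v : Additive W), (p : ℤ) ∣ k → k • v = 0 := by
    rintro k v ⟨k', rfl⟩
    rw [mul_comm, mul_zsmul, natCast_zsmul, hpA, smul_zero]
  have hunit : ∀ k k' : ℤ, (p : ℤ) ∣ k' * k - 1 →
      (k' : AddMonoid.End (Additive W)) * (k : AddMonoid.End (Additive W)) = 1 := by
    intro k k' h
    have := hdvdR _ h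
    rw [Int.cast_sub, Int.cast_mul, Int.cast_one, sub_eq_zero] at this
    exact this
  -- cancellation of scalars prime to `p`
  have hcancel : ∀ (k : ℤ) (r : AddMonoid.End (Additive W)), ¬ (p : ℤ) ∣ k →
      (k : AddMonoid.End (Additive W)) * r = 0 → r = 0 := by
    intro k r hk h
    obtain ⟨k', hk'⟩ := exists_inv_mod k hk
    calc r = ((k' : AddMonoid.End (Additive W)) * (k : AddMonoid.End (Additive W))) * r := by
          rw [hunit k k' hk', one_mul]
      _ = 0 := by rw [mul_assoc, h, mul_zero]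
  -- the transvection `N`
  obtain ⟨N, hN⟩ : ∃ N : AddMonoid.End (Additive W), N = ρ a - 1 := ⟨_, rfl⟩
  have hρa : ρ a = 1 + N := by rw [hN]; abel
  obtain ⟨e', he'⟩ : ∃ e' : Additive W, e' = Additive.ofMul e := ⟨_, rfl⟩
  have hN0 : N ≠ 0 := by
    intro h
    apply ha
    have h1 : ρ a = ρ 1 := by rw [hρa, h, add_zero, map_one]
    have h2 := hρinj _ _ h1
    rw [h2, map_one]
  have hNim : ∀ v : Additive W, ∃ k : ℤ, N v = k • e' := by
    intro v
    obtain ⟨w, rfl⟩ := Additive.ofMul.surjective v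
    obtain ⟨k, hk⟩ := Subgroup.mem_zpowers_iff.mp (htr w)
    refine ⟨k, ?_⟩
    rw [hN, he']
    show ρ a (Additive.ofMul w) - Additive.ofMul w = k • Additive.ofMul e
    rw [hρapp, ← ofMul_div, ← hk, ofMul_zpow]
  have hNe : N e' = 0 := by
    have h1 := hcompat a (by rw [mul_inv_cancel_right])
    rw [hN, he']
    show ρ a (Additive.ofMul e) - Additive.ofMul e = 0
    rw [hρapp, h1, sub_self]
  have hNN : N * N = 0 := by
    ext v
    obtain ⟨k, hk⟩ := hNim v
    show N (N v) = 0
    rw [hk, map_zsmul, hNe, smul_zero]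
  -- Baer--Suzuki
  obtain ⟨g, hg⟩ : ∃ g : Γ, ¬ IsPGroup p
      ↥(Subgroup.zpowers a ⊔ (Subgroup.zpowers a).map (MulAut.conj g).toMonoidHom) := by
    by_contra hcon
    push Not at hcon
    obtain ⟨K, hKn, hKp, hXK⟩ := Cfsg.Agent.Helper21.baer_suzuki (Subgroup.zpowers a) hcon
    have h1 := hO K hKn hKp (hXK (Subgroup.mem_zpowers a))
    exact ha (MonoidHom.mem_ker.mp h1)
  obtain ⟨b, hb⟩ : ∃ b : Γ, b = g * a * g⁻¹ := ⟨_, rfl⟩
  have hsub : Subgroup.zpowers a ⊔ (Subgroup.zpowers a).map (MulAut.conj g).toMonoidHom =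
      Subgroup.closure {a, b} := by
    rw [hb, Subgroup.zpowers_eq_closure, MonoidHom.map_closure, ← Subgroup.closure_union]
    congr 1
    ext z
    simp only [Set.image_singleton, Set.union_singleton, Set.mem_insert_iff,
      Set.mem_singleton_iff, MulEquiv.coe_toMonoidHom, MulAut.conj_apply]
    rw [or_comm]
  rw [hsub] at hg
  -- the second transvection `M`
  obtain ⟨M, hM⟩ : ∃ M : AddMonoid.End (Additive W), M = ρ b - 1 := ⟨_, rfl⟩
  have hρb : ρ b = 1 + M := by rw [hM]; abel
  have hgg : ρ g⁻¹ * ρ g = 1 := by rw [← map_mul, inv_mul_cancel, map_one]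
  have hgg' : ρ g * ρ g⁻¹ = 1 := by rw [← map_mul, mul_inv_cancel, map_one]
  have hMconj : M = ρ g * N * ρ g⁻¹ := by
    rw [hM, hN, hb, map_mul, map_mul, mul_sub, sub_mul, mul_one, hgg']
  obtain ⟨f', hf'⟩ : ∃ f' : Additive W, f' = ρ g e' := ⟨_, rfl⟩
  have hMim : ∀ v : Additive W, ∃ k : ℤ, M v = k • f' := by
    intro v
    obtain ⟨k, hk⟩ := hNim (ρ g⁻¹ v)
    refine ⟨k, ?_⟩
    rw [hMconj, hf']
    show ρ g (N (ρ g⁻¹ v)) = k • ρ g e'
    rw [hk, map_zsmul]
  have hMf : M f' = 0 := by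
    rw [hMconj, hf']
    show ρ g (N (ρ g⁻¹ (ρ g e'))) = 0
    have h1 : ρ g⁻¹ (ρ g e') = e' := by
      have := congrArg (fun r : AddMonoid.End (Additive W) => r e') hgg
      exact this
    rw [h1, hNe, map_zero]
  have hMM : M * M = 0 := by
    ext v
    obtain ⟨k, hk⟩ := hMim v
    show M (M v) = 0
    rw [hk, map_zsmul, hMf, smul_zero]
  -- the structure constants
  obtain ⟨c, hc⟩ := hNim (M e')
  have hNMN : N * M * N = (c : AddMonoid.End (Additive W)) * N := by
    ext v
    obtain ⟨k, hk⟩ := hNim v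
    show N (M (N v)) = (c : AddMonoid.End (Additive W)) (N v)
    rw [AddMonoid.End.intCast_apply, hk, map_zsmul, map_zsmul, hc, smul_comm]
  obtain ⟨c', hc'⟩ := hMim (N f')
  have hMNM : M * N * M = (c' : AddMonoid.End (Additive W)) * M := by
    ext v
    obtain ⟨k, hk⟩ := hMim v
    show M (N (M v)) = (c' : AddMonoid.End (Additive W)) (M v)
    rw [AddMonoid.End.intCast_apply, hk, map_zsmul, map_zsmul, hc', smul_comm]
  have hcc : ((c - c' : ℤ) : AddMonoid.End (Additive W)) * (N * M) = 0 := by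
    have h1 : N * M * N * M = (c : AddMonoid.End (Additive W)) * (N * M) := by
      rw [hNMN, mul_assoc]
    have h2 : N * M * N * M = (c' : AddMonoid.End (Additive W)) * (N * M) := by
      rw [mul_assoc (N * M), mul_assoc N M (N * M), ← mul_assoc M N M, hMNM, ← mul_assoc N,
        ← (Int.cast_commute c' N).eq, mul_assoc]
    rw [Int.cast_sub, sub_mul, ← h1, ← h2, sub_self]
  by_cases hpc : (p : ℤ) ∣ c
  · -- the unipotent case
    have hNMN0 : N * M * N = 0 := by rw [hNMN, hdvdR c hpc, zero_mul]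
    have hMNM0 : M * N * M = 0 := by
      by_cases hpc' : (p : ℤ) ∣ c'
      · rw [hMNM, hdvdR c' hpc', zero_mul]
      · have hd : ¬ (p : ℤ) ∣ c - c' := by
          intro h
          apply hpc'
          have : c' = c - (c - c') := by ring
          rw [this]
          exact dvd_sub hpc h
        have hNM : N * M = 0 := hcancel _ _ hd hcc
        rw [mul_assoc, hNM, mul_zero]
    have hSt : ∀ h ∈ Subgroup.closure ({a, b} : Set Γ), St N M (ρ h) := by
      intro h hh
      induction hh using Subgroup.closure_induction with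
      | mem x hx =>
        rcases hx with rfl | hx
        · rw [hρa]
          refine st_one_add_left N M (fun v => ?_) (fun v => ?_)
          · have := congrArg (fun r : AddMonoid.End (Additive W) => r v) hNN
            exact this
          · have := congrArg (fun r : AddMonoid.End (Additive W) => r v) hNMN0
            exact this
        · rw [Set.mem_singleton_iff] at hx
          rw [hx, hρb]
          refine st_one_add_right N M (fun v => ?_) (fun v => ?_)
          · have := congrArg (fun r : AddMonoid.End (Additive W) => r v) hMM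
            exact this
          · have := congrArg (fun r : AddMonoid.End (Additive W) => r v) hMNM0
            exact this
      | one => rw [map_one]; exact st_one N M
      | mul x y _ _ hx hy => rw [map_mul]; exact hx.mul hy
      | inv x _ hx => exact hx.inv (by rw [← map_mul, inv_mul_cancel, map_one])
    apply hg
    rintro ⟨h, hh⟩
    have h3 := (hSt h hh).cube
    have h4 : ρ h ^ p = 1 := by
      have := one_add_pow_prime p hp.out hp2 hpR (ρ h - 1) h3
      rwa [add_sub_cancel] at this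
    have h5 : h ^ p ∈ act.ker := by
      rw [MonoidHom.mem_ker]
      have h6 : ρ (h ^ p) = ρ 1 := by rw [map_pow, h4, map_one]
      have h7 := hρinj _ _ h6
      rw [h7, map_one]
    obtain ⟨k, hk⟩ := hker ⟨h ^ p, h5⟩
    refine ⟨k + 1, ?_⟩
    apply Subtype.ext
    have h8 : (h ^ p) ^ p ^ k = 1 := by
      have := congrArg (fun z : ↥act.ker => (z : Γ)) hk
      simpa using this
    show h ^ p ^ (k + 1) = 1
    rw [pow_succ', pow_mul]; exact h8
  · -- the `SL₂` case
    have hNM0 : N * M ≠ 0 := by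
      intro h
      apply hN0
      apply hcancel c N hpc
      rw [← hNMN, h, zero_mul]
    have hcc' : (p : ℤ) ∣ c - c' := by
      by_contra hd
      exact hNM0 (hcancel _ _ hd hcc)
    have hceq : (c' : AddMonoid.End (Additive W)) = (c : AddMonoid.End (Additive W)) := by
      have := hdvdR _ hcc'
      rw [Int.cast_sub, sub_eq_zero] at this
      exact this.symm
    have hc0 : ((c : ℤ) : ZMod p) ≠ 0 := by
      rw [Ne, ZMod.intCast_zmod_eq_zero_iff_dvd]; exact hpc
    obtain ⟨j, hj⟩ : ∃ j : ℕ, (p : ℤ) ∣ (j : ℤ) * c + 1 := by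
      refine ⟨(-(c : ZMod p)⁻¹).val, ?_⟩
      rw [← ZMod.intCast_zmod_eq_zero_iff_dvd]
      push_cast
      rw [ZMod.natCast_zmod_val, neg_mul, inv_mul_cancel₀ hc0, neg_add_cancel]
    have hjc : (j : AddMonoid.End (Additive W)) * (c : AddMonoid.End (Additive W)) + 1 = 0 := by
      have h := hdvdR _ hj
      rw [Int.cast_add, Int.cast_mul, Int.cast_natCast, Int.cast_one] at h
      exact h
    have hjcomm : ∀ r : AddMonoid.End (Additive W),
        r * (j : AddMonoid.End (Additive W)) = (j : AddMonoid.End (Additive W)) * r :=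
      fun r => ((Nat.cast_commute j r).eq).symm
    obtain ⟨M', hM'⟩ : ∃ M' : AddMonoid.End (Additive W),
        M' = (j : AddMonoid.End (Additive W)) * M := ⟨_, rfl⟩
    obtain ⟨hM'M', hNM'N, hM'NM'⟩ := scaled_relations N M (j : AddMonoid.End (Additive W))
      (c : AddMonoid.End (Additive W)) hjcomm hMM hNMN (by rw [hMNM, hceq]) hjc
    rw [← hM'] at hM'M' hNM'N hM'NM'
    obtain ⟨k1, k2⟩ := weyl_sq N M' hNN hM'M' hNM'N hM'NM'
    have hρbj : ρ (b ^ j) = 1 + M' := by
      rw [map_pow, hρb, one_add_pow_of_sq_zero M hMM j, hM']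
    obtain ⟨z, hz⟩ : ∃ z : Γ, z = (a * b ^ j * a) ^ 2 := ⟨_, rfl⟩
    have hρz : ρ z = ((1 + N) * (1 + M') * (1 + N)) * ((1 + N) * (1 + M') * (1 + N)) := by
      rw [hz, pow_two, map_mul, map_mul, map_mul, hρa, hρbj]
    have hzcomm : ρ (z * a) = ρ (a * z) := by
      rw [map_mul, map_mul, hρa, mul_add, mul_one, add_mul, one_mul, hρz, k1, k2]
    have hzconj : act (z * a * z⁻¹) = act a := by
      apply hρinj
      rw [map_mul, hzcomm, map_mul, mul_assoc, ← map_mul, mul_inv_cancel, map_one, mul_one]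
    have hze := hcompat z hzconj
    -- `e'` lies in the image of `N`
    obtain ⟨v, hv⟩ : ∃ v : Additive W, N v ≠ 0 := by
      by_contra h
      push Not at h
      exact hN0 (by ext v; exact h v)
    obtain ⟨k, hk⟩ := hNim v
    have hkp : ¬ (p : ℤ) ∣ k := by
      intro h
      apply hv
      rw [hk, hdvdA k e' h]
    obtain ⟨k', hk'⟩ := exists_inv_mod k hkp
    have hv0 : N (k' • v) = e' := by
      rw [map_zsmul, hk, smul_smul]
      have h1 : k' * k = (k' * k - 1) + 1 := by ring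
      rw [h1, add_zsmul, one_zsmul, hdvdA _ e' hk', zero_add]
    have h1 : ρ z e' = -e' := by
      rw [← hv0]
      show (ρ z * N) (k' • v) = -(N (k' • v))
      rw [hρz, k1]; rfl
    have h2 : ρ z e' = e' := by
      rw [he', hρapp, hze]
    have h3 : e' = 0 := by
      have h4 : (2 : ℤ) • e' = 0 := by
        rw [two_zsmul]
        nth_rewrite 1 [← h2]
        rw [h1, neg_add_cancel]
      have hodd : Odd p := hp.out.odd_of_ne_two hp2
      obtain ⟨m, hm⟩ := hodd
      have h5 : ((p : ℤ)) • e' = 0 := hdvdA _ e' dvd_rfl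
      have h6 : (p : ℤ) = 2 * (m : ℤ) + 1 := by exact_mod_cast hm
      rw [h6, add_zsmul, one_zsmul, mul_comm, mul_zsmul, h4, smul_zero, zero_add] at h5
      exact h5
    apply hv
    rw [hk, h3, smul_zero]

end main

end Cfsg.Agent.Helper14.PowerTransv
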