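import Mathlib
import Cfsg.Agent.Lib.Helper14.S4Section

set_option autoImplicit false

/-! An involution inverting an element of order three generates a copy of the symmetric
group of degree three. -/

namespace Cfsg.Agent.Helper14.SThree

variable {G : Type*} [Group G]

theorem rot_mul : ∀ σ τ : Equiv.Perm (Fin 3),
    (σ 1 = σ 0 + 1 → τ 1 = τ 0 + 1 → (σ * τ) 1 = (σ * τ) 0 + 1) ∧
    (σ 1 = σ 0 + 1 → ¬ τ 1 = τ 0 + 1 → ¬ (σ * τ) 1 = (σ * τ) 0 + 1) ∧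
    (¬ σ 1 = σ 0 + 1 → τ 1 = τ 0 + 1 → ¬ (σ * τ) 1 = (σ * τ) 0 + 1) ∧
    (¬ σ 1 = σ 0 + 1 → ¬ τ 1 = τ 0 + 1 → (σ * τ) 1 = (σ * τ) 0 + 1) := by decide

theorem rot_val : ∀ σ τ : Equiv.Perm (Fin 3),
    (σ 1 = σ 0 + 1 →
      (((σ * τ) 0 : Fin 3) : ℕ) % 3 = (((σ 0 : Fin 3) : ℕ) + ((τ 0 : Fin 3) : ℕ)) % 3) ∧
    (¬ σ 1 = σ 0 + 1 →
      ((((σ * τ) 0 : Fin 3) : ℕ) + ((τ 0 : Fin 3) : ℕ)) % 3 = ((σ 0 : Fin 3) : ℕ) % 3) := by
  decide

theorem rot_one : ∀ σ : Equiv.Perm (Fin 3), σ 1 = σ 0 + 1 → σ 0 = 0 → σ = 1 := by decide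

theorem val_cases : ∀ σ : Equiv.Perm (Fin 3), ((σ 0 : Fin 3) : ℕ) = 0 ∨ ((σ 0 : Fin 3) : ℕ) = 1 ∨
    ((σ 0 : Fin 3) : ℕ) = 2 := by decide

/-- the underlying map of the embedding -/
noncomputable def emb (a y : G) (σ : Equiv.Perm (Fin 3)) : G :=
  y ^ ((σ 0 : Fin 3) : ℕ) * (if σ 1 = σ 0 + 1 then 1 else a)

variable {a y : G}

theorem conj_pow_inv (hinv : a * y * a⁻¹ = y⁻¹) (n : ℕ) : a * y ^ n = (y ^ n)⁻¹ * a := by
  have h1 : a * y ^ n * a⁻¹ = (y ^ n)⁻¹ := by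
    rw [← conj_pow, hinv, inv_pow]
  calc a * y ^ n = (a * y ^ n * a⁻¹) * a := by group
    _ = (y ^ n)⁻¹ * a := by rw [h1]

theorem emb_mul (ha : a * a = 1) (hy : y ^ 3 = 1) (hinv : a * y * a⁻¹ = y⁻¹)
    (σ τ : Equiv.Perm (Fin 3)) : emb a y (σ * τ) = emb a y σ * emb a y τ := by
  obtain ⟨h1, h2, h3, h4⟩ := rot_mul σ τ
  obtain ⟨v1, v2⟩ := rot_val σ τ
  unfold emb
  by_cases hs : σ 1 = σ 0 + 1
  · have hv := v1 hs
    have hpow : y ^ (((σ * τ) 0 : Fin 3) : ℕ) = y ^ ((σ 0 : Fin 3) : ℕ) * y ^ ((τ 0 : Fin 3) : ℕ) := by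
      rw [← pow_add, pow_eq_pow_mod _ hy, hv, ← pow_eq_pow_mod _ hy]
    by_cases ht : τ 1 = τ 0 + 1
    · rw [if_pos hs, if_pos ht, if_pos (h1 hs ht), hpow]; group
    · rw [if_pos hs, if_neg ht, if_neg (h2 hs ht), hpow]; group
  · have hv := v2 hs
    have hpow : y ^ (((σ * τ) 0 : Fin 3) : ℕ) * y ^ ((τ 0 : Fin 3) : ℕ) = y ^ ((σ 0 : Fin 3) : ℕ) := by
      rw [← pow_add, pow_eq_pow_mod _ hy, hv, ← pow_eq_pow_mod _ hy]
    have hpow' : y ^ (((σ * τ) 0 : Fin 3) : ℕ) = y ^ ((σ 0 : Fin 3) : ℕ) * (y ^ ((τ 0 : Fin 3) : ℕ))⁻¹ := by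
      rw [← hpow]; group
    by_cases ht : τ 1 = τ 0 + 1
    · rw [if_neg hs, if_pos ht, if_neg (h3 hs ht), hpow', mul_one, mul_assoc, mul_assoc,
        conj_pow_inv hinv]
    · rw [if_neg hs, if_neg ht, if_pos (h4 hs ht), hpow', mul_one]
      calc y ^ ((σ 0 : Fin 3) : ℕ) * (y ^ ((τ 0 : Fin 3) : ℕ))⁻¹
          = y ^ ((σ 0 : Fin 3) : ℕ) * ((y ^ ((τ 0 : Fin 3) : ℕ))⁻¹ * (a * a)) := by
            rw [ha, mul_one]
        _ = y ^ ((σ 0 : Fin 3) : ℕ) * (((y ^ ((τ 0 : Fin 3) : ℕ))⁻¹ * a) * a) := by group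
        _ = y ^ ((σ 0 : Fin 3) : ℕ) * a * (y ^ ((τ 0 : Fin 3) : ℕ) * a) := by
            rw [← conj_pow_inv hinv]; group

/-- the embedding of the symmetric group -/
noncomputable def embHom (ha : a * a = 1) (hy : y ^ 3 = 1) (hinv : a * y * a⁻¹ = y⁻¹) :
    Equiv.Perm (Fin 3) →* G where
  toFun := emb a y
  map_one' := by
    unfold emb
    simp
  map_mul' := emb_mul ha hy hinv

theorem embHom_injective (ha : a * a = 1) (hy : y ^ 3 = 1) (hinv : a * y * a⁻¹ = y⁻¹)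
    (hy1 : y ≠ 1) : Function.Injective (embHom ha hy hinv) := by
  rw [injective_iff_map_eq_one]
  intro σ hσ
  change emb a y σ = 1 at hσ
  unfold emb at hσ
  have hy2 : y ^ 2 ≠ 1 := by
    intro h
    apply hy1
    calc y = y ^ 3 * (y ^ 2)⁻¹ := by group
      _ = 1 := by rw [hy, h]; group
  by_cases hs : σ 1 = σ 0 + 1
  · rw [if_pos hs, mul_one] at hσ
    rcases val_cases σ with h | h | h
    · apply rot_one σ hs
      exact Fin.ext h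
    · rw [h, pow_one] at hσ
      exact absurd hσ hy1
    · rw [h] at hσ
      exact absurd hσ hy2
  · exfalso
    rw [if_neg hs] at hσ
    have h1 : a = (y ^ ((σ 0 : Fin 3) : ℕ))⁻¹ := eq_inv_of_mul_eq_one_right hσ
    have h2 : Commute a y := by
      rw [h1]
      exact ((Commute.refl y).pow_left _).inv_left
    have h3 : y = y⁻¹ := by
      calc y = a * y * a⁻¹ := by rw [h2.eq]; group
        _ = y⁻¹ := hinv
    apply hy2
    calc y ^ 2 = y * y := pow_two y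
      _ = y * y⁻¹ := by rw [← h3]
      _ = 1 := mul_inv_cancel y

/-- **An inverted element of order three gives a section `S₃`.** -/
theorem involves_of_invert (ha : a * a = 1) (hy : y ^ 3 = 1) (hinv : a * y * a⁻¹ = y⁻¹)
    (hy1 : y ≠ 1) : Cfsg.Involves (Equiv.Perm (Fin 3)) G := by
  have hinj := embHom_injective ha hy hinv hy1
  set e := MonoidHom.ofInjective hinj
  exact Cfsg.Agent.Helper14.S4Sec.involves_of_surjective (embHom ha hy hinv).range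
    e.symm.toMonoidHom e.symm.surjective

end Cfsg.Agent.Helper14.SThree
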