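import Mathlib
import Cfsg.Agent.Lib.Helper14.FFTwo
import Cfsg.Agent.Lib.Helper14.SThree

set_option autoImplicit false

/-! The `2F`-bound for elementary abelian `2`-groups acting faithfully on groups of odd order
in which no element of order three is inverted: `|A|² ≤ |V : C_V(A)|`. -/

namespace Cfsg.Agent.Helper14.TwoF

open Subgroup Cfsg.Agent.Helper1.BO Cfsg.Agent.Helper14.FF2
open scoped commutatorElement

variable {X : Type*} [Group X] [Finite X]

/-- The dihedral lemma: an involution `a` inverting an element `y` of order prime to `6`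
which acts nontrivially on the elementary abelian `2`-group `U` has `|U : C_U(a)| ≥ 4`. -/
theorem dihedral_index (U : Subgroup X) (hUc : ∀ x ∈ U, ∀ y ∈ U, x * y = y * x)
    (hU2 : ∀ x ∈ U, x ^ 2 = 1) (a y : X) (ha2 : a * a = 1) (hinv : a * y * a⁻¹ = y⁻¹)
    (haU : a ∈ normalizer (U : Set X)) (hyU : y ∈ normalizer (U : Set X))
    (hy6 : (orderOf y).Coprime 6) (hyUne : ¬ y ∈ centralizer (U : Set X)) :
    4 * Nat.card (cV U (zpowers a)) ≤ Nat.card U := by
  by_contra hlt
  push Not at hlt
  have hUp : IsPGroup 2 U := by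
    intro v
    refine ⟨1, ?_⟩
    apply Subtype.ext
    rw [pow_one]
    simpa using hU2 (v : X) v.2
  have hyo : (orderOf y).Coprime 2 := Nat.Coprime.coprime_dvd_right (by norm_num) hy6
  have hyo3 : (orderOf y).Coprime 3 := Nat.Coprime.coprime_dvd_right (by norm_num) hy6
  have hyinv' : a * y⁻¹ * a⁻¹ = y := by
    rw [← conj_inv, hinv, inv_inv]
  have hrel_a : (cV U (zpowers a)).relIndex U ≤ 2 := by
    have h1 := card_mul_relIndex_le (cV_le U (zpowers a))
    obtain ⟨n, hn⟩ := relIndex_eq_pow (p := 2) (K := cV U (zpowers a)) hUp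
    have hpos : 0 < Nat.card (cV U (zpowers a)) := Nat.card_pos
    have h2 : (cV U (zpowers a)).relIndex U < 4 := by
      have : Nat.card (cV U (zpowers a)) * (cV U (zpowers a)).relIndex U <
          Nat.card (cV U (zpowers a)) * 4 := by
        rw [h1, mul_comm]; exact hlt
      exact Nat.lt_of_mul_lt_mul_left this
    rw [hn] at h2 ⊢
    have hn2 : n < 2 := by
      by_contra h
      push Not at h
      have : 2 ^ 2 ≤ 2 ^ n := Nat.pow_le_pow_right (by norm_num) h
      omega
    have : n = 0 ∨ n = 1 := by omega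
    rcases this with rfl | rfl <;> norm_num
  set a' := y * a * y⁻¹ with ha'
  have hrel_a' : (cV U (zpowers a')).relIndex U ≤ 2 := by
    set f := (MulAut.conj y).toMonoidHom with hf'
    have hUmap : U.map f = U := by
      have := hyU
      rw [Subgroup.mem_normalizer_iff_map_conj_eq] at this
      exact this
    have hle : (cV U (zpowers a)).map f ≤ cV U (zpowers a') := by
      rintro _ ⟨x, hx, rfl⟩
      obtain ⟨hxU, hxa⟩ := mem_cV_zpowers.mp hx
      refine mem_cV_zpowers.mpr ⟨?_, ?_⟩
      · rw [← hUmap]; exact Subgroup.mem_map_of_mem f hxU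
      · show y * a * y⁻¹ * (y * x * y⁻¹) = y * x * y⁻¹ * (y * a * y⁻¹)
        calc y * a * y⁻¹ * (y * x * y⁻¹) = y * (a * x) * y⁻¹ := by group
          _ = y * (x * a) * y⁻¹ := by rw [hxa]
          _ = y * x * y⁻¹ * (y * a * y⁻¹) := by group
    have h1 : ((cV U (zpowers a)).map f).relIndex (U.map f) = (cV U (zpowers a)).relIndex U :=
      Subgroup.relIndex_map_map_of_injective _ _ (MulAut.conj y).injective
    rw [hUmap] at h1
    have h2 : (cV U (zpowers a')).relIndex U ≤ ((cV U (zpowers a)).map f).relIndex U := by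
      apply Nat.le_of_dvd
      · rw [h1]
        have := card_mul_relIndex_le (cV_le U (zpowers a))
        rcases Nat.eq_zero_or_pos ((cV U (zpowers a)).relIndex U) with h | h
        · rw [h, mul_zero] at this
          have : 0 < Nat.card U := Nat.card_pos
          omega
        · exact h
      · exact Subgroup.relIndex_dvd_of_le_left U hle
    omega
  have hyy : a' * a⁻¹ = y * y := by
    rw [ha']
    calc y * a * y⁻¹ * a⁻¹ = y * (a * y⁻¹ * a⁻¹) := by group
      _ = y * y := by rw [hyinv']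
  have hle_y : cV U (zpowers a) ⊓ cV U (zpowers a') ≤ cV U (zpowers y) := by
    intro x hx
    obtain ⟨hx1, hx2⟩ := mem_inf.mp hx
    obtain ⟨hxU, hxa⟩ := mem_cV_zpowers.mp hx1
    obtain ⟨-, hxa'⟩ := mem_cV_zpowers.mp hx2
    refine mem_cV_zpowers.mpr ⟨hxU, ?_⟩
    have hxyy : Commute (y * y) x := by
      rw [← hyy]
      have h1 : Commute a' x := hxa'
      have h2 : Commute a x := hxa
      exact h1.mul_left h2.inv_left
    have hodd : Odd (orderOf y) := Nat.coprime_two_right.mp hyo
    obtain ⟨k, hk⟩ := hodd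
    have hyk : y = (y * y) ^ (k + 1) := by
      rw [← pow_two, ← pow_mul]
      have : 2 * (k + 1) = orderOf y + 1 := by omega
      rw [this, pow_succ, pow_orderOf_eq_one, one_mul]
    have : Commute y x := by
      rw [hyk]; exact hxyy.pow_left _
    exact this
  have hrel_y : (cV U (zpowers y)).relIndex U ≤ 4 := by
    have h1 : (cV U (zpowers a) ⊓ cV U (zpowers a')).relIndex U ≤ 2 * 2 :=
      (Subgroup.relIndex_inf_le).trans (Nat.mul_le_mul hrel_a hrel_a')
    have h2 : (cV U (zpowers y)).relIndex U ∣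
        (cV U (zpowers a) ⊓ cV U (zpowers a')).relIndex U :=
      Subgroup.relIndex_dvd_of_le_left U hle_y
    have hpos : 0 < (cV U (zpowers a) ⊓ cV U (zpowers a')).relIndex U := by
      have := card_mul_relIndex_le
        ((inf_le_left : cV U (zpowers a) ⊓ cV U (zpowers a') ≤ _).trans (cV_le U (zpowers a)))
      rcases Nat.eq_zero_or_pos ((cV U (zpowers a) ⊓ cV U (zpowers a')).relIndex U) with h | h
      · rw [h, mul_zero] at this
        have : 0 < Nat.card U := Nat.card_pos
        omega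
      · exact h
    have := Nat.le_of_dvd hpos h2
    omega
  set W := ⁅U, zpowers y⁆ with hW
  have hWU : W ≤ U := by
    rw [hW]
    exact Cfsg.Agent.Helper7.commutator_le_of_le_normalizer (zpowers_le.mpr hyU)
  have hcardW : Nat.card W = (cV U (zpowers y)).relIndex U := by
    have h1 := card_commutator_zpowers_mul U hUc y hyU
    have h2 := card_mul_relIndex_le (cV_le U (zpowers y))
    have hpos : 0 < Nat.card (cV U (zpowers y)) := Nat.card_pos
    have : Nat.card (cV U (zpowers y)) * Nat.card W =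
        Nat.card (cV U (zpowers y)) * (cV U (zpowers y)).relIndex U := by
      rw [h2, mul_comm]; exact h1
    exact Nat.eq_of_mul_eq_mul_left hpos this
  have hW1 : W ≠ ⊥ := by
    intro h
    apply hyUne
    rw [hW, Subgroup.commutator_comm, Subgroup.commutator_eq_bot_iff_le_centralizer] at h
    exact h (mem_zpowers y)
  haveI : IsMulCommutative ↥U := ⟨⟨fun x y => Subtype.ext (hUc x x.2 y y.2)⟩⟩
  have hfpf : W ⊓ centralizer ((zpowers y : Subgroup X) : Set X) = ⊥ := by
    apply Cfsg.Agent.Helper1.commutator_inf_centralizer_eq_bot (zpowers y) U (zpowers_le.mpr hyU)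
    rw [Nat.card_zpowers]
    obtain ⟨n, hn⟩ := IsPGroup.iff_card.mp hUp
    rw [hn]
    exact Nat.Coprime.pow_right n hyo
  have hfpf' : ∀ w ∈ W, y * w = w * y → w = 1 := by
    intro w hw hyw
    have : w ∈ W ⊓ centralizer ((zpowers y : Subgroup X) : Set X) := by
      refine mem_inf.mpr ⟨hw, ?_⟩
      rw [centralizer_zpowers_eq, mem_centralizer_singleton_iff]
      exact hyw.symm
    rw [hfpf, mem_bot] at this
    exact this
  have hyW : y ∈ normalizer (W : Set X) := by
    rw [hW]
    apply Cfsg.Agent.Helper7.normalizer_inf_normalizer_le_normalizer_commutator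
    exact mem_inf.mpr ⟨hyU, le_normalizer (mem_zpowers y)⟩
  have hcard4 : Nat.card W ≤ 4 := hcardW ▸ hrel_y
  -- pigeonhole
  apply hW1
  rw [Subgroup.eq_bot_iff_forall]
  intro w hw
  let f : Fin 5 → ↥W := fun i =>
    ⟨y ^ (i : ℕ) * w * (y ^ (i : ℕ))⁻¹,
      conj_mem_of_le_normalizer ((normalizer (W : Set X)).pow_mem hyW _) hw⟩
  haveI : Fintype ↥W := Fintype.ofFinite ↥W
  have hlt5 : Fintype.card ↥W < Fintype.card (Fin 5) := by
    rw [← Nat.card_eq_fintype_card, Fintype.card_fin]; omega
  obtain ⟨i, j, hij, hfij⟩ := Fintype.exists_ne_map_eq_of_card_lt f hlt5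
  have key : ∀ i j : Fin 5, (i : ℕ) < (j : ℕ) → f i = f j → w = 1 := by
    intro i j hlt hf
    have hf' : y ^ (i : ℕ) * w * (y ^ (i : ℕ))⁻¹ = y ^ (j : ℕ) * w * (y ^ (j : ℕ))⁻¹ :=
      congrArg Subtype.val hf
    obtain ⟨k, hk⟩ : ∃ k, (j : ℕ) = (i : ℕ) + k := ⟨(j : ℕ) - (i : ℕ), by omega⟩
    have hk1 : 1 ≤ k := by omega
    have hk4 : k ≤ 4 := by have := j.2; omega
    have hcomm : y ^ k * w = w * y ^ k := by
      rw [hk, pow_add] at hf'
      have : w = y ^ k * w * (y ^ k)⁻¹ := by
        calc w = (y ^ (i : ℕ))⁻¹ * (y ^ (i : ℕ) * w * (y ^ (i : ℕ))⁻¹) * y ^ (i : ℕ) := by group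
          _ = (y ^ (i : ℕ))⁻¹ * (y ^ (i : ℕ) * y ^ k * w * (y ^ (i : ℕ) * y ^ k)⁻¹) * y ^ (i : ℕ) := by
              rw [hf']
          _ = y ^ k * w * (y ^ k)⁻¹ := by group
      calc y ^ k * w = (y ^ k * w * (y ^ k)⁻¹) * y ^ k := by group
        _ = w * y ^ k := by rw [← this]
    have hcop : k.Coprime (orderOf y) := by
      have h2 : Nat.Coprime 2 (orderOf y) := hyo.symm
      have h3 : Nat.Coprime 3 (orderOf y) := hyo3.symm
      interval_cases k
      · exact Nat.coprime_one_left _
      · exact h2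
      · exact h3
      · exact (Nat.Coprime.mul_left h2 h2 : Nat.Coprime (2 * 2) (orderOf y))
    obtain ⟨t, ht⟩ := exists_pow_eq_self_of_coprime hcop
    apply hfpf' w hw
    have hc : Commute (y ^ k) w := hcomm
    have : Commute ((y ^ k) ^ t) w := hc.pow_left t
    rw [ht] at this
    exact this
  rcases Nat.lt_or_gt_of_ne (fun h => hij (Fin.ext h)) with h | h
  · exact key i j h hfij
  · exact key j i h hfij.symm

/-- **The `2F`-bound.** -/
theorem two_f (V K E : Subgroup X) (hV : Cfsg.IsElementaryAbelian 2 V)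
    (hKodd : (Nat.card K).Coprime 2) (hE : Cfsg.IsElementaryAbelian 2 E)
    (hKV : K ≤ normalizer (V : Set X)) (hEV : E ≤ normalizer (V : Set X))
    (hEK : E ≤ normalizer (K : Set X))
    (hf : K ⊓ centralizer (V : Set X) = ⊥)
    (hEK' : E ⊓ centralizer (K : Set X) = ⊥)
    (hno : ∀ a ∈ E, ∀ y ∈ K, y ^ 3 = 1 → a * y * a⁻¹ = y⁻¹ → y = 1) :
    ∀ (n : ℕ) (A : Subgroup X), A ≤ E → Nat.card A = n →
      Nat.card A ^ 2 * Nat.card (cV V A) ≤ Nat.card V := by
  classical
  have hVp : IsPGroup 2 V := isPGroup_of_elemAb hV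
  have hVc : ∀ x ∈ V, ∀ y ∈ V, x * y = y * x := fun x hx y hy => elemAb_comm hV hx hy
  intro n
  induction n using Nat.strong_induction_on with
  | _ n ih =>
  intro A hAE hAn
  by_cases hA1 : A = ⊥
  · rw [hA1, cV_bot, Subgroup.card_bot]; simp
  obtain ⟨B, hBA, hBrel, hBne⟩ := exists_hyperplane K E A hE hKodd hEK hEK' hAE hA1
  have hcardB : Nat.card B * 2 = Nat.card A := by
    have := card_mul_relIndex_le hBA
    rwa [hBrel] at this
  obtain ⟨a, haA, haB⟩ : ∃ a ∈ A, a ∉ B := by
    by_contra h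
    push Not at h
    have : A ≤ B := h
    have h1 : B.relIndex A = 1 := Subgroup.relIndex_eq_one.mpr this
    omega
  have haE : a ∈ E := hAE haA
  have ha2 : a * a = 1 := by
    have := hE.2 a haE
    rwa [pow_two] at this
  have hsup : zpowers a ⊔ B = A :=
    sup_eq_of_relIndex_prime (p := 2) hBA hBrel (zpowers_le.mpr haA)
      (fun h => haB (h (mem_zpowers a)))
  have hcentA : centralizer (A : Set X) = centralizer {a} ⊓ centralizer (B : Set X) := by
    rw [← hsup, Cfsg.Agent.Helper27.centralizer_sup, centralizer_zpowers_eq]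
  have haB' : a ∈ centralizer (B : Set X) := by
    rw [mem_centralizer_iff]
    intro b hb
    exact elemAb_comm hE (hAE (hBA hb)) haE
  obtain ⟨m, hmKB, hmA⟩ : ∃ m ∈ K ⊓ centralizer (B : Set X), m ∉ centralizer (A : Set X) := by
    by_contra h
    push Not at h
    exact hBne h
  obtain ⟨hmK, hmB⟩ := mem_inf.mp hmKB
  have hma : ¬ (a * m = m * a) := by
    intro h
    apply hmA
    rw [hcentA, mem_inf, mem_centralizer_singleton_iff]
    exact ⟨h.symm, hmB⟩
  obtain ⟨y, hy⟩ : ∃ y, y = a * m * a⁻¹ * m⁻¹ := ⟨_, rfl⟩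
  have hy1 : y ≠ 1 := by
    intro h
    apply hma
    rw [hy] at h
    calc a * m = (a * m * a⁻¹ * m⁻¹) * (m * a) := by group
      _ = m * a := by rw [h, one_mul]
  have hyK : y ∈ K := by
    rw [hy]
    exact K.mul_mem (conj_mem_of_le_normalizer (hEK haE) hmK) (K.inv_mem hmK)
  have hyB : y ∈ centralizer (B : Set X) := by
    rw [hy]
    exact (centralizer (B : Set X)).mul_mem
      ((centralizer (B : Set X)).mul_mem ((centralizer (B : Set X)).mul_mem haB' hmB)
        ((centralizer (B : Set X)).inv_mem haB')) ((centralizer (B : Set X)).inv_mem hmB)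
  have hinv : a * y * a⁻¹ = y⁻¹ := by
    have h1 : a * y * a⁻¹ * y = (a * a) * m * (a * a)⁻¹ * m⁻¹ := by rw [hy]; group
    rw [ha2] at h1
    have h2 : a * y * a⁻¹ * y = 1 := by rw [h1]; group
    exact eq_inv_of_mul_eq_one_left h2
  have hyo : (orderOf y).Coprime 2 := by
    have h1 : orderOf y ∣ Nat.card K := by
      have := orderOf_dvd_natCard (⟨y, hyK⟩ : ↥K)
      rwa [Subgroup.orderOf_mk] at this
    exact Nat.Coprime.coprime_dvd_left h1 hKodd
  have hord_pos : 0 < orderOf y := orderOf_pos y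
  -- the order of `y` is prime to three
  have hyo3 : (orderOf y).Coprime 3 := by
    rw [Nat.coprime_comm, Nat.Prime.coprime_iff_not_dvd Nat.prime_three]
    intro h3
    set z := y ^ (orderOf y / 3) with hz
    have hzo : orderOf z = 3 := orderOf_pow_orderOf_div hord_pos.ne' h3
    have hz3 : z ^ 3 = 1 := by rw [← hzo]; exact pow_orderOf_eq_one z
    have hzK : z ∈ K := K.pow_mem hyK _
    have hzinv : a * z * a⁻¹ = z⁻¹ := by
      rw [hz, ← conj_pow, hinv, inv_pow]
    have := hno a haE z hzK hz3 hzinv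
    rw [this, orderOf_one] at hzo
    omega
  have hy6 : (orderOf y).Coprime 6 := (Nat.Coprime.mul_right hyo hyo3 : (orderOf y).Coprime (2 * 3))
  -- induction hypothesis for `B`
  have hBpos : 0 < Nat.card B := Nat.card_pos
  have hBlt : Nat.card B < n := by omega
  have ihB := ih (Nat.card B) hBlt B (hBA.trans hAE) rfl
  set U := cV V B with hU
  have hUV : U ≤ V := cV_le V B
  have hBV : B ≤ normalizer (V : Set X) := (hBA.trans hAE).trans hEV
  have hnormU : ∀ g : X, g ∈ normalizer (V : Set X) → g ∈ centralizer (B : Set X) →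
      g ∈ normalizer (U : Set X) := by
    intro g hgV hgB
    have hcn : g ∈ normalizer ((centralizer (B : Set X) : Subgroup X) : Set X) := by
      apply le_normalizer
      exact hgB
    rw [hU]
    unfold cV
    rw [mem_normalizer_iff] at hgV hcn ⊢
    intro x
    rw [mem_inf, mem_inf, ← hgV x, ← hcn x]
  have haU : a ∈ normalizer (U : Set X) := hnormU a (hEV haE) haB'
  have hyU : y ∈ normalizer (U : Set X) := hnormU y (hKV hyK) hyB
  have hUc : ∀ x ∈ U, ∀ y ∈ U, x * y = y * x := fun x hx y hy => hVc x (hUV hx) y (hUV hy)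
  have hU2 : ∀ x ∈ U, x ^ 2 = 1 := fun x hx => hV.2 x (hUV hx)
  have hyUne : ¬ y ∈ centralizer (U : Set X) := by
    intro hyC
    have hBp : IsPGroup 2 B := (isPGroup_of_elemAb hE).to_le (hBA.trans hAE)
    have := Cfsg.Agent.Helper7.thompson_AxB_element 2 V B hVp hBp hBV y (hKV hyK) hyo hyB hyC
    have h1 : y ∈ K ⊓ centralizer (V : Set X) := mem_inf.mpr ⟨hyK, this⟩
    rw [hf, mem_bot] at h1
    exact hy1 h1
  have hdi := dihedral_index U hUc hU2 a y ha2 hinv haU hyU hy6 hyUne
  have hcVa : cV V A = cV U (zpowers a) := by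
    rw [hU]
    unfold cV
    rw [hcentA, centralizer_zpowers_eq, inf_assoc, inf_comm (centralizer {a})]
  rw [hcVa, ← hcardB]
  calc (Nat.card B * 2) ^ 2 * Nat.card (cV U (zpowers a))
      = Nat.card B ^ 2 * (4 * Nat.card (cV U (zpowers a))) := by ring
    _ ≤ Nat.card B ^ 2 * Nat.card U := Nat.mul_le_mul_left _ hdi
    _ ≤ Nat.card V := ihB

end Cfsg.Agent.Helper14.TwoF
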