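import Mathlib
import Cfsg.Agent.Lib.Helper14.PowerTransv
import Cfsg.Agent.Lib.Helper14.S4Inv
import Cfsg.Agent.Lib.Helper14.TwoF
import Cfsg.Agent.Lib.Helper21.PGroupFrattini
import Cfsg.Agent.Lib.Helper23.BurnsideFrattini
import Cfsg.Agent.Lib.Helper23.PSolvable
import Cfsg.Prelude.Def_CaseTheorems

set_option autoImplicit false

/-! Cyclic normal subgroups of Sylow subgroups lie in `O_p`, for groups `X` with an elementary
abelian self-centralizing `O_p(X)`. -/

namespace Cfsg.Agent.Helper14.CycNormal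

open Subgroup

section power

variable {X : Type*} [Group X]

/-- the power map on a coset `V a`, for a transvection `a` -/
theorem mul_pow_of_commutator_central (v a w : X) (hav : a * v = w * v * a) (hwv : Commute w v)
    (hwa : Commute w a) (n : ℕ) : (v * a) ^ n = w ^ (n.choose 2) * v ^ n * a ^ n := by
  have hsub : ∀ m : ℕ, a ^ m * v = w ^ m * v * a ^ m := by
    intro m
    induction m with
    | zero => simp
    | succ m ih =>
      have hc : Commute (a ^ m) w := (hwa.symm).pow_left m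
      calc a ^ (m + 1) * v = a ^ m * (a * v) := by rw [pow_succ, mul_assoc]
        _ = a ^ m * (w * v * a) := by rw [hav]
        _ = (a ^ m * w) * v * a := by simp only [mul_assoc]
        _ = (w * a ^ m) * v * a := by rw [hc.eq]
        _ = w * (a ^ m * v) * a := by simp only [mul_assoc]
        _ = w * (w ^ m * v * a ^ m) * a := by rw [ih]
        _ = w ^ (m + 1) * v * a ^ (m + 1) := by rw [pow_succ' w, pow_succ a]; simp only [mul_assoc]
  induction n with
  | zero => simp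
  | succ n ih =>
    have hc1 : Commute (v ^ n) (w ^ n) := ((hwv.symm).pow_pow n n)
    calc (v * a) ^ (n + 1) = (v * a) ^ n * (v * a) := pow_succ _ _
      _ = w ^ (n.choose 2) * v ^ n * a ^ n * (v * a) := by rw [ih]
      _ = w ^ (n.choose 2) * v ^ n * (a ^ n * v) * a := by simp only [mul_assoc]
      _ = w ^ (n.choose 2) * v ^ n * (w ^ n * v * a ^ n) * a := by rw [hsub]
      _ = w ^ (n.choose 2) * (v ^ n * w ^ n) * v * a ^ n * a := by simp only [mul_assoc]
      _ = w ^ (n.choose 2) * (w ^ n * v ^ n) * v * a ^ n * a := by rw [hc1.eq]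
      _ = (w ^ (n.choose 2) * w ^ n) * (v ^ n * v) * (a ^ n * a) := by simp only [mul_assoc]
      _ = w ^ ((n + 1).choose 2) * v ^ (n + 1) * a ^ (n + 1) := by
        rw [← pow_add, ← pow_succ, ← pow_succ]
        congr 3
        rw [Nat.choose_succ_succ' n 1, Nat.choose_one_right, add_comm]

end power

section core

variable {X : Type*} [Group X] [Finite X] {p : ℕ} [hp : Fact p.Prime]

/-- the kernel of the conjugation action on a self-centralizing abelian normal subgroup -/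
theorem mem_ker_conjNormal_iff (V : Subgroup X) [hVn : V.Normal]
    (hVc : ∀ x ∈ V, ∀ y ∈ V, x * y = y * x) (hCV : centralizer (V : Set X) ≤ V) (x : X) :
    x ∈ (MulAut.conjNormal : X →* MulAut ↥V).ker ↔ x ∈ V := by
  rw [MonoidHom.mem_ker]
  constructor
  · intro h
    apply hCV
    rw [mem_centralizer_iff]
    intro v hv
    have h1 := congrArg (fun f : MulAut ↥V => ((f ⟨v, hv⟩ : ↥V) : X)) h
    simp only [MulAut.conjNormal_apply, MulAut.one_apply] at h1
    calc v * x = (x * v * x⁻¹) * x := by rw [h1]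
      _ = x * v := by group
  · intro hx
    ext v
    simp only [MulAut.conjNormal_apply, MulAut.one_apply]
    rw [hVc x hx v v.2]; group

/-- **The odd case.** -/
theorem core_odd (hp2 : p ≠ 2) (V : Subgroup X) [hVn : V.Normal]
    (hVc : ∀ x ∈ V, ∀ y ∈ V, x * y = y * x) (hVp : ∀ x ∈ V, x ^ p = 1)
    (hCV : centralizer (V : Set X) ≤ V)
    (hOp : ∀ K : Subgroup X, K.Normal → IsPGroup p K → K ≤ V)
    (a : X) (hap : a ^ p ∈ V)
    (htr : ∀ v ∈ V, v * a * v⁻¹ * a⁻¹ ∈ zpowers (a ^ p)) : a ∈ V := by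
  by_contra haV
  letI : CommGroup ↥V := { (inferInstance : Group ↥V) with
    mul_comm := fun x y => Subtype.ext (hVc x x.2 y y.2) }
  have hker := mem_ker_conjNormal_iff V hVc hCV
  have hVpg : IsPGroup p ↥V := by
    intro v
    refine ⟨1, ?_⟩
    apply Subtype.ext
    simpa using hVp v v.2
  have hp3 : 2 < p := by
    have := hp.out.two_le
    omega
  refine PowerTransv.no_power_transvection hp2 (MulAut.conjNormal : X →* MulAut ↥V) ?_ ?_ ?_ a
    ⟨a ^ p, hap⟩ ?_ ?_ ?_
  · intro w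
    apply Subtype.ext
    simpa using hVp w w.2
  · exact hVpg.to_le (fun x hx => (hker x).mp hx)
  · exact fun K hKn hKp x hx => (hker x).mpr (hOp K hKn hKp hx)
  · exact fun h => haV ((hker a).mp (MonoidHom.mem_ker.mpr h))
  · intro w
    obtain ⟨k, hk⟩ := mem_zpowers_iff.mp (htr w w.2)
    rw [mem_zpowers_iff]
    refine ⟨-k, ?_⟩
    apply Subtype.ext
    rw [Subgroup.coe_zpow, Subgroup.coe_div, MulAut.conjNormal_apply]
    show (a ^ p) ^ (-k) = a * (w : X) * a⁻¹ / (w : X)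
    rw [zpow_neg, hk, div_eq_mul_inv]; group
  · intro z hz
    have h1 : z * a * z⁻¹ * a⁻¹ ∈ V := by
      rw [← hker, MonoidHom.mem_ker, map_mul, hz, map_inv, mul_inv_cancel]
    obtain ⟨v, hv⟩ : ∃ v, v = z * a * z⁻¹ * a⁻¹ := ⟨_, rfl⟩
    rw [← hv] at h1
    have hzv : z * a * z⁻¹ = v * a := by rw [hv]; group
    obtain ⟨w, hw⟩ : ∃ w, w = a * v * a⁻¹ * v⁻¹ := ⟨_, rfl⟩
    have hwV : w ∈ V := by
      rw [hw]
      exact V.mul_mem (hVn.conj_mem v h1 a) (V.inv_mem h1)
    have hwz : w ∈ zpowers (a ^ p) := by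
      have := (zpowers (a ^ p)).inv_mem (htr v h1)
      have e : (v * a * v⁻¹ * a⁻¹)⁻¹ = w := by rw [hw]; group
      rwa [e] at this
    have hwa : Commute w a := by
      obtain ⟨k, hk⟩ := mem_zpowers_iff.mp hwz
      rw [← hk]
      exact ((Commute.refl a).pow_left p).zpow_left k
    have hwv : Commute w v := hVc w hwV v h1
    have hav : a * v = w * v * a := by rw [hw]; group
    have hpow := mul_pow_of_commutator_central v a w hav hwv hwa p
    obtain ⟨m, hm⟩ := hp.out.dvd_choose_self (k := 2) (by norm_num) hp3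
    have hwp : w ^ p.choose 2 = 1 := by rw [hm, pow_mul, hVp w hwV, one_pow]
    rw [hwp, hVp v h1, one_mul, one_mul] at hpow
    apply Subtype.ext
    rw [MulAut.conjNormal_apply]
    show z * a ^ p * z⁻¹ = a ^ p
    rw [← conj_pow, hzv, hpow]

end core

section dihedral

open Cfsg.Agent.Helper1.BO Cfsg.Agent.Helper14.FF2
open scoped commutatorElement

variable {X : Type*} [Group X] [Finite X]

/-- The dihedral lemma, in contrapositive form: an element `a` centralizing a subgroup of index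
at most two of the elementary abelian `2`-group `U` cannot invert an element `y` of order prime
to `6` acting nontrivially on `U`. -/
theorem dihedral_false (U : Subgroup X) (hUc : ∀ x ∈ U, ∀ y ∈ U, x * y = y * x)
    (hU2 : ∀ x ∈ U, x ^ 2 = 1) (a y : X) (hinv : a * y * a⁻¹ = y⁻¹)
    (hyU : y ∈ normalizer (U : Set X))
    (hy6 : (orderOf y).Coprime 6) (hyUne : ¬ y ∈ centralizer (U : Set X))
    (hrel_a : (cV U (zpowers a)).relIndex U ≤ 2) : False := by
  have hUp : IsPGroup 2 U := by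
    intro v
    refine ⟨1, ?_⟩
    apply Subtype.ext
    rw [pow_one]
    simpa using hU2 (v : X) v.2
  have hyo : (orderOf y).Coprime 2 := Nat.Coprime.coprime_dvd_right (by norm_num) hy6
  have hyo3 : (orderOf y).Coprime 3 := Nat.Coprime.coprime_dvd_right (by norm_num) hy6
  have hyinv' : a * y⁻¹ * a⁻¹ = y := by
    rw [← conj_inv, hinv, inv_inv]
  set a' := y * a * y⁻¹ with ha'
  have hrel_a' : (cV U (zpowers a')).relIndex U ≤ 2 := by
    set f := (MulAut.conj y).toMonoidHom with hf'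
    have hUmap : U.map f = U := by
      have := hyU
      rw [Subgroup.mem_normalizer_iff_map_conj_eq] at this
      exact this
    have hle : (cV U (zpowers a)).map f ≤ cV U (zpowers a') := by
      rintro _ ⟨x, hx, rfl⟩
      obtain ⟨hxU, hxa⟩ := mem_cV_zpowers.mp hx
      refine mem_cV_zpowers.mpr ⟨?_, ?_⟩
      · rw [← hUmap]; exact Subgroup.mem_map_of_mem f hxU
      · show y * a * y⁻¹ * (y * x * y⁻¹) = y * x * y⁻¹ * (y * a * y⁻¹)
        calc y * a * y⁻¹ * (y * x * y⁻¹) = y * (a * x) * y⁻¹ := by group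
          _ = y * (x * a) * y⁻¹ := by rw [hxa]
          _ = y * x * y⁻¹ * (y * a * y⁻¹) := by group
    have h1 : ((cV U (zpowers a)).map f).relIndex (U.map f) = (cV U (zpowers a)).relIndex U :=
      Subgroup.relIndex_map_map_of_injective _ _ (MulAut.conj y).injective
    rw [hUmap] at h1
    have h2 : (cV U (zpowers a')).relIndex U ≤ ((cV U (zpowers a)).map f).relIndex U := by
      apply Nat.le_of_dvd
      · rw [h1]
        have := card_mul_relIndex_le (cV_le U (zpowers a))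
        rcases Nat.eq_zero_or_pos ((cV U (zpowers a)).relIndex U) with h | h
        · rw [h, mul_zero] at this
          have : 0 < Nat.card U := Nat.card_pos
          omega
        · exact h
      · exact Subgroup.relIndex_dvd_of_le_left U hle
    omega
  have hyy : a' * a⁻¹ = y * y := by
    rw [ha']
    calc y * a * y⁻¹ * a⁻¹ = y * (a * y⁻¹ * a⁻¹) := by group
      _ = y * y := by rw [hyinv']
  have hle_y : cV U (zpowers a) ⊓ cV U (zpowers a') ≤ cV U (zpowers y) := by
    intro x hx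
    obtain ⟨hx1, hx2⟩ := mem_inf.mp hx
    obtain ⟨hxU, hxa⟩ := mem_cV_zpowers.mp hx1
    obtain ⟨-, hxa'⟩ := mem_cV_zpowers.mp hx2
    refine mem_cV_zpowers.mpr ⟨hxU, ?_⟩
    have hxyy : Commute (y * y) x := by
      rw [← hyy]
      have h1 : Commute a' x := hxa'
      have h2 : Commute a x := hxa
      exact h1.mul_left h2.inv_left
    have hodd : Odd (orderOf y) := Nat.coprime_two_right.mp hyo
    obtain ⟨k, hk⟩ := hodd
    have hyk : y = (y * y) ^ (k + 1) := by
      rw [← pow_two, ← pow_mul]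
      have : 2 * (k + 1) = orderOf y + 1 := by omega
      rw [this, pow_succ, pow_orderOf_eq_one, one_mul]
    have : Commute y x := by
      rw [hyk]; exact hxyy.pow_left _
    exact this
  have hrel_y : (cV U (zpowers y)).relIndex U ≤ 4 := by
    have h1 : (cV U (zpowers a) ⊓ cV U (zpowers a')).relIndex U ≤ 2 * 2 :=
      (Subgroup.relIndex_inf_le).trans (Nat.mul_le_mul hrel_a hrel_a')
    have h2 : (cV U (zpowers y)).relIndex U ∣
        (cV U (zpowers a) ⊓ cV U (zpowers a')).relIndex U :=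
      Subgroup.relIndex_dvd_of_le_left U hle_y
    have hpos : 0 < (cV U (zpowers a) ⊓ cV U (zpowers a')).relIndex U := by
      have := card_mul_relIndex_le
        ((inf_le_left : cV U (zpowers a) ⊓ cV U (zpowers a') ≤ _).trans (cV_le U (zpowers a)))
      rcases Nat.eq_zero_or_pos ((cV U (zpowers a) ⊓ cV U (zpowers a')).relIndex U) with h | h
      · rw [h, mul_zero] at this
        have : 0 < Nat.card U := Nat.card_pos
        omega
      · exact h
    have := Nat.le_of_dvd hpos h2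
    omega
  set W := ⁅U, zpowers y⁆ with hW
  have hWU : W ≤ U := by
    rw [hW]
    exact Cfsg.Agent.Helper7.commutator_le_of_le_normalizer (zpowers_le.mpr hyU)
  have hcardW : Nat.card W = (cV U (zpowers y)).relIndex U := by
    have h1 := card_commutator_zpowers_mul U hUc y hyU
    have h2 := card_mul_relIndex_le (cV_le U (zpowers y))
    have hpos : 0 < Nat.card (cV U (zpowers y)) := Nat.card_pos
    have : Nat.card (cV U (zpowers y)) * Nat.card W =
        Nat.card (cV U (zpowers y)) * (cV U (zpowers y)).relIndex U := by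
      rw [h2, mul_comm]; exact h1
    exact Nat.eq_of_mul_eq_mul_left hpos this
  have hW1 : W ≠ ⊥ := by
    intro h
    apply hyUne
    rw [hW, Subgroup.commutator_comm, Subgroup.commutator_eq_bot_iff_le_centralizer] at h
    exact h (mem_zpowers y)
  haveI : IsMulCommutative ↥U := ⟨⟨fun x y => Subtype.ext (hUc x x.2 y y.2)⟩⟩
  have hfpf : W ⊓ centralizer ((zpowers y : Subgroup X) : Set X) = ⊥ := by
    apply Cfsg.Agent.Helper1.commutator_inf_centralizer_eq_bot (zpowers y) U (zpowers_le.mpr hyU)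
    rw [Nat.card_zpowers]
    obtain ⟨n, hn⟩ := IsPGroup.iff_card.mp hUp
    rw [hn]
    exact Nat.Coprime.pow_right n hyo
  have hfpf' : ∀ w ∈ W, y * w = w * y → w = 1 := by
    intro w hw hyw
    have : w ∈ W ⊓ centralizer ((zpowers y : Subgroup X) : Set X) := by
      refine mem_inf.mpr ⟨hw, ?_⟩
      rw [centralizer_zpowers_eq, mem_centralizer_singleton_iff]
      exact hyw.symm
    rw [hfpf, mem_bot] at this
    exact this
  have hyW : y ∈ normalizer (W : Set X) := by
    rw [hW]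
    apply Cfsg.Agent.Helper7.normalizer_inf_normalizer_le_normalizer_commutator
    exact mem_inf.mpr ⟨hyU, le_normalizer (mem_zpowers y)⟩
  have hcard4 : Nat.card W ≤ 4 := hcardW ▸ hrel_y
  -- pigeonhole
  apply hW1
  rw [Subgroup.eq_bot_iff_forall]
  intro w hw
  let f : Fin 5 → ↥W := fun i =>
    ⟨y ^ (i : ℕ) * w * (y ^ (i : ℕ))⁻¹,
      conj_mem_of_le_normalizer ((normalizer (W : Set X)).pow_mem hyW _) hw⟩
  haveI : Fintype ↥W := Fintype.ofFinite ↥W
  have hlt5 : Fintype.card ↥W < Fintype.card (Fin 5) := by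
    rw [← Nat.card_eq_fintype_card, Fintype.card_fin]; omega
  obtain ⟨i, j, hij, hfij⟩ := Fintype.exists_ne_map_eq_of_card_lt f hlt5
  have key : ∀ i j : Fin 5, (i : ℕ) < (j : ℕ) → f i = f j → w = 1 := by
    intro i j hlt hf
    have hf' : y ^ (i : ℕ) * w * (y ^ (i : ℕ))⁻¹ = y ^ (j : ℕ) * w * (y ^ (j : ℕ))⁻¹ :=
      congrArg Subtype.val hf
    obtain ⟨k, hk⟩ : ∃ k, (j : ℕ) = (i : ℕ) + k := ⟨(j : ℕ) - (i : ℕ), by omega⟩
    have hk1 : 1 ≤ k := by omega
    have hk4 : k ≤ 4 := by have := j.2; omega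
    have hcomm : y ^ k * w = w * y ^ k := by
      rw [hk, pow_add] at hf'
      have : w = y ^ k * w * (y ^ k)⁻¹ := by
        calc w = (y ^ (i : ℕ))⁻¹ * (y ^ (i : ℕ) * w * (y ^ (i : ℕ))⁻¹) * y ^ (i : ℕ) := by group
          _ = (y ^ (i : ℕ))⁻¹ * (y ^ (i : ℕ) * y ^ k * w * (y ^ (i : ℕ) * y ^ k)⁻¹) * y ^ (i : ℕ) := by
              rw [hf']
          _ = y ^ k * w * (y ^ k)⁻¹ := by group
      calc y ^ k * w = (y ^ k * w * (y ^ k)⁻¹) * y ^ k := by group
        _ = w * y ^ k := by rw [← this]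
    have hcop : k.Coprime (orderOf y) := by
      have h2 : Nat.Coprime 2 (orderOf y) := hyo.symm
      have h3 : Nat.Coprime 3 (orderOf y) := hyo3.symm
      interval_cases k
      · exact Nat.coprime_one_left _
      · exact h2
      · exact h3
      · exact (Nat.Coprime.mul_left h2 h2 : Nat.Coprime (2 * 2) (orderOf y))
    obtain ⟨t, ht⟩ := exists_pow_eq_self_of_coprime hcop
    apply hfpf' w hw
    have hc : Commute (y ^ k) w := hcomm
    have : Commute ((y ^ k) ^ t) w := hc.pow_left t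
    rw [ht] at this
    exact this
  rcases Nat.lt_or_gt_of_ne (fun h => hij (Fin.ext h)) with h | h
  · exact key i j h hfij
  · exact key j i h hfij.symm


end dihedral

section even

universe u

open Cfsg.Agent.Helper1.BO Cfsg.Agent.Helper14.FF2

/-- a transvection centralizes a subgroup of index at most two -/
theorem relIndex_cV_le_two {X : Type*} [Group X] [Finite X] (V : Subgroup X)
    (hVc : ∀ x ∈ V, ∀ y ∈ V, x * y = y * x) (hV2 : ∀ x ∈ V, x ^ 2 = 1) (a : X)
    (hap : a ^ 2 ∈ V)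
    (htr : ∀ v ∈ V, v * a * v⁻¹ * a⁻¹ ∈ zpowers (a ^ 2)) (h : X) (hh : h ∈ V) :
    (cV V (zpowers (h * a))).relIndex V ≤ 2 := by
  -- the powers of `a²`
  have hz : ∀ x ∈ zpowers (a ^ 2), x = 1 ∨ x = a ^ 2 := by
    intro x hx
    obtain ⟨k, rfl⟩ := mem_zpowers_iff.mp hx
    have h2 : (a ^ 2) ^ (2 : ℤ) = 1 := by rw [zpow_ofNat]; exact hV2 _ hap
    rcases Int.emod_two_eq_zero_or_one k with hk | hk
    · left
      have hk' : k = 2 * (k / 2) := by omega
      rw [hk', zpow_mul, h2, one_zpow]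
    · right
      have hk' : k = 2 * (k / 2) + 1 := by omega
      rw [hk', zpow_add, zpow_mul, h2, one_zpow, one_mul, zpow_one]
  -- membership in the centralizer
  have hmem : ∀ v ∈ V, v ∈ cV V (zpowers (h * a)) ↔ a * v = v * a := by
    intro v hv
    rw [mem_cV_zpowers]
    constructor
    · rintro ⟨-, h1⟩
      have h2 : h * (a * v) = h * (v * a) := by
        calc h * (a * v) = h * a * v := by rw [mul_assoc]
          _ = v * (h * a) := h1
          _ = (v * h) * a := by rw [mul_assoc]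
          _ = (h * v) * a := by rw [hVc v hv h hh]
          _ = h * (v * a) := by rw [mul_assoc]
      exact mul_left_cancel h2
    · intro h1
      refine ⟨hv, ?_⟩
      calc h * a * v = h * (a * v) := by rw [mul_assoc]
        _ = h * (v * a) := by rw [h1]
        _ = (h * v) * a := by rw [mul_assoc]
        _ = (v * h) * a := by rw [hVc v hv h hh]
        _ = v * (h * a) := by rw [mul_assoc]
  by_cases hall : ∀ v ∈ V, a * v = v * a
  · have : (cV V (zpowers (h * a))).relIndex V = 1 := by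
      rw [Subgroup.relIndex_eq_one]
      intro v hv
      exact (hmem v hv).mpr (hall v hv)
    omega
  · push Not at hall
    obtain ⟨v0, hv0, hv0a⟩ := hall
    have ht : ∀ v ∈ V, a * v ≠ v * a → v * a * v⁻¹ = a ^ 2 * a := by
      intro v hv hne
      rcases hz _ (htr v hv) with h1 | h1
      · exfalso
        apply hne
        have : v * a = (v * a * v⁻¹ * a⁻¹) * (a * v) := by group
        rw [this, h1, one_mul]
      · rw [← h1]; group
    have : (cV V (zpowers (h * a))).relIndex V = 2 := by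
      unfold Subgroup.relIndex
      rw [Subgroup.index_eq_two_iff]
      refine ⟨⟨v0, hv0⟩, ?_⟩
      intro b
      have hb := b.2
      by_cases hbc : a * (b : X) = (b : X) * a
      · right
        refine ⟨mem_subgroupOf.mpr ((hmem _ hb).mpr hbc), ?_⟩
        intro hc
        rw [mem_subgroupOf] at hc
        have h1 := (hmem _ (V.mul_mem hb hv0)).mp hc
        apply hv0a
        have h2 : a * ((b : X) * v0) = (b : X) * v0 * a := h1
        have h3 : (b : X) * (a * v0) = (b : X) * (v0 * a) := by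
          calc (b : X) * (a * v0) = ((b : X) * a) * v0 := by rw [mul_assoc]
            _ = (a * (b : X)) * v0 := by rw [hbc]
            _ = a * ((b : X) * v0) := by rw [mul_assoc]
            _ = (b : X) * v0 * a := h2
            _ = (b : X) * (v0 * a) := by rw [mul_assoc]
        exact mul_left_cancel h3
      · left
        refine ⟨?_, fun hc => hbc ((hmem _ hb).mp (mem_subgroupOf.mp hc))⟩
        rw [mem_subgroupOf]
        apply (hmem _ (V.mul_mem hb hv0)).mpr
        have h1 := ht _ hb hbc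
        have h2 := ht _ hv0 hv0a
        have h3 : (b : X) * a ^ 2 * (b : X)⁻¹ = a ^ 2 := by
          rw [hVc _ hb _ hap]; group
        have h4 : (a ^ 2) * (a ^ 2) = 1 := by rw [← pow_two]; exact hV2 _ hap
        have h5 : ((b : X) * v0) * a * ((b : X) * v0)⁻¹ = a := by
          calc ((b : X) * v0) * a * ((b : X) * v0)⁻¹
              = (b : X) * (v0 * a * v0⁻¹) * (b : X)⁻¹ := by group
            _ = (b : X) * (a ^ 2 * a) * (b : X)⁻¹ := by rw [h2]
            _ = ((b : X) * a ^ 2 * (b : X)⁻¹) * ((b : X) * a * (b : X)⁻¹) := by group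
            _ = a ^ 2 * (a ^ 2 * a) := by rw [h3, h1]
            _ = (a ^ 2 * a ^ 2) * a := by group
            _ = a := by rw [h4, one_mul]
        show a * ((b : X) * v0) = (b : X) * v0 * a
        calc a * ((b : X) * v0) = (((b : X) * v0) * a * ((b : X) * v0)⁻¹) * ((b : X) * v0) := by
              rw [h5]
          _ = (b : X) * v0 * a := by group
    omega

/-- **The even case.** -/
theorem core_even {X : Type u} [Group X] [Finite X] (V : Subgroup X) [hVn : V.Normal]
    (hVc : ∀ x ∈ V, ∀ y ∈ V, x * y = y * x) (hV2 : ∀ x ∈ V, x ^ 2 = 1)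
    (hCV : centralizer (V : Set X) ≤ V)
    (hOp : ∀ K : Subgroup X, K.Normal → IsPGroup 2 K → K ≤ V)
    (a : X) (hap : a ^ 2 ∈ V)
    (htr : ∀ v ∈ V, v * a * v⁻¹ * a⁻¹ ∈ zpowers (a ^ 2)) (haV : a ∉ V) :
    Cfsg.Involves (Equiv.Perm (Fin 4)) X := by
  classical
  haveI : Fact (Nat.Prime 2) := ⟨Nat.prime_two⟩
  have hVpg : IsPGroup 2 ↥V := by
    intro v
    refine ⟨1, ?_⟩
    apply Subtype.ext
    simpa using hV2 v v.2
  obtain ⟨π, hπ⟩ : ∃ π : X →* X ⧸ V, π = QuotientGroup.mk' V := ⟨_, rfl⟩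
  have hker : ∀ x : X, π x = 1 ↔ x ∈ V := fun x => by rw [hπ]; exact QuotientGroup.eq_one_iff x
  have hπs : Function.Surjective π := by rw [hπ]; exact QuotientGroup.mk'_surjective V
  -- `O₂` of the quotient is trivial
  have hO2 : ∀ K : Subgroup (X ⧸ V), K.Normal → IsPGroup 2 K → K = ⊥ := by
    intro K hKn hKp
    have h1 : IsPGroup 2 ↥(K.comap π) :=
      hKp.comap_of_ker_isPGroup π (by rw [hπ, QuotientGroup.ker_mk']; exact hVpg)
    have h2 : K.comap π ≤ V := hOp _ (hKn.comap π) h1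
    rw [eq_bot_iff]
    intro k hk
    obtain ⟨x, rfl⟩ := hπs k
    rw [mem_bot, hker]
    exact h2 hk
  have hA1 : π a ≠ 1 := fun h => haV ((hker a).mp h)
  have hA2 : π a * π a = 1 := by rw [← map_mul, hker, ← pow_two]; exact hap
  -- Baer--Suzuki
  obtain ⟨g, hg⟩ : ∃ g : X ⧸ V, ¬ IsPGroup 2
      ↥(zpowers (π a) ⊔ (zpowers (π a)).map (MulAut.conj g).toMonoidHom) := by
    by_contra hcon
    push Not at hcon
    obtain ⟨K, hKn, hKp, hXK⟩ := Cfsg.Agent.Helper21.baer_suzuki (zpowers (π a)) hcon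
    have := hO2 K hKn hKp
    rw [this] at hXK
    exact hA1 (mem_bot.mp (hXK (mem_zpowers _)))
  obtain ⟨b, hb⟩ : ∃ b, b = g * π a * g⁻¹ := ⟨_, rfl⟩
  have hmap : (zpowers (π a)).map (MulAut.conj g).toMonoidHom = zpowers b := by
    rw [MonoidHom.map_zpowers, hb]; rfl
  rw [hmap] at hg
  have hb2 : b * b = 1 := by
    have : b * b = g * (π a * π a) * g⁻¹ := by rw [hb]; group
    rw [this, hA2]; group
  obtain ⟨t, ht⟩ : ∃ t, t = π a * b := ⟨_, rfl⟩
  have hAinv : (π a)⁻¹ = π a := inv_eq_of_mul_eq_one_right hA2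
  have hbinv : b⁻¹ = b := inv_eq_of_mul_eq_one_right hb2
  have htinv : π a * t * (π a)⁻¹ = t⁻¹ := by
    rw [ht, mul_inv_rev, hAinv, hbinv, ← mul_assoc, hA2, one_mul]
  -- `t` is not a `2`-element
  have ht2 : ∀ k : ℕ, t ^ 2 ^ k ≠ 1 := by
    intro k hk
    apply hg
    have h1 : IsPGroup 2 ↥(zpowers t) := by
      intro x
      refine ⟨k, ?_⟩
      obtain ⟨i, hi⟩ := mem_zpowers_iff.mp x.2
      apply Subtype.ext
      simp only [Subgroup.coe_pow, Subgroup.coe_one]
      rw [← hi, ← zpow_natCast, ← zpow_mul, mul_comm, zpow_mul, zpow_natCast, hk, one_zpow]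
    have h2 : IsPGroup 2 ↥(zpowers (π a)) := by
      intro x
      refine ⟨1, ?_⟩
      obtain ⟨i, hi⟩ := mem_zpowers_iff.mp x.2
      apply Subtype.ext
      simp only [Subgroup.coe_pow, Subgroup.coe_one, pow_one]
      rw [← hi, ← zpow_natCast, ← zpow_mul, mul_comm, zpow_mul, zpow_natCast, pow_two, hA2,
        one_zpow]
    have h3 : zpowers (π a) ≤ normalizer ((zpowers t : Subgroup (X ⧸ V)) : Set (X ⧸ V)) := by
      rw [zpowers_le]
      apply Cfsg.Agent.Helper9.mem_normalizer_of_conj_mem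
      intro x hx
      obtain ⟨i, rfl⟩ := mem_zpowers_iff.mp hx
      rw [← conj_zpow, htinv]
      exact zpow_mem (inv_mem (mem_zpowers t)) i
    have h4 : IsPGroup 2 ↥(zpowers (π a) ⊔ zpowers t) := IsPGroup.to_sup_of_normal_right' h2 h1 h3
    refine h4.to_le (sup_le le_sup_left ?_)
    rw [zpowers_le]
    have : b = (π a)⁻¹ * t := by rw [ht]; group
    rw [this]
    exact mul_mem (inv_mem (le_sup_left (b := zpowers t) (mem_zpowers _)))
      (le_sup_right (a := zpowers (π a)) (mem_zpowers _))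
  -- an odd prime divisor of the order of `t`
  obtain ⟨r, hr, hr2, hrt⟩ : ∃ r : ℕ, r.Prime ∧ r ≠ 2 ∧ r ∣ orderOf t := by
    obtain ⟨k, m, hm, hkm⟩ :=
      Nat.exists_eq_pow_mul_and_not_dvd (orderOf_pos t).ne' 2 (by norm_num)
    have hm1 : m ≠ 1 := by
      rintro rfl
      apply ht2 k
      rw [mul_one] at hkm
      rw [← hkm]; exact pow_orderOf_eq_one t
    refine ⟨m.minFac, Nat.minFac_prime hm1, ?_, ?_⟩
    · intro h2
      apply hm
      rw [← h2]; exact Nat.minFac_dvd m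
    · rw [hkm]; exact dvd_mul_of_dvd_right (Nat.minFac_dvd m) _
  haveI : Fact r.Prime := ⟨hr⟩
  obtain ⟨y0, hy0⟩ : ∃ y0, y0 = t ^ (orderOf t / r) := ⟨_, rfl⟩
  have hy0o : orderOf y0 = r := by
    rw [hy0]; exact orderOf_pow_orderOf_div (orderOf_pos t).ne' hrt
  have hy0inv : π a * y0 * (π a)⁻¹ = y0⁻¹ := by rw [hy0, ← conj_pow, htinv, inv_pow]
  have hy01 : y0 ≠ 1 := by
    intro h
    rw [h, orderOf_one] at hy0o
    exact hr.one_lt.ne hy0o
  obtain ⟨y1, hy1⟩ := hπs y0
  by_cases hr3 : r = 3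
  · -- a section `S₃`, lifted
    have hy13 : y1 ^ 3 ^ 1 ∈ V := by
      rw [← hker, map_pow, hy1, pow_one, ← hr3, ← hy0o, pow_orderOf_eq_one]
    obtain ⟨a2, y2, ha2, hy2, hinv2, hy2V⟩ := S4Inv.exists_invert_lift V a y1
      ⟨1, by simpa using hap⟩ ⟨1, hy13⟩
      (fun h => hy01 (by rw [← hy1]; exact (hker y1).mpr h))
      (by rw [← hker, map_mul, map_mul, map_mul, map_inv, hy1, hy0inv, inv_mul_cancel])
    exact S4Inv.s4_of_invert V hVpg y2 a2 (S4Inv.mem_normalizer_of_normal V hVn y2)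
      (S4Inv.mem_normalizer_of_normal V hVn a2) ha2 hy2 hinv2 (fun h => hy2V (hCV h))
  · exfalso
    obtain ⟨e, m, hm, hy⟩ := S4Inv.exists_pow_prime_part r hr y1
    obtain ⟨y, hyeq⟩ : ∃ y, y = y1 ^ m := ⟨_, rfl⟩
    rw [← hyeq] at hy
    have hπy : π y = y0 ^ m := by rw [hyeq, map_pow, hy1]
    have hπy1 : π y ≠ 1 := by
      rw [hπy]
      intro h
      have := orderOf_dvd_of_pow_eq_one h
      rw [hy0o] at this
      exact hm this
    have hyP : IsPGroup r ↥(zpowers y) := by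
      intro x
      refine ⟨e, ?_⟩
      obtain ⟨i, hi⟩ := mem_zpowers_iff.mp x.2
      apply Subtype.ext
      simp only [Subgroup.coe_pow, Subgroup.coe_one]
      rw [← hi, ← zpow_natCast, ← zpow_mul, mul_comm, zpow_mul, zpow_natCast, hy, one_zpow]
    have hcop : (Nat.card ↥V).Coprime r := by
      obtain ⟨n, hn⟩ := IsPGroup.iff_card.mp hVpg
      rw [hn]
      exact Nat.Coprime.pow_left n ((Nat.coprime_primes Nat.prime_two hr).mpr (Ne.symm hr2))
    have hinvV : a * y * a⁻¹ * y ∈ V := by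
      rw [← hker, map_mul, map_mul, map_mul, map_inv, hπy, ← conj_pow, hy0inv, inv_pow,
        inv_mul_cancel]
    obtain ⟨h, hhV, hinv'⟩ := S4Sec.lift_invert r V hcop y a hyP hinvV
    have hyo : (orderOf y).Coprime 6 := by
      have hd : orderOf y ∣ r ^ e := orderOf_dvd_of_pow_eq_one hy
      have h2 : Nat.Coprime r 2 := (Nat.coprime_primes hr Nat.prime_two).mpr hr2
      have h3 : Nat.Coprime r 3 := (Nat.coprime_primes hr Nat.prime_three).mpr hr3
      have h6 : Nat.Coprime r 6 := Nat.Coprime.mul_right h2 h3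
      exact Nat.Coprime.coprime_dvd_left hd (Nat.Coprime.pow_left e h6)
    refine dihedral_false V hVc hV2 (h * a) y hinv' (S4Inv.mem_normalizer_of_normal V hVn y) hyo
      ?_ (relIndex_cV_le_two V hVc hV2 a hap htr h hhV)
    intro hc
    exact hπy1 ((hker y).mpr (hCV hc))

end even

section frattini

variable {H : Type*} [Group H] [Finite H] {p : ℕ} [hp : Fact p.Prime]
  (Q : Subgroup H) [hQn : Q.Normal] (hQp : IsPGroup p Q) (Φ : Subgroup H) [hΦn : Φ.Normal]
  (hΦ : Φ = (frattini ↥Q).map Q.subtype)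

include hΦ in
theorem phi_le : Φ ≤ Q := by rw [hΦ]; exact map_subtype_le _

include hQp hΦ in
theorem comm_mem_phi {x y : H} (hx : x ∈ Q) (hy : y ∈ Q) : x * y * x⁻¹ * y⁻¹ ∈ Φ := by
  rw [hΦ]
  exact ⟨_, Cfsg.Agent.Helper21.commutator_mem_frattini_of_isPGroup hQp ⟨x, hx⟩ ⟨y, hy⟩, rfl⟩

include hQp hΦ in
theorem pow_mem_phi {x : H} (hx : x ∈ Q) : x ^ p ∈ Φ := by
  rw [hΦ]
  exact ⟨_, Cfsg.Agent.Helper21.pow_mem_frattini_of_isPGroup hQp ⟨x, hx⟩, rfl⟩

include hQp hΦ in
theorem map_comm : ∀ x ∈ Q.map (QuotientGroup.mk' Φ), ∀ y ∈ Q.map (QuotientGroup.mk' Φ),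
    x * y = y * x := by
  rintro _ ⟨x, hx, rfl⟩ _ ⟨y, hy, rfl⟩
  have h := comm_mem_phi Q hQp Φ hΦ hx hy
  rw [← QuotientGroup.eq_one_iff] at h
  have h2 : (QuotientGroup.mk' Φ) x * (QuotientGroup.mk' Φ) y * ((QuotientGroup.mk' Φ) x)⁻¹ *
      ((QuotientGroup.mk' Φ) y)⁻¹ = 1 := by
    rw [← map_inv, ← map_inv, ← map_mul, ← map_mul, ← map_mul]; exact h
  calc (QuotientGroup.mk' Φ) x * (QuotientGroup.mk' Φ) y
      = ((QuotientGroup.mk' Φ) x * (QuotientGroup.mk' Φ) y * ((QuotientGroup.mk' Φ) x)⁻¹ *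
        ((QuotientGroup.mk' Φ) y)⁻¹) * ((QuotientGroup.mk' Φ) y * (QuotientGroup.mk' Φ) x) := by
        group
    _ = (QuotientGroup.mk' Φ) y * (QuotientGroup.mk' Φ) x := by rw [h2, one_mul]

include hQp hΦ in
theorem map_pow_eq_one : ∀ x ∈ Q.map (QuotientGroup.mk' Φ), x ^ p = 1 := by
  rintro _ ⟨x, hx, rfl⟩
  rw [← map_pow, QuotientGroup.mk'_apply, QuotientGroup.eq_one_iff]
  exact pow_mem_phi Q hQp Φ hΦ hx

include hΦ in
theorem mem_of_map_mem {x : H} (h : (QuotientGroup.mk' Φ) x ∈ Q.map (QuotientGroup.mk' Φ)) :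
    x ∈ Q := by
  obtain ⟨q, hq, hqx⟩ := h
  have h1 : (QuotientGroup.mk' Φ) (q⁻¹ * x) = 1 := by rw [map_mul, map_inv, hqx, inv_mul_cancel]
  rw [QuotientGroup.mk'_apply, QuotientGroup.eq_one_iff] at h1
  have h2 : x = q * (q⁻¹ * x) := by group
  rw [h2]
  exact Q.mul_mem hq (phi_le Q Φ hΦ h1)

include hQp hΦ in
/-- normal `p`-subgroups of the Frattini quotient lie in the image of `Q` -/
theorem map_max (hQmax : ∀ K : Subgroup H, K.Normal → IsPGroup p K → K ≤ Q) :
    ∀ K : Subgroup (H ⧸ Φ), K.Normal → IsPGroup p K → K ≤ Q.map (QuotientGroup.mk' Φ) := by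
  intro K hKn hKp
  have h1 : IsPGroup p ↥(K.comap (QuotientGroup.mk' Φ)) :=
    hKp.comap_of_ker_isPGroup _ (by
      rw [QuotientGroup.ker_mk']; exact hQp.to_le (phi_le Q Φ hΦ))
  have h2 := hQmax _ (hKn.comap _) h1
  intro k hk
  obtain ⟨x, rfl⟩ := QuotientGroup.mk'_surjective Φ k
  exact ⟨x, h2 hk, rfl⟩

include hQp hΦ in
/-- the image of `Q` in the Frattini quotient is self-centralizing -/
theorem map_centralizer_le (hCQ : centralizer (Q : Set H) ≤ Q)
    (hQmax : ∀ K : Subgroup H, K.Normal → IsPGroup p K → K ≤ Q) :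
    centralizer ((Q.map (QuotientGroup.mk' Φ) : Subgroup (H ⧸ Φ)) : Set (H ⧸ Φ)) ≤
      Q.map (QuotientGroup.mk' Φ) := by
  haveI hVn : (Q.map (QuotientGroup.mk' Φ)).Normal :=
    hQn.map _ (QuotientGroup.mk'_surjective Φ)
  obtain ⟨K, hK⟩ : ∃ K : Subgroup H, K = (centralizer
    ((Q.map (QuotientGroup.mk' Φ) : Subgroup (H ⧸ Φ)) : Set (H ⧸ Φ))).comap
      (QuotientGroup.mk' Φ) := ⟨_, rfl⟩
  have hKn : K.Normal := by rw [hK]; exact Subgroup.Normal.comap inferInstance _
  have hKact : ∀ x ∈ K, ∀ r ∈ Q, x * r * x⁻¹ * r⁻¹ ∈ Φ := by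
    intro x hx r hr
    rw [hK, mem_comap, mem_centralizer_iff] at hx
    have h1 := hx _ (mem_map_of_mem (QuotientGroup.mk' Φ) hr)
    rw [← QuotientGroup.eq_one_iff, ← QuotientGroup.mk'_apply, map_mul, map_mul, map_mul, map_inv,
      map_inv, ← h1]
    group
  have hKp : IsPGroup p ↥K := by
    intro x
    obtain ⟨e, m, hm, he⟩ :=
      Nat.exists_eq_pow_mul_and_not_dvd (orderOf_pos (x : H)).ne' p hp.out.ne_one
    obtain ⟨x', hx'⟩ : ∃ x' : H, x' = (x : H) ^ p ^ e := ⟨_, rfl⟩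
    have hx'm : x' ^ m = 1 := by rw [hx', ← pow_mul, ← he, pow_orderOf_eq_one]
    have hx'K : x' ∈ K := by rw [hx']; exact K.pow_mem x.2 _
    have hcop : (Nat.card ↥(zpowers x')).Coprime p := by
      rw [Nat.card_zpowers]
      exact Nat.Coprime.coprime_dvd_left (orderOf_dvd_of_pow_eq_one hx'm)
        ((Nat.Prime.coprime_iff_not_dvd hp.out).mpr hm).symm
    have hsolv : Group.IsSolvable ↥(zpowers x') := by
      apply isSolvable_of_comm
      intro u z
      obtain ⟨i1, hi1⟩ := mem_zpowers_iff.mp u.2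
      obtain ⟨i2, hi2⟩ := mem_zpowers_iff.mp z.2
      apply Subtype.ext
      simp only [Subgroup.coe_mul]
      rw [← hi1, ← hi2]
      exact ((Commute.refl x').zpow_zpow i1 i2).eq
    have hnorm : zpowers x' ≤
        normalizer ((((frattini ↥Q).map Q.subtype : Subgroup H)) : Set H) := by
      rw [← hΦ]
      intro z _
      exact S4Inv.mem_normalizer_of_normal Φ hΦn z
    have hcen := Cfsg.Agent.Helper23.centralizes_of_frattini Q hQp (zpowers x') hcop hsolv hnorm
      (by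
        intro z hz r hr
        rw [← hΦ]
        exact hKact z ((zpowers_le.mpr hx'K) hz) r hr)
    have hx'Q : x' ∈ Q := by
      apply hCQ
      rw [mem_centralizer_iff]
      intro r hr
      exact ((mem_centralizer_iff.mp (hcen hr)) x' (mem_zpowers x')).symm
    obtain ⟨j, hj⟩ := hQp ⟨x', hx'Q⟩
    have hj' : x' ^ p ^ j = 1 := by
      have := congrArg (fun z : ↥Q => (z : H)) hj
      simpa using this
    have hx'1 : x' = 1 := by
      have hd1 : orderOf x' ∣ m := orderOf_dvd_of_pow_eq_one hx'm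
      have hd2 : orderOf x' ∣ p ^ j := orderOf_dvd_of_pow_eq_one hj'
      have hc : Nat.Coprime m (p ^ j) :=
        Nat.Coprime.pow_right j ((Nat.Prime.coprime_iff_not_dvd hp.out).mpr hm).symm
      have : orderOf x' ∣ 1 := by
        rw [← Nat.Coprime.gcd_eq_one hc]
        exact Nat.dvd_gcd hd1 hd2
      exact orderOf_eq_one_iff.mp (Nat.dvd_one.mp this)
    refine ⟨e, ?_⟩
    apply Subtype.ext
    rw [Subgroup.coe_pow, Subgroup.coe_one, ← hx', hx'1]
  have hKQ : K ≤ Q := hQmax K hKn hKp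
  intro k hk
  obtain ⟨x, rfl⟩ := QuotientGroup.mk'_surjective Φ k
  refine ⟨x, hKQ ?_, rfl⟩
  rw [hK, mem_comap]
  exact hk

end frattini

section reduction

universe u

variable {H : Type u} [Group H] [Finite H] {p : ℕ} [hp : Fact p.Prime]

/-- **Transvections whose centre is generated by their `p`-th power**, in a group `H` with a
self-centralizing `O_p(H) = Q`. -/
theorem mem_or_involves (Q : Subgroup H) [hQn : Q.Normal] (hQp : IsPGroup p Q)
    (hCQ : centralizer (Q : Set H) ≤ Q)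
    (hQmax : ∀ K : Subgroup H, K.Normal → IsPGroup p K → K ≤ Q)
    (a1 : H) (hap : a1 ^ p ∈ Q) (htr : ∀ q ∈ Q, q * a1 * q⁻¹ * a1⁻¹ ∈ zpowers (a1 ^ p))
    (ha1 : a1 ∉ Q) : p = 2 ∧ Cfsg.Involves (Equiv.Perm (Fin 4)) H := by
  haveI hΦn : ((frattini ↥Q).map Q.subtype).Normal := inferInstance
  obtain ⟨Φ, hΦ⟩ : ∃ Φ : Subgroup H, Φ = (frattini ↥Q).map Q.subtype := ⟨_, rfl⟩
  haveI hΦn' : Φ.Normal := by rw [hΦ]; exact hΦn
  haveI hVn : (Q.map (QuotientGroup.mk' Φ)).Normal :=
    hQn.map _ (QuotientGroup.mk'_surjective Φ)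
  have hVc := map_comm Q hQp Φ hΦ
  have hVp := map_pow_eq_one Q hQp Φ hΦ
  have hCV := map_centralizer_le Q hQp Φ hΦ hCQ hQmax
  have hOp := map_max Q hQp Φ hΦ hQmax
  have hap' : ((QuotientGroup.mk' Φ) a1) ^ p ∈ Q.map (QuotientGroup.mk' Φ) := by
    rw [← map_pow]; exact mem_map_of_mem _ hap
  have htr' : ∀ v ∈ Q.map (QuotientGroup.mk' Φ),
      v * (QuotientGroup.mk' Φ) a1 * v⁻¹ * ((QuotientGroup.mk' Φ) a1)⁻¹ ∈
        zpowers (((QuotientGroup.mk' Φ) a1) ^ p) := by
    rintro _ ⟨q, hq, rfl⟩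
    obtain ⟨k, hk⟩ := mem_zpowers_iff.mp (htr q hq)
    rw [mem_zpowers_iff]
    refine ⟨k, ?_⟩
    rw [← map_pow, ← map_zpow, hk, map_mul, map_mul, map_mul, map_inv, map_inv]
  have haV : (QuotientGroup.mk' Φ) a1 ∉ Q.map (QuotientGroup.mk' Φ) :=
    fun h => ha1 (mem_of_map_mem Q Φ hΦ h)
  by_cases hp2 : p = 2
  · refine ⟨hp2, ?_⟩
    subst hp2
    exact S4Sec.involves_of_quotient Φ (core_even (Q.map (QuotientGroup.mk' Φ)) hVc hVp hCV hOp
      ((QuotientGroup.mk' Φ) a1) hap' htr' haV)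
  · exact absurd (core_odd hp2 (Q.map (QuotientGroup.mk' Φ)) hVc hVp hCV hOp
      ((QuotientGroup.mk' Φ) a1) hap' htr') haV

end reduction

section final

universe u

/-- **Cyclic normal subgroups of Sylow subgroups** of `p`-solvable groups lie in `O_{p',p}`. -/
theorem cyclic_normal_le {G : Type u} [Group G] [Finite G] {p : ℕ} [hp : Fact p.Prime]
    (hG : Cfsg.IsPSolvable p G) (P : Sylow p G) (A : Subgroup G) (hAP : A ≤ (P : Subgroup G))
    (hAn : (P : Subgroup G) ≤ normalizer (A : Set G)) (hA : IsCyclic A)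
    (h : p ≠ 2 ∨ ¬ Cfsg.Involves (Equiv.Perm (Fin 4)) G) : A ≤ Cfsg.pPrimePCore p G := by
  classical
  obtain ⟨π, hπ⟩ : ∃ π : G →* G ⧸ Cfsg.pPrimeCore p G,
      π = QuotientGroup.mk' (Cfsg.pPrimeCore p G) := ⟨_, rfl⟩
  have hπs : Function.Surjective π := by rw [hπ]; exact QuotientGroup.mk'_surjective _
  have hHsolv : Cfsg.IsPSolvable p (G ⧸ Cfsg.pPrimeCore p G) :=
    Cfsg.Agent.Helper23.PSolv.isPSolvable_quotient _ hG
  have hO : Cfsg.pPrimeCore p (G ⧸ Cfsg.pPrimeCore p G) = ⊥ :=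
    Cfsg.Agent.Helper23.PSolv.pPrimeCore_quotient_pPrimeCore p
  have hCQ := Cfsg.Agent.Helper23.PSolv.centralizer_pCore_le hHsolv hO
  obtain ⟨Q, hQ⟩ : ∃ Q : Subgroup (G ⧸ Cfsg.pPrimeCore p G),
      Q = Cfsg.pCore p (G ⧸ Cfsg.pPrimeCore p G) := ⟨_, rfl⟩
  rw [← hQ] at hCQ
  haveI hQn : Q.Normal := by rw [hQ]; exact Cfsg.pCore_normal p _
  have hQp : IsPGroup p ↥Q := by rw [hQ]; exact Cfsg.Agent.Helper10.pCore_isPGroup p
  have hQmax : ∀ K : Subgroup (G ⧸ Cfsg.pPrimeCore p G), K.Normal → IsPGroup p K → K ≤ Q := by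
    intro K hKn hKp
    rw [hQ]
    exact le_sSup ⟨hKn, hKp⟩
  have hgoal : Cfsg.pPrimePCore p G = Q.comap π := by rw [hQ, hπ]; rfl
  rw [hgoal]
  obtain ⟨a0, ha0⟩ := hA.exists_generator
  by_contra hnot
  have hα : π (a0 : G) ∉ Q := by
    intro hin
    apply hnot
    intro x hx
    obtain ⟨k, hk⟩ := mem_zpowers_iff.mp (ha0 ⟨x, hx⟩)
    have hx' : x = (a0 : G) ^ k := by
      have := congrArg (fun z : ↥A => (z : G)) hk
      simpa using this.symm
    rw [mem_comap, hx', map_zpow]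
    exact Q.zpow_mem hin k
  obtain ⟨k0, hk0⟩ := P.isPGroup' ⟨(a0 : G), hAP a0.2⟩
  have hk0' : (a0 : G) ^ p ^ k0 = 1 := by
    have := congrArg (fun z : ↥(P : Subgroup G) => (z : G)) hk0
    simpa using this
  have hex : ∃ i : ℕ, (π (a0 : G)) ^ p ^ i ∈ Q :=
    ⟨k0, by rw [← map_pow, hk0', map_one]; exact Q.one_mem⟩
  have hmin : ∀ {m : ℕ}, m < Nat.find hex → ¬ (π (a0 : G)) ^ p ^ m ∈ Q :=
    fun {m} hm => Nat.find_min hex hm
  have hspec := Nat.find_spec hex
  have hi0 : Nat.find hex ≠ 0 := by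
    intro h0
    rw [h0, pow_zero, pow_one] at hspec
    exact hα hspec
  obtain ⟨i, hi⟩ := Nat.exists_eq_succ_of_ne_zero hi0
  obtain ⟨a1, ha1eq⟩ : ∃ a1, a1 = (π (a0 : G)) ^ p ^ i := ⟨_, rfl⟩
  have ha1 : a1 ∉ Q := by rw [ha1eq]; exact hmin (by rw [hi]; exact Nat.lt_succ_self i)
  have hap : a1 ^ p ∈ Q := by
    rw [ha1eq, ← pow_mul, ← pow_succ, ← Nat.succ_eq_add_one, ← hi]
    exact hspec
  have hQP : Q ≤ (P : Subgroup G).map π := by
    have := Cfsg.Agent.Helper23.PSolv.normal_pGroup_le_sylow Q hQp (P.mapSurjective hπs)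
    rwa [Sylow.coe_mapSurjective] at this
  have htr : ∀ q ∈ Q, q * a1 * q⁻¹ * a1⁻¹ ∈ zpowers (a1 ^ p) := by
    intro q hq
    obtain ⟨s, hs, rfl⟩ := hQP hq
    have hconj : s * (a0 : G) * s⁻¹ ∈ A := (mem_normalizer_iff.mp (hAn hs) (a0 : G)).mp a0.2
    obtain ⟨k, hk⟩ := mem_zpowers_iff.mp (ha0 ⟨_, hconj⟩)
    have hk' : (a0 : G) ^ k = s * (a0 : G) * s⁻¹ := by
      have := congrArg (fun z : ↥A => (z : G)) hk
      simpa using this
    have h1 : π s * π (a0 : G) * (π s)⁻¹ = (π (a0 : G)) ^ k := by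
      rw [← map_inv, ← map_mul, ← map_mul, ← hk', map_zpow]
    have h2 : π s * a1 * (π s)⁻¹ = a1 ^ k := by
      rw [ha1eq, ← conj_pow, h1, ← zpow_natCast, ← zpow_natCast, ← zpow_mul, ← zpow_mul, mul_comm]
    have h3 : π s * a1 * (π s)⁻¹ * a1⁻¹ = a1 ^ (k - 1) := by rw [h2, zpow_sub_one]
    have h4 : a1 ^ (k - 1) ∈ Q := by
      rw [← h3]
      have : π s * a1 * (π s)⁻¹ * a1⁻¹ = π s * (a1 * (π s)⁻¹ * a1⁻¹) := by group
      rw [this]
      exact Q.mul_mem hq (hQn.conj_mem _ (Q.inv_mem hq) a1)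
    have h5 : (p : ℤ) ∣ k - 1 := by
      by_contra hnd
      obtain ⟨k', m, hm⟩ := PowerTransv.exists_inv_mod (k - 1) hnd
      apply ha1
      have e : a1 = (a1 ^ (k - 1)) ^ k' * ((a1 ^ p) ^ m)⁻¹ := by
        rw [← zpow_mul, ← zpow_natCast a1 p, ← zpow_mul, ← zpow_neg, ← zpow_add]
        have : (k - 1) * k' + -(↑p * m) = 1 := by linarith
        rw [this, zpow_one]
      rw [e]
      exact Q.mul_mem (Q.zpow_mem h4 _) (Q.inv_mem (Q.zpow_mem hap _))
    obtain ⟨m, hm⟩ := h5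
    rw [h3, hm, mem_zpowers_iff]
    exact ⟨m, by rw [← zpow_natCast a1 p, ← zpow_mul]⟩
  obtain ⟨hp2, hinv⟩ := mem_or_involves Q hQp hCQ hQmax a1 hap htr ha1
  rcases h with h | h
  · exact h hp2
  · exact h (S4Sec.involves_of_quotient _ hinv)

end final

end Cfsg.Agent.Helper14.CycNormal
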