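import Mathlib
import Cfsg.Prelude.Def_Local
import Cfsg.Agent.Lib.Helper7.Layer6
import Cfsg.Agent.Lib.Helper7.Layer3
import Cfsg.Agent.Lib.Helper1.CommutatorBasic
import Cfsg.Agent.Lib.Helper1.Coprime
import Cfsg.Agent.S0026

/-!
# A `p`-group acting on a product of quasisimple groups and a `p'`-group (helper14)
-/

set_option autoImplicit false

namespace Cfsg.Agent.Helper14

open Subgroup
open scoped commutatorElement Pointwise

variable {G : Type*} [Group G]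

/-- a quasisimple subgroup is perfect (ambient form) -/
theorem commutator_self_of_isQuasisimple {K : Subgroup G} (hK : Cfsg.IsQuasisimple ↥K) :
    ⁅K, K⁆ = K := by
  haveI := hK.1
  exact Subgroup.commutator_eq_self

/-- proper normal subgroups of a quasisimple subgroup are central (ambient form) -/
theorem commutator_inf_eq_bot_of_isQuasisimple {K N : Subgroup G} (hK : Cfsg.IsQuasisimple ↥K)
    (hN : K ≤ normalizer (N : Set G)) (hKN : ¬ K ≤ N) : ⁅K ⊓ N, K⁆ = ⊥ := by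
  have hn : ((K ⊓ N).subgroupOf K).Normal := by
    rw [Subgroup.normal_subgroupOf_iff_le_normalizer inf_le_left]
    exact le_trans (le_inf Subgroup.le_normalizer hN) Subgroup.inf_normalizer_le_normalizer_inf
  rcases Cfsg.Agent.Helper7.quasisimple_normal_eq_top_or_le_center hK ((K ⊓ N).subgroupOf K)
    with h | h
  · exfalso
    rw [Subgroup.subgroupOf_eq_top] at h
    exact hKN (h.trans inf_le_right)
  · rw [Subgroup.commutator_eq_bot_iff_le_centralizer]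
    intro x hx
    rw [Subgroup.mem_centralizer_iff]
    intro y hy
    have hx' : (⟨x, hx.1⟩ : K) ∈ center ↥K :=
      h (show (⟨x, hx.1⟩ : K) ∈ (K ⊓ N).subgroupOf K from hx)
    have := (Subgroup.mem_center_iff.mp hx') ⟨y, hy⟩
    exact congrArg Subtype.val this

/-- **Key dichotomy.** Let `𝒦` be a `Y`-invariant family of pairwise commuting quasisimple
subgroups of `L`, where `Y` normalizes `L`. Then each member of `𝒦` lies in `[L, Y]` or is
centralized by `Y`. -/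
theorem le_commutator_or_le_centralizer {L Y : Subgroup G} (𝒦 : Set (Subgroup G))
    (hK_le : ∀ K ∈ 𝒦, K ≤ L)
    (hK_qs : ∀ K ∈ 𝒦, Cfsg.IsQuasisimple ↥K)
    (hK_comm : ∀ K ∈ 𝒦, ∀ K' ∈ 𝒦, K ≠ K' → ⁅K, K'⁆ = ⊥)
    (hK_conj : ∀ K ∈ 𝒦, ∀ y ∈ Y, MulAut.conj y • K ∈ 𝒦)
    {K : Subgroup G} (hK : K ∈ 𝒦) : K ≤ ⁅L, Y⁆ ∨ K ≤ centralizer (Y : Set G) := by
  set N := ⁅L, Y⁆ with hN
  have hLN : L ≤ normalizer (N : Set G) := Cfsg.Agent.Helper1.le_normalizer_commutator_left L Y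
  have hKL : K ≤ L := hK_le K hK
  have hperf : ⁅K, K⁆ = K := commutator_self_of_isQuasisimple (hK_qs K hK)
  by_cases hU : ∀ u ∈ Y, MulAut.conj u • K = K
  · by_cases hKN : K ≤ N
    · exact Or.inl hKN
    · right
      have hYK : Y ≤ normalizer (K : Set G) := fun u hu =>
        Subgroup.mem_normalizer_iff_map_conj_eq.mpr (hU u hu)
      have h3 : ⁅K, Y⁆ ≤ K ⊓ N := by
        apply le_inf
        · exact (Subgroup.le_normalizer_iff_commutator_le_left).mp hYK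
        · exact Subgroup.commutator_mono hKL le_rfl
      have h4 : ⁅⁅K, Y⁆, K⁆ = ⊥ := by
        rw [eq_bot_iff, ← commutator_inf_eq_bot_of_isQuasisimple (hK_qs K hK) (hKL.trans hLN) hKN]
        exact Subgroup.commutator_mono h3 le_rfl
      have h5 : ⁅⁅Y, K⁆, K⁆ = ⊥ := by rw [Subgroup.commutator_comm Y K]; exact h4
      have h6 : ⁅⁅K, K⁆, Y⁆ = ⊥ := Subgroup.commutator_commutator_eq_bot_of_rotate h4 h5
      rw [hperf, Subgroup.commutator_eq_bot_iff_le_centralizer] at h6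
      exact h6
  · left
    obtain ⟨u, hU'⟩ := not_forall.mp hU
    obtain ⟨hu, hne⟩ := Classical.not_imp.mp hU'
    have hK' : MulAut.conj u • K ∈ 𝒦 := hK_conj K hK u hu
    have hcomm := hK_comm _ hK' K hK hne
    rw [Subgroup.commutator_eq_bot_iff_le_centralizer] at hcomm
    rw [← hperf, Subgroup.commutator_le]
    intro l hl m hm
    have hx : ⁅l, u⁆ ∈ N := Subgroup.commutator_mem_commutator (hKL hl) hu
    have hm' : m * ⁅l, u⁆⁻¹ * m⁻¹ ∈ N := by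
      have := (Subgroup.mem_normalizer_iff.mp (hLN (hKL hm))) (⁅l, u⁆⁻¹)
      exact this.mp (N.inv_mem hx)
    have h7 : ⁅⁅l, u⁆, m⁆ ∈ N := by
      have : ⁅⁅l, u⁆, m⁆ = ⁅l, u⁆ * (m * ⁅l, u⁆⁻¹ * m⁻¹) := by
        simp only [commutatorElement_def]; group
      rw [this]
      exact N.mul_mem hx hm'
    have hl' : u * l⁻¹ * u⁻¹ ∈ MulAut.conj u • K :=
      Cfsg.Agent.Helper7.conj_mem_conj_smul K u l⁻¹ (K.inv_mem hl)
    have hc : m * (u * l⁻¹ * u⁻¹) = (u * l⁻¹ * u⁻¹) * m :=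
      Subgroup.mem_centralizer_iff.mp (hcomm hl') m hm
    have h8 : ⁅⁅l, u⁆, m⁆ = ⁅l, m⁆ := by
      simp only [commutatorElement_def]
      have e1 : l * u * l⁻¹ * u⁻¹ = l * (u * l⁻¹ * u⁻¹) := by group
      have e2 : (l * u * l⁻¹ * u⁻¹)⁻¹ = (u * l⁻¹ * u⁻¹)⁻¹ * l⁻¹ := by group
      rw [e2, e1]
      have hc' : (u * l⁻¹ * u⁻¹) * m * (u * l⁻¹ * u⁻¹)⁻¹ = m := by
        rw [← hc]; group
      calc l * (u * l⁻¹ * u⁻¹) * m * ((u * l⁻¹ * u⁻¹)⁻¹ * l⁻¹) * m⁻¹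
          = l * ((u * l⁻¹ * u⁻¹) * m * (u * l⁻¹ * u⁻¹)⁻¹) * l⁻¹ * m⁻¹ := by group
        _ = l * m * l⁻¹ * m⁻¹ := by rw [hc']
    rw [← h8]
    exact h7

/-- If `L = [L, Y] C_L(Y)` then `[L, Y] = [L, Y, Y]`. -/
theorem commutator_eq_of_sup_eq {L Y : Subgroup G}
    (h : L ≤ ⁅L, Y⁆ ⊔ (L ⊓ centralizer (Y : Set G))) : ⁅L, Y⁆ = ⁅⁅L, Y⁆, Y⁆ := by
  set N := ⁅L, Y⁆ with hN
  have hLN : L ≤ normalizer (N : Set G) := Cfsg.Agent.Helper1.le_normalizer_commutator_left L Y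
  have hYN : Y ≤ normalizer (N : Set G) := Cfsg.Agent.Helper1.le_normalizer_commutator_right L Y
  apply le_antisymm _ (Cfsg.Agent.Helper1.commutator_le_of_le_normalizer hYN)
  rw [hN]
  refine (Subgroup.commutator_le (H₁ := L) (H₂ := Y)).mpr ?_
  intro k hk a ha
  obtain ⟨m, hm, c, hc, rfl⟩ :=
    Cfsg.Agent.Helper1.exists_mul_of_mem_sup (inf_le_left.trans hLN) (h hk)
  have hca : a * c = c * a := (Subgroup.mem_centralizer_iff.mp (Subgroup.mem_inf.mp hc).2) a ha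
  have : ⁅m * c, a⁆ = ⁅m, a⁆ := by
    simp only [commutatorElement_def]
    calc m * c * a * (m * c)⁻¹ * a⁻¹ = m * (c * a) * c⁻¹ * m⁻¹ * a⁻¹ := by group
      _ = m * (a * c) * c⁻¹ * m⁻¹ * a⁻¹ := by rw [hca]
      _ = m * a * m⁻¹ * a⁻¹ := by group
  rw [this]
  exact Subgroup.commutator_mem_commutator hm ha

/-- **Abstract splitting.** `L` is generated by a `Y`-invariant family `𝒦` of pairwise commuting
quasisimple subgroups and a `Y`-invariant `p'`-subgroup `F₁`, `Y` a `p`-group normalizing `L`.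
Then `L = [L, Y] C_L(Y)` and `[L, Y] = [L, Y, Y]`. -/
theorem abstract_splitting [Finite G] {p : ℕ} [Fact p.Prime] {L Y F₁ : Subgroup G}
    (𝒦 : Set (Subgroup G)) (hY : IsPGroup p ↥Y)
    (hYL : Y ≤ normalizer (L : Set G))
    (hK_le : ∀ K ∈ 𝒦, K ≤ L)
    (hK_qs : ∀ K ∈ 𝒦, Cfsg.IsQuasisimple ↥K)
    (hK_comm : ∀ K ∈ 𝒦, ∀ K' ∈ 𝒦, K ≠ K' → ⁅K, K'⁆ = ⊥)
    (hK_conj : ∀ K ∈ 𝒦, ∀ y ∈ Y, MulAut.conj y • K ∈ 𝒦)
    (hF₁L : F₁ ≤ L) (hYF₁ : Y ≤ normalizer (F₁ : Set G)) (hF₁p : (Nat.card ↥F₁).Coprime p)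
    (hL : L ≤ sSup 𝒦 ⊔ F₁) :
    ⁅L, Y⁆ ⊔ (L ⊓ centralizer (Y : Set G)) = L ∧ ⁅L, Y⁆ = ⁅⁅L, Y⁆, Y⁆ := by
  have hNL : ⁅L, Y⁆ ≤ L := Cfsg.Agent.Helper1.commutator_le_of_le_normalizer hYL
  have key : L ≤ ⁅L, Y⁆ ⊔ (L ⊓ centralizer (Y : Set G)) := by
    refine hL.trans (sup_le (sSup_le ?_) ?_)
    · intro K hK
      rcases le_commutator_or_le_centralizer 𝒦 hK_le hK_qs hK_comm hK_conj hK with h | h
      · exact h.trans le_sup_left
      · exact (le_inf (hK_le K hK) h).trans le_sup_right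
    · have hcop : (Nat.card ↥Y).Coprime (Nat.card ↥F₁) := by
        obtain ⟨n, hn⟩ := hY.exists_card_eq
        rw [hn]
        exact (Nat.Coprime.pow_right n hF₁p).symm
      haveI : Group.IsNilpotent ↥Y := hY.isNilpotent
      have h1 := Cfsg.Agent.S0026.result Y F₁ hYF₁ hcop (Or.inl inferInstance)
      calc F₁ = ⁅F₁, Y⁆ ⊔ (F₁ ⊓ centralizer (Y : Set G)) := h1.symm
        _ ≤ ⁅L, Y⁆ ⊔ (L ⊓ centralizer (Y : Set G)) :=
          sup_le_sup (Subgroup.commutator_mono hF₁L le_rfl) (inf_le_inf_right _ hF₁L)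
  exact ⟨le_antisymm (sup_le hNL inf_le_left) key, commutator_eq_of_sup_eq key⟩

end Cfsg.Agent.Helper14
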