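import Mathlib
import Cfsg.Prelude.Def_Local
import Cfsg.Agent.Lib.Helper14.FStarAct
import Cfsg.Agent.Lib.Helper7.Layer
import Cfsg.Agent.Lib.Helper7.Layer4
import Cfsg.Agent.Lib.Helper7.FStar
import Cfsg.Agent.Lib.Helper7.FStar2
import Cfsg.Agent.Lib.Helper7.Cores
import Cfsg.Agent.Lib.Helper1.CoprimeAbelian

/-!
# A `p`-group acting on `F*(H)` when `O_p(H) = 1` (helper14)
-/

set_option autoImplicit false

namespace Cfsg.Agent.Helper14

open Subgroup
open scoped commutatorElement Pointwise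

variable {T : Type*} [Group T]

/-- In a finite group with `O_p = 1`, nilpotent normal subgroups have order prime to `p`. -/
theorem not_dvd_card_of_isNilpotent_of_pCore_eq_bot [Finite T] {p : ℕ} [Fact p.Prime]
    (hO : Cfsg.pCore p T = ⊥) (N : Subgroup T) [N.Normal] [Group.IsNilpotent ↥N] :
    ¬ p ∣ Nat.card ↥N := by
  intro hdvd
  obtain S : Sylow p ↥N := default
  haveI : (S : Subgroup ↥N).Characteristic := S.characteristic_of_normal inferInstance
  haveI : ((S : Subgroup ↥N).map N.subtype).Normal := ConjAct.normal_of_characteristic_of_normal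
  have hle : (S : Subgroup ↥N).map N.subtype ≤ Cfsg.pCore p T :=
    le_sSup ⟨inferInstance, S.isPGroup'.map _⟩
  rw [hO, le_bot_iff] at hle
  have hS : (S : Subgroup ↥N) = ⊥ :=
    (Subgroup.map_eq_bot_iff_of_injective _ N.subtype_injective).mp hle
  exact S.ne_bot_of_dvd_card hdvd hS

/-- `|F(T)|` is prime to `p` when `O_p(T) = 1`. -/
theorem card_fittingSubgroup_coprime [Finite T] {p : ℕ} [Fact p.Prime]
    (hO : Cfsg.pCore p T = ⊥) : (Nat.card ↥(Cfsg.fittingSubgroup T)).Coprime p := by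
  haveI : (Cfsg.fittingSubgroup T).Normal := Cfsg.Agent.Helper7.fittingSubgroup_normal'
  haveI : Group.IsNilpotent ↥(Cfsg.fittingSubgroup T) :=
    Cfsg.Agent.Helper7.fittingSubgroup_isNilpotent
  exact ((Nat.Prime.coprime_iff_not_dvd Fact.out).mpr
    (not_dvd_card_of_isNilpotent_of_pCore_eq_bot hO _)).symm

theorem conj_smul_eq_of_mem_normalizer {L : Subgroup T} {y : T}
    (hy : y ∈ normalizer (L : Set T)) : MulAut.conj y • L = L :=
  Subgroup.mem_normalizer_iff_map_conj_eq.mp hy

/-- **Splitting for subnormal subgroups of `F*(T)`**, `O_p(T) = 1`, `Y` a `p`-subgroup. -/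
theorem splitting_of_subnormal [Finite T] {p : ℕ} [Fact p.Prime]
    (hO : Cfsg.pCore p T = ⊥) {Y L : Subgroup T} (hY : IsPGroup p ↥Y)
    (hLsn : L.IsSubnormal) (hLF : L ≤ Cfsg.generalizedFittingSubgroup T)
    (hYL : Y ≤ normalizer (L : Set T)) :
    ⁅L, Y⁆ ⊔ (L ⊓ centralizer (Y : Set T)) = L ∧ ⁅L, Y⁆ = ⁅⁅L, Y⁆, Y⁆ := by
  haveI : (Cfsg.fittingSubgroup T).Normal := Cfsg.Agent.Helper7.fittingSubgroup_normal'
  refine abstract_splitting (F₁ := Cfsg.fittingSubgroup T ⊓ L)
    {K | Cfsg.IsComponent K ∧ K ≤ L} hY hYL (fun K hK => hK.2) (fun K hK => hK.1.2)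
    (fun K hK K' hK' hne => Cfsg.Agent.Helper7.component_commutator_eq_bot_of_ne hK.1 hK'.1 hne)
    ?_ inf_le_right ?_ ?_ ?_
  · intro K hK y hy
    refine ⟨Cfsg.Agent.Helper7.isComponent_conj_smul hK.1 y, ?_⟩
    rw [← conj_smul_eq_of_mem_normalizer (hYL hy)]
    exact Subgroup.pointwise_smul_le_pointwise_smul_iff.mpr hK.2
  · refine le_trans (le_inf ?_ hYL) Subgroup.inf_normalizer_le_normalizer_inf
    rw [Subgroup.normalizer_eq_top]
    exact le_top
  · exact Nat.Coprime.coprime_dvd_left (Subgroup.card_dvd_of_le inf_le_left)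
      (card_fittingSubgroup_coprime hO)
  · have h1 := Cfsg.Agent.Helper7.le_layer_sup_fitting_of_subnormal hLsn hLF
    rwa [Cfsg.Agent.Helper7.map_subtype_layer_eq hLsn] at h1

/-- Every component of `T` lies in `[F*(T), Y]` or is centralized by `Y`. -/
theorem component_le_commutator_or_le_centralizer [Finite T] {Y K : Subgroup T}
    (hK : Cfsg.IsComponent K) :
    K ≤ ⁅Cfsg.generalizedFittingSubgroup T, Y⁆ ∨ K ≤ centralizer (Y : Set T) := by
  refine le_commutator_or_le_centralizer (L := Cfsg.generalizedFittingSubgroup T)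
    {K | Cfsg.IsComponent K}
    (fun K hK => (Cfsg.Agent.Helper7.component_le_layer hK).trans
      Cfsg.Agent.Helper7.layer_le_generalizedFittingSubgroup)
    (fun K hK => hK.2)
    (fun K hK K' hK' hne => Cfsg.Agent.Helper7.component_commutator_eq_bot_of_ne hK hK' hne)
    (fun K hK y _ => Cfsg.Agent.Helper7.isComponent_conj_smul hK y) hK

/-- A subgroup with `[N, Y] = N` lies in every subnormal subgroup containing `Y`. -/
theorem le_of_commutator_eq_of_isSubnormal {K N Y : Subgroup T} (hK : K.IsSubnormal)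
    (hYK : Y ≤ K) (hN : ⁅N, Y⁆ = N) : N ≤ K := by
  induction hK with
  | top => exact le_top
  | step H K hHK hK hn ih =>
    have h1 : N ≤ K := ih (hYK.trans hHK)
    rw [← hN]
    have h2 : K ≤ normalizer (H : Set T) :=
      (Subgroup.normal_subgroupOf_iff_le_normalizer hHK).mp hn
    calc ⁅N, Y⁆ ≤ ⁅K, H⁆ := Subgroup.commutator_mono h1 hYK
      _ = ⁅H, K⁆ := Subgroup.commutator_comm _ _
      _ ≤ H := Cfsg.Agent.Helper1.commutator_le_of_le_normalizer h2

/-- `F*(K) ≤ F*(T)` for `K` subnormal. -/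
theorem map_fstar_le_of_isSubnormal [Finite T] {K : Subgroup T} (hK : K.IsSubnormal) :
    (Cfsg.generalizedFittingSubgroup ↥K).map K.subtype ≤ Cfsg.generalizedFittingSubgroup T := by
  unfold Cfsg.generalizedFittingSubgroup
  rw [Subgroup.map_sup, Cfsg.Agent.Helper7.map_subtype_fittingSubgroup_eq hK]
  exact sup_le_sup (Cfsg.Agent.Helper7.map_subtype_layer_le hK) inf_le_left

/-- `F*(T) ∩ K ≤ F*(K)` for `K` subnormal. -/
theorem fstar_inf_le_of_isSubnormal [Finite T] {K : Subgroup T} (hK : K.IsSubnormal) :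
    Cfsg.generalizedFittingSubgroup T ⊓ K ≤
      (Cfsg.generalizedFittingSubgroup ↥K).map K.subtype := by
  haveI : (Cfsg.generalizedFittingSubgroup T).Normal :=
    Cfsg.Agent.Helper7.generalizedFittingSubgroup_normal
  set X := Cfsg.generalizedFittingSubgroup T ⊓ K with hX
  have hXsn : X.IsSubnormal :=
    (Cfsg.Agent.Helper7.generalizedFittingSubgroup_normal (G := T)).isSubnormal.inf hK
  have h1 := Cfsg.Agent.Helper7.le_layer_sup_fitting_of_subnormal hXsn
    (inf_le_left : X ≤ Cfsg.generalizedFittingSubgroup T)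
  refine h1.trans ?_
  conv_rhs => unfold Cfsg.generalizedFittingSubgroup
  rw [Subgroup.map_sup, Cfsg.Agent.Helper7.map_subtype_fittingSubgroup_eq hK]
  exact sup_le_sup (Cfsg.Agent.Helper7.map_subtype_layer_mono hXsn hK inf_le_right)
    (inf_le_inf_left _ inf_le_right)

/-- A `p`-subgroup centralizing `F*(T)` is trivial when `O_p(T) = 1`. -/
theorem eq_bot_of_isPGroup_of_le_centralizer_fstar [Finite T] {p : ℕ} [Fact p.Prime]
    (hO : Cfsg.pCore p T = ⊥) {P : Subgroup T} (hP : IsPGroup p ↥P)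
    (h : P ≤ centralizer (Cfsg.generalizedFittingSubgroup T : Set T)) : P = ⊥ := by
  haveI hXn : (Cfsg.generalizedFittingSubgroup T).Normal :=
    Cfsg.Agent.Helper7.generalizedFittingSubgroup_normal
  set X := Cfsg.generalizedFittingSubgroup T with hX
  set Z := X ⊓ centralizer (X : Set T) with hZ
  have hPZ : P ≤ Z := le_inf (h.trans Cfsg.Agent.Helper7.centralizer_generalizedFittingSubgroup_le) h
  haveI hZn : Z.Normal := Subgroup.normal_inf_normal _ _
  -- `P` is normal in `Z` as `Z` is abelian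
  have hn : (P.subgroupOf Z).Normal := by
    rw [Subgroup.normal_subgroupOf_iff_le_normalizer hPZ]
    intro z hz
    have hzc : z ∈ centralizer (P : Set T) := by
      rw [Subgroup.mem_centralizer_iff]
      intro x hx
      exact ((Subgroup.mem_centralizer_iff.mp hz.2) x (hPZ hx).1)
    exact Cfsg.Agent.Helper1.centralizer_le_normalizer P hzc
  have hsn : P.IsSubnormal := Subgroup.IsSubnormal.step P Z hPZ hZn.isSubnormal hn
  have := Cfsg.Agent.Helper7.subnormal_isPGroup_le_pCore p P hsn hP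
  rwa [hO, le_bot_iff] at this

end Cfsg.Agent.Helper14
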