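import Mathlib
import Cfsg.Agent.Lib.Helper14.AsymH3
import Cfsg.Agent.Lib.Helper7.FStar

/-!
# Subgroups normalized by the preimage of `F*(X/N)` (helper14)

If `O_p(X/N) = 1`, a subgroup `D` of `X` that is a `p`-group modulo `N` and is normalized by the
preimage of `F*(X/N)` lies in `N`.
-/

set_option autoImplicit false

namespace Cfsg.Agent.Helper14

open Cfsg

/-- abstract form -/
theorem le_of_powCond_of_fstar_normalizes {X : Type*} [Group X] [Finite X] {p : ℕ} [Fact p.Prime]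
    (N : Subgroup X) [N.Normal] (hO : pCore p (X ⧸ N) = ⊥) (D : Subgroup X)
    (hFD : (generalizedFittingSubgroup (X ⧸ N)).comap (QuotientGroup.mk' N) ≤
      Subgroup.normalizer (D : Set X))
    (hDp : PowCond p D N) : D ≤ N := by
  set π := QuotientGroup.mk' N with hπ
  have hπs : Function.Surjective π := QuotientGroup.mk'_surjective N
  set Fs := generalizedFittingSubgroup (X ⧸ N) with hFs
  haveI hFsn : Fs.Normal := Cfsg.Agent.Helper7.generalizedFittingSubgroup_normal
  set Dq := D.map π with hDq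
  have hDqp : IsPGroup p Dq := (powCond_iff_isPGroup_map D N).mp hDp
  have hFsDq : Fs ≤ Subgroup.normalizer (Dq : Set (X ⧸ N)) := by
    calc Fs = (Fs.comap π).map π := (Subgroup.map_comap_eq_self_of_surjective hπs Fs).symm
      _ ≤ (Subgroup.normalizer (D : Set X)).map π := Subgroup.map_mono hFD
      _ ≤ Subgroup.normalizer (Dq : Set (X ⧸ N)) := Subgroup.le_normalizer_map π
  set W := Dq ⊓ Fs with hW
  have hWFs : W ≤ Fs := inf_le_right
  have hFsW : Fs ≤ Subgroup.normalizer (W : Set (X ⧸ N)) :=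
    le_normalizer_inf hFsDq Subgroup.le_normalizer
  have hWp : IsPGroup p W := hDqp.to_le inf_le_left
  have hW1 : W ≤ pCoreOf p Fs := le_pCoreOf hWFs hFsW hWp
  have hPn : (pCoreOf p Fs).Normal := by
    rw [← Subgroup.normalizer_eq_top_iff, eq_top_iff]
    refine le_trans ?_ (normalizer_le_normalizer_pCoreOf p Fs)
    rw [Subgroup.normalizer_eq_top_iff.mpr hFsn]
  have hW2 : W = ⊥ := by
    rw [eq_bot_iff, ← hO]
    exact hW1.trans (le_pCore hPn (pCoreOf_isPGroup p Fs))
  have hDqC : Dq ≤ Subgroup.centralizer (Fs : Set (X ⧸ N)) := by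
    intro d hd
    rw [Subgroup.mem_centralizer_iff]
    intro f hf
    have h1 : d * f * d⁻¹ * f⁻¹ ∈ W := by
      refine Subgroup.mem_inf.mpr ⟨?_, ?_⟩
      · have h2 : f * d⁻¹ * f⁻¹ ∈ Dq :=
          (Subgroup.mem_normalizer_iff.mp (hFsDq hf) d⁻¹).mp (Dq.inv_mem hd)
        have e : d * f * d⁻¹ * f⁻¹ = d * (f * d⁻¹ * f⁻¹) := by group
        rw [e]
        exact Dq.mul_mem hd h2
      · exact Fs.mul_mem (hFsn.conj_mem f hf d) (Fs.inv_mem hf)
    rw [hW2, Subgroup.mem_bot] at h1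
    have e : f * d = (d * f * d⁻¹ * f⁻¹)⁻¹ * (d * f) := by group
    rw [e, h1, inv_one, one_mul]
  have hDqFs : Dq ≤ Fs :=
    hDqC.trans Cfsg.Agent.Helper7.centralizer_generalizedFittingSubgroup_le
  have hDq1 : Dq = ⊥ := by
    rw [eq_bot_iff, ← hW2]
    exact le_inf le_rfl hDqFs
  intro d hd
  have h1 : π d ∈ Dq := Subgroup.mem_map_of_mem _ hd
  rw [hDq1, Subgroup.mem_bot] at h1
  exact (QuotientGroup.eq_one_iff d).mp h1

/-- ambient form: `F` the preimage in `Md` of `F*(Md/C)`, where `O_p(Md/C) = 1` -/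
theorem le_of_powCond_of_fstar_normalizes_amb {G : Type*} [Group G] [Finite G] {p : ℕ} [Fact p.Prime]
    {Md C : Subgroup G} [hn : (C.subgroupOf Md).Normal]
    (hO : ∀ D : Subgroup G, D ≤ Md → Md ≤ Subgroup.normalizer (D : Set G) → PowCond p D C → D ≤ C)
    (F : Subgroup G)
    (hF : F = ((generalizedFittingSubgroup (↥Md ⧸ C.subgroupOf Md)).comap
      (QuotientGroup.mk' (C.subgroupOf Md))).map Md.subtype)
    {D : Subgroup G} (hDMd : D ≤ Md) (hFD : F ≤ Subgroup.normalizer (D : Set G))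
    (hDp : PowCond p D C) : D ≤ C := by
  have hO' : pCore p (↥Md ⧸ C.subgroupOf Md) = ⊥ := by
    apply pCore_quotient_eq_bot_of
    intro D' hD'n hD'p
    have h1 : D'.map Md.subtype ≤ C := by
      apply hO _ (Subgroup.map_subtype_le _) (le_normalizer_map_subtype_of_normal hD'n)
      rintro _ ⟨d, hd, rfl⟩
      obtain ⟨k, hk⟩ := hD'p d hd
      refine ⟨k, ?_⟩
      have := Subgroup.mem_subgroupOf.mp hk
      simpa using this
    intro d hd
    exact Subgroup.mem_subgroupOf.mpr (h1 ⟨d, hd, rfl⟩)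
  have hFD' : (generalizedFittingSubgroup (↥Md ⧸ C.subgroupOf Md)).comap
      (QuotientGroup.mk' (C.subgroupOf Md)) ≤
        Subgroup.normalizer ((D.subgroupOf Md : Subgroup ↥Md) : Set ↥Md) := by
    intro x hx
    have hxF : (x : G) ∈ F := by
      rw [hF]
      exact ⟨x, hx, rfl⟩
    have hxN := hFD hxF
    rw [Subgroup.mem_normalizer_iff] at hxN ⊢
    intro h
    rw [Subgroup.mem_subgroupOf, Subgroup.mem_subgroupOf]
    simpa using hxN (h : G)
  have hDp' : PowCond p (D.subgroupOf Md) (C.subgroupOf Md) := by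
    intro d hd
    obtain ⟨k, hk⟩ := hDp (d : G) (Subgroup.mem_subgroupOf.mp hd)
    refine ⟨k, ?_⟩
    rw [Subgroup.mem_subgroupOf]
    simpa using hk
  have h := le_of_powCond_of_fstar_normalizes (C.subgroupOf Md) hO' (D.subgroupOf Md) hFD' hDp'
  intro d hd
  exact Subgroup.mem_subgroupOf.mp (h (show (⟨d, hDMd hd⟩ : ↥Md) ∈ D.subgroupOf Md from
    Subgroup.mem_subgroupOf.mpr hd))

end Cfsg.Agent.Helper14
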