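import Mathlib
import Cfsg.Prelude.Def_FusionSystem
import Cfsg.Agent.Lib.Helper14.FusExtraF

/-!
# Abelian essential subgroups when `[S, S] ≤ Z(Q)` (helper14)
-/

set_option autoImplicit false

namespace Cfsg.Agent.Helper14.FusExtra

open Cfsg Cfsg.FusionSystem Cfsg.Agent.Helper25 Cfsg.Agent.Helper15.ConjAut

variable {Ω : Type*} [Group Ω] {S : Subgroup Ω}

theorem mem_normalizer_of_comm {Z E : Subgroup Ω} (hZE : Z ≤ E) (hES : E ≤ S)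
    (hcomm : ∀ a ∈ S, ∀ b ∈ S, a * b * a⁻¹ * b⁻¹ ∈ Z) {s : Ω} (hs : s ∈ S) :
    s ∈ Subgroup.normalizer (E : Set Ω) := by
  have key : ∀ t ∈ S, ∀ e ∈ E, t * e * t⁻¹ ∈ E := by
    intro t ht e he
    have h1 : t * e * t⁻¹ * e⁻¹ ∈ Z := hcomm t ht e (hES he)
    have : t * e * t⁻¹ = (t * e * t⁻¹ * e⁻¹) * e := by group
    rw [this]; exact E.mul_mem (hZE h1) he
  rw [Subgroup.mem_normalizer_iff]
  intro e
  constructor
  · exact fun he => key s hs e he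
  · intro h
    have := key s⁻¹ (S.inv_mem hs) _ h
    simpa [mul_assoc] using this

/-- an abelian essential subgroup `E` of `S` (with `[S, S] ≤ Z(Q)`) contains an element whose
centralizer in `S` is `E` -/
theorem exists_cent_le_of_abelian [Finite S] (p : ℕ) [Fact p.Prime] (hS : IsPGroup p S)
    (F : FusionSystem S) {Q E : Subgroup Ω} (hQ : IsExtraspecial p ↥Q)
    (hES : E ≤ S) (hCE : centralizerIn S E ≤ E)
    (hab : ∀ x ∈ E, ∀ y ∈ E, x * y = y * x) (hZE : zQ Q ≤ E)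
    (hcomm : ∀ a ∈ S, ∀ b ∈ S, a * b * a⁻¹ * b⁻¹ ∈ zQ Q)
    [hn : ((Inn E).subgroupOf (F.autGroup E)).Normal]
    (H : Subgroup (F.autGroup E ⧸ (Inn E).subgroupOf (F.autGroup E)))
    (hH : IsStronglyPEmbedded p H) : ∃ y ∈ E, ∀ s ∈ S, s * y = y * s → s ∈ E := by
  by_contra hcon
  push Not at hcon
  haveI : Finite E := finite_of_le_finite hES
  haveI : Finite (MulAut E) :=
    Finite.of_injective (fun α : MulAut E => (α : E → E)) DFunLike.coe_injective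
  obtain ⟨z₀, hz₀, hz₀1, hgen⟩ := exists_gen_zQ hQ
  have hz₀E : z₀ ∈ E := hZE hz₀
  set I := (Inn E).subgroupOf (F.autGroup E) with hI
  set T : Subgroup (F.autGroup E ⧸ I) :=
    ((autInducedBy S E).subgroupOf (F.autGroup E)).map (QuotientGroup.mk' I) with hT
  have hTp : IsPGroup p T := by
    have h1 : IsPGroup p (autInducedBy S E) := isPGroup_autInducedBy hS E
    exact (isPGroup_subgroupOf _ h1).map _
  have hnorm : ∀ q ∈ S, q ∈ Subgroup.normalizer (E : Set Ω) :=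
    fun q hq => mem_normalizer_of_comm hZE hES hcomm hq
  have hcmem : ∀ (q : Ω) (hq : q ∈ S), conjAut E q (hnorm q hq) ∈ F.autGroup E :=
    fun q hq => conjAut_mem_autGroup F hES hq (hnorm q hq)
  have hcT : ∀ (q : Ω) (hq : q ∈ S),
      QuotientGroup.mk' I ⟨conjAut E q (hnorm q hq), hcmem q hq⟩ ∈ T := by
    intro q hq
    refine Subgroup.mem_map.mpr ⟨_, ?_, rfl⟩
    refine Subgroup.mem_subgroupOf.mpr ?_
    exact (mem_autInducedBy_iff _).mpr ⟨q, hq, fun x => rfl⟩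
  have hcne : ∀ (q : Ω) (hq : q ∈ S), q ∉ E →
      QuotientGroup.mk' I ⟨conjAut E q (hnorm q hq), hcmem q hq⟩ ≠ 1 := by
    intro q hq hqE h1
    rw [QuotientGroup.mk'_apply, QuotientGroup.eq_one_iff, hI, Subgroup.mem_subgroupOf] at h1
    exact hqE (mem_of_conjAut_mem_inn hES hCE hq (hnorm q hq) h1)
  have hcz : ∀ (q : Ω) (hq : q ∈ S) (e : E), ∃ ξ : E, (ξ : Ω) ∈ zQ Q ∧
      conjAut E q (hnorm q hq) e = ξ * e := by
    intro q hq e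
    refine ⟨conjAut E q (hnorm q hq) e * e⁻¹, ?_, by group⟩
    show q * e * q⁻¹ * (e : Ω)⁻¹ ∈ zQ Q
    exact hcomm q hq e (hES e.2)
  apply false_of_commuting p hH T hTp
  intro g
  obtain ⟨γ, rfl⟩ := QuotientGroup.mk_surjective g
  set γ₀ : MulAut E := (γ : MulAut E) with hγ₀
  obtain ⟨q₁, hq₁, hq₁c, hq₁E⟩ := hcon _ (γ₀ ⟨z₀, hz₀E⟩).2
  obtain ⟨q₂, hq₂, hq₂c, hq₂E⟩ := hcon _ (γ₀⁻¹ ⟨z₀, hz₀E⟩).2
  refine ⟨_, hcT q₁ hq₁, _, hcT q₂ hq₂, hcne q₁ hq₁ hq₁E, hcne q₂ hq₂ hq₂E, ?_⟩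
  set c₁ := conjAut E q₁ (hnorm q₁ hq₁) with hc₁
  set c₂ := conjAut E q₂ (hnorm q₂ hq₂) with hc₂
  obtain ⟨τ, hτ⟩ : ∃ τ : MulAut E, τ = γ₀ * c₂ * γ₀⁻¹ := ⟨_, rfl⟩
  have hc₁fix : c₁ (γ₀ ⟨z₀, hz₀E⟩) = γ₀ ⟨z₀, hz₀E⟩ := by
    apply Subtype.ext
    show q₁ * ((γ₀ ⟨z₀, hz₀E⟩ : E) : Ω) * q₁⁻¹ = _
    rw [hq₁c]; group
  have hc₂fix : c₂ (γ₀⁻¹ ⟨z₀, hz₀E⟩) = γ₀⁻¹ ⟨z₀, hz₀E⟩ := by
    apply Subtype.ext
    show q₂ * ((γ₀⁻¹ ⟨z₀, hz₀E⟩ : E) : Ω) * q₂⁻¹ = _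
    rw [hq₂c]; group
  have hθfix : ∀ ζ : E, (ζ : Ω) ∈ zQ Q → c₁ (γ₀ ζ) = γ₀ ζ := by
    intro ζ hζ
    have h1 : (γ₀⁻¹ * c₁ * γ₀) ⟨z₀, hz₀E⟩ = ⟨z₀, hz₀E⟩ := by
      rw [MulAut.mul_apply, MulAut.mul_apply, hc₁fix, MulAut.inv_apply_self]
    have h2 := fix_of_fix_gen hgen hz₀E _ h1 ζ hζ
    rw [MulAut.mul_apply, MulAut.mul_apply] at h2
    have h3 := congrArg γ₀ h2
    rwa [MulAut.apply_inv_self] at h3
  have hτfix : ∀ ζ : E, (ζ : Ω) ∈ zQ Q → τ ζ = ζ := by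
    intro ζ hζ
    have h1 : τ ⟨z₀, hz₀E⟩ = ⟨z₀, hz₀E⟩ := by
      rw [hτ, MulAut.mul_apply, MulAut.mul_apply, hc₂fix, MulAut.apply_inv_self]
    exact fix_of_fix_gen hgen hz₀E _ h1 ζ hζ
  have hcommτ : c₁ * τ = τ * c₁ := by
    ext e
    apply congrArg Subtype.val
    rw [MulAut.mul_apply, MulAut.mul_apply]
    obtain ⟨ζ, hζ, hζe⟩ := hcz q₂ hq₂ (γ₀⁻¹ e)
    have hτe : τ e = γ₀ ζ * e := by
      rw [hτ, MulAut.mul_apply, MulAut.mul_apply]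
      show γ₀ (c₂ (γ₀⁻¹ e)) = _
      rw [hζe, map_mul, MulAut.apply_inv_self]
    obtain ⟨ξ, hξ, hξe⟩ := hcz q₁ hq₁ e
    rw [hτe, map_mul, hθfix ζ hζ]
    show γ₀ ζ * c₁ e = τ (c₁ e)
    rw [hξe, map_mul, hτfix ξ hξ, hτe]
    apply Subtype.ext
    have := hab _ (γ₀ ζ).2 _ ξ.2
    show ((γ₀ ζ : E) : Ω) * ((ξ : Ω) * e) = (ξ : Ω) * (((γ₀ ζ : E) : Ω) * e)
    rw [← mul_assoc, this, mul_assoc]
  have hτmem : τ ∈ F.autGroup E := by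
    rw [hτ]
    exact Subgroup.mul_mem _ (Subgroup.mul_mem _ γ.2 (hcmem q₂ hq₂)) (Subgroup.inv_mem _ γ.2)
  have e1 : (γ : F.autGroup E ⧸ I) * QuotientGroup.mk' I ⟨c₂, hcmem q₂ hq₂⟩ * (γ : F.autGroup E ⧸ I)⁻¹
      = QuotientGroup.mk' I ⟨τ, hτmem⟩ := by
    have : (⟨τ, hτmem⟩ : F.autGroup E) = γ * ⟨c₂, hcmem q₂ hq₂⟩ * γ⁻¹ := Subtype.ext hτ
    rw [this]
    rfl
  rw [e1]
  show QuotientGroup.mk' I ⟨c₁, hcmem q₁ hq₁⟩ * QuotientGroup.mk' I ⟨τ, hτmem⟩ =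
    QuotientGroup.mk' I ⟨τ, hτmem⟩ * QuotientGroup.mk' I ⟨c₁, hcmem q₁ hq₁⟩
  rw [← map_mul, ← map_mul]
  congr 1
  exact Subtype.ext hcommτ

/-- the index bound for the centre -/
theorem index_center_le [Finite S] {p : ℕ} [Fact p.Prime] {Q R : Subgroup Ω}
    (hQ : IsExtraspecial p ↥Q) (hQS : Q ≤ S)
    (hcomm : ∀ a ∈ S, ∀ b ∈ S, a * b * a⁻¹ * b⁻¹ ∈ zQ Q)
    (hcent : ∀ z ∈ zQ Q, ∀ s ∈ S, s * z = z * s)
    (hRS : R ≤ S) (hab : ∀ x ∈ R, ∀ y ∈ R, x * y = y * x) (hRne : R ≠ S)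
    {y : Ω} (hy : y ∈ R) (hyc : ∀ s ∈ S, s * y = y * s → s ∈ R) :
    (Subgroup.center ↥S).index ≤ p ^ 2 := by
  have hp : p.Prime := Fact.out
  have hZS : zQ Q ≤ S := (zQ_le Q).trans hQS
  haveI : Finite R := finite_of_le_finite hRS
  haveI : Finite (zQ Q) := finite_of_le_finite hZS
  have hZZ : ∀ z ∈ zQ Q, ∀ z' ∈ zQ Q, z * z' = z' * z :=
    fun z hz z' hz' => (hcent z' hz' z (hZS hz))
  obtain ⟨s₀, hs₀S, hs₀R⟩ : ∃ s₀ ∈ S, s₀ ∉ R := by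
    by_contra h
    push Not at h
    exact hRne (le_antisymm hRS h)
  -- the commutator hom with `y`
  set f := commHom (zQ Q) S y (fun b hb => hcomm b hb y (hRS hy)) hcent hZZ with hf
  have hd1 : ((f ⟨s₀, hs₀S⟩ : zQ Q) : Ω) ≠ 1 := by
    intro h
    have h1 : f ⟨s₀, hs₀S⟩ = 1 := Subtype.ext h
    exact hs₀R (hyc s₀ hs₀S ((commHom_eq_one_iff _ _ _ _ _ _ _).mp h1))
  -- generation
  have hgen : ∀ s ∈ S, ∃ r ∈ R, ∃ k : ℤ, s = r * s₀ ^ k := by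
    intro s hs
    obtain ⟨k, hk⟩ := exists_zpow_of_mem_zQ hQ (f ⟨s₀, hs₀S⟩).2 hd1 (f ⟨s, hs⟩).2
    have h1 : f ⟨s, hs⟩ = (f ⟨s₀, hs₀S⟩) ^ k := Subtype.ext (by rw [hk]; simp)
    have h2 : f (⟨s, hs⟩ * (⟨s₀, hs₀S⟩ ^ k)⁻¹) = 1 := by
      rw [map_mul, map_inv, map_zpow, h1, mul_inv_cancel]
    have h3 := (commHom_eq_one_iff _ _ _ _ _ _ _).mp h2
    have h4 : (((⟨s, hs⟩ * (⟨s₀, hs₀S⟩ ^ k)⁻¹ : S)) : Ω) = s * (s₀ ^ k)⁻¹ := by simp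
    rw [h4] at h3
    refine ⟨s * (s₀ ^ k)⁻¹, hyc _ (S.mul_mem hs (S.inv_mem (S.zpow_mem hs₀S k))) h3, k, by group⟩
  -- `C_R(s₀)` is central
  have hD : R ⊓ Subgroup.centralizer {s₀} ≤ centralizerIn S S := by
    intro x hx
    obtain ⟨hxR, hxc⟩ := Subgroup.mem_inf.mp hx
    have hxs : s₀ * x = x * s₀ := Subgroup.mem_centralizer_iff.mp hxc s₀ (Set.mem_singleton _)
    rw [mem_centralizerIn]
    refine ⟨hRS hxR, fun s hs => ?_⟩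
    obtain ⟨r, hr, k, rfl⟩ := hgen s hs
    have h1 : r * x = x * r := hab r hr x hxR
    have h2 : s₀ ^ k * x = x * s₀ ^ k := (Commute.zpow_left hxs k).eq
    rw [mul_assoc, h2, ← mul_assoc, h1, mul_assoc]
  -- counting
  have hc1 : Nat.card S ≤ p * Nat.card ↥(S ⊓ Subgroup.centralizer {y}) :=
    card_le_mul_card_cent (card_zQ hQ).le (fun b hb => hcomm b hb y (hRS hy)) hcent hZZ
  have hc2 : Nat.card ↥(S ⊓ Subgroup.centralizer {y}) ≤ Nat.card R := by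
    apply Subgroup.card_le_of_le
    intro s hs
    obtain ⟨hsS, hsc⟩ := Subgroup.mem_inf.mp hs
    exact hyc s hsS (Subgroup.mem_centralizer_iff.mp hsc y (Set.mem_singleton _)).symm
  have hc3 : Nat.card R ≤ p * Nat.card ↥(R ⊓ Subgroup.centralizer {s₀}) :=
    card_le_mul_card_cent (card_zQ hQ).le (fun b hb => hcomm b (hRS hb) s₀ hs₀S)
      (fun z hz b hb => hcent z hz b (hRS hb)) hZZ
  haveI : Finite (centralizerIn S S) := finite_of_le_finite centralizerIn_le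
  have hc4 : Nat.card ↥(R ⊓ Subgroup.centralizer {s₀}) ≤ Nat.card (centralizerIn S S) :=
    Subgroup.card_le_of_le hD
  have hcen : Nat.card (Subgroup.center ↥S) = Nat.card (centralizerIn S S) := by
    have h1 : Subgroup.center ↥S = (centralizerIn S S).subgroupOf S := by
      ext x
      rw [Subgroup.mem_center_iff, Subgroup.mem_subgroupOf, mem_centralizerIn]
      constructor
      · intro h
        exact ⟨x.2, fun y hy => congrArg Subtype.val (h ⟨y, hy⟩)⟩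
      · rintro ⟨-, h⟩ y
        exact Subtype.ext (h y y.2)
    rw [h1]
    exact Nat.card_congr (Subgroup.subgroupOfEquivOfLe centralizerIn_le).toEquiv
  have hmul : Nat.card (Subgroup.center ↥S) * (Subgroup.center ↥S).index = Nat.card S :=
    Subgroup.card_mul_index _
  have hpos : 0 < Nat.card (Subgroup.center ↥S) := Nat.card_pos
  have hle : Nat.card S ≤ p ^ 2 * Nat.card (Subgroup.center ↥S) := by
    rw [hcen]
    calc Nat.card S ≤ p * Nat.card ↥(S ⊓ Subgroup.centralizer {y}) := hc1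
      _ ≤ p * Nat.card R := Nat.mul_le_mul_left _ hc2
      _ ≤ p * (p * Nat.card ↥(R ⊓ Subgroup.centralizer {s₀})) := Nat.mul_le_mul_left _ hc3
      _ ≤ p * (p * Nat.card (centralizerIn S S)) :=
        Nat.mul_le_mul_left _ (Nat.mul_le_mul_left _ hc4)
      _ = p ^ 2 * Nat.card (centralizerIn S S) := by ring
  rw [← hmul, mul_comm] at hle
  exact Nat.le_of_mul_le_mul_right hle hpos

end Cfsg.Agent.Helper14.FusExtra
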