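import Mathlib
import Cfsg.Prelude.Def_FusionSystem
import Cfsg.Agent.Lib.Helper25.FusionRS
import Cfsg.Agent.Lib.Helper25.FusionSat3
import Cfsg.Agent.Lib.Helper25.FusionNormal3
import Cfsg.Agent.Lib.Helper25.FusionAut
import Cfsg.Agent.Lib.Helper10.SylowMore
import Cfsg.Agent.S5080
import Cfsg.Agent.S5082

/-!
# Maps of a fusion system that are trivial modulo a subgroup `Q ⊇ [S,S]` (helper14)
-/

set_option autoImplicit false

namespace Cfsg.Agent.Helper14.FusModQ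

open Cfsg Cfsg.FusionSystem Cfsg.Agent.Helper25

variable {Ω : Type*} [Group Ω] {S : Subgroup Ω}

/-- The subsystem of the maps `φ` with `x⁻¹ φ(x) ∈ Q` for all `x`. -/
def trivMod (F : FusionSystem S) (Q : Subgroup Ω)
    (hQ : ∀ x ∈ S, ∀ g ∈ S, x⁻¹ * (g * x * g⁻¹) ∈ Q) : FusionSystem S where
  Hom P := {φ | φ ∈ F.Hom P ∧ ∀ x : P, (x : Ω)⁻¹ * φ x ∈ Q}
  le_of_mem h := F.le_of_mem h.1
  injective_of_mem h := F.injective_of_mem h.1
  conj_mem hP hg := ⟨F.conj_mem hP hg, fun x => hQ x (hP x.2) _ hg⟩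
  comp_mem := by
    rintro P R φ ψ ⟨hφ, hφQ⟩ ⟨hψ, hψQ⟩ h
    refine ⟨F.comp_mem hφ hψ h, fun x => ?_⟩
    show (x : Ω)⁻¹ * ψ ⟨φ x, h x⟩ ∈ Q
    have h1 := hφQ x
    have h2 := hψQ ⟨φ x, h x⟩
    have e : (x : Ω)⁻¹ * ψ ⟨φ x, h x⟩ = ((x : Ω)⁻¹ * φ x) * ((φ x)⁻¹ * ψ ⟨φ x, h x⟩) := by group
    rw [e]
    exact Q.mul_mem h1 h2
  inv_mem := by
    rintro P φ ⟨hφ, hφQ⟩
    obtain ⟨ψ, hψ, hψx⟩ := F.inv_mem hφ
    refine ⟨ψ, ⟨hψ, ?_⟩, hψx⟩
    rintro ⟨y, x, rfl⟩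
    rw [hψx x]
    have := Q.inv_mem (hφQ x)
    simpa using this

theorem mem_trivMod_iff (F : FusionSystem S) (Q : Subgroup Ω)
    (hQ : ∀ x ∈ S, ∀ g ∈ S, x⁻¹ * (g * x * g⁻¹) ∈ Q) {P : Subgroup Ω} (φ : P →* Ω) :
    φ ∈ (trivMod F Q hQ).Hom P ↔ φ ∈ F.Hom P ∧ ∀ x : P, (x : Ω)⁻¹ * φ x ∈ Q := Iff.rfl

/-- Every element of `S` normalizes a subgroup `P ⊇ Q` of `S`. -/
theorem normalizerIn_eq_of_le {Q P : Subgroup Ω}
    (hQ : ∀ x ∈ S, ∀ g ∈ S, x⁻¹ * (g * x * g⁻¹) ∈ Q) (hPS : P ≤ S) (hQP : Q ≤ P) :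
    normalizerIn S P = S := by
  apply le_antisymm normalizerIn_le
  intro g hg
  refine ⟨hg, ?_⟩
  apply mem_normalizer_of_forall
  · intro y hy
    have h1 := hQP (hQ y (hPS hy) g hg)
    have e : g * y * g⁻¹ = y * (y⁻¹ * (g * y * g⁻¹)) := by group
    rw [e]
    exact P.mul_mem hy h1
  · intro y hy
    have h1 := hQP (hQ y (hPS hy) g⁻¹ (S.inv_mem hg))
    have e : g⁻¹ * y * g = y * (y⁻¹ * (g⁻¹ * y * g⁻¹⁻¹)) := by group
    rw [e]
    exact P.mul_mem hy h1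

/-- The Frattini argument: automorphisms of a fully normalized `P ⊇ Q` are trivial modulo `Q`, provided the
maps defined on all of `S` are inner. -/
theorem aut_trivMod [Finite S] (p : ℕ) [Fact p.Prime] (hS : IsPGroup p S) (F : FusionSystem S)
    (hF : F.IsSaturated p) (Q : Subgroup Ω)
    (hQ : ∀ x ∈ S, ∀ g ∈ S, x⁻¹ * (g * x * g⁻¹) ∈ Q) (hQsc : F.StronglyClosed Q)
    (hTop : ∀ T : Subgroup Ω, T = S → ∀ φ ∈ F.Hom T, ∃ g ∈ S, ∀ x : T, φ x = g * (x : Ω) * g⁻¹)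
    (P : Subgroup Ω) (hQP : Q ≤ P) (hPn : F.IsFullyNormalized P) :
    ∀ α ∈ F.autGroup P, ∀ x : P, (x : Ω)⁻¹ * ((α x : P) : Ω) ∈ Q := by
  have hp : p.Prime := Fact.out
  have hPS : P ≤ S := hPn.1
  obtain ⟨-, hPfa, hPrec⟩ := of_fullyNormalized p hS F hF hPn
  have hNS : normalizerIn S P = S := normalizerIn_eq_of_le hQ hPS hQP
  haveI : Finite P := finite_of_le_finite hPS
  haveI : Finite (MulAut P) := by
    haveI : Fintype P := Fintype.ofFinite P
    classical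
    exact Finite.of_injective (fun e : MulAut P => (e : P → P)) (fun a b h => by
      ext x; exact congrArg Subtype.val (congrFun h x))
  -- the normal subgroup `K` of automorphisms trivial modulo `Q`
  let K : Subgroup (F.autGroup P) :=
    { carrier := {a | ∀ x : P, (x : Ω)⁻¹ * (((a : MulAut P) x : P) : Ω) ∈ Q}
      one_mem' := by
        intro x
        show (x : Ω)⁻¹ * (x : Ω) ∈ Q
        rw [inv_mul_cancel]; exact Q.one_mem
      mul_mem' := by
        intro a b ha hb x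
        show (x : Ω)⁻¹ * (((a : MulAut P) ((b : MulAut P) x) : P) : Ω) ∈ Q
        have h1 := hb x
        have h2 := ha ((b : MulAut P) x)
        have e : (x : Ω)⁻¹ * (((a : MulAut P) ((b : MulAut P) x) : P) : Ω) =
            ((x : Ω)⁻¹ * (((b : MulAut P) x : P) : Ω)) *
              ((((b : MulAut P) x : P) : Ω)⁻¹ * (((a : MulAut P) ((b : MulAut P) x) : P) : Ω)) := by
          group
        rw [e]
        exact Q.mul_mem h1 h2
      inv_mem' := by
        intro a ha x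
        show (x : Ω)⁻¹ * ((((a : MulAut P)⁻¹) x : P) : Ω) ∈ Q
        have h1 := ha (((a : MulAut P)⁻¹) x)
        rw [MulAut.apply_inv_self] at h1
        have := Q.inv_mem h1
        simpa using this }
  have hKmem : ∀ a : F.autGroup P, a ∈ K ↔ ∀ x : P, (x : Ω)⁻¹ * (((a : MulAut P) x : P) : Ω) ∈ Q :=
    fun a => Iff.rfl
  haveI hKn : K.Normal := by
    constructor
    intro a ha c
    rw [hKmem] at ha ⊢
    intro x
    show (x : Ω)⁻¹ * (((c : MulAut P) ((a : MulAut P) (((c : MulAut P)⁻¹) x)) : P) : Ω) ∈ Q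
    set y : P := ((c : MulAut P)⁻¹) x with hy
    have hx : x = (c : MulAut P) y := by rw [hy, MulAut.apply_inv_self]
    -- the element `y⁻¹ a(y)` of `P ∩ Q`
    have h1 := ha y
    have hmem : ((y⁻¹ * (a : MulAut P) y : P) : Ω) ∈ Q := by
      simpa using h1
    have h2 := aut_mem_of_stronglyClosed F hQsc hPS c.2 hmem
    rw [map_mul, map_inv] at h2
    rw [hx]
    simpa using h2
  -- `Aut_S(P)` lies in `K`
  set H : Subgroup (F.autGroup P) := (autInducedBy S P).subgroupOf (F.autGroup P) with hH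
  have hHK : H ≤ K := by
    intro a ha
    rw [hH, Subgroup.mem_subgroupOf] at ha
    obtain ⟨g, hg, hga⟩ := (mem_autInducedBy_iff _).mp ha
    rw [hKmem]
    intro x
    rw [hga x]
    exact hQ x (hPS x.2) g hg
  have hHp : IsPGroup p H := isPGroup_subgroupOf _ (isPGroup_autInducedBy hS P)
  obtain ⟨R, hR⟩ := hPfa.2
  have hidx : ¬ p ∣ H.relIndex K := by
    intro hdvd
    have h1 : H.relIndex K ∣ H.index := Subgroup.relIndex_dvd_index_of_le hHK
    have h2 : ¬ p ∣ H.index := by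
      have hR' : (R : Subgroup (F.autGroup P)) = H := hR
      rw [← hR']; exact R.not_dvd_index
    exact h2 (dvd_trans hdvd h1)
  intro α hα
  obtain ⟨c, hcK, hcn⟩ := Cfsg.Agent.Helper10.frattini_elt K H hHK hHp hidx ⟨α, hα⟩
  -- `β = α c` normalizes `Aut_S(P)`
  set b : F.autGroup P := ⟨α, hα⟩ * c with hb
  have hnorm : ∀ γ ∈ autInducedBy S P, (b : MulAut P) * γ * (b : MulAut P)⁻¹ ∈ autInducedBy S P := by
    intro γ hγ
    have hγA : γ ∈ F.autGroup P := autInducedBy_le_autGroup F hPS hγ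
    have h1 : (⟨γ, hγA⟩ : F.autGroup P) ∈ H := by
      rw [hH, Subgroup.mem_subgroupOf]; exact hγ
    have h2 := (Subgroup.mem_normalizer_iff.mp hcn ⟨γ, hγA⟩).mp h1
    rw [hH, Subgroup.mem_subgroupOf] at h2
    exact h2
  obtain ⟨bbar, hbbar, hbext⟩ := exists_autGroup_normalizerIn_extension F hPrec b.2 hnorm
  have hbF := (mem_autGroup_iff F normalizerIn_le bbar).mp hbbar
  obtain ⟨g, hg, hgb⟩ := hTop _ hNS _ hbF
  have hbK : b ∈ K := by
    rw [hKmem]
    intro x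
    have h1 := hbext x
    have h2 := hgb ⟨x, le_normalizerIn hPS x.2⟩
    have h3 : (((b : MulAut P) x : P) : Ω) = g * (x : Ω) * g⁻¹ := by
      rw [← h1]; exact h2
    rw [h3]
    exact hQ x (hPS x.2) g hg
  have hαK : (⟨α, hα⟩ : F.autGroup P) ∈ K := by
    have : (⟨α, hα⟩ : F.autGroup P) = b * c⁻¹ := by rw [hb]; group
    rw [this]
    exact K.mul_mem hbK (K.inv_mem hcK)
  exact (hKmem _).mp hαK

/-- Every map of the system is trivial modulo the normal subgroup `Q ⊇ [S,S]`, provided the maps defined on all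
of `S` are inner. -/
theorem le_trivMod [Finite S] (p : ℕ) [Fact p.Prime] (hS : IsPGroup p S) (F : FusionSystem S)
    (hF : F.IsSaturated p) (Q : Subgroup Ω)
    (hQ : ∀ x ∈ S, ∀ g ∈ S, x⁻¹ * (g * x * g⁻¹) ∈ Q) (hQn : F.IsNormal Q)
    (hTop : ∀ T : Subgroup Ω, T = S → ∀ φ ∈ F.Hom T, ∃ g ∈ S, ∀ x : T, φ x = g * (x : Ω) * g⁻¹) :
    F ≤ trivMod F Q hQ := by
  have hQsc := stronglyClosed_of_isNormal F hQn
  apply Cfsg.Agent.S5082.result p hS F hF
  intro P hP α hα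
  have hPS : P ≤ S := by
    rcases hP with rfl | hP
    · exact le_rfl
    · exact hP.1.1
  rw [mem_autGroup_iff _ hPS, mem_trivMod_iff]
  refine ⟨(mem_autGroup_iff F hPS α).mp hα, ?_⟩
  rcases hP with rfl | hP
  · obtain ⟨g, hg, hgα⟩ := hTop P rfl _ ((mem_autGroup_iff F hPS α).mp hα)
    intro x
    have : ((α x : P) : Ω) = g * (x : Ω) * g⁻¹ := hgα x
    show (x : Ω)⁻¹ * ((α x : P) : Ω) ∈ Q
    rw [this]
    exact hQ x x.2 g hg
  · have hrad := Cfsg.Agent.S5080.result p hS F hF P hP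
    have hQP : Q ≤ P := le_of_isNormal_of_centric_radical p hS F hQn hP.1 hrad
    exact aut_trivMod p hS F hF Q hQ hQsc hTop P hQP hP.2.1 α hα

end Cfsg.Agent.Helper14.FusModQ
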