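import Mathlib
import Cfsg.Agent.Lib.Helper1.Tate
import Cfsg.Prelude.Def_Solvable

/-!
# Tate's theorem, fusion form (helper14)

If every fusion inside a Sylow `p`-subgroup `P` is trivial modulo the Frattini subgroup of `P`, then
`O^p(G)` is a `p'`-group; for a group with `C_G(O_p(G)) ≤ O_p(G)` this forces `G` to be a `p`-group.
-/

set_option autoImplicit false

namespace Cfsg.Agent.Helper14.TateFocal

open Subgroup

variable {G : Type*} [Group G] [Finite G] {p : ℕ} [Fact p.Prime]

theorem not_dvd_card_pResidual_of_focal_le_frattini (P : Sylow p G)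
    (hfus : ∀ x ∈ (P : Subgroup G), ∀ u : G, u * x * u⁻¹ ∈ (P : Subgroup G) →
      x * (u * x * u⁻¹)⁻¹ ∈ (frattini P).map (P : Subgroup G).subtype) :
    ¬ p ∣ Nat.card (Cfsg.pResidual p G) := by
  have hp : p.Prime := Fact.out
  set N₀ : Subgroup G := (P : Subgroup G).transferFocal.ker with hN₀
  have hfoc : N₀ ⊓ (P : Subgroup G) = (P : Subgroup G).focalSubgroup :=
    Subgroup.ker_transferFocal_inf_eq_focalSubgroup P
  have h1 : (P : Subgroup G).focalSubgroup ≤ (frattini P).map (P : Subgroup G).subtype :=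
    Cfsg.Agent.Helper1.focalSubgroup_le_of_forall _ _ hfus
  have h3 : N₀ ⊓ (P : Subgroup G) ≤ (frattini P).map (P : Subgroup G).subtype := by
    rw [hfoc]; exact h1
  have h4 := Cfsg.Agent.Helper1.tate_pResidual P N₀ h3
  have hle : Cfsg.pResidual p G ≤ (Cfsg.pResidual p N₀).map N₀.subtype := by
    unfold Cfsg.pResidual
    rw [Subgroup.closure_le]
    intro g hg
    have hg' : Nat.Coprime (orderOf g) p := hg
    have hgN : g ∈ N₀ := by
      rw [hN₀, MonoidHom.mem_ker]
      have hQ : IsPGroup p ((P : Subgroup G) ⧸ (P : Subgroup G).focalSubgroupOf) :=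
        P.2.to_quotient _
      obtain ⟨k, hk⟩ := hQ ((P : Subgroup G).transferFocal g)
      have d1 : orderOf ((P : Subgroup G).transferFocal g) ∣ p ^ k := orderOf_dvd_of_pow_eq_one hk
      have d2 : orderOf ((P : Subgroup G).transferFocal g) ∣ orderOf g := orderOf_map_dvd _ g
      have d3 : orderOf ((P : Subgroup G).transferFocal g) = 1 :=
        Nat.eq_one_of_dvd_coprimes (Nat.Coprime.pow_right k hg') d2 d1
      exact orderOf_eq_one_iff.mp d3
    refine ⟨⟨g, hgN⟩, ?_, rfl⟩
    apply Subgroup.subset_closure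
    change Nat.Coprime (orderOf (⟨g, hgN⟩ : N₀)) p
    rw [Subgroup.orderOf_mk]
    exact hg'
  intro hdvd
  apply h4
  have := Subgroup.card_dvd_of_le hle
  rw [Subgroup.card_map_of_injective (Subgroup.subtype_injective N₀)] at this
  exact dvd_trans hdvd this

/-- If `O^p(G)` has order prime to `p` and `C_G(O_p(G)) ≤ O_p(G)` then `G` is a `p`-group. -/
theorem isPGroup_of_not_dvd_card_pResidual
    (hcen : Subgroup.centralizer ((Cfsg.pCore p G : Subgroup G) : Set G) ≤ Cfsg.pCore p G)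
    (h : ¬ p ∣ Nat.card (Cfsg.pResidual p G)) : IsPGroup p G := by
  have hp : p.Prime := Fact.out
  haveI hLn : (Cfsg.pResidual p G).Normal := Cfsg.Agent.Helper22.pResidual_normal
  have hUn : (Cfsg.pCore p G).Normal := Subgroup.sSup_normal _ (fun _ hH => hH.1)
  have hUp : IsPGroup p (Cfsg.pCore p G) :=
    Sylow.sSup_of_normal _ (fun _ h => h.2) (fun _ h => h.1)
  -- the intersection is trivial
  have hcop : (Nat.card (Cfsg.pResidual p G)).Coprime (Nat.card (Cfsg.pCore p G)) := by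
    obtain ⟨k, hk⟩ := (IsPGroup.iff_card).mp hUp
    rw [hk]
    exact Nat.Coprime.pow_right k ((Nat.Prime.coprime_iff_not_dvd hp).mpr h).symm
  have hdisj : Cfsg.pResidual p G ⊓ Cfsg.pCore p G = ⊥ :=
    Subgroup.inf_eq_bot_of_coprime hcop
  -- so they commute
  have hcomm : Cfsg.pResidual p G ≤ Subgroup.centralizer ((Cfsg.pCore p G : Subgroup G) : Set G) := by
    intro x hx
    rw [Subgroup.mem_centralizer_iff]
    intro u hu
    have h1 : u * x * u⁻¹ * x⁻¹ ∈ Cfsg.pResidual p G :=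
      Subgroup.mul_mem _ (hLn.conj_mem x hx u) (Subgroup.inv_mem _ hx)
    have h2 : u * x * u⁻¹ * x⁻¹ ∈ Cfsg.pCore p G := by
      have : u * x * u⁻¹ * x⁻¹ = u * (x * u⁻¹ * x⁻¹) := by group
      rw [this]
      exact Subgroup.mul_mem _ hu (hUn.conj_mem _ (Subgroup.inv_mem _ hu) x)
    have h3 : u * x * u⁻¹ * x⁻¹ ∈ Cfsg.pResidual p G ⊓ Cfsg.pCore p G := ⟨h1, h2⟩
    rw [hdisj, Subgroup.mem_bot] at h3
    calc u * x = (u * x * u⁻¹ * x⁻¹) * x * u := by group
      _ = x * u := by rw [h3, one_mul]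
  have hbot : Cfsg.pResidual p G = ⊥ := by
    rw [eq_bot_iff, ← hdisj]
    exact le_inf le_rfl (hcomm.trans hcen)
  -- every element has `p`-power order
  intro g
  obtain ⟨k, m, hm, hkm⟩ := Nat.exists_eq_pow_mul_and_not_dvd (orderOf_pos g).ne' p hp.ne_one
  refine ⟨k, ?_⟩
  have h1 : orderOf (g ^ p ^ k) = m := by
    rw [orderOf_pow' g (pow_ne_zero k hp.ne_zero), hkm,
      Nat.gcd_eq_right (Dvd.intro _ rfl), Nat.mul_div_cancel_left _ (pow_pos hp.pos k)]
  have h2 : g ^ p ^ k ∈ Cfsg.pResidual p G := by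
    apply Subgroup.subset_closure
    change Nat.Coprime (orderOf (g ^ p ^ k)) p
    rw [h1]
    exact ((Nat.Prime.coprime_iff_not_dvd hp).mpr hm).symm
  rw [hbot, Subgroup.mem_bot] at h2
  exact h2

end Cfsg.Agent.Helper14.TateFocal
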