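import Mathlib
import Cfsg.Agent.Lib.Helper14.FusModQ
import Cfsg.Agent.Lib.Helper14.TateFocal
import Cfsg.Agent.Lib.Helper25.FusionModel2
import Cfsg.Agent.Lib.Helper25.StronglyEmbedded
import Cfsg.Agent.S5090
import Cfsg.Agent.S5096
import Cfsg.Agent.S5126

/-!
# No essential subgroups when all fusion is trivial modulo a normal `Q` with `[S,S] ≤ Q ≤ Φ(S)` (helper14)
-/

set_option autoImplicit false

namespace Cfsg.Agent.Helper14.FusModQ

open Cfsg Cfsg.FusionSystem Cfsg.Agent.Helper25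

universe u

variable {Ω : Type u} [Group Ω] {S : Subgroup Ω}

theorem frattini_map_congr {A B : Subgroup Ω} (h : A = B) :
    (frattini A).map A.subtype = (frattini B).map B.subtype := by
  subst h; rfl

theorem not_isEssential [Finite S] (p : ℕ) [Fact p.Prime] (hS : IsPGroup p S) (F : FusionSystem S)
    (hF : F.IsSaturated p) (Q : Subgroup Ω)
    (hQ : ∀ x ∈ S, ∀ g ∈ S, x⁻¹ * (g * x * g⁻¹) ∈ Q) (hQn : F.IsNormal Q)
    (hQΦ : Q ≤ (frattini S).map S.subtype)
    (hTop : ∀ T : Subgroup Ω, T = S → ∀ φ ∈ F.Hom T, ∃ g ∈ S, ∀ x : T, φ x = g * (x : Ω) * g⁻¹)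
    (P : Subgroup Ω) (hP : F.IsEssential p P) : False := by
  have hp : p.Prime := Fact.out
  have hPr := Cfsg.Agent.S5080.result p hS F hF P hP
  obtain ⟨hPc, hPn, hInn, Eemb, hemb⟩ := hP
  have hPS : P ≤ S := hPn.1
  have hQsc := stronglyClosed_of_isNormal F hQn
  have hQP : Q ≤ P := le_of_isNormal_of_centric_radical p hS F hQn hPc hPr
  have hNS : normalizerIn S P = S := normalizerIn_eq_of_le hQ hPS hQP
  have hle := le_trivMod p hS F hF Q hQ hQn hTop
  obtain ⟨E, hE⟩ := Cfsg.Agent.S5096.result F P hPS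
  haveI : Finite ↥(normalizerIn S P) := finite_of_le_finite normalizerIn_le
  have hS₂p : IsPGroup p ↥(normalizerIn S P) := hS.to_le normalizerIn_le
  have hPN : P ≤ normalizerIn S P := le_normalizerIn hPS
  have hcon : E.IsConstrained p :=
    (Cfsg.Agent.S5126.result p hS F hF P hPn hPc hPr E hE (MonoidHom.id _)).1
  obtain ⟨L, hLg, ι, hL⟩ := Cfsg.Agent.S5090.result p hS₂p E hcon
  obtain ⟨hfin, hreal, ⟨T, hT⟩, hcen⟩ := hL
  haveI := hfin
  have hι := hreal.1
  -- all fusion in `L` is trivial modulo the Frattini subgroup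
  have hfus : ∀ x ∈ (T : Subgroup L), ∀ u : L, u * x * u⁻¹ ∈ (T : Subgroup L) →
      x * (u * x * u⁻¹)⁻¹ ∈ (frattini T).map (T : Subgroup L).subtype := by
    intro x hx u hux
    rw [hT] at hx hux
    obtain ⟨s, rfl⟩ := hx
    have hC : Subgroup.zpowers (s : Ω) ≤ normalizerIn S P := Subgroup.zpowers_le.mpr s.2
    have hg : ∀ y : Subgroup.zpowers (s : Ω), u * ι ⟨y, hC y.2⟩ * u⁻¹ ∈ ι.range := by
      rintro ⟨y, hy⟩
      obtain ⟨k, rfl⟩ := Subgroup.mem_zpowers_iff.mp hy
      have e : (⟨(s : Ω) ^ k, hC hy⟩ : ↥(normalizerIn S P)) = s ^ k := Subtype.ext (by simp)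
      rw [e, map_zpow, ← conj_zpow]
      exact Subgroup.zpow_mem _ hux k
    obtain ⟨ψ, hψ, hψS, hιψ⟩ := exists_hom_of_conj E hreal hC u hg
    have hψF : ψ ∈ F.Hom (Subgroup.zpowers (s : Ω)) := by
      rw [hE _] at hψ; exact hψ.1
    have hψQ := ((mem_trivMod_iff F Q hQ ψ).mp (hle _ hψF)).2
      ⟨(s : Ω), Subgroup.mem_zpowers (s : Ω)⟩
    set t : Ω := ψ ⟨(s : Ω), Subgroup.mem_zpowers (s : Ω)⟩ with ht
    have htS : t ∈ normalizerIn S P := hψS _
    have hιt : ι ⟨t, htS⟩ = u * ι s * u⁻¹ := by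
      have := hιψ ⟨(s : Ω), Subgroup.mem_zpowers (s : Ω)⟩
      rw [this]
    have hq : (s : Ω) * t⁻¹ ∈ Q := by
      have h1 : ((s : Ω)⁻¹ * t)⁻¹ ∈ Q := Q.inv_mem hψQ
      have h2 := conj_mem_of_stronglyClosed F hQsc (normalizerIn_le s.2) h1
      have e : (s : Ω) * ((s : Ω)⁻¹ * t)⁻¹ * (s : Ω)⁻¹ = (s : Ω) * t⁻¹ := by group
      rwa [e] at h2
    have hq2 : (s : Ω) * t⁻¹ ∈ (frattini ↥(normalizerIn S P)).map (normalizerIn S P).subtype := by
      rw [frattini_map_congr hNS]
      exact hQΦ hq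
    obtain ⟨y, hy, hyq⟩ := hq2
    have hyeq : y = s * (⟨t, htS⟩ : ↥(normalizerIn S P))⁻¹ := Subtype.ext hyq
    -- transport to the Sylow subgroup
    have hrange : ∀ z : ↥(normalizerIn S P), ι z ∈ (T : Subgroup L) := by
      intro z; rw [hT]; exact ⟨z, rfl⟩
    set e : ↥(normalizerIn S P) →* ↥(T : Subgroup L) := ι.codRestrict (T : Subgroup L) hrange with he
    have hsurj : Function.Surjective e := by
      rintro ⟨z, hz⟩
      rw [hT] at hz
      obtain ⟨w, rfl⟩ := hz
      exact ⟨w, Subtype.ext rfl⟩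
    have h3 := frattini_le_comap_frattini_of_surjective hsurj hy
    refine ⟨e y, h3, ?_⟩
    show ι y = _
    rw [hyeq, map_mul, map_inv, hιt]
  have hLp : IsPGroup p L :=
    Cfsg.Agent.Helper14.TateFocal.isPGroup_of_not_dvd_card_pResidual hcen
      (Cfsg.Agent.Helper14.TateFocal.not_dvd_card_pResidual_of_focal_le_frattini T hfus)
  -- `Aut_F(P)` is a `p`-group
  haveI : Finite P := finite_of_le_finite hPS
  have hAp : IsPGroup p (F.autGroup P) := by
    rintro ⟨α, hα⟩
    have hαE := normalizerSystem_aut_mem F hPS E hE hα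
    obtain ⟨g, hgα⟩ := (hreal.2 P hPN _ (fun x => hPN (α x).2)).mp hαE
    obtain ⟨k, hk⟩ := hLp g
    refine ⟨k, ?_⟩
    have key : ∀ n : ℕ, ∀ x : P, ι ⟨(((α ^ n) x : P) : Ω), hPN ((α ^ n) x).2⟩ =
        g ^ n * ι ⟨x, hPN x.2⟩ * (g ^ n)⁻¹ := by
      intro n
      induction n with
      | zero => intro x; simp
      | succ n ih =>
        intro x
        have h1 := hgα ((α ^ n) x)
        have e1 : (⟨(((α ^ (n + 1)) x : P) : Ω), hPN ((α ^ (n + 1)) x).2⟩ : ↥(normalizerIn S P)) =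
            ⟨(P.subtype.comp α.toMonoidHom) ((α ^ n) x), hPN (α ((α ^ n) x)).2⟩ := by
          apply Subtype.ext
          show (((α ^ (n + 1)) x : P) : Ω) = ((α ((α ^ n) x) : P) : Ω)
          rw [pow_succ', MulAut.mul_apply]
        rw [e1, h1, ih x, pow_succ']
        group
    apply Subtype.ext
    show α ^ p ^ k = 1
    ext x
    have h1 := key (p ^ k) x
    rw [hk] at h1
    simp only [one_mul, inv_one, mul_one] at h1
    have h2 := hι h1
    have h3 := congrArg Subtype.val h2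
    simpa using h3
  -- contradiction with the strongly `p`-embedded subgroup
  haveI : Finite (MulAut P) := by
    haveI : Fintype P := Fintype.ofFinite P
    classical
    exact Finite.of_injective (fun e : MulAut P => (e : P → P)) (fun a b h => by
      ext x; exact congrArg Subtype.val (congrFun h x))
  haveI := hInn
  have hOutp : IsPGroup p (F.autGroup P ⧸ (Inn P).subgroupOf (F.autGroup P)) := hAp.to_quotient _
  have htop : (⊤ : Subgroup (F.autGroup P ⧸ (Inn P).subgroupOf (F.autGroup P))) = ⊥ :=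
    eq_bot_of_normal_of_isStronglyPEmbedded p hemb (hOutp.to_subgroup ⊤)
  have hcard : Nat.card (F.autGroup P ⧸ (Inn P).subgroupOf (F.autGroup P)) = 1 := by
    rw [← Subgroup.card_top, htop, Subgroup.card_bot]
  have := hemb.1
  rw [hcard] at this
  exact hp.one_lt.ne' (Nat.dvd_one.mp this)

end Cfsg.Agent.Helper14.FusModQ
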