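import Mathlib
import Cfsg.Agent.Lib.Helper14.FusModQ2
import Cfsg.Agent.S5098

/-!
# `N_F(Q)` is inner for `[S,S] ≤ Q ≤ Φ(S)` when `N_F(S)` is inner (helper14)
-/

set_option autoImplicit false

namespace Cfsg.Agent.Helper14.FusModQ

open Cfsg Cfsg.FusionSystem Cfsg.Agent.Helper25
open scoped commutatorElement

universe u

variable {Ω : Type u} [Group Ω] {S : Subgroup Ω}

/-- If the normalizer system of `S` is inner, every map of the system defined on all of `S` is conjugation by an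
element of `S`. -/
theorem top_inner [Finite S] (F : FusionSystem S)
    (hN : ∀ N : FusionSystem (normalizerIn S S), F.IsNormalizerSystem S N → ∀ P : Subgroup Ω,
      N.Hom P = (innerFusionSystem (normalizerIn S S)).Hom P) :
    ∀ T : Subgroup Ω, T = S → ∀ φ ∈ F.Hom T, ∃ g ∈ S, ∀ x : T, φ x = g * (x : Ω) * g⁻¹ := by
  intro T hT φ hφ
  subst hT
  obtain ⟨N₀, hN₀⟩ := Cfsg.Agent.S5096.result F T le_rfl
  have h := hN N₀ hN₀ T
  have hφS := (F.le_of_mem hφ).2
  have hle : T ⊔ T ≤ T := sup_le le_rfl le_rfl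
  have hmem : φ ∈ N₀.Hom T := by
    rw [hN₀ T]
    refine ⟨hφ, le_normalizerIn le_rfl, fun x => ⟨hφS x, Subgroup.le_normalizer (hφS x)⟩,
      φ.comp (Subgroup.inclusion hle), restrict_mem F hle hφ, fun x => ?_, ?_⟩
    · show φ _ = φ x
      congr 1
    · -- the image of `T` is `T`
      set φ' : T →* T := φ.codRestrict T hφS with hφ'
      have hinj : Function.Injective φ' := by
        intro a b hab
        apply F.injective_of_mem hφ
        exact congrArg Subtype.val hab
      have hsurj : Function.Surjective φ' := Finite.injective_iff_surjective.mp hinj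
      ext y
      rw [mem_map_subgroupOf]
      constructor
      · rintro ⟨x, hx, hxT, rfl⟩
        exact hφS _
      · intro hy
        obtain ⟨x, hx⟩ := hsurj ⟨y, hy⟩
        refine ⟨(x : Ω), le_sup_left (b := T) x.2, x.2, ?_⟩
        have := congrArg Subtype.val hx
        exact this
  rw [h] at hmem
  obtain ⟨-, g, hg, hgφ⟩ := hmem
  exact ⟨g, normalizerIn_le hg, hgφ⟩

theorem normalizerSystem_eq_inner [Finite S] (p : ℕ) [Fact p.Prime] (hS : IsPGroup p S)
    (F : FusionSystem S) (hF : F.IsSaturated p)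
    (hN : ∀ N : FusionSystem (normalizerIn S S), F.IsNormalizerSystem S N → ∀ P : Subgroup Ω,
      N.Hom P = (innerFusionSystem (normalizerIn S S)).Hom P)
    (Q : Subgroup Ω) (h1 : (commutator ↥S).map S.subtype ≤ Q)
    (h2 : Q ≤ (frattini ↥S).map S.subtype) :
    ∀ N : FusionSystem (normalizerIn S Q), F.IsNormalizerSystem Q N → ∀ P : Subgroup Ω,
      N.Hom P = (innerFusionSystem (normalizerIn S Q)).Hom P := by
  intro N hNQ
  have hQS : Q ≤ S := h2.trans (Subgroup.map_subtype_le _)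
  have hcomm : ∀ x ∈ S, ∀ g ∈ S, x⁻¹ * (g * x * g⁻¹) ∈ Q := by
    intro x hx g hg
    apply h1
    refine ⟨⁅(⟨x, hx⟩ : S)⁻¹, (⟨g, hg⟩ : S)⁆, ?_, ?_⟩
    · rw [commutator_def]
      exact Subgroup.commutator_mem_commutator (Subgroup.mem_top _) (Subgroup.mem_top _)
    · rw [commutatorElement_def]
      simp [mul_assoc]
  have hS₁ : normalizerIn S Q = S := normalizerIn_eq_of_le hcomm hQS le_rfl
  haveI : Finite ↥(normalizerIn S Q) := finite_of_le_finite normalizerIn_le
  have hS₁p : IsPGroup p ↥(normalizerIn S Q) := hS.to_le normalizerIn_le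
  have hQfn : F.IsFullyNormalized Q := by
    refine ⟨hQS, fun Q' _ => ?_⟩
    rw [hS₁]
    exact Subgroup.card_le_of_le normalizerIn_le
  have hNsat := Cfsg.Agent.S5098.result p hS F hF Q hQfn N hNQ
  have hQn : N.IsNormal Q := normalizerSystem_isNormal F hQS N hNQ
  have hcomm₁ : ∀ x ∈ normalizerIn S Q, ∀ g ∈ normalizerIn S Q, x⁻¹ * (g * x * g⁻¹) ∈ Q :=
    fun x hx g hg => hcomm x (normalizerIn_le hx) g (normalizerIn_le hg)
  have hΦ₁ : Q ≤ (frattini ↥(normalizerIn S Q)).map (normalizerIn S Q).subtype := by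
    rw [frattini_map_congr hS₁]; exact h2
  have hTopF := top_inner F hN
  have hTop₁ : ∀ T : Subgroup Ω, T = normalizerIn S Q → ∀ φ ∈ N.Hom T,
      ∃ g ∈ normalizerIn S Q, ∀ x : T, φ x = g * (x : Ω) * g⁻¹ := by
    intro T hT φ hφ
    rw [hNQ T] at hφ
    obtain ⟨g, hg, h⟩ := hTopF T (hT.trans hS₁) φ hφ.1
    refine ⟨g, ?_, h⟩
    rw [hS₁]; exact hg
  have hle : N ≤ innerFusionSystem (normalizerIn S Q) := by
    apply Cfsg.Agent.S5082.result p hS₁p N hNsat
    intro P hP α hα
    rcases hP with rfl | hP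
    · have hαF := (mem_autGroup_iff N le_rfl α).mp hα
      obtain ⟨g, hg, h⟩ := hTop₁ _ rfl _ hαF
      rw [mem_autGroup_iff _ le_rfl]
      exact ⟨le_rfl, g, hg, h⟩
    · exact (not_isEssential p hS₁p N hNsat Q hcomm₁ hQn hΦ₁ hTop₁ P hP).elim
  intro P
  apply Set.Subset.antisymm (hle P)
  rintro φ ⟨hP, g, hg, h⟩
  have : φ = conjHom P g := by ext x; exact h x
  rw [this]; exact N.conj_mem hP hg

end Cfsg.Agent.Helper14.FusModQ
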