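import Mathlib
import Cfsg.Prelude.Def_FusionSystem
import Cfsg.Prelude.Def_LocalEven
import Cfsg.Agent.Lib.Helper23.PConstrained
import Cfsg.Agent.Lib.Helper25.Fusion

set_option autoImplicit false

namespace Cfsg.Agent.Helper14.FusPStable

open Cfsg Subgroup

/-- pCore membership transported along an isomorphism. -/
theorem mem_pCore_equiv {H H' : Type*} [Group H] [Group H'] (p : ℕ) [Fact p.Prime] (e : H ≃* H')
    (x : H) : e x ∈ pCore p H' ↔ x ∈ pCore p H := by
  constructor
  · intro h
    have h1 := Cfsg.Agent.Helper23.PSolv.pCore_map_le p e.symm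
    have h2 : e.symm (e x) ∈ pCore p H := h1 ⟨e x, h, rfl⟩
    simpa using h2
  · intro h
    exact Cfsg.Agent.Helper23.PSolv.pCore_map_le p e ⟨x, h, rfl⟩

/-- Lemma A: for a surjective hom with kernel `K`, the class of `a` is in the `p`-core of the
quotient iff the image of `a` is in the `p`-core of the target. -/
theorem mk_mem_pCore_iff {A B : Type*} [Group A] [Group B] (p : ℕ) [Fact p.Prime]
    (f : A →* B) (hf : Function.Surjective f) (K : Subgroup A) [K.Normal] (hK : f.ker = K) (a : A) :
    (QuotientGroup.mk (s := K) a) ∈ pCore p (A ⧸ K) ↔ f a ∈ pCore p B := by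
  subst hK
  have e := QuotientGroup.quotientKerEquivOfSurjective f hf
  have := mem_pCore_equiv p (QuotientGroup.quotientKerEquivOfSurjective f hf)
    (QuotientGroup.mk (s := f.ker) a)
  rw [← this]
  rfl

end Cfsg.Agent.Helper14.FusPStable
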