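import Mathlib
import Cfsg.Agent.Lib.Helper14.FusPStableA

set_option autoImplicit false

namespace Cfsg.Agent.Helper14.FusPStable

open Cfsg Subgroup

variable {Ω : Type*} [Group Ω]

/-- conjugate of a subgroup -/
abbrev cj (y : Ω) (Q₀ : Subgroup Ω) : Subgroup Ω := Q₀.map (MulAut.conj y).toMonoidHom

theorem mem_cj_iff (y : Ω) (Q₀ : Subgroup Ω) (a : Ω) : a ∈ cj y Q₀ ↔ y⁻¹ * a * y ∈ Q₀ := by
  constructor
  · rintro ⟨b, hb, rfl⟩
    simpa [MulAut.conj_apply, mul_assoc] using hb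
  · intro h
    exact ⟨y⁻¹ * a * y, h, by simp [MulAut.conj_apply, mul_assoc]⟩

theorem conj_mem_cj (y : Ω) (Q₀ : Subgroup Ω) {a : Ω} (ha : a ∈ Q₀) : y * a * y⁻¹ ∈ cj y Q₀ :=
  ⟨a, ha, by simp [MulAut.conj_apply]⟩

theorem normalizer_cj (y : Ω) (Q₀ : Subgroup Ω) :
    normalizer ((cj y Q₀ : Subgroup Ω) : Set Ω) = cj y (normalizer (Q₀ : Set Ω)) :=
  (Subgroup.map_equiv_normalizer_eq Q₀ (MulAut.conj y)).symm

/-- conjugation hom between the normalizers -/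
noncomputable def conjNorm (y : Ω) (Q₀ : Subgroup Ω) :
    ↥(normalizer (Q₀ : Set Ω)) →* ↥(normalizer ((cj y Q₀ : Subgroup Ω) : Set Ω)) :=
  ((MulAut.conj y).toMonoidHom.comp (normalizer (Q₀ : Set Ω)).subtype).codRestrict _ (by
    intro x
    rw [normalizer_cj]
    exact ⟨x.1, x.2, rfl⟩)

theorem conjNorm_coe (y : Ω) (Q₀ : Subgroup Ω) (x : ↥(normalizer (Q₀ : Set Ω))) :
    ((conjNorm y Q₀ x : ↥(normalizer ((cj y Q₀ : Subgroup Ω) : Set Ω))) : Ω) = y * (x : Ω) * y⁻¹ := rfl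

/-- the action hom `N(Q₀) → Aut(Q)` for `Q = y Q₀ y⁻¹`. -/
noncomputable def actHom (y : Ω) (Q₀ : Subgroup Ω) :
    ↥(normalizer (Q₀ : Set Ω)) →* MulAut ↥(cj y Q₀) :=
  (Subgroup.normalizerMonoidHom (cj y Q₀)).comp (conjNorm y Q₀)

theorem actHom_apply_coe (y : Ω) (Q₀ : Subgroup Ω) (x : ↥(normalizer (Q₀ : Set Ω))) (a : ↥(cj y Q₀)) :
    ((actHom y Q₀ x a : ↥(cj y Q₀)) : Ω) = (y * (x : Ω) * y⁻¹) * (a : Ω) * (y * (x : Ω) * y⁻¹)⁻¹ := rfl

theorem actHom_ker (y : Ω) (Q₀ : Subgroup Ω) :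
    (actHom y Q₀).ker = (centralizer (Q₀ : Set Ω)).subgroupOf (normalizer (Q₀ : Set Ω)) := by
  ext x
  rw [MonoidHom.mem_ker, Subgroup.mem_subgroupOf, Subgroup.mem_centralizer_iff]
  constructor
  · intro h a ha
    have h1 := actHom_apply_coe y Q₀ x ⟨y * a * y⁻¹, conj_mem_cj y Q₀ ha⟩
    rw [h] at h1
    simp only [MulAut.one_apply] at h1
    have h2 : y * a * y⁻¹ = y * (x * a * x⁻¹) * y⁻¹ := by
      rw [h1]; simp [mul_assoc]
    have h3 : a = x * a * x⁻¹ := by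
      have := mul_left_cancel (mul_right_cancel h2)
      exact this
    calc a * x = (x * a * x⁻¹) * x := by rw [← h3]
      _ = x * a := by simp [mul_assoc]
  · intro h
    ext a
    rw [actHom_apply_coe]
    simp only [MulAut.one_apply]
    have ha := (mem_cj_iff y Q₀ a).mp a.2
    have h1 := h _ ha
    have h2 : (x : Ω) * (y⁻¹ * a * y) * (x : Ω)⁻¹ = y⁻¹ * a * y := by
      rw [← h1]; simp [mul_assoc]
    calc y * (x : Ω) * y⁻¹ * (a : Ω) * (y * (x : Ω) * y⁻¹)⁻¹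
        = y * ((x : Ω) * (y⁻¹ * a * y) * (x : Ω)⁻¹) * y⁻¹ := by simp [mul_assoc]
      _ = a := by rw [h2]; simp [mul_assoc]

end Cfsg.Agent.Helper14.FusPStable
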