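import Mathlib
import Cfsg.Agent.Lib.Helper14.FusPStableB

set_option autoImplicit false

namespace Cfsg.Agent.Helper14.FusPStable

open Cfsg Subgroup
open scoped commutatorElement

variable {Ω : Type*} [Group Ω]

theorem actHom_mem_autGroup (S : Subgroup Ω) (y : Ω) (Q₀ : Subgroup Ω) (hQ : cj y Q₀ ≤ S)
    (x : ↥(normalizer (Q₀ : Set Ω))) :
    actHom y Q₀ x ∈ (groupFusionSystem S).autGroup (cj y Q₀) := by
  rw [Cfsg.Agent.Helper25.mem_autGroup_iff _ hQ]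
  exact ⟨hQ, fun a => hQ (actHom y Q₀ x a).2, y * (x : Ω) * y⁻¹, fun a => rfl⟩

theorem exists_actHom_eq (S : Subgroup Ω) (y : Ω) (Q₀ : Subgroup Ω) (hQ : cj y Q₀ ≤ S)
    (α : MulAut ↥(cj y Q₀)) (hα : α ∈ (groupFusionSystem S).autGroup (cj y Q₀)) :
    ∃ x : ↥(normalizer (Q₀ : Set Ω)), actHom y Q₀ x = α := by
  obtain ⟨-, -, g, hg⟩ := (Cfsg.Agent.Helper25.mem_autGroup_iff _ hQ α).mp hα
  have hg' : ∀ a : ↥(cj y Q₀), ((α a : ↥(cj y Q₀)) : Ω) = g * (a : Ω) * g⁻¹ := hg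
  have hgN : g ∈ normalizer ((cj y Q₀ : Subgroup Ω) : Set Ω) := by
    rw [Subgroup.mem_normalizer_iff]
    intro h
    constructor
    · intro hh
      have := hg' ⟨h, hh⟩
      rw [← this]
      exact (α ⟨h, hh⟩).2
    · intro hh
      have h1 := hg' (α.symm ⟨g * h * g⁻¹, hh⟩)
      rw [MulEquiv.apply_symm_apply] at h1
      have h2 : h = ((α.symm ⟨g * h * g⁻¹, hh⟩ : ↥(cj y Q₀)) : Ω) :=
        mul_left_cancel (mul_right_cancel h1)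
      rw [h2]
      exact (α.symm ⟨g * h * g⁻¹, hh⟩).2
  rw [normalizer_cj] at hgN
  obtain ⟨x, hx, hxg⟩ := hgN
  refine ⟨⟨x, hx⟩, ?_⟩
  ext a
  rw [actHom_apply_coe, hg']
  have : y * x * y⁻¹ = g := hxg
  rw [this]

/-- C1: the pointwise quadratic condition versus the commutator condition. -/
theorem quad_iff (Q₀ : Subgroup Ω) (x : Ω) :
    (∀ a₀ ∈ Q₀, x * ⁅a₀, x⁆ = ⁅a₀, x⁆ * x) ↔ ⁅⁅Q₀, zpowers x⁆, zpowers x⁆ = ⊥ := by
  rw [Subgroup.commutator_eq_bot_iff_le_centralizer]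
  constructor
  · intro h
    -- subgroup trick
    let W : Subgroup Ω :=
      { carrier := {k | k ∈ zpowers x ∧ ∀ a ∈ Q₀, ⁅a, k⁆ ∈ centralizer (zpowers x : Set Ω)}
        one_mem' := ⟨one_mem _, fun a _ => by simp⟩
        mul_mem' := by
          rintro k l ⟨hk, hk'⟩ ⟨hl, hl'⟩
          refine ⟨mul_mem hk hl, fun a ha => ?_⟩
          have h1 : ⁅a, k * l⁆ = ⁅a, k⁆ * (k * ⁅a, l⁆ * k⁻¹) := by
            simp only [commutatorElement_def]; group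
          have h2 : k * ⁅a, l⁆ * k⁻¹ = ⁅a, l⁆ := by
            have := (Subgroup.mem_centralizer_iff.mp (hl' a ha)) k hk
            rw [this]; simp
          rw [h1, h2]
          exact mul_mem (hk' a ha) (hl' a ha)
        inv_mem' := by
          rintro k ⟨hk, hk'⟩
          refine ⟨inv_mem hk, fun a ha => ?_⟩
          have h1 : ⁅a, k⁻¹⁆ = k⁻¹ * ⁅a, k⁆⁻¹ * k := by
            simp only [commutatorElement_def]; group
          have h2 : k⁻¹ * ⁅a, k⁆⁻¹ * k = ⁅a, k⁆⁻¹ := by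
            have := (Subgroup.mem_centralizer_iff.mp (inv_mem (hk' a ha))) k⁻¹ (inv_mem hk)
            rw [this]; simp
          rw [h1, h2]
          exact inv_mem (hk' a ha) }
    have hxW : x ∈ W := by
      refine ⟨Subgroup.mem_zpowers x, fun a ha => ?_⟩
      rw [Subgroup.mem_centralizer_iff]
      intro k hk
      obtain ⟨i, rfl⟩ := Subgroup.mem_zpowers_iff.mp hk
      have hc : Commute x ⁅a, x⁆ := h a ha
      exact (hc.zpow_left i).eq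
    have hW : zpowers x ≤ W := Subgroup.zpowers_le_of_mem hxW
    rw [Subgroup.commutator_le]
    intro a ha k hk
    exact (hW hk).2 a ha
  · intro h a₀ ha₀
    have h1 : ⁅a₀, x⁆ ∈ ⁅Q₀, zpowers x⁆ :=
      Subgroup.commutator_mem_commutator ha₀ (Subgroup.mem_zpowers x)
    exact (Subgroup.mem_centralizer_iff.mp (h h1)) x (Subgroup.mem_zpowers x)

/-- C2: the quadratic formula for `actHom y Q₀ x` versus the pointwise condition. -/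
theorem quad_actHom_iff (y : Ω) (Q₀ : Subgroup Ω) (x : ↥(normalizer (Q₀ : Set Ω))) :
    (∀ a : ↥(cj y Q₀), (actHom y Q₀ x a⁻¹) * a * (actHom y Q₀ x a⁻¹) *
        (actHom y Q₀ x (actHom y Q₀ x a)) = 1) ↔
      (∀ a₀ ∈ Q₀, (x : Ω) * ⁅a₀, (x : Ω)⁆ = ⁅a₀, (x : Ω)⁆ * x) := by
  have key : ∀ a : ↥(cj y Q₀),
      (((actHom y Q₀ x a⁻¹) * a * (actHom y Q₀ x a⁻¹) *
        (actHom y Q₀ x (actHom y Q₀ x a)) : ↥(cj y Q₀)) : Ω) =
      y * (⁅(y⁻¹ * (a : Ω) * y)⁻¹, (x : Ω)⁆⁻¹ * x * ⁅(y⁻¹ * (a : Ω) * y)⁻¹, (x : Ω)⁆ * (x : Ω)⁻¹) * y⁻¹ := by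
    intro a
    simp only [Subgroup.coe_mul, actHom_apply_coe, Subgroup.coe_inv, commutatorElement_def]
    group
  constructor
  · intro h a₀ ha₀
    have h1 := key ⟨y * a₀⁻¹ * y⁻¹, conj_mem_cj y Q₀ (inv_mem ha₀)⟩
    rw [h ⟨y * a₀⁻¹ * y⁻¹, conj_mem_cj y Q₀ (inv_mem ha₀)⟩] at h1
    simp only [Subgroup.coe_one] at h1
    have h2 : (y⁻¹ * (y * a₀⁻¹ * y⁻¹) * y)⁻¹ = a₀ := by group
    rw [h2] at h1
    have h3 : ⁅a₀, (x : Ω)⁆⁻¹ * x * ⁅a₀, (x : Ω)⁆ * (x : Ω)⁻¹ = 1 := by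
      have : y⁻¹ * 1 * y = y⁻¹ * (y * (⁅a₀, (x : Ω)⁆⁻¹ * x * ⁅a₀, (x : Ω)⁆ * (x : Ω)⁻¹) * y⁻¹) * y := by
        rw [← h1]
      simpa [mul_assoc] using this.symm
    have h4 : ⁅a₀, (x : Ω)⁆⁻¹ * x * ⁅a₀, (x : Ω)⁆ = x := by
      have := mul_inv_eq_one.mp h3
      exact this
    calc (x : Ω) * ⁅a₀, (x : Ω)⁆ = ⁅a₀, (x : Ω)⁆ * (⁅a₀, (x : Ω)⁆⁻¹ * x * ⁅a₀, (x : Ω)⁆) := by group
      _ = ⁅a₀, (x : Ω)⁆ * x := by rw [h4]
  · intro h a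
    apply Subtype.ext
    rw [key a]
    have ha := (mem_cj_iff y Q₀ a).mp a.2
    have h1 := h _ (inv_mem ha)
    have h2 : ⁅(y⁻¹ * (a : Ω) * y)⁻¹, (x : Ω)⁆⁻¹ * x * ⁅(y⁻¹ * (a : Ω) * y)⁻¹, (x : Ω)⁆ * (x : Ω)⁻¹ = 1 := by
      rw [mul_assoc _ (x : Ω) _, h1]
      group
    rw [h2]
    simp

end Cfsg.Agent.Helper14.FusPStable
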