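import Mathlib
import Cfsg.Agent.Lib.Helper14.FusPStableC

set_option autoImplicit false

namespace Cfsg.Agent.Helper14.FusPStable

open Cfsg Subgroup
open scoped commutatorElement

variable {Ω : Type*} [Group Ω]

theorem mem_map_subtype_iff {G : Type*} [Group G] (A : Subgroup G) (B : Subgroup ↥A) (g : G) (hg : g ∈ A) :
    g ∈ B.map A.subtype ↔ (⟨g, hg⟩ : ↥A) ∈ B := by
  constructor
  · rintro ⟨z, hz, hzg⟩
    have : z = ⟨g, hg⟩ := Subtype.ext hzg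
    rwa [← this]
  · intro h
    exact ⟨⟨g, hg⟩, h, rfl⟩

/-- D: the class of `x` is in the `p`-core of `N(Q₀)/C(Q₀)` iff the induced automorphism of the
conjugate is in the image of the `p`-core of the automizer. -/
theorem mk_mem_pCore_iff_actHom (p : ℕ) [Fact p.Prime] (S : Subgroup Ω) (y : Ω) (Q₀ : Subgroup Ω)
    (hQ : cj y Q₀ ≤ S) (x : Ω) (hx : x ∈ normalizer (Q₀ : Set Ω)) :
    (QuotientGroup.mk (s := (Subgroup.centralizer (Q₀ : Set Ω)).subgroupOf (Subgroup.normalizer (Q₀ : Set Ω)))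
          (⟨x, hx⟩ : ↥(Subgroup.normalizer (Q₀ : Set Ω)))) ∈
        pCore p (↥(Subgroup.normalizer (Q₀ : Set Ω)) ⧸
          (Subgroup.centralizer (Q₀ : Set Ω)).subgroupOf (Subgroup.normalizer (Q₀ : Set Ω))) ↔
      actHom y Q₀ ⟨x, hx⟩ ∈ (pCore p ↥((groupFusionSystem S).autGroup (cj y Q₀))).map
        ((groupFusionSystem S).autGroup (cj y Q₀)).subtype := by
  let f : ↥(normalizer (Q₀ : Set Ω)) →* ↥((groupFusionSystem S).autGroup (cj y Q₀)) :=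
    (actHom y Q₀).codRestrict _ (actHom_mem_autGroup S y Q₀ hQ)
  have hf : Function.Surjective f := by
    rintro ⟨α, hα⟩
    obtain ⟨z, hz⟩ := exists_actHom_eq S y Q₀ hQ α hα
    exact ⟨z, Subtype.ext hz⟩
  have hker : f.ker = (centralizer (Q₀ : Set Ω)).subgroupOf (normalizer (Q₀ : Set Ω)) := by
    rw [MonoidHom.ker_codRestrict, actHom_ker]
  rw [mk_mem_pCore_iff p f hf _ hker ⟨x, hx⟩,
    mem_map_subtype_iff _ _ _ (actHom_mem_autGroup S y Q₀ hQ ⟨x, hx⟩)]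
  rfl

/-- E1 -/
theorem forward (p : ℕ) [Fact p.Prime] (hstab : IsNormalizerPStable p Ω) (S : Subgroup Ω) (y : Ω)
    (Q₀ : Subgroup Ω) (hQ₀ : IsPGroup p Q₀) (Q : Subgroup Ω) (hQ : Q = cj y Q₀) (hQS : Q ≤ S)
    (χ : MulAut ↥Q) (hχ : χ ∈ (groupFusionSystem S).autGroup Q)
    (hquad : ∀ a : ↥Q, (χ a⁻¹) * a * (χ a⁻¹) * (χ (χ a)) = 1) :
    χ ∈ ((pCore p ↥((groupFusionSystem S).autGroup Q)).map ((groupFusionSystem S).autGroup Q).subtype :
      Subgroup (MulAut ↥Q)) := by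
  subst hQ
  obtain ⟨x, rfl⟩ := exists_actHom_eq S y Q₀ hQS χ hχ
  have h1 := (quad_actHom_iff y Q₀ x).mp hquad
  have h2 := (quad_iff Q₀ (x : Ω)).mp h1
  have h3 := hstab Q₀ hQ₀ x.1 x.2 h2
  exact (mk_mem_pCore_iff_actHom p S y Q₀ hQS x.1 x.2).mp h3

/-- E2 -/
theorem backward (p : ℕ) [Fact p.Prime] (S : Subgroup Ω) (y : Ω)
    (Q₀ : Subgroup Ω) (Q : Subgroup Ω) (hQ : Q = cj y Q₀) (hQS : Q ≤ S)
    (hyp : ∀ χ : MulAut ↥Q, χ ∈ (groupFusionSystem S).autGroup Q →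
      (∀ a : ↥Q, (χ a⁻¹) * a * (χ a⁻¹) * (χ (χ a)) = 1) →
      χ ∈ ((pCore p ↥((groupFusionSystem S).autGroup Q)).map ((groupFusionSystem S).autGroup Q).subtype :
        Subgroup (MulAut ↥Q)))
    (x : Ω) (hx : x ∈ normalizer (Q₀ : Set Ω))
    (hquad : ⁅⁅Q₀, Subgroup.zpowers x⁆, Subgroup.zpowers x⁆ = ⊥) :
    (QuotientGroup.mk (s := (Subgroup.centralizer (Q₀ : Set Ω)).subgroupOf (Subgroup.normalizer (Q₀ : Set Ω)))
          (⟨x, hx⟩ : ↥(Subgroup.normalizer (Q₀ : Set Ω)))) ∈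
        pCore p (↥(Subgroup.normalizer (Q₀ : Set Ω)) ⧸
          (Subgroup.centralizer (Q₀ : Set Ω)).subgroupOf (Subgroup.normalizer (Q₀ : Set Ω))) := by
  subst hQ
  rw [mk_mem_pCore_iff_actHom p S y Q₀ hQS x hx]
  apply hyp _ (actHom_mem_autGroup S y Q₀ hQS ⟨x, hx⟩)
  rw [quad_actHom_iff]
  exact (quad_iff Q₀ x).mpr hquad

end Cfsg.Agent.Helper14.FusPStable
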