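import Mathlib
import Cfsg.Agent.Lib.Helper14.FusPStableD

set_option autoImplicit false

namespace Cfsg.Agent.Helper14.FusPStable

open Cfsg Subgroup
open scoped commutatorElement

variable {Ω : Type*} [Group Ω]

theorem card_cj (y : Ω) (H : Subgroup Ω) : Nat.card ↥(cj y H) = Nat.card ↥H :=
  Subgroup.card_map_of_injective (MulAut.conj y).injective

theorem cj_mono (y : Ω) {H K : Subgroup Ω} (h : H ≤ K) : cj y H ≤ cj y K := Subgroup.map_mono h

theorem card_le_of_pgroup_le [Finite Ω] {p : ℕ} [Fact p.Prime] (H X : Subgroup Ω) (hH : IsPGroup p H)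
    (hHX : H ≤ X) : Nat.card ↥H ≤ p ^ (Nat.card ↥X).factorization p := by
  have h1 : IsPGroup p ↥(H.subgroupOf X) := hH.comap_subtype
  obtain ⟨R, hR⟩ := h1.exists_le_sylow
  have h2 : Nat.card ↥(H.subgroupOf X) ≤ Nat.card ↥(R : Subgroup ↥X) := Subgroup.card_le_of_le hR
  have h3 : Nat.card ↥(H.subgroupOf X) = Nat.card ↥H :=
    Nat.card_congr (Subgroup.subgroupOfEquivOfLe hHX).toEquiv
  rw [h3, Sylow.card_eq_multiplicity] at h2
  exact h2

theorem exists_fullyNormalized_cj [Finite Ω] {p : ℕ} [Fact p.Prime] (P : Sylow p Ω) (Q₀ : Subgroup Ω)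
    (hQ₀ : IsPGroup p Q₀) :
    ∃ y : Ω, (groupFusionSystem (P : Subgroup Ω)).IsFullyNormalized (cj y Q₀) := by
  have hQN : Q₀ ≤ normalizer (Q₀ : Set Ω) := Subgroup.le_normalizer
  have h1 : IsPGroup p ↥(Q₀.subgroupOf (normalizer (Q₀ : Set Ω))) := hQ₀.comap_subtype
  obtain ⟨T, hT⟩ := h1.exists_le_sylow
  have hT' : IsPGroup p ↥((T : Subgroup ↥(normalizer (Q₀ : Set Ω))).map (normalizer (Q₀ : Set Ω)).subtype) :=
    T.2.map _
  obtain ⟨P', hP'⟩ := hT'.exists_le_sylow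
  obtain ⟨y, hy⟩ := MulAction.exists_smul_eq Ω P' P
  have hyP : ∀ t ∈ (P' : Subgroup Ω), y * t * y⁻¹ ∈ (P : Subgroup Ω) := by
    intro t ht
    rw [← hy, Sylow.coe_subgroup_smul]
    rw [Subgroup.mem_smul_pointwise_iff_exists]
    exact ⟨t, ht, by simp [MulAut.smul_def, MulAut.conj_apply]⟩
  set T' := (T : Subgroup ↥(normalizer (Q₀ : Set Ω))).map (normalizer (Q₀ : Set Ω)).subtype with hT'def
  have hQT : Q₀ ≤ T' := by
    intro a ha
    exact ⟨⟨a, hQN ha⟩, hT (by rw [Subgroup.mem_subgroupOf]; exact ha), rfl⟩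
  have hT'N : T' ≤ normalizer (Q₀ : Set Ω) := by
    rintro _ ⟨t, -, rfl⟩
    exact t.2
  have hcjTP : cj y T' ≤ (P : Subgroup Ω) := by
    rintro _ ⟨t, ht, rfl⟩
    exact hyP t (hP' ht)
  have hQP : cj y Q₀ ≤ (P : Subgroup Ω) := (cj_mono y hQT).trans hcjTP
  have hcardT' : Nat.card ↥T' = p ^ (Nat.card ↥(normalizer (Q₀ : Set Ω))).factorization p := by
    rw [hT'def, Subgroup.card_map_of_injective (Subgroup.subtype_injective _)]
    exact Sylow.card_eq_multiplicity T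
  have hlow : p ^ (Nat.card ↥(normalizer (Q₀ : Set Ω))).factorization p ≤
      Nat.card ↥(FusionSystem.normalizerIn (P : Subgroup Ω) (cj y Q₀)) := by
    rw [← hcardT', ← card_cj y T']
    apply Subgroup.card_le_of_le
    unfold FusionSystem.normalizerIn
    refine le_inf hcjTP ?_
    rw [normalizer_cj]
    exact cj_mono y hT'N
  refine ⟨y, hQP, ?_⟩
  rintro Q'' ⟨φ, ⟨-, -, k, hk⟩, hφ⟩
  refine le_trans ?_ hlow
  have hQ'' : Q'' = cj k (cj y Q₀) := by
    rw [← hφ]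
    ext z
    constructor
    · rintro ⟨a, rfl⟩
      rw [hk a]
      exact conj_mem_cj k _ a.2
    · rintro ⟨a, ha, rfl⟩
      exact ⟨⟨a, ha⟩, hk ⟨a, ha⟩⟩
  have hN : normalizer (Q'' : Set Ω) = cj k (cj y (normalizer (Q₀ : Set Ω))) := by
    rw [hQ'', normalizer_cj, normalizer_cj]
  have hcardN : Nat.card ↥(normalizer (Q'' : Set Ω)) = Nat.card ↥(normalizer (Q₀ : Set Ω)) := by
    rw [hN, card_cj, card_cj]
  rw [← hcardN]
  apply card_le_of_pgroup_le
  · exact P.2.to_le inf_le_left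
  · exact inf_le_right

end Cfsg.Agent.Helper14.FusPStable
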