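import Mathlib
import Cfsg.Agent.Lib.Helper14.FusPStableA
import Cfsg.Agent.Lib.Helper10.Cores
import Cfsg.Agent.Lib.Helper25.FusionSat4

set_option autoImplicit false

namespace Cfsg.Agent.Helper14.FusPStable

open Cfsg Subgroup

/-- `O_p(A) ∩ B ≤ O_p(B)` for `B ≤ A`. -/
theorem mem_pCore_map_of_le {G : Type*} [Group G] (p : ℕ) [Fact p.Prime] (A B : Subgroup G) (hBA : B ≤ A)
    (x : G) (hxB : x ∈ B) (hx : x ∈ (pCore p ↥A).map A.subtype) : x ∈ (pCore p ↥B).map B.subtype := by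
  set M : Subgroup ↥B := ((pCore p ↥A).map A.subtype).subgroupOf B with hM
  have hMn : M.Normal := by
    constructor
    intro n hn g
    rw [hM, Subgroup.mem_subgroupOf] at hn ⊢
    obtain ⟨z, hz, hzn⟩ := hn
    refine ⟨⟨g, hBA g.2⟩ * z * ⟨g, hBA g.2⟩⁻¹,
      (Cfsg.Agent.Helper10.pCore_normal p).conj_mem z hz _, ?_⟩
    have h0 : (z : G) = (n : G) := hzn
    show (g : G) * (z : G) * (g : G)⁻¹ = (g : G) * (n : G) * (g : G)⁻¹
    rw [h0]
  have hMp : IsPGroup p M := by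
    have h1 : IsPGroup p ↥((pCore p ↥A).map A.subtype) := (Cfsg.Agent.Helper10.pCore_isPGroup p).map _
    exact h1.comap_subtype
  have hMle : M ≤ pCore p ↥B := le_sSup ⟨hMn, hMp⟩
  exact ⟨⟨x, hxB⟩, hMle (Subgroup.mem_subgroupOf.mpr hx), rfl⟩

/-- transport of `O_p` of a subgroup along an isomorphism of the ambient groups. -/
theorem mem_pCore_map_equiv {G G' : Type*} [Group G] [Group G'] (p : ℕ) [Fact p.Prime] (ε : G ≃* G')
    (A : Subgroup G) (A' : Subgroup G') (hA : A.map ε.toMonoidHom = A') (x : G)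
    (hx : x ∈ (pCore p ↥A).map A.subtype) : ε x ∈ (pCore p ↥A').map A'.subtype := by
  subst hA
  obtain ⟨z, hz, rfl⟩ := hx
  refine ⟨ε.subgroupMap A z, ?_, rfl⟩
  exact Cfsg.Agent.Helper23.PSolv.pCore_map_le p (ε.subgroupMap A) ⟨z, hz, rfl⟩

/-- quadratic automorphism of a finite group: `χ ^ |Q| = 1`. -/
theorem pow_card_eq_one_of_quad {Q : Type*} [Group Q] [Finite Q] (χ : MulAut Q)
    (hquad : ∀ a : Q, (χ a⁻¹) * a * (χ a⁻¹) * (χ (χ a)) = 1) : χ ^ (Nat.card Q) = 1 := by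
  have hc : ∀ a : Q, χ (a⁻¹ * χ a) = a⁻¹ * χ a := by
    intro a
    have h := hquad a
    rw [map_mul]
    have h2 : χ a⁻¹ * χ (χ a) = (χ a⁻¹ * a)⁻¹ := by
      apply eq_inv_of_mul_eq_one_right
      rw [← h]; simp only [mul_assoc]
    rw [h2, mul_inv_rev, map_inv, inv_inv]
  have hpow : ∀ (n : ℕ) (a : Q), (χ ^ n) a = a * (a⁻¹ * χ a) ^ n := by
    intro n
    induction n with
    | zero => intro a; simp
    | succ n ih =>
      intro a
      rw [pow_succ', MulAut.mul_apply, ih, map_mul, map_pow, hc, pow_succ']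
      simp [mul_assoc]
  ext a
  rw [hpow, pow_card_eq_one']
  simp

theorem mulAut_comm_of_isCyclic {Q : Type*} [Group Q] [IsCyclic Q] (σ τ : MulAut Q) : σ * τ = τ * σ := by
  obtain ⟨m, hm⟩ := MonoidHom.map_cyclic σ.toMonoidHom
  obtain ⟨n, hn⟩ := MonoidHom.map_cyclic τ.toMonoidHom
  ext a
  have h1 : ∀ g, σ g = g ^ m := hm
  have h2 : ∀ g, τ g = g ^ n := hn
  rw [MulAut.mul_apply, MulAut.mul_apply, h1, h2, h1, h2, ← zpow_mul, ← zpow_mul, mul_comm]

/-- cyclic case -/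
theorem quad_mem_pCore_of_isCyclic {Q : Type*} [Group Q] [Finite Q] [IsCyclic Q] (p : ℕ) [Fact p.Prime]
    (hQ : IsPGroup p Q) (A : Subgroup (MulAut Q)) (χ : MulAut Q) (hχ : χ ∈ A)
    (hquad : ∀ a : Q, (χ a⁻¹) * a * (χ a⁻¹) * (χ (χ a)) = 1) :
    χ ∈ (pCore p ↥A).map A.subtype := by
  have h1 := pow_card_eq_one_of_quad χ hquad
  obtain ⟨k, hk⟩ := hQ.exists_card_eq
  rw [hk] at h1
  set x : ↥A := ⟨χ, hχ⟩ with hx
  have hx1 : x ^ (p ^ k) = 1 := Subtype.ext (by simpa using h1)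
  have hZp : IsPGroup p ↥(zpowers x) := by
    rw [IsPGroup.iff_orderOf]
    intro y
    obtain ⟨i, hi⟩ := Subgroup.mem_zpowers_iff.mp y.2
    have hy : y ^ (p ^ k) = 1 := by
      apply Subtype.ext
      rw [Subgroup.coe_pow, ← hi, ← zpow_natCast, ← zpow_mul, mul_comm, zpow_mul, zpow_natCast, hx1]
      simp
    have := orderOf_dvd_of_pow_eq_one hy
    obtain ⟨j, -, hj⟩ := (Nat.dvd_prime_pow Fact.out).mp this
    exact ⟨j, hj⟩
  have hZn : (zpowers x).Normal := by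
    constructor
    intro n hn g
    have : g * n * g⁻¹ = n := by
      apply Subtype.ext
      have := mulAut_comm_of_isCyclic (g : MulAut Q) (n : MulAut Q)
      simp only [Subgroup.coe_mul, Subgroup.coe_inv]
      rw [this]; group
    rw [this]; exact hn
  have hle : zpowers x ≤ pCore p ↥A := le_sSup ⟨hZn, hZp⟩
  exact ⟨x, hle (Subgroup.mem_zpowers x), rfl⟩

end Cfsg.Agent.Helper14.FusPStable
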