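import Mathlib
import Cfsg.Agent.Lib.Helper14.FusPStableG
import Cfsg.Agent.Lib.Helper25.FusionModel2

set_option autoImplicit false

namespace Cfsg.Agent.Helper14.FusPStable

open Cfsg Subgroup Cfsg.FusionSystem Cfsg.Agent.Helper25

variable {Ω : Type*} [Group Ω] {S : Subgroup Ω}

theorem congr_mem_autGroup (F : FusionSystem S) {Q Q' : Subgroup Ω} (hQ : Q ≤ S) (hQ' : Q' ≤ S)
    (e : ↥Q ≃* ↥Q') (he : Q'.subtype.comp e.toMonoidHom ∈ F.Hom Q)
    (he' : Q.subtype.comp e.symm.toMonoidHom ∈ F.Hom Q')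
    (α : MulAut ↥Q) (hα : α ∈ F.autGroup Q) : MulAut.congr e α ∈ F.autGroup Q' := by
  rw [mem_autGroup_iff F hQ']
  have hαF := (mem_autGroup_iff F hQ α).mp hα
  have h1 : Q.subtype.comp (α.toMonoidHom.comp e.symm.toMonoidHom) ∈ F.Hom Q' :=
    comp_mem' F he' hαF (fun x => (e.symm x).2) (fun x => rfl)
  exact comp_mem' F h1 he (fun x => (α (e.symm x)).2) (fun x => rfl)

theorem autGroup_map_congr (F : FusionSystem S) {Q Q' : Subgroup Ω} (hQ : Q ≤ S) (hQ' : Q' ≤ S)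
    (e : ↥Q ≃* ↥Q') (he : Q'.subtype.comp e.toMonoidHom ∈ F.Hom Q)
    (he' : Q.subtype.comp e.symm.toMonoidHom ∈ F.Hom Q') :
    (F.autGroup Q).map (MulAut.congr e).toMonoidHom = F.autGroup Q' := by
  apply le_antisymm
  · rintro _ ⟨α, hα, rfl⟩
    exact congr_mem_autGroup F hQ hQ' e he he' α hα
  · intro β hβ
    refine ⟨MulAut.congr e.symm β, congr_mem_autGroup F hQ' hQ e.symm he' he β hβ, ?_⟩
    ext b
    simp [MulAut.congr]

theorem exists_equiv_of_isConj (F : FusionSystem S) {Q Q' : Subgroup Ω} (h : F.IsConj Q Q') :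
    ∃ e : ↥Q ≃* ↥Q', Q'.subtype.comp e.toMonoidHom ∈ F.Hom Q ∧
      Q.subtype.comp e.symm.toMonoidHom ∈ F.Hom Q' := by
  obtain ⟨φ, hφ, rfl⟩ := h
  obtain ⟨ψ, hψ, hinv⟩ := F.inv_mem hφ
  refine ⟨MonoidHom.ofInjective (F.injective_of_mem hφ), ?_, ?_⟩
  · have : φ.range.subtype.comp (MonoidHom.ofInjective (F.injective_of_mem hφ)).toMonoidHom = φ := by
      ext x; rfl
    rw [this]; exact hφ
  · have : Q.subtype.comp (MonoidHom.ofInjective (F.injective_of_mem hφ)).symm.toMonoidHom = ψ := by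
      ext y
      obtain ⟨x, hx⟩ := y.2
      have hy : y = MonoidHom.ofInjective (F.injective_of_mem hφ) x := Subtype.ext hx.symm
      rw [hy]
      simp only [MonoidHom.coe_comp, Subgroup.coe_subtype, MulEquiv.coe_toMonoidHom,
        Function.comp_apply, MulEquiv.symm_apply_apply]
      exact (hinv x).symm
    rw [this]; exact hψ

theorem quad_congr {Q Q' : Type*} [Group Q] [Group Q'] (e : Q ≃* Q') (χ : MulAut Q)
    (hquad : ∀ a : Q, (χ a⁻¹) * a * (χ a⁻¹) * (χ (χ a)) = 1) :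
    ∀ b : Q', (MulAut.congr e χ b⁻¹) * b * (MulAut.congr e χ b⁻¹) *
      (MulAut.congr e χ (MulAut.congr e χ b)) = 1 := by
  intro b
  have h := congrArg e (hquad (e.symm b))
  simpa [MulAut.congr] using h

theorem map_symm_of_map_eq {G G' : Type*} [Group G] [Group G'] (ε : G ≃* G') (A : Subgroup G)
    (A' : Subgroup G') (h : A.map ε.toMonoidHom = A') : A'.map ε.symm.toMonoidHom = A := by
  subst h
  ext x
  constructor
  · rintro ⟨_, ⟨a, ha, rfl⟩, rfl⟩
    simpa using ha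
  · intro hx
    exact ⟨ε x, ⟨x, hx, rfl⟩, by simp⟩

/-- Step 1: the `p`-stability condition for fully normalized subgroups gives it for all subgroups. -/
theorem pstable_all [Finite S] (p : ℕ) [Fact p.Prime] (F : FusionSystem S)
    (hF : ∀ Q : Subgroup Ω, F.IsFullyNormalized Q → ∀ χ : MulAut ↥Q, χ ∈ F.autGroup Q →
      (∀ a : ↥Q, (χ a⁻¹) * a * (χ a⁻¹) * (χ (χ a)) = 1) →
      χ ∈ ((Cfsg.pCore p ↥(F.autGroup Q)).map (F.autGroup Q).subtype : Subgroup (MulAut ↥Q)))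
    (Q : Subgroup Ω) (hQ : Q ≤ S) (χ : MulAut ↥Q) (hχ : χ ∈ F.autGroup Q)
    (hquad : ∀ a : ↥Q, (χ a⁻¹) * a * (χ a⁻¹) * (χ (χ a)) = 1) :
    χ ∈ ((Cfsg.pCore p ↥(F.autGroup Q)).map (F.autGroup Q).subtype : Subgroup (MulAut ↥Q)) := by
  obtain ⟨Q', hconj, hfn⟩ := exists_isConj_fullyNormalized F hQ
  obtain ⟨e, he, he'⟩ := exists_equiv_of_isConj F hconj
  have hQ' := hfn.1
  have h1 := hF Q' hfn (MulAut.congr e χ) (congr_mem_autGroup F hQ hQ' e he he' χ hχ)
    (quad_congr e χ hquad)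
  have hmap := map_symm_of_map_eq (MulAut.congr e) _ _ (autGroup_map_congr F hQ hQ' e he he')
  have h2 := mem_pCore_map_equiv p (MulAut.congr e).symm (F.autGroup Q') (F.autGroup Q) hmap _ h1
  rwa [MulEquiv.symm_apply_apply] at h2

end Cfsg.Agent.Helper14.FusPStable
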