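import Mathlib
import Cfsg.Agent.Lib.Helper14.FusPStableH
import Cfsg.Agent.Lib.Helper14.Basic
import Cfsg.Agent.Lib.Helper25.FusionSat3

set_option autoImplicit false

namespace Cfsg.Agent.Helper14.FusPStable

open Cfsg Subgroup Cfsg.FusionSystem Cfsg.Agent.Helper25

variable {Ω : Type*} [Group Ω] {S : Subgroup Ω}

/-- `O_p(Aut_F(Q))` inside `Aut(Q)`. -/
abbrev Opc (p : ℕ) (F : FusionSystem S) (Q : Subgroup Ω) : Subgroup (MulAut ↥Q) :=
  (pCore p ↥(F.autGroup Q)).map (F.autGroup Q).subtype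

theorem Opc_le (p : ℕ) (F : FusionSystem S) (Q : Subgroup Ω) : Opc p F Q ≤ F.autGroup Q := by
  rintro _ ⟨z, -, rfl⟩; exact z.2

theorem Opc_conj_mem (p : ℕ) (F : FusionSystem S) (Q : Subgroup Ω) {α β : MulAut ↥Q}
    (hα : α ∈ F.autGroup Q) (hβ : β ∈ Opc p F Q) : α * β * α⁻¹ ∈ Opc p F Q := by
  obtain ⟨z, hz, rfl⟩ := hβ
  exact ⟨⟨α, hα⟩ * z * ⟨α, hα⟩⁻¹, (Cfsg.Agent.Helper10.pCore_normal p).conj_mem z hz _, rfl⟩

theorem inn_normal (G : Type*) [Group G] : (Inn G).Normal := by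
  constructor
  rintro _ ⟨g, rfl⟩ σ
  refine ⟨σ g, ?_⟩
  ext x
  simp [MulAut.conj_apply]

theorem inn_le_autGroup (F : FusionSystem S) {Q : Subgroup Ω} (hQ : Q ≤ S) : Inn ↥Q ≤ F.autGroup Q := by
  rintro _ ⟨g, rfl⟩
  rw [mem_autGroup_iff F hQ]
  have h := F.conj_mem (P := Q) (g := (g : Ω)) hQ (hQ g.2)
  have e : Q.subtype.comp (MulAut.conj g).toMonoidHom = conjHom Q (g : Ω) := by
    ext x
    simp [conjHom_apply, MulAut.conj_apply]
  rw [e]; exact h

theorem inn_le_Opc (p : ℕ) [Fact p.Prime] (F : FusionSystem S) {Q : Subgroup Ω} (hQ : Q ≤ S)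
    (hQp : IsPGroup p ↥Q) : Inn ↥Q ≤ Opc p F Q := by
  have hInnA := inn_le_autGroup F hQ
  have hMn : ((Inn ↥Q).subgroupOf (F.autGroup Q)).Normal := by
    haveI := inn_normal ↥Q
    infer_instance
  have hIp : IsPGroup p ↥(Inn ↥Q) :=
    hQp.of_surjective (MulAut.conj : ↥Q →* MulAut ↥Q).rangeRestrict
      (MonoidHom.rangeRestrict_surjective _)
  have hMp : IsPGroup p ↥((Inn ↥Q).subgroupOf (F.autGroup Q)) := hIp.comap_subtype
  have hle : (Inn ↥Q).subgroupOf (F.autGroup Q) ≤ pCore p ↥(F.autGroup Q) := le_sSup ⟨hMn, hMp⟩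
  intro β hβ
  exact ⟨⟨β, hInnA hβ⟩, hle (Subgroup.mem_subgroupOf.mpr hβ), rfl⟩

theorem Opc_le_autInducedBy (p : ℕ) [Fact p.Prime] (F : FusionSystem S) {Q : Subgroup Ω}
    (hfa : F.IsFullyAutomized p Q) : Opc p F Q ≤ autInducedBy S Q := by
  obtain ⟨-, R, hR⟩ := hfa
  rintro _ ⟨z, hz, rfl⟩
  have h1 : z ∈ (R : Subgroup ↥(F.autGroup Q)) := Cfsg.Agent.Helper14.pCore_le_sylow R hz
  rw [hR, Subgroup.mem_subgroupOf] at h1
  exact h1

/-- an element acting on `Q` like an automorphism normalizes `Q`. -/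
theorem exists_normalizer_of_aut {Q : Subgroup Ω} (t : Ω) (γ : MulAut ↥Q)
    (h : ∀ y : ↥Q, t * (y : Ω) * t⁻¹ = ((γ y : ↥Q) : Ω)) :
    ∃ ht : t ∈ normalizer (Q : Set Ω), Subgroup.normalizerMonoidHom Q ⟨t, ht⟩ = γ := by
  have ht : t ∈ normalizer (Q : Set Ω) := by
    rw [Subgroup.mem_normalizer_iff]
    intro y
    constructor
    · intro hy
      rw [h ⟨y, hy⟩]; exact (γ ⟨y, hy⟩).2
    · intro hy
      have h1 := h (γ.symm ⟨t * y * t⁻¹, hy⟩)
      rw [MulEquiv.apply_symm_apply] at h1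
      have h2 : ((γ.symm ⟨t * y * t⁻¹, hy⟩ : ↥Q) : Ω) = y := mul_left_cancel (mul_right_cancel h1)
      rw [← h2]; exact (γ.symm ⟨t * y * t⁻¹, hy⟩).2
  refine ⟨ht, ?_⟩
  ext y
  exact h y

theorem normalizerMonoidHom_coe {Q : Subgroup Ω} (t : ↥(normalizer (Q : Set Ω))) (y : ↥Q) :
    ((Subgroup.normalizerMonoidHom Q t y : ↥Q) : Ω) = (t : Ω) * (y : Ω) * (t : Ω)⁻¹ := rfl

/-- centric criterion -/
theorem isCentric_of_fullyCentralized [Finite S] (F : FusionSystem S) {Q : Subgroup Ω}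
    (hfc : F.IsFullyCentralized Q) (hC : centralizerIn S Q ≤ Q) : F.IsCentric Q := by
  refine ⟨hfc.1, fun Q'' hc => ?_⟩
  have hQ''S : Q'' ≤ S := isConj_le_right F hc
  have h1 := hfc.2 Q'' hc
  obtain ⟨e, -, -⟩ := exists_equiv_of_isConj F hc
  have hZ : ∀ P : Subgroup Ω, P ≤ S → (Subgroup.center ↥P).map P.subtype ≤ centralizerIn S P := by
    intro P hP
    rintro _ ⟨z, hz, rfl⟩
    refine mem_centralizerIn.mpr ⟨hP z.2, ?_⟩
    intro y hy
    have := Subgroup.mem_center_iff.mp hz ⟨y, hy⟩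
    exact congrArg Subtype.val this
  have hcardZ : ∀ P : Subgroup Ω, Nat.card ↥((Subgroup.center ↥P).map P.subtype) =
      Nat.card ↥(Subgroup.center ↥P) := fun P =>
    Subgroup.card_map_of_injective (Subgroup.subtype_injective P)
  have hZQ : centralizerIn S Q ≤ (Subgroup.center ↥Q).map Q.subtype := by
    intro c hc'
    have hcQ := hC hc'
    refine ⟨⟨c, hcQ⟩, ?_, rfl⟩
    show (⟨c, hcQ⟩ : ↥Q) ∈ Subgroup.center ↥Q
    rw [Subgroup.mem_center_iff]
    intro y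
    apply Subtype.ext
    have := (mem_centralizerIn.mp hc').2 y y.2
    exact this
  haveI : Finite ↥(centralizerIn S Q'') := finite_of_le_finite centralizerIn_le
  haveI : Finite ↥(centralizerIn S Q) := finite_of_le_finite centralizerIn_le
  haveI : Finite ↥Q := finite_of_le_finite hfc.1
  haveI : Finite ↥Q'' := finite_of_le_finite hQ''S
  haveI : Finite ↥((Subgroup.center ↥Q).map Q.subtype) :=
    finite_of_le_finite ((hZ Q hfc.1).trans centralizerIn_le)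
  have hc1 : Nat.card ↥(centralizerIn S Q) ≤ Nat.card ↥(Subgroup.center ↥Q) := by
    rw [← hcardZ Q]
    exact Subgroup.card_le_of_le hZQ
  have hc2 : Nat.card ↥(Subgroup.center ↥Q) = Nat.card ↥(Subgroup.center ↥Q'') :=
    Nat.card_congr (Subgroup.centerCongr e).toEquiv
  have hc3 : Nat.card ↥(centralizerIn S Q'') ≤ Nat.card ↥((Subgroup.center ↥Q'').map Q''.subtype) := by
    rw [hcardZ Q'', ← hc2]
    exact h1.trans hc1
  have heq : (Subgroup.center ↥Q'').map Q''.subtype = centralizerIn S Q'' :=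
    Subgroup.eq_of_le_of_card_ge (hZ Q'' hQ''S) hc3
  rw [← heq]
  rintro _ ⟨z, -, rfl⟩
  exact z.2

end Cfsg.Agent.Helper14.FusPStable
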