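import Mathlib
import Cfsg.Agent.Lib.Helper14.FusPStableI

set_option autoImplicit false

namespace Cfsg.Agent.Helper14.FusPStable

open Cfsg Subgroup Cfsg.FusionSystem Cfsg.Agent.Helper25

variable {Ω : Type*} [Group Ω] {S : Subgroup Ω}

/-- `Q⁺`: the elements of `N_S(Q)` inducing an element of `O_p(Aut_F(Q))` on `Q`. -/
def plus (p : ℕ) (F : FusionSystem S) (Q : Subgroup Ω) : Subgroup Ω :=
  S ⊓ ((Opc p F Q).comap (Subgroup.normalizerMonoidHom Q)).map (normalizer (Q : Set Ω)).subtype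

theorem mem_plus_iff (p : ℕ) (F : FusionSystem S) (Q : Subgroup Ω) (s : Ω) :
    s ∈ plus p F Q ↔ s ∈ S ∧ ∃ hs : s ∈ normalizer (Q : Set Ω),
      Subgroup.normalizerMonoidHom Q ⟨s, hs⟩ ∈ Opc p F Q := by
  unfold plus
  rw [Subgroup.mem_inf]
  constructor
  · rintro ⟨hS, ⟨t, ht, rfl⟩⟩
    exact ⟨hS, t.2, ht⟩
  · rintro ⟨hS, hs, h⟩
    exact ⟨hS, ⟨⟨s, hs⟩, h, rfl⟩⟩

theorem plus_le (p : ℕ) (F : FusionSystem S) (Q : Subgroup Ω) : plus p F Q ≤ S := inf_le_left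

theorem plus_le_normalizer (p : ℕ) (F : FusionSystem S) (Q : Subgroup Ω) :
    plus p F Q ≤ normalizer (Q : Set Ω) := by
  intro s hs
  exact ((mem_plus_iff p F Q s).mp hs).2.1

theorem le_plus (p : ℕ) [Fact p.Prime] (F : FusionSystem S) {Q : Subgroup Ω} (hQ : Q ≤ S)
    (hQp : IsPGroup p ↥Q) : Q ≤ plus p F Q := by
  intro s hs
  rw [mem_plus_iff]
  refine ⟨hQ hs, Subgroup.le_normalizer hs, inn_le_Opc p F hQ hQp ⟨⟨s, hs⟩, ?_⟩⟩
  ext y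
  rfl

theorem centralizerIn_le_plus (p : ℕ) (F : FusionSystem S) (Q : Subgroup Ω) :
    centralizerIn S Q ≤ plus p F Q := by
  intro c hc
  obtain ⟨hcS, hcC⟩ := mem_centralizerIn.mp hc
  have hcN : c ∈ normalizer (Q : Set Ω) :=
    Subgroup.centralizer_le_normalizer _ (Subgroup.mem_centralizer_iff.mpr hcC)
  rw [mem_plus_iff]
  refine ⟨hcS, hcN, ?_⟩
  have h1 : Subgroup.normalizerMonoidHom Q ⟨c, hcN⟩ = 1 := by
    ext y
    show c * (y : Ω) * c⁻¹ = y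
    rw [← hcC y y.2]; simp
  rw [h1]; exact one_mem _

theorem exists_extension_plus [Finite S] (p : ℕ) [Fact p.Prime] (hS : IsPGroup p S)
    (F : FusionSystem S) (hF : F.IsSaturated p) {Q : Subgroup Ω} (hfn : F.IsFullyNormalized Q)
    (α : MulAut ↥Q) (hα : α ∈ F.autGroup Q) :
    ∃ β : MulAut ↥(plus p F Q), β ∈ F.autGroup (plus p F Q) ∧
      ∀ (x : Ω) (hx : x ∈ Q) (hx' : x ∈ plus p F Q),
        ((β ⟨x, hx'⟩ : ↥(plus p F Q)) : Ω) = ((α ⟨x, hx⟩ : ↥Q) : Ω) := by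
  obtain ⟨hfc, hfa, hrec⟩ := of_fullyNormalized p hS F hF hfn
  have hQS := hfn.1
  have hQp : IsPGroup p ↥Q := hS.to_le hQS
  have hQplus : Q ≤ plus p F Q := le_plus p F hQS hQp
  set φ : ↥Q →* Ω := Q.subtype.comp α.toMonoidHom with hφ
  have hφapp : ∀ x : ↥Q, φ x = ((α x : ↥Q) : Ω) := fun x => rfl
  have hφF : φ ∈ F.Hom Q := (mem_autGroup_iff F hQS α).mp hα
  have hφr : φ.range = Q := by
    ext y
    constructor
    · rintro ⟨x, rfl⟩; exact (α x).2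
    · intro hy
      refine ⟨α.symm ⟨y, hy⟩, ?_⟩
      rw [hφapp, MulEquiv.apply_symm_apply]
  obtain ⟨ψ, hψF, hψ⟩ := hrec.2 Q φ hφF hφr
  have hle : plus p F Q ≤ extender S Q φ := by
    intro s hs
    obtain ⟨hsS, hsN, hsO⟩ := (mem_plus_iff p F Q s).mp hs
    rw [mem_extender_iff]
    refine ⟨hsS, hsN, ?_⟩
    have hγ := Opc_le_autInducedBy p F hfa (Opc_conj_mem p F Q hα hsO)
    obtain ⟨h, hhS, hh⟩ := (mem_autInducedBy_iff _).mp hγ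
    refine ⟨h, hhS, fun x hx => ?_⟩
    have h1 := hh (α x)
    rw [MulAut.mul_apply, MulAut.mul_apply, MulAut.inv_apply_self] at h1
    rw [hφapp, hφapp, ← h1]
    have e : (⟨s * (x : Ω) * s⁻¹, hx⟩ : ↥Q) = Subgroup.normalizerMonoidHom Q ⟨s, hsN⟩ x :=
      Subtype.ext rfl
    rw [e]
  set ψ' : ↥(plus p F Q) →* Ω := ψ.comp (Subgroup.inclusion hle) with hψ'
  have hψ'F : ψ' ∈ F.Hom (plus p F Q) := restrict_mem F hle hψF
  have hψ'Q : ∀ (x : Ω) (hx : x ∈ Q) (hx' : x ∈ plus p F Q),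
      ψ' ⟨x, hx'⟩ = ((α ⟨x, hx⟩ : ↥Q) : Ω) := by
    intro x hx hx'
    exact hψ x hx (hle hx')
  have himg : ∀ s : ↥(plus p F Q), ψ' s ∈ plus p F Q := by
    intro s
    obtain ⟨hsS, hsN, hsO⟩ := (mem_plus_iff p F Q s).mp s.2
    rw [mem_plus_iff]
    refine ⟨(F.le_of_mem hψ'F).2 s, ?_⟩
    have hkey : ∀ y : ↥Q, ψ' s * (y : Ω) * (ψ' s)⁻¹ =
        (((α * Subgroup.normalizerMonoidHom Q ⟨s, hsN⟩ * α⁻¹) y : ↥Q) : Ω) := by
      intro y
      have hx := (α⁻¹ y).2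
      have hxp : ((α⁻¹ y : ↥Q) : Ω) ∈ plus p F Q := hQplus hx
      have hsx := (Subgroup.normalizerMonoidHom Q ⟨s, hsN⟩ (α⁻¹ y)).2
      have hsxp := hQplus hsx
      have h1 : ψ' (s * ⟨((α⁻¹ y : ↥Q) : Ω), hxp⟩ * s⁻¹) =
          ψ' s * ψ' ⟨((α⁻¹ y : ↥Q) : Ω), hxp⟩ * (ψ' s)⁻¹ := by
        rw [map_mul, map_mul, map_inv]
      have h2 : ψ' ⟨((α⁻¹ y : ↥Q) : Ω), hxp⟩ = (y : Ω) := by
        rw [hψ'Q _ hx hxp]
        simp
      have h3 : (s * ⟨((α⁻¹ y : ↥Q) : Ω), hxp⟩ * s⁻¹ : ↥(plus p F Q)) =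
          ⟨((Subgroup.normalizerMonoidHom Q ⟨s, hsN⟩ (α⁻¹ y) : ↥Q) : Ω), hsxp⟩ := Subtype.ext rfl
      rw [h3, hψ'Q _ hsx hsxp, h2] at h1
      rw [← h1]
      rfl
    obtain ⟨ht, hteq⟩ := exists_normalizer_of_aut (ψ' s) _ hkey
    exact ⟨ht, by rw [hteq]; exact Opc_conj_mem p F Q hα hsO⟩
  haveI : Finite ↥(plus p F Q) := finite_of_le_finite (plus_le p F Q)
  set f : ↥(plus p F Q) →* ↥(plus p F Q) := ψ'.codRestrict _ himg with hf
  have hinj : Function.Injective f := fun a b hab =>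
    F.injective_of_mem hψ'F (congrArg Subtype.val hab)
  have hbij : Function.Bijective f := ⟨hinj, Finite.injective_iff_surjective.mp hinj⟩
  refine ⟨MulEquiv.ofBijective f hbij, ?_, ?_⟩
  · rw [mem_autGroup_iff F (plus_le p F Q)]
    have : (plus p F Q).subtype.comp (MulEquiv.ofBijective f hbij).toMonoidHom = ψ' := by
      ext x; rfl
    rw [this]; exact hψ'F
  · intro x hx hx'
    exact hψ'Q x hx hx'

end Cfsg.Agent.Helper14.FusPStable
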