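import Mathlib
import Cfsg.Agent.Lib.Helper14.FusPStableJ
import Cfsg.Agent.Lib.Helper25.FusionAut

set_option autoImplicit false

namespace Cfsg.Agent.Helper14.FusPStable

open Cfsg Subgroup Cfsg.FusionSystem Cfsg.Agent.Helper25

variable {Ω : Type*} [Group Ω] {S : Subgroup Ω}

/-- every automorphism of `Q` extends, along an embedding `θ` of the system, to a fully normalized centric
radical subgroup. -/
def Chain (p : ℕ) (F : FusionSystem S) (Q : Subgroup Ω) : Prop :=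
  ∃ (R : Subgroup Ω) (θ : ↥Q →* Ω) (hθR : ∀ x, θ x ∈ R), F.IsFullyNormalized R ∧ F.IsCentric R ∧
    F.IsRadical p R ∧ θ ∈ F.Hom Q ∧
    ∀ α : MulAut ↥Q, α ∈ F.autGroup Q → ∃ β : MulAut ↥R, β ∈ F.autGroup R ∧
      ∀ x : ↥Q, ((β ⟨θ x, hθR x⟩ : ↥R) : Ω) = θ (α x)

theorem plus_not_le [Finite S] (p : ℕ) [Fact p.Prime] (hS : IsPGroup p S)
    (F : FusionSystem S) (hF : F.IsSaturated p) {Q : Subgroup Ω} (hfn : F.IsFullyNormalized Q)
    (hcr : ¬ (F.IsCentric Q ∧ F.IsRadical p Q)) : ¬ plus p F Q ≤ Q := by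
  intro hle
  obtain ⟨hfc, hfa, hrec⟩ := of_fullyNormalized p hS F hF hfn
  have hQS := hfn.1
  have hQp : IsPGroup p ↥Q := hS.to_le hQS
  apply hcr
  refine ⟨isCentric_of_fullyCentralized F hfc ((centralizerIn_le_plus p F Q).trans hle),
    hQS, le_antisymm ?_ (inn_le_Opc p F hQS hQp)⟩
  intro β hβ
  obtain ⟨g, hgS, hg⟩ := (mem_autInducedBy_iff β).mp (Opc_le_autInducedBy p F hfa hβ)
  obtain ⟨hgN, hgeq⟩ := exists_normalizer_of_aut g β (fun y => (hg y).symm)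
  have hgp : g ∈ plus p F Q := by
    rw [mem_plus_iff]
    exact ⟨hgS, hgN, by rw [hgeq]; exact hβ⟩
  refine ⟨⟨g, hle hgp⟩, ?_⟩
  ext y
  rw [hg y]
  rfl

theorem chain_aux [Finite S] (p : ℕ) [Fact p.Prime] (hS : IsPGroup p S)
    (F : FusionSystem S) (hF : F.IsSaturated p) :
    ∀ (n : ℕ) (Q : Subgroup Ω), Q ≤ S → Nat.card ↥S - Nat.card ↥Q = n → Chain p F Q := by
  intro n
  induction n using Nat.strong_induction_on with
  | _ n ih =>
    intro Q hQ hn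
    obtain ⟨Q₁, hconj, hfn⟩ := exists_isConj_fullyNormalized F hQ
    obtain ⟨e₀, he₀, he₀'⟩ := exists_equiv_of_isConj F hconj
    have hQ₁S := hfn.1
    by_cases hcr : F.IsCentric Q₁ ∧ F.IsRadical p Q₁
    · refine ⟨Q₁, Q₁.subtype.comp e₀.toMonoidHom, fun x => (e₀ x).2, hfn, hcr.1, hcr.2, he₀,
        fun α hα => ?_⟩
      refine ⟨MulAut.congr e₀ α, congr_mem_autGroup F hQ hQ₁S e₀ he₀ he₀' α hα, fun x => ?_⟩
      show ((MulAut.congr e₀ α (e₀ x) : ↥Q₁) : Ω) = ((e₀ (α x) : ↥Q₁) : Ω)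
      simp [MulAut.congr]
    · have hQ₁p : IsPGroup p ↥Q₁ := hS.to_le hQ₁S
      have hQ₁le : Q₁ ≤ plus p F Q₁ := le_plus p F hQ₁S hQ₁p
      have hnle := plus_not_le p hS F hF hfn hcr
      haveI : Finite ↥(plus p F Q₁) := finite_of_le_finite (plus_le p F Q₁)
      haveI : Finite ↥Q₁ := finite_of_le_finite hQ₁S
      have hcard : Nat.card ↥Q₁ < Nat.card ↥(plus p F Q₁) := by
        rcases lt_or_eq_of_le (Subgroup.card_le_of_le hQ₁le) with h | h
        · exact h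
        · exact absurd (Subgroup.eq_of_le_of_card_ge hQ₁le h.ge).ge hnle
      have hQQ₁ : Nat.card ↥Q = Nat.card ↥Q₁ := Nat.card_congr e₀.toEquiv
      have hpS : Nat.card ↥(plus p F Q₁) ≤ Nat.card ↥S := Subgroup.card_le_of_le (plus_le p F Q₁)
      obtain ⟨R, θp, hθpR, hRfn, hRc, hRr, hθpF, hext⟩ :=
        ih (Nat.card ↥S - Nat.card ↥(plus p F Q₁)) (by omega) (plus p F Q₁) (plus_le p F Q₁) rfl
      refine ⟨R, θp.comp ((Subgroup.inclusion hQ₁le).comp e₀.toMonoidHom), fun x => hθpR _,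
        hRfn, hRc, hRr, ?_, ?_⟩
      · exact comp_mem' F he₀ (restrict_mem F hQ₁le hθpF) (fun x => (e₀ x).2) (fun x => rfl)
      · intro α hα
        have hα₁ := congr_mem_autGroup F hQ hQ₁S e₀ he₀ he₀' α hα
        obtain ⟨αt, hαt, hαtext⟩ := exists_extension_plus p hS F hF hfn _ hα₁
        obtain ⟨β, hβ, hβext⟩ := hext αt hαt
        refine ⟨β, hβ, fun x => ?_⟩
        have h1 := hβext (Subgroup.inclusion hQ₁le (e₀ x))
        have h2 : αt (Subgroup.inclusion hQ₁le (e₀ x)) = Subgroup.inclusion hQ₁le (e₀ (α x)) := by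
          apply Subtype.ext
          have h3 := hαtext ((e₀ x : ↥Q₁) : Ω) (e₀ x).2 (hQ₁le (e₀ x).2)
          have h4 : (Subgroup.inclusion hQ₁le (e₀ x)) =
              ⟨((e₀ x : ↥Q₁) : Ω), hQ₁le (e₀ x).2⟩ := rfl
          rw [h4, h3]
          simp [MulAut.congr]
        rw [h2] at h1
        exact h1

theorem chain [Finite S] (p : ℕ) [Fact p.Prime] (hS : IsPGroup p S)
    (F : FusionSystem S) (hF : F.IsSaturated p) (Q : Subgroup Ω) (hQ : Q ≤ S) : Chain p F Q :=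
  chain_aux p hS F hF _ Q hQ rfl

end Cfsg.Agent.Helper14.FusPStable
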