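import Mathlib
import Cfsg.Agent.Lib.Helper14.FusPStableK
import Cfsg.Agent.S5096

set_option autoImplicit false

namespace Cfsg.Agent.Helper14.FusPStable

open Cfsg Subgroup Cfsg.FusionSystem Cfsg.Agent.Helper25

variable {Ω : Type*} [Group Ω] {S : Subgroup Ω}

theorem pstable_transport (p : ℕ) [Fact p.Prime] (F : FusionSystem S) {Q Q' : Subgroup Ω} (hQ : Q ≤ S)
    (hQ' : Q' ≤ S) (e : ↥Q ≃* ↥Q') (he : Q'.subtype.comp e.toMonoidHom ∈ F.Hom Q)
    (he' : Q.subtype.comp e.symm.toMonoidHom ∈ F.Hom Q')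
    (h' : ∀ χ' : MulAut ↥Q', χ' ∈ F.autGroup Q' →
      (∀ a : ↥Q', (χ' a⁻¹) * a * (χ' a⁻¹) * (χ' (χ' a)) = 1) → χ' ∈ Opc p F Q')
    (χ : MulAut ↥Q) (hχ : χ ∈ F.autGroup Q)
    (hquad : ∀ a : ↥Q, (χ a⁻¹) * a * (χ a⁻¹) * (χ (χ a)) = 1) : χ ∈ Opc p F Q := by
  have h1 := h' (MulAut.congr e χ) (congr_mem_autGroup F hQ hQ' e he he' χ hχ) (quad_congr e χ hquad)
  have hmap := map_symm_of_map_eq (MulAut.congr e) _ _ (autGroup_map_congr F hQ hQ' e he he')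
  have h2 := mem_pCore_map_equiv p (MulAut.congr e).symm (F.autGroup Q') (F.autGroup Q) hmap _ h1
  rwa [MulEquiv.symm_apply_apply] at h2

theorem pstable_of_chain [Finite S] (p : ℕ) [Fact p.Prime] (F : FusionSystem S) {Q : Subgroup Ω}
    (hQ : Q ≤ S) (hch : Chain p F Q)
    (hN : ∀ R : Subgroup Ω, F.IsFullyNormalized R → F.IsCentric R → F.IsRadical p R →
      ∀ N : FusionSystem (normalizerIn S R), F.IsNormalizerSystem R N →
      (∀ Q₂ : Subgroup Ω, N.IsFullyNormalized Q₂ → ∀ χ : MulAut ↥Q₂, χ ∈ N.autGroup Q₂ →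
        (∀ a : ↥Q₂, (χ a⁻¹) * a * (χ a⁻¹) * (χ (χ a)) = 1) →
        χ ∈ ((Cfsg.pCore p ↥(N.autGroup Q₂)).map (N.autGroup Q₂).subtype : Subgroup (MulAut ↥Q₂))))
    (χ : MulAut ↥Q) (hχ : χ ∈ F.autGroup Q)
    (hquad : ∀ a : ↥Q, (χ a⁻¹) * a * (χ a⁻¹) * (χ (χ a)) = 1) : χ ∈ Opc p F Q := by
  obtain ⟨R, θ, hθR, hRfn, hRc, hRr, hθF, hext⟩ := hch
  have hRS := hRfn.1
  obtain ⟨N, hNs⟩ := Cfsg.Agent.S5096.result F R hRS
  have hNst := hN R hRfn hRc hRr N hNs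
  have hQ'R : θ.range ≤ R := by
    rintro _ ⟨x, rfl⟩; exact hθR x
  have hQ'S := hQ'R.trans hRS
  have he : θ.range.subtype.comp (homEquiv F hθF).toMonoidHom ∈ F.Hom Q := by
    have : θ.range.subtype.comp (homEquiv F hθF).toMonoidHom = θ := by ext x; rfl
    rw [this]; exact hθF
  obtain ⟨θ', hθ'F, hθ'⟩ := exists_inv' F hθF
  have he' : Q.subtype.comp (homEquiv F hθF).symm.toMonoidHom ∈ F.Hom θ.range := by
    have : Q.subtype.comp (homEquiv F hθF).symm.toMonoidHom = θ' := by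
      ext y; exact (hθ' y).symm
    rw [this]; exact hθ'F
  apply pstable_transport p F hQ hQ'S (homEquiv F hθF) he he' ?_ χ hχ hquad
  intro χ' hχ' hquad'
  have hextQ' : ∀ α' : MulAut ↥θ.range, α' ∈ F.autGroup θ.range → ∃ β : MulAut ↥R, β ∈ F.autGroup R ∧
      ∀ y : ↥θ.range, ((β ⟨y, hQ'R y.2⟩ : ↥R) : Ω) = ((α' y : ↥θ.range) : Ω) := by
    intro α' hα'
    have hα := congr_mem_autGroup F hQ'S hQ (homEquiv F hθF).symm he' he α' hα'
    obtain ⟨β, hβ, hβx⟩ := hext _ hα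
    refine ⟨β, hβ, fun y => ?_⟩
    obtain ⟨x, rfl⟩ := (homEquiv F hθF).surjective y
    have h1 := hβx x
    have h2 : θ ((MulAut.congr (homEquiv F hθF).symm α') x) =
        ((α' (homEquiv F hθF x) : ↥θ.range) : Ω) := by
      rw [← homEquiv_apply_coe F hθF]
      simp [MulAut.congr]
    rw [h2] at h1
    rw [← h1]
    rfl
  have hQ'N : θ.range ≤ normalizerIn S R := hQ'R.trans (le_normalizerIn hRS)
  have hle : F.autGroup θ.range ≤ N.autGroup θ.range := by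
    intro α' hα'
    obtain ⟨β, hβ, hβy⟩ := hextQ' α' hα'
    rw [mem_autGroup_iff N hQ'N, hNs θ.range]
    have hβF := (mem_autGroup_iff F hRS β).mp hβ
    have hsup : θ.range ⊔ R ≤ R := sup_le hQ'R le_rfl
    refine ⟨(mem_autGroup_iff F hQ'S α').mp hα', hQ'N, fun x => hQ'N (α' x).2,
      (R.subtype.comp β.toMonoidHom).comp (Subgroup.inclusion hsup), restrict_mem F hsup hβF,
      fun x => ?_, ?_⟩
    · exact hβy x
    · ext y
      rw [mem_map_subgroupOf]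
      constructor
      · rintro ⟨x, hx, hxR, rfl⟩
        exact (β _).2
      · intro hy
        refine ⟨((β.symm ⟨y, hy⟩ : ↥R) : Ω), le_sup_right (a := θ.range) (β.symm ⟨y, hy⟩).2,
          (β.symm ⟨y, hy⟩).2, ?_⟩
        show ((β (Subgroup.inclusion hsup ⟨((β.symm ⟨y, hy⟩ : ↥R) : Ω), _⟩) : ↥R) : Ω) = y
        have e : Subgroup.inclusion hsup ⟨((β.symm ⟨y, hy⟩ : ↥R) : Ω),
            le_sup_right (a := θ.range) (β.symm ⟨y, hy⟩).2⟩ = β.symm ⟨y, hy⟩ := Subtype.ext rfl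
        rw [e]
        simp
  haveI : Finite ↥(normalizerIn S R) := finite_of_le_finite normalizerIn_le
  have h1 := pstable_all p N hNst θ.range hQ'N χ' (hle hχ') hquad'
  exact mem_pCore_map_of_le p (N.autGroup θ.range) (F.autGroup θ.range) hle χ' hχ' h1

end Cfsg.Agent.Helper14.FusPStable
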