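import Mathlib
import Cfsg.Prelude.Def_Solvable
import Cfsg.Agent.Lib.Helper21.GAG39Defs
import Cfsg.Agent.Lib.Helper10.SecFusion

/-!
# S4839 farm-out (helper21), piece G39-PCQ: `N = O_p(G)` implies `O_p(G/N) = 1`.
-/

set_option autoImplicit false
set_option linter.unusedSectionVars false
set_option linter.unusedVariables false

namespace Cfsg.Agent.Helper21.GAG39

open Cfsg
open scoped Pointwise

variable {G : Type*} [Group G] [Finite G] {p : ℕ} [Fact p.Prime] (N : Subgroup G) [N.Normal]

/-- PIECE G39-PCQ [L0]. -/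
theorem pCore_quotient_eq_bot (hNp : IsPGroup p N) (hcore : N = pCore p G) :
    pCore p (G ⧸ N) = ⊥ := by
  subst hcore
  exact Cfsg.Agent.Helper10.pCore_quotient_pCore p G

end Cfsg.Agent.Helper21.GAG39
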