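import Mathlib
import Cfsg.Prelude.Def_CaseTheorems
import Cfsg.Agent.Lib.Helper14.GAG40Defs
import Cfsg.Agent.Lib.Helper14.Basic
import Cfsg.Agent.Lib.Helper24.Gagola
import Cfsg.Agent.Lib.Helper24.DlSylMain

/-!
# S4840: from a two-class character to the transitive linear setting (helper14)
-/

set_option autoImplicit false

namespace Cfsg.Agent.Helper14.Gag40

open Cfsg Cfsg.Agent.Helper24

universe u

section Transfer

variable {G : Type u} [Group G] [Finite G] {χ : G → ℂ} {x : G}

/-- the prime of the support, with the `p`-group property -/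
theorem gag_prime (h : TwoClass χ x) (hG : 2 < Nat.card G) :
    ∃ p : ℕ, p.Prime ∧ (∀ g ∈ h.support hG, g ≠ 1 → orderOf g = p) ∧
      IsPGroup p (h.support hG) := by
  obtain ⟨p, hp, hord⟩ := h.exists_prime_order hG
  refine ⟨p, hp, hord, ?_⟩
  intro g
  by_cases hg : g = 1
  · exact ⟨0, by rw [hg]; simp⟩
  · refine ⟨1, ?_⟩
    have h1 : (g : G) ≠ 1 := fun h' => hg (Subtype.ext h')
    have := hord g g.2 h1
    apply Subtype.ext
    rw [pow_one, Subgroup.coe_pow, Subgroup.coe_one, ← this]
    exact pow_orderOf_eq_one _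

variable (h : TwoClass χ x) (hG : 2 < Nat.card G) (p : ℕ) [hp : Fact p.Prime]

/-- `O_p(G)` centralizes the support. -/
theorem gag_pCore_comm (hNp : IsPGroup p (h.support hG)) {g : G} (hg : g ∈ Cfsg.pCore p G)
    {n : G} (hn : n ∈ h.support hG) : g * n * g⁻¹ = n := by
  by_cases hn1 : n = 1
  · rw [hn1]; group
  · obtain ⟨P, hP⟩ := h.centralizer_sylow hG hNp hn hn1
    have hgP : g ∈ (P : Subgroup G) := Cfsg.Agent.Helper14.pCore_le_sylow P hg
    rw [← hP, Subgroup.mem_centralizer_iff] at hgP
    have := hgP n (Set.mem_singleton n)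
    rw [← this]; group

/-- The centralizer of the support is `O_p(G)`. -/
theorem gag_centralizer_le (hNp : IsPGroup p (h.support hG)) :
    Subgroup.centralizer ((h.support hG : Subgroup G) : Set G) ≤ Cfsg.pCore p G := by
  haveI : (h.support hG).Normal := h.support_normal hG
  apply Cfsg.Agent.Helper14.le_pCore
  · exact Subgroup.normal_centralizer
  · have hx : x ∈ h.support hG := h.x_nz
    obtain ⟨P, hP⟩ := h.centralizer_sylow hG hNp hx h.x_ne
    have hle : Subgroup.centralizer ((h.support hG : Subgroup G) : Set G) ≤ (P : Subgroup G) := by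
      rw [← hP]
      apply Subgroup.centralizer_le
      intro y hy
      rw [Set.mem_singleton_iff] at hy
      rw [hy]
      exact hx
    exact P.2.to_le hle

/-- The conjugation action of `G ⧸ O_p(G)` on the support, and the `TLin` structure. -/
theorem gag_tlin (hord : ∀ g ∈ h.support hG, g ≠ 1 → orderOf g = p)
    (hNp : IsPGroup p (h.support hG)) :
    ∃ inst : MulDistribMulAction (G ⧸ Cfsg.pCore p G) (h.support hG),
      @TLin p (G ⧸ Cfsg.pCore p G) (h.support hG) _ _ inst := by
  haveI hNn : (h.support hG).Normal := h.support_normal hG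
  set N := h.support hG with hNdef
  let φ : G →* MulAut N := MulAut.conjNormal
  have hker : Cfsg.pCore p G ≤ φ.ker := by
    intro g hg
    rw [MonoidHom.mem_ker]
    ext n
    have := gag_pCore_comm h hG p hNp hg n.2
    simp only [φ, MulAut.conjNormal_apply, MulAut.one_apply]
    exact this
  let ψ : G ⧸ Cfsg.pCore p G →* MulAut N := QuotientGroup.lift (Cfsg.pCore p G) φ hker
  letI inst : MulDistribMulAction (G ⧸ Cfsg.pCore p G) N := MulDistribMulAction.compHom N ψ
  have hsmul : ∀ (g : G) (n : N), (((g : G ⧸ Cfsg.pCore p G) • n : N) : G) = g * n * g⁻¹ := by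
    intro g n
    show ((ψ (g : G ⧸ Cfsg.pCore p G)) n : G) = g * n * g⁻¹
    simp only [ψ, QuotientGroup.lift_mk, φ, MulAut.conjNormal_apply]
  refine ⟨inst, ?_⟩
  refine
    { faithful := ?_
      comm := ?_
      exp := ?_
      nontriv := ?_
      trans := ?_
      stab := ?_
      core := ?_ }
  · intro q hq
    induction q using QuotientGroup.induction_on with
    | H g =>
      rw [QuotientGroup.eq_one_iff]
      apply gag_centralizer_le h hG p hNp
      rw [Subgroup.mem_centralizer_iff]
      intro n hn
      have := hq ⟨n, hn⟩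
      have h2 := congrArg (Subtype.val : N → G) this
      rw [hsmul] at h2
      simp only at h2
      calc n * g = (g * n * g⁻¹) * g := by rw [h2]
        _ = g * n := by group
  · intro a b
    apply Subtype.ext
    simp only [Subgroup.coe_mul]
    exact h.support_comm hG a a.2 b b.2
  · intro a
    by_cases ha : a = 1
    · rw [ha, one_pow]
    · have h1 : (a : G) ≠ 1 := fun h' => ha (Subtype.ext h')
      have := hord a a.2 h1
      apply Subtype.ext
      rw [Subgroup.coe_pow, Subgroup.coe_one, ← this]
      exact pow_orderOf_eq_one _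
  · refine ⟨⟨x, h.x_nz⟩, ?_⟩
    intro h'
    exact h.x_ne (congrArg Subtype.val h')
  · intro v w hv hw
    have hv1 : (v : G) ≠ 1 := fun h' => hv (Subtype.ext h')
    have hw1 : (w : G) ≠ 1 := fun h' => hw (Subtype.ext h')
    have hcv : IsConj x (v : G) := by
      rcases (h.mem_support_iff hG _).mp v.2 with h' | h'
      · exact absurd h' hv1
      · exact h'
    have hcw : IsConj x (w : G) := by
      rcases (h.mem_support_iff hG _).mp w.2 with h' | h'
      · exact absurd h' hw1
      · exact h'
    obtain ⟨c, hc⟩ := isConj_iff.mp (hcv.symm.trans hcw)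
    refine ⟨(c : G ⧸ Cfsg.pCore p G), ?_⟩
    apply Subtype.ext
    rw [hsmul]
    exact hc
  · intro v hv
    have hv1 : (v : G) ≠ 1 := fun h' => hv (Subtype.ext h')
    obtain ⟨P, hP⟩ := h.centralizer_sylow hG hNp v.2 hv1
    rintro ⟨q, hq⟩
    induction q using QuotientGroup.induction_on with
    | H g =>
      have hq' : (g : G ⧸ Cfsg.pCore p G) • v = v := hq
      have h2 := congrArg (Subtype.val : N → G) hq'
      rw [hsmul] at h2
      have hgP : g ∈ (P : Subgroup G) := by
        rw [← hP, Subgroup.mem_centralizer_iff]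
        intro y hy
        rw [Set.mem_singleton_iff] at hy
        rw [hy]
        calc (v : G) * g = (g * v * g⁻¹) * g := by rw [h2]
          _ = g * v := by group
      obtain ⟨k, hk⟩ := P.2 ⟨g, hgP⟩
      have hk' : g ^ p ^ k = 1 := by simpa using congrArg Subtype.val hk
      refine ⟨k, ?_⟩
      apply Subtype.ext
      simp only [Subgroup.coe_pow, Subgroup.coe_one]
      rw [← QuotientGroup.mk_pow, hk', QuotientGroup.mk_one]
  · exact Cfsg.Agent.Helper24.DlSyl.pCore_quotient_pCore p

end Transfer

end Cfsg.Agent.Helper14.Gag40
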