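import Mathlib
import Cfsg.Prelude.Def_Transfer
import Cfsg.Agent.Lib.Helper14.FStarAct3
import Cfsg.Agent.Lib.Helper9.FrattiniElem

/-!
# Groups with Heisenberg coordinates over `ZMod p` are extraspecial (helper14)
-/

set_option autoImplicit false

namespace Cfsg.Agent.Helper14.Heis

open scoped commutatorElement

variable {p : ℕ} [Fact p.Prime] {P : Type*} [Group P]
  (mk : ZMod p → ZMod p → ZMod p → P)
  (hsurj : ∀ x : P, ∃ c b a, x = mk c b a)
  (hinj : ∀ c b a c' b' a', mk c b a = mk c' b' a' → c = c' ∧ b = b' ∧ a = a')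
  (hmul : ∀ c b a c' b' a', mk c b a * mk c' b' a' = mk (c + c') (b + b') (a + a' + c * b'))

include hmul in
theorem mk_zero : mk 0 0 0 = 1 := by
  have := hmul 0 0 0 0 0 0
  simp only [add_zero, mul_zero] at this
  exact mul_eq_left.mp this

include hmul in
theorem mk_pow (c b a : ZMod p) (n : ℕ) :
    mk c b a ^ n = mk (n * c) (n * b) (n * a + (n.choose 2 : ℕ) * (c * b)) := by
  induction n with
  | zero => simp [mk_zero mk hmul]
  | succ n ih =>
    rw [pow_succ, ih, hmul]
    have h2 : (n + 1).choose 2 = n + n.choose 2 := by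
      rw [Nat.choose_succ_succ' n 1, Nat.choose_one_right]
    congr 1
    · push_cast; ring
    · push_cast; ring
    · rw [h2]; push_cast; ring

include hmul in
theorem mk_pow_p (hp : p ≠ 2) (c b a : ZMod p) : mk c b a ^ p = 1 := by
  have hpp : p.Prime := Fact.out
  have h3 : 2 < p := lt_of_le_of_ne hpp.two_le (Ne.symm hp)
  have hch : ((p.choose 2 : ℕ) : ZMod p) = 0 := by
    rw [ZMod.natCast_eq_zero_iff]
    exact hpp.dvd_choose_self (by norm_num) h3
  rw [mk_pow mk hmul, hch, ZMod.natCast_self]
  simp only [zero_mul, add_zero]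
  exact mk_zero mk hmul

include hsurj hinj in
theorem card_eq : Nat.card P = p ^ 3 := by
  haveI : NeZero p := ⟨(Fact.out : p.Prime).ne_zero⟩
  have hbij : Function.Bijective (fun t : ZMod p × ZMod p × ZMod p => mk t.1 t.2.1 t.2.2) := by
    constructor
    · rintro ⟨c, b, a⟩ ⟨c', b', a'⟩ h
      obtain ⟨h1, h2, h3⟩ := hinj _ _ _ _ _ _ h
      simp only [Prod.mk.injEq]
      exact ⟨h1, h2, h3⟩
    · intro x
      obtain ⟨c, b, a, h⟩ := hsurj x
      exact ⟨(c, b, a), h.symm⟩
  rw [← Nat.card_congr (Equiv.ofBijective _ hbij), Nat.card_prod, Nat.card_prod, Nat.card_zmod]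
  ring

include hsurj hinj hmul in
theorem mem_center_iff (x : P) : x ∈ Subgroup.center P ↔ ∃ a, x = mk 0 0 a := by
  constructor
  · intro hx
    obtain ⟨c, b, a, rfl⟩ := hsurj x
    rw [Subgroup.mem_center_iff] at hx
    have h1 := hx (mk 1 0 0)
    rw [hmul, hmul] at h1
    obtain ⟨-, -, h1a⟩ := hinj _ _ _ _ _ _ h1
    have h2 := hx (mk 0 1 0)
    rw [hmul, hmul] at h2
    obtain ⟨-, -, h2a⟩ := hinj _ _ _ _ _ _ h2
    have hb : b = 0 := by linear_combination h1a
    have hc : c = 0 := by linear_combination -h2a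
    exact ⟨a, by rw [hb, hc]⟩
  · rintro ⟨a, rfl⟩
    rw [Subgroup.mem_center_iff]
    intro y
    obtain ⟨c', b', a', rfl⟩ := hsurj y
    rw [hmul, hmul]
    congr 1
    · ring
    · ring
    · ring

include hsurj hinj hmul in
theorem card_center : Nat.card (Subgroup.center P) = p := by
  haveI : NeZero p := ⟨(Fact.out : p.Prime).ne_zero⟩
  have hbij : Function.Bijective (fun a : ZMod p =>
      (⟨mk 0 0 a, (mem_center_iff mk hsurj hinj hmul _).mpr ⟨a, rfl⟩⟩ : Subgroup.center P)) := by
    constructor
    · intro a a' h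
      have h1 : mk 0 0 a = mk 0 0 a' := congrArg Subtype.val h
      exact (hinj _ _ _ _ _ _ h1).2.2
    · rintro ⟨x, hx⟩
      obtain ⟨a, rfl⟩ := (mem_center_iff mk hsurj hinj hmul x).mp hx
      exact ⟨a, rfl⟩
  rw [← Nat.card_congr (Equiv.ofBijective _ hbij), Nat.card_zmod]

include hmul in
theorem commutator_eq (c b a c' b' a' : ZMod p) :
    ⁅mk c b a, mk c' b' a'⁆ = mk 0 0 (c * b' - c' * b) := by
  have h1 : mk c b a * mk c' b' a' = mk 0 0 (c * b' - c' * b) * (mk c' b' a' * mk c b a) := by
    rw [hmul, hmul, hmul]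
    congr 1
    · ring
    · ring
    · ring
  rw [commutatorElement_def]
  calc mk c b a * mk c' b' a' * (mk c b a)⁻¹ * (mk c' b' a')⁻¹
      = mk 0 0 (c * b' - c' * b) * (mk c' b' a' * mk c b a) * (mk c b a)⁻¹ * (mk c' b' a')⁻¹ := by
        rw [h1]
    _ = mk 0 0 (c * b' - c' * b) := by group

include hsurj hinj hmul in
theorem commutator_eq_center : commutator P = Subgroup.center P := by
  apply le_antisymm
  · rw [commutator_def, Subgroup.commutator_le]
    intro x _ y _
    obtain ⟨c, b, a, rfl⟩ := hsurj x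
    obtain ⟨c', b', a', rfl⟩ := hsurj y
    rw [commutator_eq mk hmul]
    exact (mem_center_iff mk hsurj hinj hmul _).mpr ⟨_, rfl⟩
  · intro x hx
    obtain ⟨a, rfl⟩ := (mem_center_iff mk hsurj hinj hmul x).mp hx
    have h1 : ⁅mk 1 0 0, mk 0 a 0⁆ = mk 0 0 a := by
      rw [commutator_eq mk hmul]
      congr 1
      ring
    rw [← h1, commutator_def]
    exact Subgroup.commutator_mem_commutator (Subgroup.mem_top _) (Subgroup.mem_top _)

include hsurj hinj hmul in
/-- a group with Heisenberg coordinates over `ZMod p`, `p` odd, is extraspecial of order `p³`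
and exponent `p` -/
theorem isExtraspecial (hp : p ≠ 2) :
    Cfsg.IsExtraspecial p P ∧ Nat.card P = p ^ 3 ∧ Monoid.exponent P = p := by
  have hpp : p.Prime := Fact.out
  have hcard := card_eq mk hsurj hinj
  haveI : Finite P := Nat.finite_of_card_ne_zero (by rw [hcard]; exact pow_ne_zero _ hpp.ne_zero)
  have hpow : ∀ x : P, x ^ p = 1 := by
    intro x
    obtain ⟨c, b, a, rfl⟩ := hsurj x
    exact mk_pow_p mk hmul hp c b a
  have hcomm := commutator_eq_center mk hsurj hinj hmul
  refine ⟨⟨⟨?_, ?_, hcomm⟩, card_center mk hsurj hinj hmul⟩, hcard, ?_⟩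
  · intro x
    exact ⟨1, by rw [pow_one]; exact hpow x⟩
  · apply le_antisymm
    · have h1 := Cfsg.Agent.Helper9.frattini_le_ker_of_elementary (p := p)
        (QuotientGroup.mk' (Subgroup.center P)) ?_ ?_
      · rwa [QuotientGroup.ker_mk'] at h1
      · intro a b
        induction a using QuotientGroup.induction_on with
        | H x =>
          induction b using QuotientGroup.induction_on with
          | H y =>
            rw [← QuotientGroup.mk_mul, ← QuotientGroup.mk_mul, QuotientGroup.eq]
            have h2 : (x * y)⁻¹ * (y * x) = ⁅y⁻¹, x⁻¹⁆ := by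
              rw [commutatorElement_def]; group
            rw [h2, ← hcomm, commutator_def]
            exact Subgroup.commutator_mem_commutator (Subgroup.mem_top _) (Subgroup.mem_top _)
      · intro a
        induction a using QuotientGroup.induction_on with
        | H x => rw [← QuotientGroup.mk_pow, hpow, QuotientGroup.mk_one]
    · have h1 := Cfsg.Agent.Helper14.center_inf_commutator_le_frattini P
      rwa [hcomm, inf_idem] at h1
  · have h1 : Monoid.exponent P ∣ p := Monoid.exponent_dvd_of_forall_pow_eq_one hpow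
    rcases (Nat.dvd_prime hpp).mp h1 with h | h
    · exfalso
      rw [Monoid.exp_eq_one_iff] at h
      have : Nat.card P = 1 := Nat.card_unique
      rw [hcard] at this
      have h3 : 1 < p ^ 3 := Nat.one_lt_pow (by norm_num) hpp.one_lt
      omega
    · exact h

end Cfsg.Agent.Helper14.Heis
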