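import Mathlib

set_option autoImplicit false
set_option linter.unusedSectionVars false
set_option linter.style.haveILetI false
set_option linter.unusedVariables false

/-! An elementary abelian `2`-group `I` acting (by conjugation) on subgroups of odd order:
`±`-decompositions, minimal invariant subgroups have prime order, maximal invariant abelian
subgroups of nilpotent groups are self-centralizing. -/

namespace Cfsg.Agent.Helper14.InvAb

open Subgroup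

variable {S : Type*} [Group S]

/-- `Y` is invariant under conjugation by the elements of `I` -/
def Inv (I Y : Subgroup S) : Prop := ∀ t ∈ I, ∀ y ∈ Y, t * y * t⁻¹ ∈ Y

theorem mem_of_sq_mem_of_odd {B : Subgroup S} {y : S} (hodd : Odd (orderOf y))
    (h : y * y ∈ B) : y ∈ B := by
  obtain ⟨k, hk⟩ := hodd
  have h1 : y ^ (2 * k + 1) = 1 := by rw [← hk]; exact pow_orderOf_eq_one y
  have h2 : y = (y * y) ^ (k + 1) := by
    have : (y * y) ^ (k + 1) = y ^ (2 * k + 1) * y := by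
      rw [← pow_two, ← pow_mul, ← pow_succ]; congr 1
    rw [this, h1, one_mul]
  rw [h2]; exact pow_mem h _

theorem odd_orderOf_of_mem [Finite S] {Y : Subgroup S} (hodd : Odd (Nat.card Y)) {y : S}
    (hy : y ∈ Y) : Odd (orderOf y) := by
  have h1 : orderOf y ∣ Nat.card Y := by
    have := orderOf_dvd_natCard (⟨y, hy⟩ : ↥Y)
    rwa [Subgroup.orderOf_mk] at this
  exact Odd.of_dvd_nat hodd h1

/-- The `±` lemma: if `Y/B` is a minimal `I`-invariant (abelian, central) section of odd order,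
every `t ∈ I` centralizes or inverts `Y/B`. -/
theorem pm_of_minimal [Finite S] (I B Y : Subgroup S)
    (hIc : ∀ s ∈ I, ∀ t ∈ I, s * t = t * s) (hI2 : ∀ t ∈ I, t * t = 1)
    (hBY : B ≤ Y) (hBI : Inv I B) (hYI : Inv I Y) (hodd : Odd (Nat.card Y))
    (hcent : ∀ b ∈ B, ∀ y ∈ Y, b * y = y * b)
    (hcomm : ∀ y₁ ∈ Y, ∀ y₂ ∈ Y, y₁ * y₂ * y₁⁻¹ * y₂⁻¹ ∈ B)
    (hmin : ∀ Z : Subgroup S, B ≤ Z → Z ≤ Y → Inv I Z → Z = B ∨ Z = Y)
    (hne : B ≠ Y) (t : S) (ht : t ∈ I) :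
    (∀ y ∈ Y, y⁻¹ * (t * y * t⁻¹) ∈ B) ∨ (∀ y ∈ Y, y * (t * y * t⁻¹) ∈ B) := by
  have htinv : t⁻¹ = t := inv_eq_of_mul_eq_one_left (hI2 t ht)
  have hconj : ∀ b ∈ B, ∀ y ∈ Y, y * b * y⁻¹ = b := by
    intro b hb y hy
    rw [← hcent b hb y hy]; group
  have hconj' : ∀ b ∈ B, ∀ y ∈ Y, y⁻¹ * b * y = b := by
    intro b hb y hy
    have := hconj b hb y⁻¹ (Y.inv_mem hy)
    simpa using this
  have hσY : ∀ y ∈ Y, t * y * t⁻¹ ∈ Y := fun y hy => hYI t ht y hy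
  have hσσ : ∀ y : S, t * (t * y * t⁻¹) * t⁻¹ = y := by
    intro y
    have : t * (t * y * t⁻¹) * t⁻¹ = (t * t) * y * (t * t)⁻¹ := by group
    rw [this, hI2 t ht]; group
  -- the `+` part
  let Yp : Subgroup S :=
    { carrier := {y | y ∈ Y ∧ y⁻¹ * (t * y * t⁻¹) ∈ B}
      one_mem' := ⟨Y.one_mem, by simp⟩
      mul_mem' := by
        rintro y₁ y₂ ⟨hy₁, h₁⟩ ⟨hy₂, h₂⟩
        refine ⟨Y.mul_mem hy₁ hy₂, ?_⟩
        have : (y₁ * y₂)⁻¹ * (t * (y₁ * y₂) * t⁻¹) =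
            (y₂⁻¹ * (y₁⁻¹ * (t * y₁ * t⁻¹)) * y₂) * (y₂⁻¹ * (t * y₂ * t⁻¹)) := by group
        rw [this, hconj' _ h₁ y₂ hy₂]
        exact B.mul_mem h₁ h₂
      inv_mem' := by
        rintro y ⟨hy, h⟩
        refine ⟨Y.inv_mem hy, ?_⟩
        have : (y⁻¹)⁻¹ * (t * y⁻¹ * t⁻¹) = y * (y⁻¹ * (t * y * t⁻¹))⁻¹ * y⁻¹ := by group
        rw [this, hconj _ (B.inv_mem h) y hy]
        exact B.inv_mem h }
  -- the `-` part
  let Ym : Subgroup S :=
    { carrier := {y | y ∈ Y ∧ y * (t * y * t⁻¹) ∈ B}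
      one_mem' := ⟨Y.one_mem, by simp⟩
      mul_mem' := by
        rintro y₁ y₂ ⟨hy₁, h₁⟩ ⟨hy₂, h₂⟩
        refine ⟨Y.mul_mem hy₁ hy₂, ?_⟩
        have hc := hcomm y₂ hy₂ (t * y₁ * t⁻¹) (hσY y₁ hy₁)
        have : (y₁ * y₂) * (t * (y₁ * y₂) * t⁻¹) =
            (y₁ * (y₂ * (t * y₁ * t⁻¹) * y₂⁻¹ * (t * y₁ * t⁻¹)⁻¹) * y₁⁻¹) *
              (y₁ * (t * y₁ * t⁻¹)) * (y₂ * (t * y₂ * t⁻¹)) := by group
        rw [this, hconj _ hc y₁ hy₁]
        exact B.mul_mem (B.mul_mem hc h₁) h₂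
      inv_mem' := by
        rintro y ⟨hy, h⟩
        refine ⟨Y.inv_mem hy, ?_⟩
        have hc := hcomm (t * y * t⁻¹) (hσY y hy) y hy
        have : y⁻¹ * (t * y⁻¹ * t⁻¹) =
            (((t * y * t⁻¹) * y * (t * y * t⁻¹)⁻¹ * y⁻¹) * (y * (t * y * t⁻¹)))⁻¹ := by group
        rw [this]
        exact B.inv_mem (B.mul_mem hc h) }
  have hYpY : Yp ≤ Y := fun y hy => hy.1
  have hYmY : Ym ≤ Y := fun y hy => hy.1
  have hBYp : B ≤ Yp := by
    intro b hb
    exact ⟨hBY hb, B.mul_mem (B.inv_mem hb) (hBI t ht b hb)⟩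
  have hBYm : B ≤ Ym := by
    intro b hb
    exact ⟨hBY hb, B.mul_mem hb (hBI t ht b hb)⟩
  have hcommst : ∀ s ∈ I, ∀ y : S, t * (s * y * s⁻¹) * t⁻¹ = s * (t * y * t⁻¹) * s⁻¹ := by
    intro s hs y
    have h1 : t * s = s * t := hIc t ht s hs
    have h2 : s⁻¹ * t⁻¹ = t⁻¹ * s⁻¹ := by
      rw [← mul_inv_rev, ← mul_inv_rev, h1]
    calc t * (s * y * s⁻¹) * t⁻¹ = (t * s) * y * (s⁻¹ * t⁻¹) := by group
      _ = (s * t) * y * (t⁻¹ * s⁻¹) := by rw [h1, h2]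
      _ = s * (t * y * t⁻¹) * s⁻¹ := by group
  have hYpI : Inv I Yp := by
    intro s hs y hy
    refine ⟨hYI s hs y hy.1, ?_⟩
    rw [hcommst s hs y]
    have : (s * y * s⁻¹)⁻¹ * (s * (t * y * t⁻¹) * s⁻¹) = s * (y⁻¹ * (t * y * t⁻¹)) * s⁻¹ := by
      group
    rw [this]
    exact hBI s hs _ hy.2
  have hYmI : Inv I Ym := by
    intro s hs y hy
    refine ⟨hYI s hs y hy.1, ?_⟩
    rw [hcommst s hs y]
    have : (s * y * s⁻¹) * (s * (t * y * t⁻¹) * s⁻¹) = s * (y * (t * y * t⁻¹)) * s⁻¹ := by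
      group
    rw [this]
    exact hBI s hs _ hy.2
  rcases hmin Yp hBYp hYpY hYpI with hp | hp
  · rcases hmin Ym hBYm hYmY hYmI with hm | hm
    · exfalso
      apply hne
      apply le_antisymm hBY
      intro y hy
      have hu : y * (t * y * t⁻¹) ∈ Yp := by
        refine ⟨Y.mul_mem hy (hσY y hy), ?_⟩
        have hc := hcomm (t * y * t⁻¹)⁻¹ (Y.inv_mem (hσY y hy)) y⁻¹ (Y.inv_mem hy)
        have : (y * (t * y * t⁻¹))⁻¹ * (t * (y * (t * y * t⁻¹)) * t⁻¹) =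
            (t * y * t⁻¹)⁻¹ * y⁻¹ * ((t * y * t⁻¹)⁻¹)⁻¹ * (t * (t * y * t⁻¹) * t⁻¹) := by group
        rw [this, hσσ y]
        simpa using hc
      have hv : (t * y * t⁻¹)⁻¹ * y ∈ Ym := by
        refine ⟨Y.mul_mem (Y.inv_mem (hσY y hy)) hy, ?_⟩
        have key : ∀ a b : S, t * (a * b) * t⁻¹ = (t * a * t⁻¹) * (t * b * t⁻¹) := by
          intro a b; group
        have keyinv : ∀ a : S, t * a⁻¹ * t⁻¹ = (t * a * t⁻¹)⁻¹ := by
          intro a; group
        rw [key, keyinv, hσσ y]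
        generalize t * y * t⁻¹ = w
        have : w⁻¹ * y * (y⁻¹ * w) = 1 := by group
        rw [this]; exact B.one_mem
      rw [hp] at hu
      rw [hm] at hv
      have huv : y * y ∈ B := by
        have : y * y = (y * (t * y * t⁻¹)) * ((t * y * t⁻¹)⁻¹ * y) := by group
        rw [this]; exact B.mul_mem hu hv
      exact mem_of_sq_mem_of_odd (odd_orderOf_of_mem hodd hy) huv
    · right
      intro y hy
      have : y ∈ Ym := by rw [hm]; exact hy
      exact this.2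
  · left
    intro y hy
    have : y ∈ Yp := by rw [hp]; exact hy
    exact this.2

/-- every element of `I` centralizes or inverts `A` -/
def PM (I A : Subgroup S) : Prop :=
  ∀ t ∈ I, (∀ a ∈ A, t * a * t⁻¹ = a) ∨ (∀ a ∈ A, t * a * t⁻¹ = a⁻¹)

/-- A nontrivial `I`-invariant abelian subgroup of odd order contains an `I`-invariant subgroup
of prime order on which every element of `I` acts as `±1`. -/
theorem exists_prime_invariant [Finite S] (I M : Subgroup S)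
    (hIc : ∀ s ∈ I, ∀ t ∈ I, s * t = t * s) (hI2 : ∀ t ∈ I, t * t = 1)
    (hMI : Inv I M) (hodd : Odd (Nat.card M))
    (hab : ∀ x ∈ M, ∀ y ∈ M, x * y = y * x) (hM : M ≠ ⊥) :
    ∃ A : Subgroup S, A ≤ M ∧ (Nat.card A).Prime ∧ Inv I A ∧ PM I A := by
  classical
  let 𝒜 : Set (Subgroup S) := {Z | Z ≤ M ∧ Z ≠ ⊥ ∧ Inv I Z}
  have h𝒜 : 𝒜.Nonempty := ⟨M, le_rfl, hM, hMI⟩
  obtain ⟨A, hA𝒜, hAmin⟩ := Set.exists_min_image 𝒜 (fun Z => Nat.card Z) (Set.toFinite _) h𝒜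
  obtain ⟨hAM, hAne, hAI⟩ := hA𝒜
  have hoddA : Odd (Nat.card A) := Odd.of_dvd_nat hodd (Subgroup.card_dvd_of_le hAM)
  have hmin : ∀ Z : Subgroup S, ⊥ ≤ Z → Z ≤ A → Inv I Z → Z = ⊥ ∨ Z = A := by
    intro Z _ hZA hZI
    by_cases hZ : Z = ⊥
    · exact Or.inl hZ
    · right
      exact Subgroup.eq_of_le_of_card_ge hZA (hAmin Z ⟨hZA.trans hAM, hZ, hZI⟩)
  have hPM : PM I A := by
    intro t ht
    have := pm_of_minimal I ⊥ A hIc hI2 bot_le
      (by intro s hs b hb; rw [Subgroup.mem_bot] at hb; subst hb; simp)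
      hAI hoddA
      (by intro b hb y hy; rw [Subgroup.mem_bot] at hb; subst hb; simp)
      (by
        intro y₁ hy₁ y₂ hy₂
        rw [Subgroup.mem_bot, hab y₁ (hAM hy₁) y₂ (hAM hy₂)]; group)
      hmin (Ne.symm hAne) t ht
    rcases this with h | h
    · left
      intro a ha
      have := h a ha
      rw [Subgroup.mem_bot] at this
      exact (inv_mul_eq_one.mp this).symm
    · right
      intro a ha
      have := h a ha
      rw [Subgroup.mem_bot] at this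
      exact (eq_inv_of_mul_eq_one_right this)
  refine ⟨A, hAM, ?_, hAI, hPM⟩
  -- prime order
  obtain ⟨a, haA, ha1⟩ : ∃ a ∈ A, a ≠ 1 := by
    by_contra hcon
    push_neg at hcon
    exact hAne ((Subgroup.eq_bot_iff_forall A).mpr hcon)
  have hord : orderOf a ≠ 1 := fun h => ha1 (orderOf_eq_one_iff.mp h)
  set p := (orderOf a).minFac with hp
  have hpp : p.Prime := Nat.minFac_prime hord
  have hpd : p ∣ orderOf a := Nat.minFac_dvd _
  set a' := a ^ (orderOf a / p) with ha'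
  have hord' : orderOf a' = p := orderOf_pow_orderOf_div (orderOf_pos a).ne' hpd
  have ha'A : a' ∈ A := pow_mem haA _
  have hZA : zpowers a' ≤ A := zpowers_le.mpr ha'A
  have hZne : zpowers a' ≠ ⊥ := by
    intro h
    rw [Subgroup.zpowers_eq_bot] at h
    rw [h, orderOf_one] at hord'
    exact hpp.one_lt.ne hord'
  have hZI : Inv I (zpowers a') := by
    intro t ht z hz
    rcases hPM t ht with h | h
    · rw [h z (hZA hz)]; exact hz
    · rw [h z (hZA hz)]; exact (zpowers a').inv_mem hz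
  rcases hmin _ bot_le hZA hZI with h | h
  · exact absurd h hZne
  · rw [← h, Nat.card_zpowers, hord']; exact hpp

theorem conj_comm_of_comm {s t : S} (h : t * s = s * t) (y : S) :
    t * (s * y * s⁻¹) * t⁻¹ = s * (t * y * t⁻¹) * s⁻¹ := by
  have h2 : s⁻¹ * t⁻¹ = t⁻¹ * s⁻¹ := by
    rw [← mul_inv_rev, ← mul_inv_rev, h]
  calc t * (s * y * s⁻¹) * t⁻¹ = (t * s) * y * (s⁻¹ * t⁻¹) := by group
    _ = (s * t) * y * (t⁻¹ * s⁻¹) := by rw [h, h2]
    _ = s * (t * y * t⁻¹) * s⁻¹ := by group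

theorem conj_conj_of_sq {t : S} (h : t * t = 1) (y : S) : t * (t * y * t⁻¹) * t⁻¹ = y := by
  have : t * (t * y * t⁻¹) * t⁻¹ = (t * t) * y * (t * t)⁻¹ := by group
  rw [this, h]; group

/-- If `k ∈ I` does not centralize the `I`-invariant abelian subgroup `B` of odd order, some
`I`-invariant subgroup of prime order of `B` is inverted by `k`. -/
theorem exists_prime_inverted [Finite S] (I B : Subgroup S)
    (hIc : ∀ s ∈ I, ∀ t ∈ I, s * t = t * s) (hI2 : ∀ t ∈ I, t * t = 1)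
    (hBI : Inv I B) (hodd : Odd (Nat.card B))
    (hab : ∀ x ∈ B, ∀ y ∈ B, x * y = y * x)
    (k : S) (hk : k ∈ I) (hkB : ∃ b ∈ B, k * b * k⁻¹ ≠ b) :
    ∃ A : Subgroup S, A ≤ B ∧ (Nat.card A).Prime ∧ Inv I A ∧ PM I A ∧
      (∀ a ∈ A, k * a * k⁻¹ = a⁻¹) := by
  have key : ∀ a b : S, k * (a * b) * k⁻¹ = (k * a * k⁻¹) * (k * b * k⁻¹) := by
    intro a b; group
  have keyinv : ∀ a : S, k * a⁻¹ * k⁻¹ = (k * a * k⁻¹)⁻¹ := by
    intro a; group
  let M : Subgroup S :=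
    { carrier := {b | b ∈ B ∧ k * b * k⁻¹ = b⁻¹}
      one_mem' := ⟨B.one_mem, by simp⟩
      mul_mem' := by
        rintro x y ⟨hx, h1⟩ ⟨hy, h2⟩
        refine ⟨B.mul_mem hx hy, ?_⟩
        rw [key, h1, h2, mul_inv_rev]
        exact hab _ (B.inv_mem hx) _ (B.inv_mem hy)
      inv_mem' := by
        rintro x ⟨hx, h1⟩
        exact ⟨B.inv_mem hx, by rw [keyinv, h1]⟩ }
  have hMB : M ≤ B := fun x hx => hx.1
  have hMI : Inv I M := by
    intro s hs x hx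
    refine ⟨hBI s hs x hx.1, ?_⟩
    rw [conj_comm_of_comm (hIc k hk s hs), hx.2]
    group
  have hMne : M ≠ ⊥ := by
    obtain ⟨b, hb, hne⟩ := hkB
    intro hbot
    have hm : b⁻¹ * (k * b * k⁻¹) ∈ M := by
      refine ⟨B.mul_mem (B.inv_mem hb) (hBI k hk b hb), ?_⟩
      rw [key, keyinv, conj_conj_of_sq (hI2 k hk)]
      group
    rw [hbot, Subgroup.mem_bot] at hm
    exact hne (inv_mul_eq_one.mp hm).symm
  obtain ⟨A, hAM, hAp, hAI, hAPM⟩ := exists_prime_invariant I M hIc hI2 hMI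
    (Odd.of_dvd_nat hodd (Subgroup.card_dvd_of_le hMB))
    (fun x hx y hy => hab x (hMB hx) y (hMB hy)) hMne
  exact ⟨A, hAM.trans hMB, hAp, hAI, hAPM, fun a ha => (hAM ha).2⟩

end Cfsg.Agent.Helper14.InvAb
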