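import Mathlib
import Cfsg.Agent.Lib.Helper14.InvAb

set_option autoImplicit false
set_option linter.unusedSectionVars false
set_option linter.style.haveILetI false
set_option linter.unusedVariables false

/-! Maximal `I`-invariant abelian subgroups of an odd-order nilpotent group are
self-centralizing (`I` an elementary abelian `2`-group). -/

namespace Cfsg.Agent.Helper14.InvAb

open Subgroup

variable {S : Type*} [Group S]

theorem inv_conj_mem {I Y : Subgroup S} (hYI : Inv I Y) {t y : S} (ht : t ∈ I) (hy : y ∈ Y) :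
    t⁻¹ * y * t ∈ Y := by
  have := hYI t⁻¹ (I.inv_mem ht) y hy
  simpa using this

theorem Inv.inf_centralizer {I F B : Subgroup S} (hFI : Inv I F) (hBI : Inv I B) :
    Inv I (F ⊓ centralizer (B : Set S)) := by
  intro t ht c hc
  obtain ⟨hcF, hcB⟩ := Subgroup.mem_inf.1 hc
  refine Subgroup.mem_inf.2 ⟨hFI t ht c hcF, ?_⟩
  rw [Subgroup.mem_centralizer_iff]
  intro b hb
  have hb' : t⁻¹ * b * t ∈ B := inv_conj_mem hBI ht hb
  have h1 := Subgroup.mem_centralizer_iff.mp hcB _ hb'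
  calc b * (t * c * t⁻¹) = t * ((t⁻¹ * b * t) * c) * t⁻¹ := by group
    _ = t * (c * (t⁻¹ * b * t)) * t⁻¹ := by rw [h1]
    _ = t * c * t⁻¹ * b := by group

theorem max_abelian_self_centralizing [Finite S] (I F B : Subgroup S)
    (hIc : ∀ s ∈ I, ∀ t ∈ I, s * t = t * s) (hI2 : ∀ t ∈ I, t * t = 1)
    (hFI : Inv I F) (hFodd : Odd (Nat.card F)) (hFnil : Group.IsNilpotent ↥F)
    (hBF : B ≤ F) (hBI : Inv I B) (hBab : ∀ x ∈ B, ∀ y ∈ B, x * y = y * x)
    (hmax : ∀ B' : Subgroup S, B ≤ B' → B' ≤ F → Inv I B' →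
      (∀ x ∈ B', ∀ y ∈ B', x * y = y * x) → B' = B) :
    F ⊓ centralizer (B : Set S) ≤ B := by
  classical
  by_contra hnot
  set C : Subgroup S := F ⊓ centralizer (B : Set S) with hC
  have hCF : C ≤ F := inf_le_left
  have hBC : B ≤ C := by
    intro b hb
    refine Subgroup.mem_inf.2 ⟨hBF hb, ?_⟩
    rw [Subgroup.mem_centralizer_iff]
    intro x hx
    exact hBab x hx b hb
  have hCI : Inv I C := hFI.inf_centralizer hBI
  have hBcent : ∀ b ∈ B, ∀ c ∈ C, b * c = c * b := by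
    intro b hb c hc
    exact Subgroup.mem_centralizer_iff.mp (Subgroup.mem_inf.1 hc).2 b hb
  have hconj : ∀ b ∈ B, ∀ c ∈ C, c * b * c⁻¹ = b := by
    intro b hb c hc
    rw [← hBcent b hb c hc]; group
  -- nilpotency of `C`
  haveI : Group.IsNilpotent ↥F := hFnil
  haveI hCnil : Group.IsNilpotent ↥C := by
    apply Subgroup.isNilpotent_of_ker_le_center (Subgroup.inclusion hCF)
    rw [(MonoidHom.ker_eq_bot_iff _).mpr (Subgroup.inclusion_injective hCF)]
    exact bot_le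
  -- an element of `C` outside `B` with all commutators in `B`
  obtain ⟨c₀, hc₀C, hc₀comm, hc₀B⟩ : ∃ c ∈ C, (∀ y ∈ C, c * y * c⁻¹ * y⁻¹ ∈ B) ∧ c ∉ B := by
    by_contra hcon
    push_neg at hcon
    have hP : ∀ n : ℕ, ∀ x : ↥C, x ∈ Subgroup.upperCentralSeries ↥C n → (x : S) ∈ B := by
      intro n
      induction n with
      | zero =>
        intro x hx
        rw [Subgroup.upperCentralSeries_zero, Subgroup.mem_bot] at hx
        rw [hx]; exact B.one_mem
      | succ n ih =>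
        intro x hx
        rw [Subgroup.mem_upperCentralSeries_succ_iff] at hx
        apply hcon (x : S) x.2
        intro y hy
        have := ih _ (hx ⟨y, hy⟩)
        simpa [commutatorElement_def] using this
    obtain ⟨n, hn⟩ := (inferInstance : Group.IsNilpotent ↥C).nilpotent
    apply hnot
    intro c hc
    have := hP n ⟨c, hc⟩ (by rw [hn]; exact Subgroup.mem_top _)
    exact this
  -- the subgroup `E`
  let E : Subgroup S :=
    { carrier := {c | c ∈ C ∧ ∀ y ∈ C, c * y * c⁻¹ * y⁻¹ ∈ B}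
      one_mem' := ⟨C.one_mem, by intro y hy; simp⟩
      mul_mem' := by
        rintro c₁ c₂ ⟨h1, h1'⟩ ⟨h2, h2'⟩
        refine ⟨C.mul_mem h1 h2, ?_⟩
        intro y hy
        have : c₁ * c₂ * y * (c₁ * c₂)⁻¹ * y⁻¹ =
            (c₁ * (c₂ * y * c₂⁻¹ * y⁻¹) * c₁⁻¹) * (c₁ * y * c₁⁻¹ * y⁻¹) := by group
        rw [this, hconj _ (h2' y hy) c₁ h1]
        exact B.mul_mem (h2' y hy) (h1' y hy)
      inv_mem' := by
        rintro c ⟨h1, h1'⟩
        refine ⟨C.inv_mem h1, ?_⟩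
        intro y hy
        have : c⁻¹ * y * (c⁻¹)⁻¹ * y⁻¹ = c⁻¹ * (c * y * c⁻¹ * y⁻¹)⁻¹ * (c⁻¹)⁻¹ := by group
        rw [this, hconj _ (B.inv_mem (h1' y hy)) c⁻¹ (C.inv_mem h1)]
        exact B.inv_mem (h1' y hy) }
  have hEC : E ≤ C := fun c hc => hc.1
  have hBE : B ≤ E := by
    intro b hb
    refine ⟨hBC hb, ?_⟩
    intro y hy
    have : b * y * b⁻¹ * y⁻¹ = 1 := by
      rw [hBcent b hb y hy]; group
    rw [this]; exact B.one_mem
  have hEI : Inv I E := by
    intro t ht c hc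
    refine ⟨hCI t ht c hc.1, ?_⟩
    intro y hy
    have hy' : t⁻¹ * y * t ∈ C := inv_conj_mem hCI ht hy
    have h1 := hc.2 _ hy'
    have : t * c * t⁻¹ * y * (t * c * t⁻¹)⁻¹ * y⁻¹ =
        t * (c * (t⁻¹ * y * t) * c⁻¹ * (t⁻¹ * y * t)⁻¹) * t⁻¹ := by group
    rw [this]
    exact hBI t ht _ h1
  have hEB : E ≠ B := by
    intro h
    apply hc₀B
    rw [← h]
    exact ⟨hc₀C, hc₀comm⟩
  -- minimal `Y`
  let 𝒴 : Set (Subgroup S) := {Y | B ≤ Y ∧ Y ≤ E ∧ Inv I Y ∧ Y ≠ B}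
  have h𝒴 : 𝒴.Nonempty := ⟨E, hBE, le_rfl, hEI, hEB⟩
  obtain ⟨Y, hY𝒴, hYmin⟩ := Set.exists_min_image 𝒴 (fun Z => Nat.card Z) (Set.toFinite _) h𝒴
  obtain ⟨hBY, hYE, hYI, hYB⟩ := hY𝒴
  have hYC : Y ≤ C := hYE.trans hEC
  have hYF : Y ≤ F := hYC.trans hCF
  have hpm := pm_of_minimal I B Y hIc hI2 hBY hBI hYI
    (Odd.of_dvd_nat hFodd (Subgroup.card_dvd_of_le hYF))
    (fun b hb y hy => hBcent b hb y (hYC hy))
    (fun y₁ hy₁ y₂ hy₂ => (hYE hy₁).2 y₂ (hYC hy₂))
    (by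
      intro Z hBZ hZY hZI
      by_cases hZ : Z = B
      · exact Or.inl hZ
      · right
        exact Subgroup.eq_of_le_of_card_ge hZY (hYmin Z ⟨hBZ, hZY.trans hYE, hZI, hZ⟩))
    (Ne.symm hYB)
  obtain ⟨y, hyY, hyB⟩ : ∃ y ∈ Y, y ∉ B := by
    by_contra hcon
    push_neg at hcon
    exact hYB (le_antisymm hcon hBY)
  have hyC : y ∈ C := hYC hyY
  set B₁ : Subgroup S := B ⊔ zpowers y with hB₁
  have hBB₁ : B ≤ B₁ := le_sup_left
  have hyB₁ : y ∈ B₁ := (le_sup_right : zpowers y ≤ B₁) (mem_zpowers y)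
  have hB₁F : B₁ ≤ F := sup_le hBF (zpowers_le.mpr (hCF hyC))
  have hzB : zpowers y ≤ centralizer (B : Set S) :=
    zpowers_le.mpr (Subgroup.mem_inf.1 hyC).2
  have hB₁ab : ∀ x ∈ B₁, ∀ z ∈ B₁, x * z = z * x := by
    have h1 : B₁ ≤ centralizer (B : Set S) := by
      apply sup_le _ hzB
      intro b hb
      rw [Subgroup.mem_centralizer_iff]
      intro x hx
      exact hBab x hx b hb
    have h2 : B₁ ≤ centralizer (zpowers y : Set S) := by
      apply sup_le
      · exact le_centralizer_iff.mp hzB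
      · rw [zpowers_le, Subgroup.mem_centralizer_iff]
        intro h hh
        obtain ⟨k, rfl⟩ := Subgroup.mem_zpowers_iff.mp hh
        exact (Commute.zpow_self y k)
    have h3 : B₁ ≤ centralizer (B₁ : Set S) := by
      rw [le_centralizer_iff]
      exact sup_le (le_centralizer_iff.mp h1) (le_centralizer_iff.mp h2)
    intro x hx z hz
    exact (Subgroup.mem_centralizer_iff.mp (h3 hx) z hz).symm
  have hB₁I : Inv I B₁ := by
    intro t ht x hx
    have hmap : B₁.map (MulAut.conj t).toMonoidHom ≤ B₁ := by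
      rw [hB₁, Subgroup.map_sup]
      apply sup_le
      · rintro _ ⟨b, hb, rfl⟩
        exact hBB₁ (hBI t ht b hb)
      · rw [MonoidHom.map_zpowers, zpowers_le]
        show t * y * t⁻¹ ∈ B ⊔ zpowers y
        rcases hpm t ht with h | h
        · have : t * y * t⁻¹ = y * (y⁻¹ * (t * y * t⁻¹)) := by group
          rw [this]
          exact (B ⊔ zpowers y).mul_mem hyB₁ (hBB₁ (h y hyY))
        · have : t * y * t⁻¹ = y⁻¹ * (y * (t * y * t⁻¹)) := by group
          rw [this]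
          exact (B ⊔ zpowers y).mul_mem ((B ⊔ zpowers y).inv_mem hyB₁) (hBB₁ (h y hyY))
    exact hmap ⟨x, hx, rfl⟩
  have := hmax B₁ hBB₁ hB₁F hB₁I hB₁ab
  exact hyB (this ▸ hyB₁)

end Cfsg.Agent.Helper14.InvAb
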