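import Mathlib
import Cfsg.Agent.Lib.Helper14.InvAb2

set_option autoImplicit false
set_option linter.unusedSectionVars false
set_option linter.style.haveILetI false
set_option linter.unusedVariables false

/-! Greedy construction of commuting `I`-invariant subgroups of prime order in an abelian
subgroup on which the elementary abelian `2`-group `I` acts faithfully. -/

namespace Cfsg.Agent.Helper14.InvAb

open Subgroup

variable {S : Type*} [Group S]

theorem mem_centralizer_sup {A D : Subgroup S} {x : S} :
    x ∈ centralizer ((A ⊔ D : Subgroup S) : Set S) ↔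
      x ∈ centralizer (A : Set S) ∧ x ∈ centralizer (D : Set S) := by
  constructor
  · intro h
    exact ⟨Subgroup.centralizer_le (by exact_mod_cast (le_sup_left : A ≤ A ⊔ D)) h,
      Subgroup.centralizer_le (by exact_mod_cast (le_sup_right : D ≤ A ⊔ D)) h⟩
  · rintro ⟨h1, h2⟩
    have h1' : A ≤ centralizer (zpowers x : Set S) := le_centralizer_iff.mp (zpowers_le.mpr h1)
    have h2' : D ≤ centralizer (zpowers x : Set S) := le_centralizer_iff.mp (zpowers_le.mpr h2)
    exact (le_centralizer_iff.mp (sup_le h1' h2')) (mem_zpowers x)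

theorem card_sup_of_comm_disjoint (A D : Subgroup S)
    (hcomm : ∀ a ∈ A, ∀ d ∈ D, a * d = d * a) (hdisj : A ⊓ D = ⊥) :
    Nat.card ↥(A ⊔ D) = Nat.card A * Nat.card D := by
  have comm : ∀ (a : ↥A) (d : ↥D), Commute (A.subtype a) (D.subtype d) :=
    fun a d => hcomm a a.2 d d.2
  have hinj : Function.Injective (MonoidHom.noncommCoprod A.subtype D.subtype comm) := by
    rw [MonoidHom.noncommCoprod_injective]
    refine ⟨Subgroup.subtype_injective _, Subgroup.subtype_injective _, ?_⟩
    rw [Subgroup.range_subtype, Subgroup.range_subtype, disjoint_iff, hdisj]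
  have hrange : (MonoidHom.noncommCoprod A.subtype D.subtype comm).range = A ⊔ D := by
    rw [MonoidHom.noncommCoprod_range, Subgroup.range_subtype, Subgroup.range_subtype]
  rw [← hrange, ← Nat.card_prod]
  exact (Nat.card_congr (Equiv.ofInjective _ hinj)).symm

theorem iSup_fin_cons {m : ℕ} (A : Subgroup S) (f : Fin m → Subgroup S) :
    (⨆ i, (Fin.cons A f : Fin (m + 1) → Subgroup S) i) = A ⊔ ⨆ i, f i := by
  apply le_antisymm
  · apply iSup_le
    intro i
    refine Fin.cases ?_ (fun j => ?_) i
    · simp
    · simp only [Fin.cons_succ]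
      exact le_trans (le_iSup f j) le_sup_right
  · apply sup_le
    · exact le_trans (by simp) (le_iSup (Fin.cons A f : Fin (m + 1) → Subgroup S) 0)
    · apply iSup_le
      intro j
      exact le_trans (by simp) (le_iSup (Fin.cons A f : Fin (m + 1) → Subgroup S) j.succ)

theorem family_step [Finite S] (I B : Subgroup S)
    (hIc : ∀ s ∈ I, ∀ t ∈ I, s * t = t * s) (hI2 : ∀ t ∈ I, t * t = 1)
    (hBI : Inv I B) (hBodd : Odd (Nat.card B))
    (hBab : ∀ x ∈ B, ∀ y ∈ B, x * y = y * x)
    (hfaith : I ⊓ centralizer (B : Set S) = ⊥) (n : ℕ) (hIn : Nat.card I = 2 ^ n) :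
    ∀ m ≤ n, ∃ f : Fin m → Subgroup S, (∀ i, (Nat.card ↥(f i)).Prime) ∧ (∀ i, f i ≤ B) ∧
      (∀ i, Inv I (f i)) ∧
      Nat.card ↥(⨆ i, f i) = ∏ i, Nat.card ↥(f i) ∧
      Nat.card ↥(I ⊓ centralizer ((⨆ i, f i : Subgroup S) : Set S)) = 2 ^ (n - m) := by
  intro m
  induction m with
  | zero =>
    intro _
    refine ⟨fun i => i.elim0, fun i => i.elim0, fun i => i.elim0, fun i => i.elim0, ?_, ?_⟩
    · simp
    · have : I ⊓ centralizer (((⨆ i : Fin 0, (i.elim0 : Subgroup S)) : Subgroup S) : Set S) = I := by
        apply le_antisymm inf_le_left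
        intro x hx
        refine Subgroup.mem_inf.2 ⟨hx, ?_⟩
        rw [Subgroup.mem_centralizer_iff]
        intro h hh
        have : h = 1 := by
          rw [iSup_of_empty] at hh
          exact Subgroup.mem_bot.mp hh
        rw [this]; simp
      rw [this, hIn]; simp
  | succ m ih =>
    intro hm
    obtain ⟨f, hfp, hfB, hfI, hfcard, hK⟩ := ih (by omega)
    set D : Subgroup S := ⨆ i, f i with hD
    set K : Subgroup S := I ⊓ centralizer (D : Set S) with hKdef
    have hDB : D ≤ B := iSup_le hfB
    have hKne : K ≠ ⊥ := by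
      intro h
      rw [h, Subgroup.card_bot] at hK
      have : 2 ≤ 2 ^ (n - m) := by
        calc 2 = 2 ^ 1 := by norm_num
          _ ≤ 2 ^ (n - m) := Nat.pow_le_pow_right (by norm_num) (by omega)
      omega
    obtain ⟨k, hkK, hk1⟩ : ∃ k ∈ K, k ≠ 1 := by
      by_contra hcon
      push_neg at hcon
      exact hKne ((Subgroup.eq_bot_iff_forall K).mpr hcon)
    obtain ⟨hkI, hkD⟩ := Subgroup.mem_inf.1 hkK
    have hkB : ∃ b ∈ B, k * b * k⁻¹ ≠ b := by
      by_contra hcon
      push_neg at hcon
      apply hk1
      have : k ∈ I ⊓ centralizer (B : Set S) := by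
        refine Subgroup.mem_inf.2 ⟨hkI, ?_⟩
        rw [Subgroup.mem_centralizer_iff]
        intro b hb
        have := hcon b hb
        calc b * k = (k * b * k⁻¹) * k := by rw [this]
          _ = k * b := by group
      rw [hfaith, Subgroup.mem_bot] at this
      exact this
    obtain ⟨A, hAB, hAp, hAI, hAPM, hAk⟩ :=
      exists_prime_inverted I B hIc hI2 hBI hBodd hBab k hkI hkB
    -- a non-identity element of `A`
    have hAne : ∃ a ∈ A, a ≠ 1 := by
      by_contra hcon
      push_neg at hcon
      have : A = ⊥ := (Subgroup.eq_bot_iff_forall A).mpr hcon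
      rw [this, Subgroup.card_bot] at hAp
      exact Nat.not_prime_one hAp
    have hsq : ∀ x ∈ B, x * x = 1 → x = 1 := by
      intro x hx h
      have : x ∈ (⊥ : Subgroup S) :=
        mem_of_sq_mem_of_odd (odd_orderOf_of_mem hBodd hx) (by rw [h]; exact Subgroup.one_mem _)
      exact Subgroup.mem_bot.mp this
    have hnotboth : ∀ t : S, (∀ a ∈ A, t * a * t⁻¹ = a) → (∀ a ∈ A, t * a * t⁻¹ = a⁻¹) → False := by
      intro t h1 h2
      obtain ⟨a, ha, hane⟩ := hAne
      apply hane
      apply hsq a (hAB ha)
      have := (h1 a ha).symm.trans (h2 a ha)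
      calc a * a = a * a⁻¹ := by rw [← this]
        _ = 1 := mul_inv_cancel a
    have hdisj : A ⊓ D = ⊥ := by
      rw [eq_bot_iff]
      intro x hx
      obtain ⟨hxA, hxD⟩ := Subgroup.mem_inf.1 hx
      rw [Subgroup.mem_bot]
      apply hsq x (hAB hxA)
      have h1 := hAk x hxA
      have h2 : k * x * k⁻¹ = x := by
        have := Subgroup.mem_centralizer_iff.mp hkD x hxD
        rw [← this]; group
      have : x = x⁻¹ := h2.symm.trans h1
      calc x * x = x * x⁻¹ := by rw [← this]
        _ = 1 := mul_inv_cancel x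
    refine ⟨Fin.cons A f, ?_, ?_, ?_, ?_, ?_⟩
    · intro i
      refine Fin.cases ?_ (fun j => ?_) i
      · simpa using hAp
      · simpa using hfp j
    · intro i
      refine Fin.cases ?_ (fun j => ?_) i
      · simpa using hAB
      · simpa using hfB j
    · intro i
      refine Fin.cases ?_ (fun j => ?_) i
      · simpa using hAI
      · simpa using hfI j
    · rw [iSup_fin_cons, card_sup_of_comm_disjoint A D
        (fun a ha d hd => hBab a (hAB ha) d (hDB hd)) hdisj, Fin.prod_univ_succ]
      simp only [Fin.cons_zero, Fin.cons_succ]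
      rw [← hfcard]
    · rw [iSup_fin_cons]
      set K' : Subgroup S := I ⊓ centralizer ((A ⊔ D : Subgroup S) : Set S) with hK'
      have hK'K : K' ≤ K := by
        intro x hx
        obtain ⟨h1, h2⟩ := Subgroup.mem_inf.1 hx
        exact Subgroup.mem_inf.2 ⟨h1, (mem_centralizer_sup.mp h2).2⟩
      have hcentA : ∀ t : S, t ∈ centralizer (A : Set S) ↔ ∀ a ∈ A, t * a * t⁻¹ = a := by
        intro t
        rw [Subgroup.mem_centralizer_iff]
        constructor
        · intro h a ha
          rw [← h a ha]; group
        · intro h a ha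
          calc a * t = (t * a * t⁻¹) * t := by rw [h a ha]
            _ = t * a := by group
      have hmemK' : ∀ x ∈ K, (x ∈ K' ↔ ∀ a ∈ A, x * a * x⁻¹ = a) := by
        intro x hx
        obtain ⟨h1, h2⟩ := Subgroup.mem_inf.1 hx
        rw [hK', Subgroup.mem_inf, mem_centralizer_sup, hcentA]
        constructor
        · intro h; exact h.2.1
        · intro h; exact ⟨h1, h, h2⟩
      have hidx : K'.relIndex K = 2 := by
        rw [Subgroup.relIndex_eq_two_iff]
        refine ⟨k, hkK, ?_⟩
        intro b hb
        have hbk : b * k ∈ K := K.mul_mem hb hkK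
        have hbI : b ∈ I := (Subgroup.mem_inf.1 hb).1
        have hconj : ∀ a : S, b * k * a * (b * k)⁻¹ = b * (k * a * k⁻¹) * b⁻¹ := by
          intro a; group
        rcases hAPM b hbI with h | h
        · -- `b` centralizes `A`
          right
          refine ⟨(hmemK' b hb).mpr h, ?_⟩
          intro hbk'
          have h3 := (hmemK' _ hbk).mp hbk'
          apply hnotboth (b * k) h3
          intro a ha
          rw [hconj, hAk a ha]
          have := h a⁻¹ (A.inv_mem ha)
          exact this
        · -- `b` inverts `A`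
          left
          refine ⟨(hmemK' _ hbk).mpr ?_, ?_⟩
          · intro a ha
            rw [hconj, hAk a ha]
            have := h a⁻¹ (A.inv_mem ha)
            rw [this, inv_inv]
          · intro hb'
            exact hnotboth b ((hmemK' b hb).mp hb') h
      have hmul := Subgroup.relIndex_mul_relIndex ⊥ K' K bot_le hK'K
      rw [Subgroup.relIndex_bot_left, Subgroup.relIndex_bot_left, hidx, hK] at hmul
      have hpow : 2 ^ (n - m) = 2 ^ (n - (m + 1)) * 2 := by
        rw [← pow_succ]; congr 1; omega
      rw [hpow] at hmul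
      exact Nat.eq_of_mul_eq_mul_right (by norm_num) hmul

end Cfsg.Agent.Helper14.InvAb
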