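import Mathlib
import Cfsg.Agent.Lib.Helper7.ZStar3
import Cfsg.Agent.Lib.Helper1.CoprimeSylow
import Cfsg.Agent.Lib.Helper22.PPrimeCore

/-!
# Isolated involutions and invariant `p`-subgroups (helper14's library)
Consequences of Glauberman's `Z*`-theorem.
-/

set_option autoImplicit false

namespace Cfsg.Agent.Helper14.IsoInv

open Cfsg

/-- conjugation-closed in a finite group gives membership in the normalizer -/
theorem mem_normalizer_of_conj_le {G : Type*} [Group G] [Finite G] (R : Subgroup G) (z : G)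
    (h : ∀ r ∈ R, z * r * z⁻¹ ∈ R) : z ∈ Subgroup.normalizer (R : Set G) := by
  have hle : R.map (MulAut.conj z).toMonoidHom ≤ R := by
    rintro _ ⟨r, hr, rfl⟩
    exact h r hr
  have hcard : Nat.card (R.map (MulAut.conj z).toMonoidHom) = Nat.card R :=
    Subgroup.card_map_of_injective (MulAut.conj z).injective
  have heq : R.map (MulAut.conj z).toMonoidHom = R :=
    Subgroup.eq_of_le_of_card_ge hle hcard.ge
  rw [Subgroup.mem_normalizer_iff]
  intro r
  constructor
  · exact h r
  · intro hr
    have : z * r * z⁻¹ ∈ R.map (MulAut.conj z).toMonoidHom := by rw [heq]; exact hr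
    obtain ⟨r', hr', e⟩ := this
    have : r' = r := by
      have e' : z * r' * z⁻¹ = z * r * z⁻¹ := e
      simpa using e'
    rw [← this]; exact hr'

/-- An isolated involution of a finite group of order divisible by the odd prime `p` normalizes a
nontrivial `p`-subgroup. -/
theorem exists_invariant_pSubgroup_odd {H : Type*} [Group H] [Finite H] (z : H)
    (hz : orderOf z = 2) (hiso : IsIsolated z) {p : ℕ} [hp : Fact p.Prime] (hp2 : p ≠ 2)
    (hdvd : p ∣ Nat.card H) :
    ∃ R : Subgroup H, R ≠ ⊥ ∧ IsPGroup p R ∧ z ∈ Subgroup.normalizer (R : Set H) := by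
  haveI : Fact (Nat.Prime 2) := ⟨Nat.prime_two⟩
  have hZ : InZStar 2 z := Cfsg.Agent.Helper7.ZStar.zstar z hz hiso
  set K := pPrimeCore 2 H with hK
  haveI hKn : K.Normal := Cfsg.Agent.Helper22.pPrimeCore_normal 2
  obtain ⟨P⟩ : Nonempty (Sylow p H) := inferInstance
  set L : Subgroup H := (P : Subgroup H) ⊔ K with hL
  have hKL : K ≤ L := le_sup_right
  have hPL : (P : Subgroup H) ≤ L := le_sup_left
  have hzz : z * z = 1 := by
    have := pow_orderOf_eq_one z
    rw [hz, pow_two] at this
    exact this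
  have hzinv : z⁻¹ = z := inv_eq_of_mul_eq_one_left hzz
  -- `z` normalizes `L`
  have hzL : z ∈ Subgroup.normalizer (L : Set H) := by
    apply mem_normalizer_of_conj_le
    intro l hl
    have h1 : l * z * l⁻¹ * z⁻¹ ∈ K := hZ l
    have h2 : (l * z * l⁻¹ * z⁻¹)⁻¹ ∈ L := hKL (K.inv_mem h1)
    have h3 : z * l * z⁻¹ = (l * z * l⁻¹ * z⁻¹)⁻¹ * l := by group
    rw [h3]
    exact L.mul_mem h2 hl
  have hAL : Subgroup.zpowers z ≤ Subgroup.normalizer (L : Set H) :=
    (Subgroup.zpowers_le).2 hzL
  -- `L` has odd order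
  have hPcard : ∃ n, Nat.card (P : Subgroup H) = p ^ n := (P.isPGroup').exists_card_eq
  have hLodd : (Nat.card (Subgroup.zpowers z)).Coprime (Nat.card L) := by
    rw [Nat.card_zpowers, hz]
    have hd : Nat.card L ∣ Nat.card (P : Subgroup H) * Nat.card K :=
      Cfsg.Agent.Helper22.card_sup_dvd_mul (P : Subgroup H) K
    have hKc : (Nat.card K).Coprime 2 := Cfsg.Agent.Helper22.card_pPrimeCore_coprime 2
    obtain ⟨n, hn⟩ := hPcard
    have hPc : (Nat.card (P : Subgroup H)).Coprime 2 := by
      rw [hn]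
      apply Nat.Coprime.pow_left
      exact (Nat.coprime_primes hp.out Nat.prime_two).2 hp2
    exact (Nat.Coprime.coprime_dvd_left hd (Nat.Coprime.mul_left hPc hKc)).symm
  obtain ⟨P', hP'⟩ := Cfsg.Agent.Helper1.exists_invariant_sylow (p := p) (K := L)
    (Subgroup.zpowers z) hAL hLodd (Or.inl inferInstance)
  refine ⟨(P' : Subgroup L).map L.subtype, ?_, ?_, hP' (Subgroup.mem_zpowers z)⟩
  · intro hbot
    have h1 : (P' : Subgroup L) = ⊥ := by
      rw [← (Subgroup.map_eq_bot_iff_of_injective _ L.subtype_injective)]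
      exact hbot
    -- `p` divides `card L`
    have h2 : p ∣ Nat.card L := by
      have h3 : p ∣ Nat.card (P : Subgroup H) := by
        rcases hPcard with ⟨n, hn⟩
        have hn0 : n ≠ 0 := by
          rintro rfl
          have h4 := P.card_eq_multiplicity
          rw [hn] at h4
          have h5 : (Nat.card H).factorization p = 0 := by
            have := Nat.pow_right_injective hp.out.two_le h4
            exact this.symm
          have h6 : 0 < (Nat.card H).factorization p :=
            (hp.out.factorization_pos_of_dvd Nat.card_pos.ne' hdvd)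
          omega
        rw [hn]
        exact dvd_pow_self p hn0
      exact h3.trans (Subgroup.card_dvd_of_le hPL)
    have h7 : p ∣ Nat.card (P' : Subgroup L) := by
      rw [P'.card_eq_multiplicity]
      apply dvd_pow_self
      exact (hp.out.factorization_pos_of_dvd Nat.card_pos.ne' h2).ne'
    rw [h1, Subgroup.card_bot] at h7
    exact hp.out.one_lt.ne' (Nat.dvd_one.1 h7)
  · exact (P'.isPGroup').map L.subtype

end Cfsg.Agent.Helper14.IsoInv

namespace Cfsg.Agent.Helper14.IsoInv

open Cfsg

/-- In a finite group of order divisible by `p`, an element `z` that is trivial or an isolated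
involution normalizes a nontrivial `p`-subgroup. -/
theorem exists_invariant_pSubgroup {H : Type*} [Group H] [Finite H] (z : H)
    (hz : z = 1 ∨ (orderOf z = 2 ∧ IsIsolated z)) {p : ℕ} [hp : Fact p.Prime]
    (hdvd : p ∣ Nat.card H) :
    ∃ R : Subgroup H, R ≠ ⊥ ∧ IsPGroup p R ∧ z ∈ Subgroup.normalizer (R : Set H) := by
  have hsyl : ∀ P : Sylow p H, (P : Subgroup H) ≠ ⊥ := by
    intro P hbot
    have h1 : p ∣ Nat.card (P : Subgroup H) := by
      rw [P.card_eq_multiplicity]
      apply dvd_pow_self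
      exact (hp.out.factorization_pos_of_dvd Nat.card_pos.ne' hdvd).ne'
    rw [hbot, Subgroup.card_bot] at h1
    exact hp.out.one_lt.ne' (Nat.dvd_one.1 h1)
  rcases hz with rfl | ⟨hz2, hiso⟩
  · obtain ⟨P⟩ : Nonempty (Sylow p H) := inferInstance
    exact ⟨P, hsyl P, P.isPGroup', Subgroup.one_mem _⟩
  · by_cases hp2 : p = 2
    · subst hp2
      refine ⟨Subgroup.zpowers z, ?_, ?_, ?_⟩
      · intro hbot
        have : z = 1 := by
          have := Subgroup.mem_zpowers z
          rw [hbot, Subgroup.mem_bot] at this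
          exact this
        rw [this, orderOf_one] at hz2
        omega
      · apply IsPGroup.of_card (n := 1)
        rw [Nat.card_zpowers, hz2, pow_one]
      · exact Subgroup.le_normalizer (Subgroup.mem_zpowers z)
    · exact exists_invariant_pSubgroup_odd z hz2 hiso hp2 hdvd

/-- **Maximal invariant `p`-subgroups are Sylow** for an isolated involution. -/
theorem isSylow_of_maximal_invariant {G : Type*} [Group G] [Finite G] (z : G)
    (hz : orderOf z = 2) (hiso : IsIsolated z) {p : ℕ} [hp : Fact p.Prime] (Q : Subgroup G)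
    (hQ : IsPGroup p Q) (hzQ : z ∈ Subgroup.normalizer (Q : Set G))
    (hmax : ∀ R : Subgroup G, IsPGroup p R → z ∈ Subgroup.normalizer (R : Set G) → Q ≤ R → R = Q) :
    ∃ P : Sylow p G, (P : Subgroup G) = Q := by
  haveI : Fact (Nat.Prime 2) := ⟨Nat.prime_two⟩
  by_contra hcon
  obtain ⟨P, hQP⟩ := hQ.exists_le_sylow
  have hne : Q ≠ (P : Subgroup G) := fun h => hcon ⟨P, h.symm⟩
  obtain ⟨n, hn⟩ := hQ.exists_card_eq
  -- `p^(n+1)` divides the order of `G`
  have hdvd : p ^ (n + 1) ∣ Nat.card G := by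
    obtain ⟨m, hm⟩ := (P.isPGroup').exists_card_eq
    have hlt : Nat.card Q < Nat.card (P : Subgroup G) := by
      rcases lt_or_ge (Nat.card Q) (Nat.card (P : Subgroup G)) with h | h
      · exact h
      · exact absurd (Subgroup.eq_of_le_of_card_ge hQP h) hne
    rw [hn, hm] at hlt
    have hnm : n < m := (Nat.pow_lt_pow_iff_right hp.out.one_lt).1 hlt
    have h1 : p ^ (n + 1) ∣ p ^ m := pow_dvd_pow p hnm
    rw [← hm] at h1
    exact h1.trans (Subgroup.card_subgroup_dvd_card _)
  have hdq := Sylow.prime_dvd_card_quotient_normalizer hdvd hn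
  set N := Subgroup.normalizer (Q : Set G) with hN
  set Q' : Subgroup N := Subgroup.comap N.subtype Q with hQ'
  haveI hQ'n : Q'.Normal := by
    rw [hQ']
    exact Subgroup.normal_in_normalizer
  set z' : N := ⟨z, hzQ⟩ with hz'
  set zb : N ⧸ Q' := QuotientGroup.mk z' with hzb
  have hz'ord : orderOf z' = 2 := by
    rw [hz', Subgroup.orderOf_mk]; exact hz
  have hzb : zb = 1 ∨ (orderOf zb = 2 ∧ IsIsolated zb) := by
    by_cases h1 : zb = 1
    · left; exact h1
    · right
      constructor
      · apply orderOf_eq_prime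
        · rw [← QuotientGroup.mk_pow, ← hz'ord, pow_orderOf_eq_one]
          rfl
        · exact h1
      · have hiso' : IsIsolated z' := Cfsg.Agent.Helper7.ZStar.isIsolated_subtype hiso N hzQ
        exact (Cfsg.Agent.S2970.result (p := 2) z' ⟨1, by rw [hz'ord]; norm_num⟩ hiso').1 Q'
  obtain ⟨Rb, hRb1, hRbp, hRbz⟩ := exists_invariant_pSubgroup zb hzb hdq
  set R' : Subgroup N := Rb.comap (QuotientGroup.mk' Q') with hR'
  set R : Subgroup G := R'.map N.subtype with hR
  have hQ'p : IsPGroup p Q' := hQ.comap_of_injective N.subtype N.subtype_injective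
  have hR'p : IsPGroup p R' := by
    apply hRbp.comap_of_ker_isPGroup
    rw [QuotientGroup.ker_mk']
    exact hQ'p
  have hRp : IsPGroup p R := hR'p.map N.subtype
  have hQR : Q ≤ R := by
    intro q hq
    have hqN : q ∈ N := Subgroup.le_normalizer hq
    refine ⟨⟨q, hqN⟩, ?_, rfl⟩
    show (QuotientGroup.mk' Q') ⟨q, hqN⟩ ∈ Rb
    have : (QuotientGroup.mk' Q') ⟨q, hqN⟩ = 1 := by
      rw [QuotientGroup.mk'_apply, QuotientGroup.eq_one_iff]
      exact hq
    rw [this]
    exact Rb.one_mem
  have hzR : z ∈ Subgroup.normalizer (R : Set G) := by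
    apply mem_normalizer_of_conj_le
    rintro _ ⟨r', hr', rfl⟩
    refine ⟨z' * r' * z'⁻¹, ?_, rfl⟩
    show (QuotientGroup.mk' Q') (z' * r' * z'⁻¹) ∈ Rb
    rw [map_mul, map_mul, map_inv]
    exact ((Subgroup.mem_normalizer_iff.1 hRbz) _).1 hr'
  have hRQ : R = Q := hmax R hRp hzR hQR
  apply hRb1
  rw [Subgroup.eq_bot_iff_forall]
  intro rb hrb
  obtain ⟨r', rfl⟩ := QuotientGroup.mk_surjective rb
  have h1 : (r' : G) ∈ R := ⟨r', hrb, rfl⟩
  rw [hRQ] at h1
  exact (QuotientGroup.eq_one_iff r').2 h1

end Cfsg.Agent.Helper14.IsoInv
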