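import Mathlib
import Cfsg.Agent.Lib.Helper14.IsoInv
import Cfsg.Agent.Lib.Helper15.Isolated

/-!
# Isolated involutions: invariant Sylow subgroups (helper14's library)
-/

set_option autoImplicit false

namespace Cfsg.Agent.Helper14.IsoInv

open Cfsg
open scoped Pointwise

/-- Two conjugates of an isolated involution lying in a subgroup `N` are conjugate in `N`. -/
theorem exists_conj_in_subgroup {G : Type*} [Group G] [Finite G] (z : G)
    (hz : orderOf z = 2) (hiso : IsIsolated z) (N : Subgroup G) (hzN : z ∈ N) (g : G)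
    (hgN : g * z * g⁻¹ ∈ N) : ∃ n ∈ N, n * (g * z * g⁻¹) * n⁻¹ = z := by
  haveI : Fact (Nat.Prime 2) := ⟨Nat.prime_two⟩
  set a : N := ⟨z, hzN⟩ with ha
  set b : N := ⟨g * z * g⁻¹, hgN⟩ with hb
  have hao : orderOf a = 2 := by rw [ha, Subgroup.orderOf_mk]; exact hz
  have hbo : orderOf b = 2 := by
    rw [hb, Subgroup.orderOf_mk]
    have := MulEquiv.orderOf_eq (MulAut.conj g) z
    rw [MulAut.conj_apply] at this
    rw [this]; exact hz
  have hpa : IsPGroup 2 (Subgroup.zpowers a) := by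
    apply IsPGroup.of_card (n := 1)
    rw [Nat.card_zpowers, hao, pow_one]
  have hpb : IsPGroup 2 (Subgroup.zpowers b) := by
    apply IsPGroup.of_card (n := 1)
    rw [Nat.card_zpowers, hbo, pow_one]
  obtain ⟨S₁, hS₁⟩ := hpa.exists_le_sylow
  obtain ⟨S₂, hS₂⟩ := hpb.exists_le_sylow
  obtain ⟨n, hn⟩ := MulAction.exists_smul_eq N S₂ S₁
  have haS : a ∈ S₁ := hS₁ (Subgroup.mem_zpowers a)
  have hbS : b ∈ S₂ := hS₂ (Subgroup.mem_zpowers b)
  have hnb : n * b * n⁻¹ ∈ S₁ := by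
    have h1 : MulAut.conj n • b ∈ MulAut.conj n • (S₂ : Subgroup N) :=
      Subgroup.smul_mem_pointwise_smul b (MulAut.conj n) S₂ hbS
    have h2 : (MulAut.conj n • (S₂ : Subgroup N)) = ((n • S₂ : Sylow 2 N) : Subgroup N) := rfl
    rw [h2, hn] at h1
    exact h1
  set R : Subgroup G := (S₁ : Subgroup N).map N.subtype with hR
  have hRp : IsPGroup 2 R := (S₁.isPGroup').map N.subtype
  have hzR : z ∈ R := ⟨a, haS, rfl⟩
  have hcR : (n : G) * (g * z * g⁻¹) * (n : G)⁻¹ ∈ R := ⟨n * b * n⁻¹, hnb, rfl⟩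
  have hle := Cfsg.Agent.Helper15.IsIsolated.commute_of_mem hiso hRp hzR
  have hcomm := Cfsg.Agent.Helper15.mem_centralizer_singleton_iff.1 (hle hcR)
  have e1 : (n : G) * (g * z * g⁻¹) * (n : G)⁻¹ = ((n : G) * g) * z * ((n : G) * g)⁻¹ := by group
  refine ⟨n, n.2, ?_⟩
  rw [e1]
  apply hiso
  rw [← e1]
  exact hcomm.symm

end Cfsg.Agent.Helper14.IsoInv

namespace Cfsg.Agent.Helper14.IsoInv

open Cfsg
open scoped Pointwise

theorem relIndex_mul_card_of_le {G : Type*} [Group G] {H K : Subgroup G} (h : H ≤ K) :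
    H.relIndex K * Nat.card H = Nat.card K := by
  have := Subgroup.relIndex_mul_relIndex (⊥ : Subgroup G) H K bot_le h
  rw [Subgroup.relIndex_bot_left, Subgroup.relIndex_bot_left] at this
  rw [mul_comm]; exact this

/-- Two Sylow `p`-subgroups normalized by the isolated involution `z` are conjugate under
`C_G(z)`. -/
theorem invariant_sylow_conj_centralizer {G : Type*} [Group G] [Finite G] (z : G)
    (hz : orderOf z = 2) (hiso : IsIsolated z) {p : ℕ} [hp : Fact p.Prime] (P P₁ : Sylow p G)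
    (hzP : z ∈ Subgroup.normalizer ((P : Subgroup G) : Set G))
    (hzP₁ : z ∈ Subgroup.normalizer ((P₁ : Subgroup G) : Set G)) :
    ∃ c ∈ Subgroup.centralizer ({z} : Set G), c • P = P₁ := by
  obtain ⟨g, hg⟩ := MulAction.exists_smul_eq G P P₁
  have h1 : z • P₁ = P₁ := Sylow.smul_eq_iff_mem_normalizer.2 hzP₁
  have h2 : (g⁻¹ * z * g⁻¹⁻¹) • P = P := by
    rw [inv_inv, mul_smul, mul_smul, hg, h1, ← hg, inv_smul_smul]
  have h3 : g⁻¹ * z * g⁻¹⁻¹ ∈ Subgroup.normalizer ((P : Subgroup G) : Set G) :=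
    Sylow.smul_eq_iff_mem_normalizer.1 h2
  obtain ⟨n, hn, hnz⟩ := exists_conj_in_subgroup z hz hiso _ hzP g⁻¹ h3
  refine ⟨g * n⁻¹, ?_, ?_⟩
  · rw [Cfsg.Agent.Helper15.mem_centralizer_singleton_iff]
    have e : n * (g⁻¹ * z * g⁻¹⁻¹) * n⁻¹ = (g * n⁻¹)⁻¹ * z * (g * n⁻¹) := by group
    rw [e] at hnz
    calc g * n⁻¹ * z = (g * n⁻¹) * ((g * n⁻¹)⁻¹ * z * (g * n⁻¹)) := by rw [hnz]
      _ = z * (g * n⁻¹) := by group
  · rw [mul_smul]
    have : n⁻¹ • P = P := Sylow.smul_eq_iff_mem_normalizer.2 (Subgroup.inv_mem _ hn)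
    rw [this, hg]

/-- For a Sylow `p`-subgroup `P` normalized by the isolated involution `z`, `C_P(z)` is a Sylow
`p`-subgroup of `C_G(z)`. -/
theorem not_dvd_relIndex_centralizer {G : Type*} [Group G] [Finite G] (z : G)
    (hz : orderOf z = 2) (hiso : IsIsolated z) {p : ℕ} [hp : Fact p.Prime] (P : Sylow p G)
    (hzP : z ∈ Subgroup.normalizer ((P : Subgroup G) : Set G)) :
    ¬ p ∣ ((P : Subgroup G) ⊓ Subgroup.centralizer ({z} : Set G)).relIndex
      (Subgroup.centralizer ({z} : Set G)) := by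
  set C := Subgroup.centralizer ({z} : Set G) with hC
  have hDp : IsPGroup p (((P : Subgroup G) ⊓ C).subgroupOf C) :=
    (P.isPGroup'.to_le inf_le_left).comap_of_injective C.subtype C.subtype_injective
  obtain ⟨T, hT⟩ := hDp.exists_le_sylow
  set T₀ : Subgroup G := (T : Subgroup C).map C.subtype with hT₀
  have hT₀p : IsPGroup p T₀ := (T.isPGroup').map C.subtype
  have hT₀C : T₀ ≤ C := by
    rintro _ ⟨t, -, rfl⟩
    exact t.2
  have hzT₀ : z ∈ Subgroup.normalizer (T₀ : Set G) := by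
    apply mem_normalizer_of_conj_le
    intro t ht
    have h1 := Cfsg.Agent.Helper15.mem_centralizer_singleton_iff.1 (hT₀C ht)
    have h2 : z * t * z⁻¹ = t := by
      rw [← h1, mul_inv_cancel_right]
    rw [h2]; exact ht
  obtain ⟨P₁', hle, hmax⟩ := Finite.exists_le_maximal
    (p := fun R : Subgroup G => IsPGroup p R ∧ z ∈ Subgroup.normalizer (R : Set G))
    (a := T₀) ⟨hT₀p, hzT₀⟩
  obtain ⟨P₁, hP₁⟩ := isSylow_of_maximal_invariant z hz hiso P₁' hmax.1.1 hmax.1.2
    (fun R hR hzR hle' => le_antisymm (hmax.2 ⟨hR, hzR⟩ hle') hle')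
  have hzP₁ : z ∈ Subgroup.normalizer ((P₁ : Subgroup G) : Set G) := by
    rw [hP₁]; exact hmax.1.2
  obtain ⟨c, hcC, hc⟩ := invariant_sylow_conj_centralizer z hz hiso P P₁ hzP hzP₁
  -- `(P₁ ⊓ C).subgroupOf C = T`
  have hE : ((P₁ : Subgroup G) ⊓ C).subgroupOf C = T := by
    apply T.is_maximal'
    · exact (P₁.isPGroup'.to_le inf_le_left).comap_of_injective C.subtype C.subtype_injective
    · intro t ht
      rw [Subgroup.mem_subgroupOf]
      refine ⟨?_, t.2⟩
      rw [hP₁]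
      exact hle ⟨t, ht, rfl⟩
  -- cardinalities
  have hcard : Nat.card ((P₁ : Subgroup G) ⊓ C : Subgroup G) = Nat.card ((P : Subgroup G) ⊓ C : Subgroup G) := by
    have hmap : ((P₁ : Subgroup G) ⊓ C) = ((P : Subgroup G) ⊓ C).map (MulAut.conj c).toMonoidHom := by
      have hP₁c : (P₁ : Subgroup G) = (P : Subgroup G).map (MulAut.conj c).toMonoidHom := by
        rw [← hc]; rfl
      ext x
      constructor
      · rintro ⟨hx1, hx2⟩
        rw [hP₁c] at hx1
        obtain ⟨y, hy, rfl⟩ := hx1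
        refine ⟨y, ⟨hy, ?_⟩, rfl⟩
        have : y = c⁻¹ * ((MulAut.conj c).toMonoidHom y) * c := by
          simp [MulAut.conj_apply]; group
        rw [this]
        exact C.mul_mem (C.mul_mem (C.inv_mem hcC) hx2) hcC
      · rintro ⟨y, ⟨hy1, hy2⟩, rfl⟩
        refine ⟨?_, ?_⟩
        · rw [hP₁c]; exact ⟨y, hy1, rfl⟩
        · show c * y * c⁻¹ ∈ C
          exact C.mul_mem (C.mul_mem hcC hy2) (C.inv_mem hcC)
    rw [hmap]
    exact Subgroup.card_map_of_injective (MulAut.conj c).injective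
  have h1 : ((P : Subgroup G) ⊓ C).relIndex C * Nat.card ((P : Subgroup G) ⊓ C : Subgroup G) = Nat.card C :=
    relIndex_mul_card_of_le inf_le_right
  have h2 : ((P₁ : Subgroup G) ⊓ C).relIndex C * Nat.card ((P₁ : Subgroup G) ⊓ C : Subgroup G) = Nat.card C :=
    relIndex_mul_card_of_le inf_le_right
  have h3 : ((P : Subgroup G) ⊓ C).relIndex C = ((P₁ : Subgroup G) ⊓ C).relIndex C := by
    rw [hcard, ← h1] at h2
    have hpos : 0 < Nat.card ((P : Subgroup G) ⊓ C : Subgroup G) := Nat.card_pos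
    exact (Nat.eq_of_mul_eq_mul_right hpos h2).symm
  rw [h3]
  show ¬ p ∣ (((P₁ : Subgroup G) ⊓ C).subgroupOf C).index
  rw [hE]
  exact T.not_dvd_index

end Cfsg.Agent.Helper14.IsoInv

namespace Cfsg.Agent.Helper14.IsoInv

open Cfsg

/-- For an involutory `z` normalizing the subgroup `P` of odd order, the index of `C_P(z)` in `P`
is the number of elements of `P` inverted by `z`. -/
theorem relIndex_centralizer_eq_card_inverted {G : Type*} [Group G] [Finite G] (z : G)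
    (hzz : z * z = 1) (P : Subgroup G) (hodd : Odd (Nat.card P))
    (hzP : z ∈ Subgroup.normalizer (P : Set G)) :
    (P ⊓ Subgroup.centralizer ({z} : Set G)).relIndex P =
      Nat.card {x : G // x ∈ P ∧ z * x * z⁻¹ = x⁻¹} := by
  set C := Subgroup.centralizer ({z} : Set G) with hC
  set H : Subgroup P := (P ⊓ C).subgroupOf P with hH
  have hzinv : z⁻¹ = z := inv_eq_of_mul_eq_one_left hzz
  have hf : ∀ a : P, (a : G) * (z * a * z⁻¹)⁻¹ ∈ P ∧
      z * ((a : G) * (z * a * z⁻¹)⁻¹) * z⁻¹ = ((a : G) * (z * a * z⁻¹)⁻¹)⁻¹ := by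
    intro a
    constructor
    · exact P.mul_mem a.2 (P.inv_mem (((Subgroup.mem_normalizer_iff.1 hzP) a).1 a.2))
    · have hzz' : z⁻¹ * z⁻¹ = 1 := by rw [← mul_inv_rev, hzz, inv_one]
      calc z * ((a : G) * (z * a * z⁻¹)⁻¹) * z⁻¹ = z * a * z * (a : G)⁻¹ * (z⁻¹ * z⁻¹) := by group
        _ = z * a * z * (a : G)⁻¹ := by rw [hzz', mul_one]
        _ = z * a * z⁻¹ * (a : G)⁻¹ := by rw [hzinv]
        _ = ((a : G) * (z * a * z⁻¹)⁻¹)⁻¹ := by group
  let f : P → {x : G // x ∈ P ∧ z * x * z⁻¹ = x⁻¹} := fun a => ⟨(a : G) * (z * a * z⁻¹)⁻¹, hf a⟩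
  have hrel : ∀ a b : P, f a = f b ↔ a⁻¹ * b ∈ H := by
    intro a b
    rw [hH, Subgroup.mem_subgroupOf, Subgroup.mem_inf]
    constructor
    · intro h
      have h1 : (a : G) * (z * a * z⁻¹)⁻¹ = (b : G) * (z * b * z⁻¹)⁻¹ := congrArg Subtype.val h
      refine ⟨(a⁻¹ * b).2, ?_⟩
      rw [hC, Cfsg.Agent.Helper15.mem_centralizer_singleton_iff]
      have h2 : (a : G) * z * (a : G)⁻¹ = (b : G) * z * (b : G)⁻¹ := by
        have e1 : (a : G) * z * (a : G)⁻¹ = ((a : G) * (z * a * z⁻¹)⁻¹) * z := by group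
        have e2 : (b : G) * z * (b : G)⁻¹ = ((b : G) * (z * b * z⁻¹)⁻¹) * z := by group
        rw [e1, e2, h1]
      show ((a : G)⁻¹ * (b : G)) * z = z * ((a : G)⁻¹ * (b : G))
      calc ((a : G)⁻¹ * (b : G)) * z = (a : G)⁻¹ * ((b : G) * z * (b : G)⁻¹) * (b : G) := by group
        _ = (a : G)⁻¹ * ((a : G) * z * (a : G)⁻¹) * (b : G) := by rw [h2]
        _ = z * ((a : G)⁻¹ * (b : G)) := by group
    · rintro ⟨-, h⟩
      rw [hC, Cfsg.Agent.Helper15.mem_centralizer_singleton_iff] at h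
      have h' : ((a : G)⁻¹ * (b : G)) * z = z * ((a : G)⁻¹ * (b : G)) := h
      apply Subtype.ext
      show (a : G) * (z * a * z⁻¹)⁻¹ = (b : G) * (z * b * z⁻¹)⁻¹
      have h2 : (b : G) * z * (b : G)⁻¹ = (a : G) * z * (a : G)⁻¹ := by
        calc (b : G) * z * (b : G)⁻¹ = (a : G) * (((a : G)⁻¹ * (b : G)) * z) * (b : G)⁻¹ := by group
          _ = (a : G) * (z * ((a : G)⁻¹ * (b : G))) * (b : G)⁻¹ := by rw [h']
          _ = (a : G) * z * (a : G)⁻¹ := by group
      have e1 : (a : G) * (z * a * z⁻¹)⁻¹ = ((a : G) * z * (a : G)⁻¹) * z⁻¹ := by group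
      have e2 : (b : G) * (z * b * z⁻¹)⁻¹ = ((b : G) * z * (b : G)⁻¹) * z⁻¹ := by group
      rw [e1, e2, h2]
  have hsurj : Function.Surjective f := by
    rintro ⟨i, hiP, hiz⟩
    -- the order of `i` is odd
    have hio : Odd (orderOf i) := by
      have h1 : orderOf i ∣ Nat.card P := by
        have := orderOf_dvd_natCard (⟨i, hiP⟩ : P)
        rwa [Subgroup.orderOf_mk] at this
      exact Odd.of_dvd_nat hodd h1
    obtain ⟨m, hm⟩ := hio
    have hjP : i ^ (m + 1) ∈ P := P.pow_mem hiP _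
    refine ⟨⟨i ^ (m + 1), hjP⟩, ?_⟩
    apply Subtype.ext
    show i ^ (m + 1) * (z * i ^ (m + 1) * z⁻¹)⁻¹ = i
    have h1 : z * i ^ (m + 1) * z⁻¹ = (i ^ (m + 1))⁻¹ := by
      rw [← conj_pow, hiz, inv_pow]
    rw [h1, inv_inv, ← pow_add]
    have h2 : m + 1 + (m + 1) = orderOf i + 1 := by omega
    rw [h2, pow_succ, pow_orderOf_eq_one, one_mul]
  show H.index = _
  rw [Subgroup.index]
  let φ : P ⧸ H → {x : G // x ∈ P ∧ z * x * z⁻¹ = x⁻¹} :=
    Quotient.lift f (by
      intro a b hab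
      exact (hrel a b).2 (QuotientGroup.leftRel_apply.1 hab))
  have hφ : Function.Bijective φ := by
    constructor
    · intro x y
      induction x using Quotient.inductionOn with | _ a => ?_
      induction y using Quotient.inductionOn with | _ b => ?_
      intro h
      have h' : f a = f b := h
      exact Quotient.sound (QuotientGroup.leftRel_apply.2 ((hrel a b).1 h'))
    · intro i
      obtain ⟨a, ha⟩ := hsurj i
      exact ⟨Quotient.mk _ a, ha⟩
  exact Nat.card_congr (Equiv.ofBijective φ hφ)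

end Cfsg.Agent.Helper14.IsoInv
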