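import Mathlib
import Cfsg.Agent.S0572
import Cfsg.Agent.Lib.Helper4.KWEnd3

/-!
# Products of an abelian group and a nilpotent group of class at most two (helper14)

`G = A B`, `A` abelian, `B' ≤ Z(B)`.  With `Y = B'`, `N = ⟨Y^G⟩`, `K = A N`, `B₁ = B ∩ K`
we show `B₁' ≤ N'`; hence `B₁' < B'` unless `B' = 1`, and induction on `|B'|` bounds the
derived length of `G` by `2 (1 + Ω(|B'|))`.
-/

set_option autoImplicit false

namespace Cfsg.Agent.Helper14.ItoC2

open Subgroup
open scoped commutatorElement

universe u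

section ds

variable {G : Type u} [Group G]

/-- the derived series of a subgroup, inside the ambient group -/
def ds (H : Subgroup G) : ℕ → Subgroup G
  | 0 => H
  | n + 1 => ⁅ds H n, ds H n⁆

theorem ds_zero (H : Subgroup G) : ds H 0 = H := rfl

theorem ds_succ (H : Subgroup G) (n : ℕ) : ds H (n + 1) = ⁅ds H n, ds H n⁆ := rfl

theorem ds_mono {H K : Subgroup G} (h : H ≤ K) (n : ℕ) : ds H n ≤ ds K n := by
  induction n with
  | zero => exact h
  | succ n ih => exact Subgroup.commutator_mono ih ih

theorem ds_top (n : ℕ) : ds (⊤ : Subgroup G) n = derivedSeries G n := by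
  induction n with
  | zero => rfl
  | succ n ih => rw [ds_succ, ih, derivedSeries_succ]

theorem ds_add (H : Subgroup G) (m n : ℕ) : ds (ds H m) n = ds H (m + n) := by
  induction n with
  | zero => rfl
  | succ n ih => rw [ds_succ, ih, ← Nat.add_assoc, ds_succ]

theorem ds_bot (n : ℕ) : ds (⊥ : Subgroup G) n = ⊥ := by
  induction n with
  | zero => rfl
  | succ n ih => rw [ds_succ, ih, Subgroup.commutator_bot_left]

theorem ds_eq_bot_of_le {H : Subgroup G} {m n : ℕ} (hmn : m ≤ n) (h : ds H m = ⊥) :
    ds H n = ⊥ := by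
  obtain ⟨k, rfl⟩ := Nat.exists_eq_add_of_le hmn
  rw [← ds_add, h, ds_bot]

theorem ds_map_subtype (K : Subgroup G) (n : ℕ) :
    (derivedSeries ↥K n).map K.subtype = ds K n := by
  induction n with
  | zero =>
    rw [derivedSeries_zero, ds_zero, ← MonoidHom.range_eq_map, Subgroup.range_subtype]
  | succ n ih => rw [derivedSeries_succ, Subgroup.map_commutator, ih, ds_succ]

/-- a perfect subgroup of a solvable group is trivial -/
theorem eq_bot_of_le_commutator [hs : Group.IsSolvable G] {H : Subgroup G} (h : H ≤ ⁅H, H⁆) :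
    H = ⊥ := by
  have h1 : ∀ n : ℕ, H ≤ ds H n := by
    intro n
    induction n with
    | zero => exact le_rfl
    | succ n ih => exact h.trans (Subgroup.commutator_mono ih ih)
  obtain ⟨n, hn⟩ := hs.solvable
  rw [eq_bot_iff]
  calc H ≤ ds H n := h1 n
    _ ≤ ds ⊤ n := ds_mono le_top n
    _ = ⊥ := by rw [ds_top, hn]

end ds

section key

variable {G : Type u} [Group G]

/-- the normal closure of `B'` -/
def ncl (B : Subgroup G) : Subgroup G := Subgroup.normalClosure ((⁅B, B⁆ : Subgroup G) : Set G)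

instance ncl_normal (B : Subgroup G) : (ncl B).Normal := Subgroup.normalClosure_normal

theorem comm_le_ncl (B : Subgroup G) : ⁅B, B⁆ ≤ ncl B := Subgroup.le_normalClosure

/-- **Key lemma.** `B₁' ≤ N'` for `B₁ = B ∩ A N`. -/
theorem key (A B : Subgroup G) [IsMulCommutative A]
    (hB : ⁅B, B⁆ ≤ Subgroup.centralizer (B : Set G))
    (hAB : ∀ g : G, ∃ a ∈ A, ∃ b ∈ B, g = a * b) :
    ⁅B ⊓ (A ⊔ ncl B), B ⊓ (A ⊔ ncl B)⁆ ≤ ⁅ncl B, ncl B⁆ := by
  set N := ncl B with hN
  let φ : G →* G ⧸ (⁅N, N⁆ : Subgroup G) := QuotientGroup.mk' _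
  have hker : ∀ x : G, φ x = 1 ↔ x ∈ (⁅N, N⁆ : Subgroup G) := fun x => QuotientGroup.eq_one_iff x
  have cNN : ∀ x ∈ N, ∀ y ∈ N, Commute (φ x) (φ y) := by
    intro x hx y hy
    rw [← commutatorElement_eq_one_iff_commute, ← map_commutatorElement, hker]
    exact Subgroup.commutator_mem_commutator hx hy
  have cAA : ∀ x ∈ A, ∀ y ∈ A, Commute (φ x) (φ y) := by
    intro x hx y hy
    show φ x * φ y = φ y * φ x
    rw [← map_mul, ← map_mul, Cfsg.Agent.S0572.comm_of_mem hx hy]
  have hYc : ∀ y ∈ (⁅B, B⁆ : Subgroup G), ∀ b ∈ B, b * y = y * b := by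
    intro y hy b hb
    exact (Subgroup.mem_centralizer_iff.mp (hB hy)) b hb
  -- the `A`-part of an element of `B ∩ A N` centralises `N` modulo `N'`
  have main : ∀ a ∈ A, ∀ n ∈ N, a * n ∈ B → ∀ x ∈ N, Commute (φ a) (φ x) := by
    intro a ha n hn hb
    have step1 : ∀ y ∈ (⁅B, B⁆ : Subgroup G), Commute (φ a) (φ y) := by
      intro y hy
      have h1 : Commute (φ (a * n)) (φ y) := by
        show φ (a * n) * φ y = φ y * φ (a * n)
        rw [← map_mul, ← map_mul, hYc y hy (a * n) hb]
      have h2 : Commute (φ n) (φ y) := cNN n hn y (comm_le_ncl B hy)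
      have h3 : φ a = φ (a * n) * (φ n)⁻¹ := by rw [map_mul, mul_inv_cancel_right]
      rw [h3]
      exact h1.mul_left h2.inv_left
    let C : Subgroup G := (Subgroup.centralizer {φ a}).comap φ
    have hNC : N ≤ C := by
      rw [hN]
      show Subgroup.closure (Group.conjugatesOfSet ((⁅B, B⁆ : Subgroup G) : Set G)) ≤ C
      rw [Subgroup.closure_le]
      intro x hx
      rw [Group.mem_conjugatesOfSet_iff] at hx
      obtain ⟨y, hy, hconj⟩ := hx
      rw [isConj_iff] at hconj
      obtain ⟨c, rfl⟩ := hconj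
      obtain ⟨a', ha', b', hb', rfl⟩ := hAB c
      have hy' : y ∈ (⁅B, B⁆ : Subgroup G) := hy
      have e : a' * b' * y * (a' * b')⁻¹ = a' * y * a'⁻¹ := by
        have := hYc y hy' b' hb'
        calc a' * b' * y * (a' * b')⁻¹ = a' * (b' * y) * b'⁻¹ * a'⁻¹ := by group
          _ = a' * (y * b') * b'⁻¹ * a'⁻¹ := by rw [this]
          _ = a' * y * a'⁻¹ := by group
      show a' * b' * y * (a' * b')⁻¹ ∈ C
      rw [e, Subgroup.mem_comap, Subgroup.mem_centralizer_iff]
      intro h hh
      rw [Set.mem_singleton_iff] at hh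
      subst hh
      have hc : Commute (φ a) (φ (a' * y * a'⁻¹)) := by
        rw [map_mul, map_mul, map_inv]
        exact ((cAA a ha a' ha').mul_right (step1 y hy')).mul_right (cAA a ha a' ha').inv_right
      exact hc
    intro x hx
    have := hNC hx
    rw [Subgroup.mem_comap, Subgroup.mem_centralizer_iff] at this
    exact this (φ a) rfl
  rw [Subgroup.commutator_le]
  intro b hb b' hb'
  obtain ⟨hbB, hbK⟩ := Subgroup.mem_inf.mp hb
  obtain ⟨hbB', hbK'⟩ := Subgroup.mem_inf.mp hb'
  obtain ⟨a, ha, n, hn, rfl⟩ := Subgroup.mem_sup_of_normal_right.mp hbK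
  obtain ⟨a', ha', n', hn', rfl⟩ := Subgroup.mem_sup_of_normal_right.mp hbK'
  rw [← hker, map_commutatorElement, commutatorElement_eq_one_iff_commute, map_mul, map_mul]
  have m1 := main a ha n hn hbB
  have m2 := main a' ha' n' hn' hbB'
  apply Commute.mul_left
  · exact (cAA a ha a' ha').mul_right (m1 n' hn')
  · exact ((m2 n hn).symm).mul_right (cNN n hn n' hn')

/-- `B₁' ≠ B'` unless `B' = 1`. -/
theorem comm_inf_ne (A B : Subgroup G) [IsMulCommutative A] [Group.IsSolvable G]
    (hB : ⁅B, B⁆ ≤ Subgroup.centralizer (B : Set G))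
    (hAB : ∀ g : G, ∃ a ∈ A, ∃ b ∈ B, g = a * b) (hne : (⁅B, B⁆ : Subgroup G) ≠ ⊥) :
    ⁅B ⊓ (A ⊔ ncl B), B ⊓ (A ⊔ ncl B)⁆ ≠ (⁅B, B⁆ : Subgroup G) := by
  intro heq
  have h1 : (⁅B, B⁆ : Subgroup G) ≤ ⁅ncl B, ncl B⁆ := heq ▸ key A B hB hAB
  have h2 : ncl B ≤ ⁅ncl B, ncl B⁆ := Subgroup.normalClosure_le_normal h1
  have h3 : ncl B = ⊥ := eq_bot_of_le_commutator h2
  apply hne
  rw [eq_bot_iff, ← h3]
  exact comm_le_ncl B

/-- `G'' ≤ N`. -/
theorem derived_two_le_ncl (A B : Subgroup G) [IsMulCommutative A]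
    (hAB : ∀ g : G, ∃ a ∈ A, ∃ b ∈ B, g = a * b) : derivedSeries G 2 ≤ ncl B := by
  let φ : G →* G ⧸ ncl B := QuotientGroup.mk' _
  have hker : φ.ker = ncl B := QuotientGroup.ker_mk' _
  haveI : IsMulCommutative (B.map φ) := by
    rw [← Subgroup.le_centralizer_iff_isMulCommutative,
      ← Subgroup.commutator_eq_bot_iff_le_centralizer, ← Subgroup.map_commutator,
      Subgroup.map_eq_bot_iff, hker]
    exact comm_le_ncl B
  have hq : ∀ q : G ⧸ ncl B, ∃ a ∈ A.map φ, ∃ b ∈ B.map φ, q = a * b := by
    intro q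
    obtain ⟨g, rfl⟩ := QuotientGroup.mk'_surjective (ncl B) q
    obtain ⟨a, ha, b, hb, rfl⟩ := hAB g
    exact ⟨φ a, Subgroup.mem_map_of_mem φ ha, φ b, Subgroup.mem_map_of_mem φ hb, map_mul φ a b⟩
  have h2 := Cfsg.Agent.S0572.result (A.map φ) (B.map φ) hq
  have h3 := map_derivedSeries_le_derivedSeries φ 2
  rw [h2, le_bot_iff, Subgroup.map_eq_bot_iff, hker] at h3
  exact h3

end key

section main

theorem isNilpotent_of_comm_le_center {B : Type u} [Group B] (h : commutator B ≤ Subgroup.center B) :
    Group.IsNilpotent B := by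
  apply Subgroup.isNilpotent_of_ker_le_center (Abelianization.of : B →* Abelianization B)
  rw [Abelianization.ker_of]
  exact h

theorem length_primeFactorsList_lt {m k : ℕ} (hm : 0 < m) (hk : 2 ≤ k) :
    m.primeFactorsList.length < (m * k).primeFactorsList.length := by
  have h1 := (Nat.perm_primeFactorsList_mul (Nat.pos_iff_ne_zero.mp hm)
    (by omega : k ≠ 0)).length_eq
  rw [List.length_append] at h1
  have h2 : 0 < k.primeFactorsList.length := by
    rw [List.length_pos_iff_ne_nil]
    intro h
    rcases (Nat.primeFactorsList_eq_nil k).mp h with h | h <;> omega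
  omega

theorem main_aux : ∀ (m : ℕ) (G : Type u) [Group G] [Finite G] (A B : Subgroup G)
    [IsMulCommutative A], commutator ↥B ≤ Subgroup.center ↥B →
    (∀ g : G, ∃ a ∈ A, ∃ b ∈ B, g = a * b) → Nat.card ↥(commutator ↥B) = m →
    derivedSeries G (2 * (1 + m.primeFactorsList.length)) = ⊥ := by
  intro m
  induction m using Nat.strong_induction_on with
  | _ m ih =>
    intro G _ _ A B _ hB hAB hm
    -- translate to the ambient group
    have hmap : (commutator ↥B).map B.subtype = ⁅B, B⁆ := Subgroup.map_subtype_commutator B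
    have hcard : Nat.card ↥(⁅B, B⁆ : Subgroup G) = m := by
      rw [← hmap, Subgroup.card_map_of_injective B.subtype_injective, hm]
    have hBc : (⁅B, B⁆ : Subgroup G) ≤ Subgroup.centralizer (B : Set G) := by
      intro y hy
      rw [← hmap] at hy
      obtain ⟨y', hy', rfl⟩ := Subgroup.mem_map.mp hy
      rw [Subgroup.mem_centralizer_iff]
      intro h hh
      have := Subgroup.mem_center_iff.mp (hB hy') ⟨h, hh⟩
      exact congrArg Subtype.val this
    by_cases hbot : (⁅B, B⁆ : Subgroup G) = ⊥
    · -- `B` abelian: Itô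
      haveI : IsMulCommutative B := by
        rw [← Subgroup.le_centralizer_iff_isMulCommutative,
          ← Subgroup.commutator_eq_bot_iff_le_centralizer]
        exact hbot
      have h2 := Cfsg.Agent.S0572.result A B hAB
      have hm1 : m = 1 := by
        rw [← hcard, hbot]
        exact Subgroup.card_bot
      rw [hm1]
      simpa using h2
    · -- the induction step
      have hAnil : Group.IsNilpotent ↥A := by
        apply isNilpotent_of_comm_le_center
        intro x _
        rw [Subgroup.mem_center_iff]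
        intro g
        exact mul_comm' g x
      have hBnil : Group.IsNilpotent ↥B := isNilpotent_of_comm_le_center hB
      haveI hsol : Group.IsSolvable G := Cfsg.Agent.Helper4.KW.kegel_wielandt A B hAnil hBnil hAB
      set N := ncl B with hN
      set K := A ⊔ N with hK
      set B₁ := B ⊓ K with hB₁
      have hB₁B : B₁ ≤ B := inf_le_left
      have hB₁K : B₁ ≤ K := inf_le_right
      have hle : (⁅B₁, B₁⁆ : Subgroup G) ≤ ⁅B, B⁆ := Subgroup.commutator_mono hB₁B hB₁B
      have hne : (⁅B₁, B₁⁆ : Subgroup G) ≠ ⁅B, B⁆ := comm_inf_ne A B hBc hAB hbot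
      -- cardinalities
      set m₁ := Nat.card ↥(⁅B₁, B₁⁆ : Subgroup G) with hm₁
      have hdvd : m₁ ∣ m := by
        rw [← hcard]
        exact Subgroup.card_dvd_of_le hle
      have hm₁pos : 0 < m₁ := Nat.card_pos
      have hmpos : 0 < m := by rw [← hcard]; exact Nat.card_pos
      obtain ⟨k, hk⟩ := hdvd
      have hk2 : 2 ≤ k := by
        by_contra hlt
        have hk01 : k = 0 ∨ k = 1 := by omega
        rcases hk01 with h0 | h1
        · rw [h0, Nat.mul_zero] at hk; omega
        · rw [h1, Nat.mul_one] at hk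
          apply hne
          apply Subgroup.eq_of_le_of_card_ge hle
          rw [hcard, hk]
      have hlt : m₁ < m := by
        rw [hk]
        nlinarith
      have hΩ : m₁.primeFactorsList.length < m.primeFactorsList.length := by
        rw [hk]
        exact length_primeFactorsList_lt hm₁pos hk2
      -- the subgroups of `K`
      let A' : Subgroup ↥K := A.subgroupOf K
      let B' : Subgroup ↥K := B₁.subgroupOf K
      have hAK : A ≤ K := le_sup_left
      -- the image of `commutator B'` in `G`
      have himg : ((commutator ↥B').map B'.subtype).map K.subtype = ⁅B₁, B₁⁆ := by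
        rw [Subgroup.map_subtype_commutator, Subgroup.map_commutator,
          Subgroup.map_subgroupOf_eq_of_le hB₁K]
      have hcard' : Nat.card ↥(commutator ↥B') = m₁ := by
        rw [hm₁, ← himg, Subgroup.card_map_of_injective K.subtype_injective,
          Subgroup.card_map_of_injective B'.subtype_injective]
      have hB'c : commutator ↥B' ≤ Subgroup.center ↥B' := by
        intro z hz
        rw [Subgroup.mem_center_iff]
        intro g
        have hz1 : ((z : ↥K) : G) ∈ (⁅B₁, B₁⁆ : Subgroup G) := by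
          rw [← himg]
          exact Subgroup.mem_map_of_mem _ (Subgroup.mem_map_of_mem _ hz)
        have hg1 : ((g : ↥K) : G) ∈ B := hB₁B (Subgroup.mem_subgroupOf.mp g.2)
        have := (Subgroup.mem_centralizer_iff.mp (hBc (hle hz1))) _ hg1
        apply Subtype.ext
        apply Subtype.ext
        exact this
      have hAB' : ∀ g : ↥K, ∃ a ∈ A', ∃ b ∈ B', g = a * b := by
        intro g
        obtain ⟨a, ha, b, hb, hg⟩ := hAB (g : G)
        have hbK : b ∈ K := by
          have : b = a⁻¹ * (g : G) := by rw [hg]; group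
          rw [this]
          exact K.mul_mem (K.inv_mem (hAK ha)) g.2
        refine ⟨⟨a, hAK ha⟩, Subgroup.mem_subgroupOf.mpr ha, ⟨b, hbK⟩,
          Subgroup.mem_subgroupOf.mpr (Subgroup.mem_inf.mpr ⟨hb, hbK⟩), ?_⟩
        apply Subtype.ext
        exact hg
      have hIH := ih m₁ hlt ↥K A' B' hB'c hAB' hcard'
      -- back to `G`
      have hdsK : ds K (2 * (1 + m₁.primeFactorsList.length)) = ⊥ := by
        rw [← ds_map_subtype, hIH, Subgroup.map_bot]
      have hdsK' : ds K (2 * m.primeFactorsList.length) = ⊥ :=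
        ds_eq_bot_of_le (by omega) hdsK
      have hNK : N ≤ K := le_sup_right
      have hG2 : derivedSeries G 2 ≤ N := derived_two_le_ncl A B hAB
      rw [eq_bot_iff, ← ds_top, show 2 * (1 + m.primeFactorsList.length)
        = 2 + 2 * m.primeFactorsList.length by ring, ← ds_add, ← hdsK']
      apply ds_mono
      rw [ds_top]
      exact hG2.trans hNK

end main

end Cfsg.Agent.Helper14.ItoC2
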