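import Mathlib
import Cfsg.Agent.Lib.Helper3.J1ArithDefs

/-!
# S0448 (helper3's farm-out): shared verified search for the four finite-search pieces
NATC, NATA, FANOA, FANOC (helper14).
-/

set_option autoImplicit false
set_option linter.unusedSectionVars false
set_option linter.unusedVariables false

namespace Cfsg.Agent.Helper3.J1A

/-- Boolean version of the sign part of `Adm`. -/
def j1search_adm (τ Y : ℤ) : Bool :=
  (decide (0 < Y) && decide (τ + 8 ≤ Y) && decide (0 ≤ Y + 7 * τ)) ||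
    (decide (Y < 0) && decide (Y ≤ τ - 8) && decide (Y ≤ -7 * τ))

theorem j1search_adm_of {τ Y : ℤ} (h : Adm τ Y) : j1search_adm τ Y = true := by
  unfold j1search_adm
  rcases h.2 with ⟨a, b, c⟩ | ⟨a, b, c⟩
  · simp only [decide_eq_true a, decide_eq_true b, decide_eq_true c, Bool.and_self, Bool.true_or]
  · simp only [decide_eq_true a, decide_eq_true b, decide_eq_true c, Bool.and_self, Bool.or_true]

/-- The checker for one pair `(Y1, Y2)`. -/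
def j1search_ok (τ1 τ2 τ3 w1 w2 w3 K B : ℤ) (L : List (ℤ × ℤ × ℤ × ℤ)) (Y1 Y2 : ℤ) : Bool :=
  let Y3 := -1 - Y1 - Y2
  if j1search_adm τ1 Y1 && j1search_adm τ2 Y2 && j1search_adm τ3 Y3 && decide (|Y3| ≤ B) then
    let Q := Y1 * Y2 * Y3
    let P := Q + w1 * Y2 * Y3 + w2 * Y1 * Y3 + w3 * Y1 * Y2
    let N := K * Q
    if P = 0 then true
    else if N % P ≠ 0 then true
    else
      let g := N / P
      if g ≤ 0 ∨ g % 8 ≠ 0 ∨ g % 16 = 0 ∨ g % 120 ≠ 0 ∨ g < 1 + Y1 * Y1 + Y2 * Y2 + Y3 * Y3 then true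
      else L.contains (Y1, Y2, Y3, g)
  else true

theorem j1search_sound {τ1 τ2 τ3 w1 w2 w3 K B : ℤ} {L : List (ℤ × ℤ × ℤ × ℤ)} {g : ℕ} {Y1 Y2 Y3 : ℤ}
    (hK : K ≠ 0)
    (h1 : Adm τ1 Y1) (h2 : Adm τ2 Y2) (h3 : Adm τ3 Y3)
    (hs : Sys (w1 : ℚ) (w2 : ℚ) (w3 : ℚ) (K : ℚ) g Y1 Y2 Y3)
    (b3 : |Y3| ≤ B) (hb : 1 + Y1 ^ 2 + Y2 ^ 2 + Y3 ^ 2 ≤ (g : ℤ))
    (g8 : 8 ∣ g) (g16 : ¬ 16 ∣ g) (g120 : 120 ∣ g)
    (hok : j1search_ok τ1 τ2 τ3 w1 w2 w3 K B L Y1 Y2 = true) : (Y1, Y2, Y3, (g : ℤ)) ∈ L := by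
  obtain ⟨hsum, hcls⟩ := hs
  have hY3 : -1 - Y1 - Y2 = Y3 := by linarith
  have n1 : Y1 ≠ 0 := by rcases h1.2 with ⟨a, -, -⟩ | ⟨a, -, -⟩ <;> omega
  have n2 : Y2 ≠ 0 := by rcases h2.2 with ⟨a, -, -⟩ | ⟨a, -, -⟩ <;> omega
  have n3 : Y3 ≠ 0 := by rcases h3.2 with ⟨a, -, -⟩ | ⟨a, -, -⟩ <;> omega
  have hgpos : (0 : ℤ) < g := by nlinarith [sq_nonneg Y1, sq_nonneg Y2, sq_nonneg Y3]
  have hg0 : (g : ℚ) ≠ 0 := by
    have : (g : ℤ) ≠ 0 := hgpos.ne'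
    exact_mod_cast this
  have q1 : (Y1 : ℚ) ≠ 0 := by exact_mod_cast n1
  have q2 : (Y2 : ℚ) ≠ 0 := by exact_mod_cast n2
  have q3 : (Y3 : ℚ) ≠ 0 := by exact_mod_cast n3
  -- the integer form of the class equation
  have hPg : (Y1 * Y2 * Y3 + w1 * Y2 * Y3 + w2 * Y1 * Y3 + w3 * Y1 * Y2) * (g : ℤ) = K * (Y1 * Y2 * Y3) := by
    have hq : ((Y1 : ℚ) * Y2 * Y3 + w1 * Y2 * Y3 + w2 * Y1 * Y3 + w3 * Y1 * Y2) * (g : ℚ)
        = K * ((Y1 : ℚ) * Y2 * Y3) := by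
      field_simp at hcls
      linarith
    exact_mod_cast hq
  set Q := Y1 * Y2 * Y3 with hQ
  set P := Q + w1 * Y2 * Y3 + w2 * Y1 * Y3 + w3 * Y1 * Y2 with hP
  have hQ0 : Q ≠ 0 := mul_ne_zero (mul_ne_zero n1 n2) n3
  have hP0 : P ≠ 0 := by
    intro h0
    rw [h0, zero_mul] at hPg
    exact (mul_ne_zero hK hQ0) hPg.symm
  have hNP : K * Q = P * (g : ℤ) := hPg.symm
  have hmod : (K * Q) % P = 0 := by
    rw [hNP]; exact Int.mul_emod_right P g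
  have hdiv : (K * Q) / P = (g : ℤ) := by
    rw [hNP]; exact Int.mul_ediv_cancel_left _ hP0
  have hg8 : (g : ℤ) % 8 = 0 := by omega
  have hg16 : ¬ (g : ℤ) % 16 = 0 := by omega
  have hg120 : (g : ℤ) % 120 = 0 := by omega
  unfold j1search_ok at hok
  simp only [hY3] at hok
  rw [if_pos (by simp [j1search_adm_of h1, j1search_adm_of h2, j1search_adm_of h3, b3])] at hok
  simp only [← hQ] at hok
  simp only [← hP] at hok
  rw [if_neg hP0, if_neg (by simp [hmod])] at hok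
  simp only [hdiv] at hok
  rw [if_neg (by
    push Not
    refine ⟨hgpos, by simpa using hg8, hg16, by simpa using hg120, ?_⟩
    nlinarith [hb])] at hok
  simpa using hok

/-- The double loop over `Y1 = lo1 + 8 i`, `Y2 = lo2 + 8 j`. -/
def j1search_all (τ1 τ2 τ3 w1 w2 w3 K B : ℤ) (L : List (ℤ × ℤ × ℤ × ℤ)) (lo1 lo2 : ℤ) (s1 n1 n2 : ℕ) :
    Bool :=
  (List.range' s1 n1).all fun i => (List.range n2).all fun j =>
    j1search_ok τ1 τ2 τ3 w1 w2 w3 K B L (lo1 + 8 * (i : ℤ)) (lo2 + 8 * (j : ℤ))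

theorem j1search_all_ok {τ1 τ2 τ3 w1 w2 w3 K B : ℤ} {L : List (ℤ × ℤ × ℤ × ℤ)} {lo1 lo2 : ℤ} {s1 n1 n2 : ℕ}
    (h : j1search_all τ1 τ2 τ3 w1 w2 w3 K B L lo1 lo2 s1 n1 n2 = true) {i j : ℕ}
    (hi : s1 ≤ i) (hi' : i < s1 + n1) (hj : j < n2) :
    j1search_ok τ1 τ2 τ3 w1 w2 w3 K B L (lo1 + 8 * (i : ℤ)) (lo2 + 8 * (j : ℤ)) = true := by
  unfold j1search_all at h
  rw [List.all_eq_true] at h
  have h1 := h i (by rw [List.mem_range'_1]; exact ⟨hi, hi'⟩)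
  rw [List.all_eq_true] at h1
  exact h1 j (List.mem_range.2 hj)

/-- Parametrisation of an admissible value in the box. -/
theorem j1search_param {τ Y lo B : ℤ} (h8 : (8 : ℤ) ∣ Y - τ) (hlo : (8 : ℤ) ∣ lo - τ) (hl : lo ≤ -B)
    (hB : |Y| ≤ B) : ∃ i : ℕ, Y = lo + 8 * (i : ℤ) ∧ (i : ℤ) ≤ (B - lo) / 8 := by
  have h1 := abs_le.1 hB
  obtain ⟨k, hk⟩ : (8 : ℤ) ∣ Y - lo := by
    have := dvd_sub h8 hlo
    simpa using this
  have hk0 : 0 ≤ k := by omega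
  refine ⟨k.toNat, ?_, ?_⟩
  · rw [Int.toNat_of_nonneg hk0]; omega
  · rw [Int.toNat_of_nonneg hk0]; omega

end Cfsg.Agent.Helper3.J1A
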