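import Mathlib
import Cfsg.Agent.Lib.Helper3.J1ArithDefs
import Cfsg.Agent.Lib.Helper14.J1Search

/-!
# S0448 PIECE FANOA (helper14): the finite search for the system of `a` (FANO case).
-/

set_option autoImplicit false
set_option linter.unusedSectionVars false
set_option linter.unusedVariables false
set_option linter.unusedSimpArgs false

namespace Cfsg.Agent.Helper3.J1A

/-- the complete list of solutions -/
def fanoa_list : List (ℤ × ℤ × ℤ × ℤ) :=
  [(-210, -10, 219, 306600), (-210, 230, -21, 345000), (-186, 62, 123, 152520),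
   (-162, 126, 35, 135000), (-90, -10, 99, 495000), (-90, 110, -21, 693000),
   (-66, -154, 219, 306600), (-66, -34, 99, 336600), (-66, -26, 91, 360360),
   (-66, -10, 75, 825000), (-66, 14, 51, 157080), (-66, 22, 43, 170280),
   (-66, 54, 11, 106920), (-66, 86, -21, 1986600), (-66, 110, -45, 495000),
   (-66, 182, -117, 360360), (-66, 230, -165, 345000), (-66, 286, -221, 336600),
   (-58, 78, -21, 71253000), (-50, -50, 99, 495000), (-50, -26, 75, 585000),
   (-50, -10, 59, 4425000), (-42, -82, 123, 861000), (-42, 14, 27, 189000),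
   (14, -42, 27, 37800), (14, 62, -77, 40920), (30, -10, -21, 105000), (30, 14, -45, 63000),
   (30, 30, -61, 65880), (54, -154, 99, 83160), (54, -82, 27, 73800), (54, -66, 11, 59400),
   (54, -34, -21, 128520), (54, -18, -37, 119880), (54, -10, -45, 135000),
   (54, 22, -77, 83160), (110, -66, -45, 135000), (110, 54, -165, 106920),
   (174, -154, -21, 191400), (174, -58, -117, 135720), (174, -10, -165, 191400)]

set_option maxRecDepth 100000 in
theorem fanoa_scan :
    j1search_all 6 (-2) 3 36 4 9 144000 1200 fanoa_list (-1202) (-1202) 0 301 301 = true := by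
  decide +kernel

/-- PIECE FANOA: the finite search for the system of `a` (and of `b`) in the FANO case -/
theorem fano_stage_a (g : ℕ) (Y0 Y1 Y3 : ℤ) (h0 : Adm 6 Y0) (h1 : Adm (-2) Y1) (h3 : Adm 3 Y3)
    (hs : Sys 36 4 9 144000 g Y0 Y1 Y3) (b0 : |Y0| ≤ 1200) (b1 : |Y1| ≤ 1200) (b3 : |Y3| ≤ 1200)
    (hb : 1 + Y0 ^ 2 + Y1 ^ 2 + Y3 ^ 2 ≤ (g : ℤ)) (g8 : 8 ∣ g) (g16 : ¬ 16 ∣ g) (g120 : 120 ∣ g) :
    g ∈ ({306600, 345000, 152520, 135000, 495000, 693000, 336600, 360360, 825000, 157080, 170280,
      106920, 1986600, 71253000, 585000, 4425000, 861000, 189000, 37800, 40920, 105000, 63000, 65880,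
      83160, 73800, 59400, 128520, 119880, 191400, 135720} : Finset ℕ) ∧ (g = 106920 → Y1 = 54) := by
  obtain ⟨i, hi, hi'⟩ := j1search_param (lo := -1202) h0.1 (by norm_num) (by norm_num) b0
  obtain ⟨j, hj, hj'⟩ := j1search_param (lo := -1202) h1.1 (by norm_num) (by norm_num) b1
  have hok := j1search_all_ok fanoa_scan (i := i) (j := j) (Nat.zero_le _) (by norm_num at hi' ⊢; omega)
    (by norm_num at hj' ⊢; omega)
  rw [← hi, ← hj] at hok
  have hs' : Sys ((36 : ℤ) : ℚ) ((4 : ℤ) : ℚ) ((9 : ℤ) : ℚ) ((144000 : ℤ) : ℚ) g Y0 Y1 Y3 := by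
    simpa using hs
  have hmem := j1search_sound (by norm_num) h0 h1 h3 hs' b3 hb g8 g16 g120 hok
  simp only [fanoa_list, List.mem_cons, Prod.mk.injEq, List.not_mem_nil, or_false] at hmem
  simp only [Finset.mem_insert, Finset.mem_singleton]
  zify
  rcases hmem with h | h | h | h | h | h | h | h | h | h | h | h | h | h | h | h | h | h | h | h | h | h | h | h | h | h | h | h | h | h | h | h | h | h | h | h | h | h | h | h | h
  all_goals
    obtain ⟨e1, e2, e3, e4⟩ := h
    simp only [e1, e2, e3, e4]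
    norm_num

end Cfsg.Agent.Helper3.J1A
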