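import Mathlib
import Cfsg.Agent.Lib.Helper3.J1ArithDefs
import Cfsg.Agent.Lib.Helper14.J1Search

/-!
# S0448 PIECE FANOC (helper14): the finite search for the system of `c` (FANO case).
-/

set_option autoImplicit false
set_option linter.unusedSectionVars false
set_option linter.unusedVariables false
set_option linter.unusedSimpArgs false

namespace Cfsg.Agent.Helper3.J1A

/-- the complete list of solutions -/
def fanoc_list : List (ℤ × ℤ × ℤ × ℤ) :=
  [(-210, 110, 99, 68040), (-154, -42, 195, 85800), (-114, 38, 75, 61560),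
   (-90, -10, 99, 106920), (-90, 134, -45, 201000), (-66, -10, 75, 99000),
   (-58, -58, 115, 80040), (-58, 86, -29, 748200), (-50, 14, 35, 45000),
   (-42, -154, 195, 85800), (-18, -18, 35, 68040), (-18, 46, -29, 32416200),
   (-18, 62, -45, 301320), (-18, 102, -85, 165240), (-10, -90, 99, 106920),
   (-10, -66, 75, 99000), (-10, 46, -37, 7659000), (-10, 54, -45, 729000),
   (-10, 134, -125, 201000), (14, -50, 35, 45000), (14, 14, -29, 121800),
   (22, 22, -45, 106920), (30, 62, -93, 93000), (38, -114, 75, 61560),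
   (46, -18, -29, 32416200), (46, -10, -37, 7659000), (54, -10, -45, 729000),
   (62, -18, -45, 301320), (62, 30, -93, 93000), (62, 62, -125, 93000),
   (86, -58, -29, 748200), (102, -18, -85, 165240), (110, -210, 99, 68040),
   (134, -90, -45, 201000), (134, -10, -125, 201000)]

set_option maxRecDepth 100000 in
theorem fanoc_scan :
    j1search_all (-2) (-2) (-5) 4 4 25 86400 1200 fanoc_list (-1202) (-1202) 0 301 301 = true := by
  decide +kernel

/-- PIECE FANOC: the finite search for the system of `c` in the FANO case -/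
theorem fano_stage_c (g : ℕ) (Y1 Y2 Y5 : ℤ) (h1 : Adm (-2) Y1) (h2 : Adm (-2) Y2) (h5 : Adm (-5) Y5)
    (hs : Sys 4 4 25 86400 g Y1 Y2 Y5) (b1 : |Y1| ≤ 1200) (b2 : |Y2| ≤ 1200) (b5 : |Y5| ≤ 1200)
    (hb : 1 + Y1 ^ 2 + Y2 ^ 2 + Y5 ^ 2 ≤ (g : ℤ)) (g8 : 8 ∣ g) (g16 : ¬ 16 ∣ g) (g120 : 120 ∣ g) :
    g ∈ ({68040, 85800, 61560, 106920, 201000, 99000, 80040, 748200, 45000, 32416200, 301320, 165240,
      7659000, 729000, 121800, 93000} : Finset ℕ) ∧ (g = 106920 → Y1 ≠ 54) := by
  obtain ⟨i, hi, hi'⟩ := j1search_param (lo := -1202) h1.1 (by norm_num) (by norm_num) b1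
  obtain ⟨j, hj, hj'⟩ := j1search_param (lo := -1202) h2.1 (by norm_num) (by norm_num) b2
  have hok := j1search_all_ok fanoc_scan (i := i) (j := j) (Nat.zero_le _) (by norm_num at hi' ⊢; omega)
    (by norm_num at hj' ⊢; omega)
  rw [← hi, ← hj] at hok
  have hs' : Sys ((4 : ℤ) : ℚ) ((4 : ℤ) : ℚ) ((25 : ℤ) : ℚ) ((86400 : ℤ) : ℚ) g Y1 Y2 Y5 := by
    simpa using hs
  have hmem := j1search_sound (by norm_num) h1 h2 h5 hs' b5 hb g8 g16 g120 hok
  simp only [fanoc_list, List.mem_cons, Prod.mk.injEq, List.not_mem_nil, or_false] at hmem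
  simp only [Finset.mem_insert, Finset.mem_singleton]
  zify
  rcases hmem with h | h | h | h | h | h | h | h | h | h | h | h | h | h | h | h | h | h | h | h | h | h | h | h | h | h | h | h | h | h | h | h | h | h | h
  all_goals
    obtain ⟨e1, e2, e3, e4⟩ := h
    simp only [e1, e2, e3, e4]
    norm_num

end Cfsg.Agent.Helper3.J1A
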