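import Mathlib
import Cfsg.Agent.Lib.Helper3.J1ArithDefs
import Cfsg.Agent.Lib.Helper14.J1Search

/-!
# S0448 PIECE NATA (helper14): the finite search for the system of `a` (NATURAL case).
-/

set_option autoImplicit false
set_option linter.unusedSectionVars false
set_option linter.unusedVariables false
set_option linter.unusedSimpArgs false

namespace Cfsg.Agent.Helper3.J1A

/-- the complete list of solutions -/
def nata_list : List (ℤ × ℤ × ℤ × ℤ) :=
  [(-55, -45, 99, 165000), (-55, 99, -45, 165000), (-31, -93, 123, 152520),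
   (-31, 123, -93, 152520), (-15, -21, 35, 189000), (-15, 35, -21, 189000),
   (-7, -21, 27, 189000), (-7, 27, -21, 189000), (9, -37, 27, 119880), (9, 27, -37, 119880),
   (41, -21, -21, 861000), (49, -29, -21, 511560), (49, -21, -29, 511560),
   (209, -133, -77, 175560), (209, -77, -133, 175560)]

set_option maxRecDepth 100000 in
theorem nata_scan :
    j1search_all 1 3 3 1 9 9 144000 758 nata_list (-759) (-765) 0 190 191 = true := by
  decide +kernel

/-- PIECE NATA: the finite search for the system of `a` (and of `b`) -/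
theorem nat_stage_a (g : ℕ) (Y0 Y1 Y2 : ℤ) (h0 : Adm 1 Y0) (h1 : Adm 3 Y1) (h2 : Adm 3 Y2)
    (hs : Sys 1 9 9 144000 g Y0 Y1 Y2) (b0 : |Y0| ≤ 758) (b1 : |Y1| ≤ 758) (b2 : |Y2| ≤ 758)
    (hb : 1 + Y0 ^ 2 + Y1 ^ 2 + Y2 ^ 2 ≤ (g : ℤ)) (g8 : 8 ∣ g) (g16 : ¬ 16 ∣ g) (g120 : 120 ∣ g) :
    (Y0 = -55 ∧ g = 165000) ∨ (Y0 = -31 ∧ g = 152520) ∨
    (Y0 = -15 ∧ g = 189000 ∧ ((Y1 = 35 ∧ Y2 = -21) ∨ (Y1 = -21 ∧ Y2 = 35))) ∨
    (Y0 = -7 ∧ g = 189000) ∨ (Y0 = 9 ∧ g = 119880) ∨ (Y0 = 41 ∧ g = 861000) ∨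
    (Y0 = 49 ∧ g = 511560) ∨ (Y0 = 209 ∧ g = 175560) := by
  obtain ⟨i, hi, hi'⟩ := j1search_param (lo := -759) h0.1 (by norm_num) (by norm_num) b0
  obtain ⟨j, hj, hj'⟩ := j1search_param (lo := -765) h1.1 (by norm_num) (by norm_num) b1
  have hok := j1search_all_ok nata_scan (i := i) (j := j) (Nat.zero_le _) (by norm_num at hi' ⊢; omega)
    (by norm_num at hj' ⊢; omega)
  rw [← hi, ← hj] at hok
  have hs' : Sys ((1 : ℤ) : ℚ) ((9 : ℤ) : ℚ) ((9 : ℤ) : ℚ) ((144000 : ℤ) : ℚ) g Y0 Y1 Y2 := by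
    simpa using hs
  have hmem := j1search_sound (by norm_num) h0 h1 h2 hs' b2 hb g8 g16 g120 hok
  simp only [nata_list, List.mem_cons, Prod.mk.injEq, List.not_mem_nil, or_false] at hmem
  zify
  rcases hmem with h | h | h | h | h | h | h | h | h | h | h | h | h | h | h
  all_goals
    obtain ⟨e1, e2, e3, e4⟩ := h
    simp only [e1, e2, e3, e4]
    norm_num

end Cfsg.Agent.Helper3.J1A
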