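import Mathlib
import Cfsg.Agent.Lib.Helper3.J1ArithDefs
import Cfsg.Agent.Lib.Helper14.J1Search

/-!
# S0448 PIECE NATC (helper14): the finite search for the system of `c` (NATURAL case).
-/

set_option autoImplicit false
set_option linter.unusedSectionVars false
set_option linter.unusedVariables false
set_option linter.unusedSimpArgs false

namespace Cfsg.Agent.Helper3.J1A

/-- the complete list of solutions `(Y0, Y5, Y6, g)` -/
def natc_list : List (ℤ × ℤ × ℤ × ℤ) :=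
  [(-55, -21, 75, 693000), (-55, 75, -21, 693000), (-31, -125, 155, 93000), (-31, 155, -125, 93000),
   (-15, -21, 35, 189000), (-15, 35, -21, 189000), (-7, -29, 35, 121800), (-7, 35, -29, 121800),
   (9, -45, 35, 68040), (9, 35, -45, 68040), (209, -133, -77, 175560), (209, -77, -133, 175560)]

set_option maxRecDepth 100000 in
theorem natc_scan :
    j1search_all 1 (-5) (-5) 1 25 25 86400 758 natc_list (-759) (-765) 0 190 191 = true := by
  decide +kernel

/-- PIECE NATC: the finite search for the system of `c` -/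
theorem nat_stage_c (g : ℕ) (Y0 Y5 Y6 : ℤ) (h0 : Adm 1 Y0) (h5 : Adm (-5) Y5) (h6 : Adm (-5) Y6)
    (hs : Sys 1 25 25 86400 g Y0 Y5 Y6) (b0 : |Y0| ≤ 758) (b5 : |Y5| ≤ 758) (b6 : |Y6| ≤ 758)
    (hb : 1 + Y0 ^ 2 + Y5 ^ 2 + Y6 ^ 2 ≤ (g : ℤ)) (g8 : 8 ∣ g) (g16 : ¬ 16 ∣ g) (g120 : 120 ∣ g) :
    (Y0 = -55 ∧ g = 693000) ∨ (Y0 = -31 ∧ g = 93000) ∨
    (Y0 = -15 ∧ g = 189000 ∧ ((Y5 = 35 ∧ Y6 = -21) ∨ (Y5 = -21 ∧ Y6 = 35))) ∨
    (Y0 = -7 ∧ g = 121800) ∨ (Y0 = 9 ∧ g = 68040) ∨ (Y0 = 209 ∧ g = 175560) := by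
  obtain ⟨i, hi, hi'⟩ := j1search_param (lo := -759) h0.1 (by norm_num) (by norm_num) b0
  obtain ⟨j, hj, hj'⟩ := j1search_param (lo := -765) h5.1 (by norm_num) (by norm_num) b5
  have hok := j1search_all_ok natc_scan (i := i) (j := j) (Nat.zero_le _) (by norm_num at hi' ⊢; omega)
    (by norm_num at hj' ⊢; omega)
  rw [← hi, ← hj] at hok
  have hs' : Sys ((1 : ℤ) : ℚ) ((25 : ℤ) : ℚ) ((25 : ℤ) : ℚ) ((86400 : ℤ) : ℚ) g Y0 Y5 Y6 := by
    simpa using hs
  have hmem := j1search_sound (by norm_num) h0 h5 h6 hs' b6 hb g8 g16 g120 hok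
  simp only [natc_list, List.mem_cons, Prod.mk.injEq, List.not_mem_nil, or_false] at hmem
  zify
  rcases hmem with h | h | h | h | h | h | h | h | h | h | h | h
  all_goals
    obtain ⟨e1, e2, e3, e4⟩ := h
    simp only [e1, e2, e3, e4]
    norm_num

end Cfsg.Agent.Helper3.J1A
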