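import Mathlib

/-!
# S2916 sub-piece C4B-CORE (helper14): the combinatorial heart of `K_ne_nine`.

`K` abelian, `K = {u^a z^b : a, b < 3}`, `u^3 = z^3 = 1`, `z ∉ ⟨u⟩`; `t, s` commuting involutions normalizing `K`,
`t` centralizes `u`, `s` inverts `u`, `C_K(t) ≤ ⟨u⟩`; `x` normalizes `K`, centralizes `z`, neither `x` nor `x^2`
centralizes `u`.  Then `u ~ z`, or `s` centralizes `z`, or `t s` centralizes `z`.
-/

set_option autoImplicit false

namespace Cfsg.Agent.Helper26.L33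

open Cfsg

universe u

section SubPieces

variable {G : Type u} [Group G] [Finite G]

omit [Finite G] in
theorem c4b_core_sq_inv {z : G} (hz3 : z ^ 3 = 1) : z * z = z⁻¹ := by
  have h : z * z * z = 1 := by
    rw [← hz3, pow_succ, pow_two]
  exact eq_inv_of_mul_eq_one_left h

omit [Finite G] in
/-- step (1): `u ~ u z` and `u ~ u z⁻¹` -/
theorem c4b_core_step1 (K : Subgroup G) (u z x : G) (hab : ∀ a ∈ K, ∀ b ∈ K, a * b = b * a)
    (hgen : ∀ k ∈ K, ∃ a b : ℕ, a < 3 ∧ b < 3 ∧ k = u ^ a * z ^ b)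
    (hu3 : u ^ 3 = 1) (hz3 : z ^ 3 = 1) (hu1 : u ≠ 1) (hzu : z ∉ Subgroup.zpowers u)
    (huK : u ∈ K) (hzK : z ∈ K)
    (hxK : ∀ k ∈ K, x * k * x⁻¹ ∈ K) (hxz : x * z = z * x) (hx1 : x * u ≠ u * x)
    (hx2 : x ^ 2 * u ≠ u * x ^ 2) : IsConj u (u * z) ∧ IsConj u (u * z⁻¹) := by
  have hcz : x * z * x⁻¹ = z := by rw [hxz]; group
  have hzz : z * z = z⁻¹ := c4b_core_sq_inv hz3
  have huz : u * z = z * u := hab u huK z hzK
  obtain ⟨a, b, ha, hb, hc⟩ := hgen (x * u * x⁻¹) (hxK u huK)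
  interval_cases a
  · -- a = 0
    exfalso
    simp only [pow_zero, one_mul] at hc
    have h2 : x * z ^ b * x⁻¹ = z ^ b := by rw [← conj_pow, hcz]
    have h3 : x * u * x⁻¹ = x * z ^ b * x⁻¹ := hc.trans h2.symm
    have h1 : u = z ^ b := mul_left_cancel (mul_right_cancel h3)
    interval_cases b
    · rw [pow_zero] at h1
      exact hu1 h1
    · rw [pow_one] at h1
      apply hzu
      rw [← h1]
      exact Subgroup.mem_zpowers u
    · have h4 : z = u ^ 2 := by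
        rw [h1, ← pow_mul]
        calc z = z ^ 3 * z := by rw [hz3, one_mul]
          _ = z ^ (2 * 2) := by rw [← pow_succ]
      apply hzu
      rw [h4]
      exact Subgroup.pow_mem _ (Subgroup.mem_zpowers u) 2
  · -- a = 1
    simp only [pow_one] at hc
    interval_cases b
    · exfalso
      simp only [pow_zero, mul_one] at hc
      apply hx1
      calc x * u = (x * u * x⁻¹) * x := by group
        _ = u * x := by rw [hc]
    · simp only [pow_one] at hc
      refine ⟨isConj_iff.mpr ⟨x, hc⟩, isConj_iff.mpr ⟨x * x, ?_⟩⟩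
      calc x * x * u * (x * x)⁻¹ = x * (x * u * x⁻¹) * x⁻¹ := by group
        _ = x * (u * z) * x⁻¹ := by rw [hc]
        _ = (x * u * x⁻¹) * (x * z * x⁻¹) := by group
        _ = u * z * z := by rw [hc, hcz]
        _ = u * z⁻¹ := by rw [mul_assoc, hzz]
    · have hc' : x * u * x⁻¹ = u * z⁻¹ := by rw [hc, pow_two, hzz]
      refine ⟨isConj_iff.mpr ⟨x * x, ?_⟩, isConj_iff.mpr ⟨x, hc'⟩⟩
      calc x * x * u * (x * x)⁻¹ = x * (x * u * x⁻¹) * x⁻¹ := by group
        _ = x * (u * z⁻¹) * x⁻¹ := by rw [hc']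
        _ = (x * u * x⁻¹) * (x * z * x⁻¹)⁻¹ := by group
        _ = u * z⁻¹ * z⁻¹ := by rw [hc', hcz]
        _ = u * z := by rw [mul_assoc, ← mul_inv_rev, hzz, inv_inv]
  · -- a = 2
    exfalso
    have h1 : x * (x * u * x⁻¹) * x⁻¹ = u := by
      have hcm : Commute (u ^ 2) (z ^ b) := (show Commute u z from huz).pow_pow 2 b
      have hzb : z ^ (b * 2 + b) = 1 := by
        rw [show b * 2 + b = 3 * b by ring, pow_mul, hz3, one_pow]
      calc x * (x * u * x⁻¹) * x⁻¹ = x * (u ^ 2 * z ^ b) * x⁻¹ := by rw [hc]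
        _ = (x * u * x⁻¹) ^ 2 * (x * z * x⁻¹) ^ b := by rw [conj_pow, conj_pow, conj_mul]
        _ = (u ^ 2 * z ^ b) ^ 2 * z ^ b := by rw [hc, hcz]
        _ = u ^ (2 * 2) * z ^ (b * 2 + b) := by
            rw [hcm.mul_pow, ← pow_mul, ← pow_mul, mul_assoc, ← pow_add]
        _ = u ^ 3 * u := by rw [hzb, mul_one, ← pow_succ]
        _ = u := by rw [hu3, one_mul]
    apply hx2
    rw [pow_two]
    calc x * x * u = (x * (x * u * x⁻¹) * x⁻¹) * (x * x) := by group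
      _ = u * (x * x) := by rw [h1]

/-- C4B-CORE : the combinatorial heart (see plans/S2916_C4BC7.md for the paper proof). -/
theorem c4b_core (K : Subgroup G) (t s u z x : G) (hab : ∀ a ∈ K, ∀ b ∈ K, a * b = b * a)
    (hgen : ∀ k ∈ K, ∃ a b : ℕ, a < 3 ∧ b < 3 ∧ k = u ^ a * z ^ b)
    (ou : orderOf u = 3) (oz : orderOf z = 3) (hzu : z ∉ Subgroup.zpowers u) (huK : u ∈ K) (hzK : z ∈ K)
    (ot : orderOf t = 2) (os : orderOf s = 2) (hts : t * s = s * t) (htu : t * u = u * t)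
    (hsu : s * u * s⁻¹ = u⁻¹) (htK : ∀ k ∈ K, t * k * t⁻¹ ∈ K) (hsK : ∀ k ∈ K, s * k * s⁻¹ ∈ K)
    (fixt : ∀ k ∈ K, t * k = k * t → k ∈ Subgroup.zpowers u)
    (hxK : ∀ k ∈ K, x * k * x⁻¹ ∈ K) (hxz : x * z = z * x) (hx1 : x * u ≠ u * x)
    (hx2 : x ^ 2 * u ≠ u * x ^ 2) :
    IsConj u z ∨ s * z = z * s ∨ (t * s) * z = z * (t * s) := by
  have hu3 : u ^ 3 = 1 := by rw [← ou]; exact pow_orderOf_eq_one u
  have hz3 : z ^ 3 = 1 := by rw [← oz]; exact pow_orderOf_eq_one z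
  have hu1 : u ≠ 1 := by
    intro h
    rw [h, orderOf_one] at ou
    omega
  have hz1 : z ≠ 1 := by
    intro h
    rw [h, orderOf_one] at oz
    omega
  have ht2 : t * t = 1 := by
    have h : t ^ 2 = 1 := by rw [← ot]; exact pow_orderOf_eq_one t
    rwa [pow_two] at h
  have huz : u * z = z * u := hab u huK z hzK
  have hzz : z * z = z⁻¹ := c4b_core_sq_inv hz3
  have huu : u * u = u⁻¹ := c4b_core_sq_inv hu3
  obtain ⟨hc1, hc2⟩ := c4b_core_step1 K u z x hab hgen hu3 hz3 hu1 hzu huK hzK hxK hxz hx1 hx2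
  have hz'K : t * z * t⁻¹ ∈ K := htK z hzK
  have hctu : t * u * t⁻¹ = u := by rw [htu]; group
  -- `q = z * (t z t⁻¹)` is fixed by `t`
  have hq : t * (z * (t * z * t⁻¹)) = (z * (t * z * t⁻¹)) * t := by
    have e1 : t * (z * (t * z * t⁻¹)) * t⁻¹ = (t * z * t⁻¹) * z := by
      calc t * (z * (t * z * t⁻¹)) * t⁻¹ = (t * z * t⁻¹) * ((t * t) * z * (t * t)⁻¹) := by group
        _ = (t * z * t⁻¹) * z := by rw [ht2]; group
    have e2 : (t * z * t⁻¹) * z = z * (t * z * t⁻¹) := hab _ hz'K z hzK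
    calc t * (z * (t * z * t⁻¹)) = (t * (z * (t * z * t⁻¹)) * t⁻¹) * t := by group
      _ = (z * (t * z * t⁻¹)) * t := by rw [e1, e2]
  have hqu := fixt _ (K.mul_mem hzK hz'K) hq
  obtain ⟨i, hi3, hi⟩ : ∃ i : ℕ, i < 3 ∧ u ^ i = z * (t * z * t⁻¹) := by
    obtain ⟨k, hk⟩ := Subgroup.mem_zpowers_iff.mp hqu
    have hk' : u ^ (k % 3) = z * (t * z * t⁻¹) := by
      have h := zpow_mod_orderOf u k
      rw [ou] at h
      push_cast at h
      rw [h, hk]
    have h0 : 0 ≤ k % 3 := Int.emod_nonneg _ (by norm_num)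
    have h3 : k % 3 < 3 := Int.emod_lt_of_pos _ (by norm_num)
    refine ⟨(k % 3).toNat, by omega, ?_⟩
    rw [← zpow_natCast, Int.toNat_of_nonneg h0, hk']
  have hz' : t * z * t⁻¹ = z⁻¹ * u ^ i := by rw [hi]; group
  have hconj : IsConj z (t * z * t⁻¹) := isConj_iff.mpr ⟨t, rfl⟩
  interval_cases i
  · -- i = 0 : `t` inverts `z`
    right
    have hz'0 : t * z * t⁻¹ = z⁻¹ := by rw [hz', pow_zero, mul_one]
    obtain ⟨a, b, ha, hb, hv⟩ := hgen (s * z * s⁻¹) (hsK z hzK)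
    have h1 : t * (s * z * s⁻¹) * t⁻¹ = (s * z * s⁻¹)⁻¹ := by
      calc t * (s * z * s⁻¹) * t⁻¹ = (t * s) * z * (t * s)⁻¹ := by group
        _ = (s * t) * z * (s * t)⁻¹ := by rw [hts]
        _ = s * (t * z * t⁻¹) * s⁻¹ := by group
        _ = s * z⁻¹ * s⁻¹ := by rw [hz'0]
        _ = (s * z * s⁻¹)⁻¹ := by group
    have h2 : t * (u ^ a * z ^ b) * t⁻¹ = u ^ a * (z⁻¹) ^ b := by
      rw [← conj_mul, ← conj_pow, ← conj_pow, hctu, hz'0]
    rw [hv, h2] at h1
    have h3 : u ^ a * u ^ a = 1 := by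
      have e : (u ^ a * z ^ b) * (u ^ a * (z⁻¹) ^ b) = 1 := by rw [h1]; group
      have hcomm : z ^ b * u ^ a = u ^ a * z ^ b :=
        ((show Commute z u from huz.symm).pow_pow b a).eq
      calc u ^ a * u ^ a = u ^ a * (u ^ a * z ^ b) * (z⁻¹) ^ b := by group
        _ = u ^ a * (z ^ b * u ^ a) * (z⁻¹) ^ b := by rw [hcomm]
        _ = (u ^ a * z ^ b) * (u ^ a * (z⁻¹) ^ b) := by group
        _ = 1 := e
    have ha0 : a = 0 := by
      interval_cases a
      · rfl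
      · exfalso
        rw [pow_one, huu] at h3
        exact hu1 (inv_eq_one.mp h3)
      · exfalso
        apply hu1
        calc u = u ^ 3 * u := by rw [hu3, one_mul]
          _ = u ^ 2 * u ^ 2 := by rw [← pow_succ, ← pow_add]
          _ = 1 := h3
    subst ha0
    rw [pow_zero, one_mul] at hv
    interval_cases b
    · exfalso
      rw [pow_zero] at hv
      apply hz1
      calc z = s⁻¹ * (s * z * s⁻¹) * s := by group
        _ = 1 := by rw [hv]; group
    · left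
      rw [pow_one] at hv
      calc s * z = (s * z * s⁻¹) * s := by group
        _ = z * s := by rw [hv]
    · right
      rw [pow_two, hzz] at hv
      have h5 : t * s * z * (t * s)⁻¹ = z := by
        calc t * s * z * (t * s)⁻¹ = t * (s * z * s⁻¹) * t⁻¹ := by group
          _ = t * z⁻¹ * t⁻¹ := by rw [hv]
          _ = (t * z * t⁻¹)⁻¹ := by group
          _ = z := by rw [hz'0, inv_inv]
      calc t * s * z = (t * s * z * (t * s)⁻¹) * (t * s) := by group
        _ = z * (t * s) := by rw [h5]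
  · -- i = 1 : `t z t⁻¹ = u z⁻¹ ~ u`
    left
    have h1 : t * z * t⁻¹ = u * z⁻¹ := by
      rw [hz', pow_one]
      have : z⁻¹ * u = u * z⁻¹ := by
        calc z⁻¹ * u = z⁻¹ * (u * z) * z⁻¹ := by group
          _ = z⁻¹ * (z * u) * z⁻¹ := by rw [huz]
          _ = u * z⁻¹ := by group
      exact this
    rw [← h1] at hc2
    exact hc2.trans hconj.symm
  · -- i = 2 : `t z t⁻¹ = (u z)⁻¹ ~ u⁻¹ ~ u`
    left
    have h1 : t * z * t⁻¹ = (u * z)⁻¹ := by
      rw [hz', pow_two, huu, mul_inv_rev]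
    obtain ⟨g, hg⟩ := isConj_iff.mp hc1
    have h2 : IsConj u⁻¹ (u * z)⁻¹ := isConj_iff.mpr ⟨g, by rw [← hg, conj_inv]⟩
    have h3 : IsConj u u⁻¹ := isConj_iff.mpr ⟨s, hsu⟩
    rw [← h1] at h2
    exact (h3.trans h2).trans hconj.symm

end SubPieces

end Cfsg.Agent.Helper26.L33
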