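import Mathlib
import Cfsg.Agent.Lib.Helper26.L33Defs

/-!
# S2916 sub-piece C7-G (helper14): an element carrying `(t, u)` to `(τ, x)`.
-/

set_option autoImplicit false

namespace Cfsg.Agent.Helper26.L33

open Cfsg

universe u

section WithCfg

variable {G : Type u} [Group G] [Finite G] [IsSimpleGroup G]

/-- C7-G : an element carrying `(t, u)` to `(τ, x)`.  (`one_class` gives `g₀ t g₀⁻¹ = τ`; `g₀⁻¹ x g₀ ∈ C(t)` has
order 3, so `three` gives `c ∈ C(t)` with `c u c⁻¹ = g₀⁻¹ x g₀`; `g = g₀ c`.) -/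
theorem c7_exists_g {t u s : G} (h : Cfg G t u s) (τ x : G) (hτ : orderOf τ = 2) (hx : orderOf x = 3)
    (hc : τ * x = x * τ) : ∃ g : G, g * t * g⁻¹ = τ ∧ g * u * g⁻¹ = x := by
  obtain ⟨g₀, hg₀⟩ := isConj_iff.mp (h.one_class τ hτ)
  have ho : orderOf (g₀⁻¹ * x * g₀) = 3 := by
    have h1 : g₀⁻¹ * x * g₀ = MulAut.conj g₀⁻¹ x := by
      rw [MulAut.conj_apply, inv_inv]
    rw [h1, MulEquiv.orderOf_eq, hx]
  have hcomm : t * (g₀⁻¹ * x * g₀) = (g₀⁻¹ * x * g₀) * t := by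
    have ht : t = g₀⁻¹ * τ * g₀ := by rw [← hg₀]; group
    rw [ht]
    calc g₀⁻¹ * τ * g₀ * (g₀⁻¹ * x * g₀) = g₀⁻¹ * (τ * x) * g₀ := by group
      _ = g₀⁻¹ * (x * τ) * g₀ := by rw [hc]
      _ = g₀⁻¹ * x * g₀ * (g₀⁻¹ * τ * g₀) := by group
  obtain ⟨c, hct, hcu⟩ := h.three (g₀⁻¹ * x * g₀) ho hcomm
  refine ⟨g₀ * c, ?_, ?_⟩
  · have h1 : c * t * c⁻¹ = t := by rw [hct]; group
    calc g₀ * c * t * (g₀ * c)⁻¹ = g₀ * (c * t * c⁻¹) * g₀⁻¹ := by group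
      _ = g₀ * t * g₀⁻¹ := by rw [h1]
      _ = τ := hg₀
  · calc g₀ * c * u * (g₀ * c)⁻¹ = g₀ * (c * u * c⁻¹) * g₀⁻¹ := by group
      _ = g₀ * (g₀⁻¹ * x * g₀) * g₀⁻¹ := by rw [hcu]
      _ = x := by group

end WithCfg

end Cfsg.Agent.Helper26.L33
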