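import Mathlib
import Cfsg.Prelude.Def_LocalStructure
import Cfsg.Agent.Lib.Helper14.StronglyEmbedded
import Cfsg.Agent.Lib.Helper14.PReducedAmb

set_option autoImplicit false

namespace Cfsg.Agent.Helper14

open Cfsg

variable {H : Type*} [Group H]

/-- A subgroup weakly closed in a Sylow `p`-subgroup is weakly closed in every `p`-subgroup containing it. -/
theorem IsWeaklyClosedSubgroup.eq_of_le {p : ℕ} [Fact p.Prime] [Finite H] {Q : Subgroup H}
    (hwc : IsWeaklyClosedSubgroup p Q) {S : Subgroup H} (hS : IsPGroup p S) (hQS : Q ≤ S) {g : H}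
    (hg : Q.map (MulAut.conj g).toMonoidHom ≤ S) : Q.map (MulAut.conj g).toMonoidHom = Q := by
  obtain ⟨T, hQT, hT⟩ := hwc
  obtain ⟨T', hST'⟩ := hS.exists_le_sylow
  obtain ⟨h, hh⟩ := sylow_exists_conj T T'
  have key : ∀ x : H, Q.map (MulAut.conj x).toMonoidHom ≤ S →
      Q.map (MulAut.conj (h⁻¹ * x)).toMonoidHom = Q := by
    intro x hx
    apply hT
    rw [conj_mul_map]
    have h1 : Q.map (MulAut.conj x).toMonoidHom ≤ (T : Subgroup H).map (MulAut.conj h).toMonoidHom :=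
      hh ▸ hx.trans hST'
    have h2 := Subgroup.map_mono (f := (MulAut.conj h⁻¹).toMonoidHom) h1
    rwa [map_conj_inv_map_conj] at h2
  have h1 := key g hg
  have h2 := key 1 (by
    have : Q.map (MulAut.conj (1 : H)).toMonoidHom = Q := by
      ext x; simp
    rw [this]; exact hQS)
  rw [mul_one] at h2
  rw [conj_mul_map] at h1
  have h3 := congrArg (fun A : Subgroup H => A.map (MulAut.conj h).toMonoidHom) h1
  have h4 := congrArg (fun A : Subgroup H => A.map (MulAut.conj h).toMonoidHom) h2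
  simp only [map_conj_map_conj_inv] at h3 h4
  rw [h3, ← h4]

/-- If `Q` is weakly closed and normalizes `R`, and `Q^n ≤ QR`, then `n` is congruent modulo `R` to an element of
`N(Q)`. -/
theorem IsWeaklyClosedSubgroup.exists_mul_mem_normalizer {p : ℕ} [Fact p.Prime] [Finite H] {Q : Subgroup H}
    (hwc : IsWeaklyClosedSubgroup p Q) (hQp : IsPGroup p Q) {R : Subgroup H}
    (hQR : Q ≤ Subgroup.normalizer (R : Set H)) {n : H}
    (hn : Q.map (MulAut.conj n).toMonoidHom ≤ Q ⊔ R) :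
    ∃ r ∈ R, r * n ∈ Subgroup.normalizer (Q : Set H) := by
  obtain ⟨S, hS, hQS⟩ := exists_isSylowOf_ge (le_sup_left : Q ≤ Q ⊔ R) hQp
  have hQnp : IsPGroup p (Q.map (MulAut.conj n).toMonoidHom) := hQp.map _
  obtain ⟨S', hS', hQnS'⟩ := exists_isSylowOf_ge hn hQnp
  obtain ⟨x, hx, hxS⟩ := hS.exists_conj hS'
  have hxinv : x⁻¹ ∈ Q ⊔ R := Subgroup.inv_mem _ hx
  obtain ⟨q, hq, r, hr, hxqr⟩ := (mem_sup_of_le_normalizer hQR).mp hxinv
  refine ⟨r, hr, ?_⟩
  apply mem_normalizer_of_map_conj_eq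
  apply IsWeaklyClosedSubgroup.eq_of_le hwc hS.isPGroup hQS
  -- `Q^{r n} ≤ S`
  have h1 : Q.map (MulAut.conj n).toMonoidHom ≤ S.map (MulAut.conj x).toMonoidHom := hxS ▸ hQnS'
  have h2 := Subgroup.map_mono (f := (MulAut.conj x⁻¹).toMonoidHom) h1
  rw [map_conj_inv_map_conj, ← conj_mul_map, hxqr] at h2
  -- conjugate by `q⁻¹`
  have h3 := Subgroup.map_mono (f := (MulAut.conj q⁻¹).toMonoidHom) h2
  rw [← conj_mul_map, map_conj_eq_self_of_mem (H := S) (S.inv_mem (hQS hq))] at h3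
  have e : q⁻¹ * (q * r * n) = r * n := by group
  rwa [e] at h3

end Cfsg.Agent.Helper14
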