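import Mathlib
import Cfsg.Agent.Lib.Helper14.WeaklyClosed
import Cfsg.Agent.Lib.Helper14.AxB
import Cfsg.Agent.Lib.Helper14.Kieler
import Cfsg.Agent.Lib.Helper1.CommutatorBasic

set_option autoImplicit false

namespace Cfsg.Agent.Helper14

open Cfsg

variable {H : Type*} [Group H]

/-- Conjugates of large subgroups are large. -/
theorem IsLarge.map_conj {Q : Subgroup H} (hL : IsLarge Q) (g : H) :
    IsLarge (Q.map (MulAut.conj g).toMonoidHom) := by
  obtain ⟨hC, hU⟩ := hL
  refine ⟨?_, ?_⟩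
  · rw [centralizer_map_equiv]
    exact Subgroup.map_mono hC
  · intro U hUC hU1
    rw [centralizer_map_equiv] at hUC
    have h1 : U.map (MulAut.conj g⁻¹).toMonoidHom ≤ Subgroup.centralizer (Q : Set H) := by
      have := Subgroup.map_mono (f := (MulAut.conj g⁻¹).toMonoidHom) hUC
      rwa [map_conj_inv_map_conj] at this
    have h2 := hU _ h1 (map_conj_ne_bot hU1 g⁻¹)
    have h3 := Subgroup.map_mono (f := (MulAut.conj g).toMonoidHom) h2
    rw [← normalizer_map_conj, ← normalizer_map_conj, map_conj_map_conj_inv] at h3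
    exact h3

/-- A large subgroup is normal in every finite `p`-subgroup containing it; more precisely the normalizer of such a
`p`-subgroup normalizes it. -/
theorem IsLarge.normalizer_le {p : ℕ} [Fact p.Prime] [Finite H] {Q : Subgroup H} (hL : IsLarge Q) (hQ1 : Q ≠ ⊥)
    {S : Subgroup H} (hS : IsPGroup p S) (hQS : Q ≤ S) :
    Subgroup.normalizer (S : Set H) ≤ Subgroup.normalizer (Q : Set H) := by
  have hS1 : S ≠ ⊥ := fun h => hQ1 (le_bot_iff.mp (h ▸ hQS))
  have hU1 := inf_centralizer_ne_bot hS hS1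
  have hUC : S ⊓ Subgroup.centralizer (S : Set H) ≤ Subgroup.centralizer (Q : Set H) :=
    inf_le_right.trans (Subgroup.centralizer_le hQS)
  have h1 := hL.2 _ hUC hU1
  have hNS : Subgroup.normalizer (S : Set H) ≤ Subgroup.normalizer (S : Set H) := le_rfl
  exact (le_normalizer_inf hNS (le_normalizer_centralizer_of_le_normalizer hNS)).trans h1

/-- Large `p`-subgroups are weakly closed. -/
theorem IsLarge.isWeaklyClosedSubgroup {p : ℕ} [Fact p.Prime] [Finite H] {Q : Subgroup H} (hL : IsLarge Q)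
    (hQp : IsPGroup p Q) (hQ1 : Q ≠ ⊥) : IsWeaklyClosedSubgroup p Q := by
  obtain ⟨T, hQT⟩ := hQp.exists_le_sylow
  refine ⟨T, hQT, ?_⟩
  intro g hg
  set Qg := Q.map (MulAut.conj g).toMonoidHom with hQg
  have hLg : IsLarge Qg := IsLarge.map_conj hL g
  have hQg1 : Qg ≠ ⊥ := map_conj_ne_bot hQ1 g
  have hTQ : (T : Subgroup H) ≤ Subgroup.normalizer (Q : Set H) :=
    Subgroup.le_normalizer.trans (IsLarge.normalizer_le hL hQ1 T.isPGroup' hQT)
  have hTQg : (T : Subgroup H) ≤ Subgroup.normalizer (Qg : Set H) :=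
    Subgroup.le_normalizer.trans (IsLarge.normalizer_le hLg hQg1 T.isPGroup' hg)
  have hTgQg : ((g • T : Sylow p H) : Subgroup H) ≤ Subgroup.normalizer (Qg : Set H) := by
    rw [sylow_smul_coe, hQg, normalizer_map_conj]
    exact Subgroup.map_mono hTQ
  have hS1 := isSylowOf_of_sylow_le (g • T) hTgQg
  have hS2 := isSylowOf_of_sylow_le T hTQg
  obtain ⟨n, hn, hnT⟩ := hS1.exists_conj hS2
  rw [sylow_smul_coe, ← conj_mul_map] at hnT
  have hngT : n * g ∈ Subgroup.normalizer ((T : Subgroup H) : Set H) := mem_normalizer_of_map_conj_eq hnT.symm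
  have hngQ : n * g ∈ Subgroup.normalizer (Q : Set H) := IsLarge.normalizer_le hL hQ1 T.isPGroup' hQT hngT
  have h1 : Q.map (MulAut.conj (n * g)).toMonoidHom = Q := map_conj_eq_self_of_le_normalizer le_rfl hngQ
  rw [conj_mul_map] at h1
  have h2 : Qg.map (MulAut.conj n).toMonoidHom = Qg := map_conj_eq_self_of_le_normalizer le_rfl hn
  rw [← h2, h1]

/-- For a large `p`-subgroup `Q ≤ L` with `O_p(L) ≠ 1`, the centralizer of `O_p(L)` is a `p`-group. -/
theorem IsLarge.isPGroup_centralizer_pCoreOf {p : ℕ} [Fact p.Prime] [Finite H] {Q : Subgroup H} (hL : IsLarge Q)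
    (hQp : IsPGroup p Q) (hQ1 : Q ≠ ⊥) {L : Subgroup H} (hQL : Q ≤ L) (hD1 : pCoreOf p L ≠ ⊥) :
    IsPGroup p (Subgroup.centralizer (pCoreOf p L : Set H)) := by
  set D := pCoreOf p L with hD
  set C := Subgroup.centralizer (D : Set H) with hC
  have hDp : IsPGroup p D := pCoreOf_isPGroup p L
  have hLD : L ≤ Subgroup.normalizer (D : Set H) := le_normalizer_pCoreOf p L
  have hQD : Q ≤ Subgroup.normalizer (D : Set H) := hQL.trans hLD
  have hLC : L ≤ Subgroup.normalizer (C : Set H) := le_normalizer_centralizer_of_le_normalizer hLD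
  -- `C ≤ N(Q)`
  have hU1 : D ⊓ Subgroup.centralizer (Q : Set H) ≠ ⊥ :=
    inf_centralizer_ne_bot_of_powCond hDp hD1 hQD (powCond_of_isPGroup hQp _)
  have hCQ : C ≤ Subgroup.normalizer (Q : Set H) := by
    have h1 := hL.2 _ inf_le_right hU1
    refine le_trans ?_ h1
    have h2 : C ≤ Subgroup.centralizer ((D ⊓ Subgroup.centralizer (Q : Set H) : Subgroup H) : Set H) :=
      Subgroup.centralizer_le inf_le_left
    exact h2.trans (Cfsg.Agent.Helper1.centralizer_le_normalizer _)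
  -- `Q ⊓ C ≤ D`
  have hQ₀D : Q ⊓ C ≤ D := by
    have h1 : Q ⊓ C ≤ pCoreOf p C := by
      apply le_pCoreOf inf_le_right
      · exact le_normalizer_inf hCQ Subgroup.le_normalizer
      · exact hQp.to_le inf_le_left
    have h2 : pCoreOf p C ⊓ L ≤ D := by
      apply le_pCoreOf inf_le_right
      · exact le_normalizer_inf (hLC.trans (normalizer_le_normalizer_pCoreOf p C)) Subgroup.le_normalizer
      · exact (pCoreOf_isPGroup p C).to_le inf_le_left
    exact (le_inf h1 (inf_le_left.trans hQL)).trans h2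
  have hfin : Finite ↥C := inferInstance
  apply isPGroup_of_pprime_elements_trivial
  intro x hxc
  have hxc' : (orderOf (x : H)).Coprime p := by rwa [Subgroup.orderOf_coe]
  have hxQ : (x : H) ∈ Subgroup.centralizer (Q : Set H) := by
    rw [Subgroup.mem_centralizer_iff]
    intro q hq
    have hcQ : q * (x : H) * q⁻¹ * (x : H)⁻¹ ∈ Q := by
      have h1 : (x : H) * q⁻¹ * (x : H)⁻¹ ∈ Q :=
        (Subgroup.mem_normalizer_iff.mp (hCQ x.2) q⁻¹).mp (Q.inv_mem hq)
      have e : q * (x : H) * q⁻¹ * (x : H)⁻¹ = q * ((x : H) * q⁻¹ * (x : H)⁻¹) := by group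
      rw [e]
      exact Q.mul_mem hq h1
    have hcC : q * (x : H) * q⁻¹ * (x : H)⁻¹ ∈ C := by
      have h1 : q * (x : H) * q⁻¹ ∈ C := (Subgroup.mem_normalizer_iff.mp (hLC (hQL hq)) (x : H)).mp x.2
      exact C.mul_mem h1 (C.inv_mem x.2)
    have hcD : q * (x : H) * q⁻¹ * (x : H)⁻¹ ∈ D := hQ₀D (Subgroup.mem_inf.mpr ⟨hcQ, hcC⟩)
    have hcomm : Commute (q * (x : H) * q⁻¹ * (x : H)⁻¹) (x : H) :=
      (Subgroup.mem_centralizer_iff.mp x.2) _ hcD
    obtain ⟨j, hj⟩ := hDp ⟨_, hcD⟩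
    have hj' : (q * (x : H) * q⁻¹ * (x : H)⁻¹) ^ (p ^ j) = 1 := by
      have := congrArg Subtype.val hj
      simpa using this
    exact commute_of_commutator_commute' q (x : H) j hcomm hj' hxc'
  have hx1 : (x : H) = 1 := eq_one_of_mem_pGroup_of_coprime hQp (hL.1 hxQ) hxc'
  exact Subtype.ext hx1

end Cfsg.Agent.Helper14
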