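import Mathlib
import Cfsg.Agent.Lib.Helper3.M24IdxDefs

/-!
# S1589 piece IDX-PAIR (design helper3): the stabilizer of a 2-set in the group of the length-24 code
has order 887040.
-/

set_option autoImplicit false
open Cfsg

namespace Cfsg.Agent.Helper3.M24Idx

open Cfsg.Agent.Helper27 Cfsg.Agent.Helper29 Cfsg.Agent.Helper29.M24
open Cfsg.Agent.Helper29.M23Idx
open Cfsg.Agent.Helper29.IdxTools
open Cfsg.Agent.S0358 (idx)
open scoped Pointwise

theorem m24idx_pair_smul_pair (g : Equiv.Perm GolayPt) (p q : GolayPt) :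
    g • ({p, q} : Finset GolayPt) = {g p, g q} := by
  rw [Finset.smul_finset_insert, Finset.smul_finset_singleton]
  rfl

theorem m24idx_pair_swap (p q : GolayPt) (hpq : p ≠ q) :
    ∃ g ∈ Cfsg.M24, g p = q ∧ g q = p := by
  obtain ⟨g, hg, h⟩ := exists_map_emb₂ (k := 2) (by norm_num)
    ⟨fun i => if i = 0 then p else q, by
      intro i j hij
      fin_cases i <;> fin_cases j <;> simp_all [eq_comm]⟩
    ⟨fun i => if i = 0 then q else p, by
      intro i j hij
      fin_cases i <;> fin_cases j <;> simp_all [eq_comm]⟩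
  refine ⟨g, hg, ?_, ?_⟩
  · exact h 0
  · exact h 1

theorem m24idx_pair_mem_stabS (g : Equiv.Perm GolayPt) (s : Finset GolayPt) :
    g ∈ MulAction.stabilizer (Equiv.Perm GolayPt) s ↔ g • s = s := MulAction.mem_stabilizer_iff

theorem m24idx_pair_mem_stabP (g : Equiv.Perm GolayPt) (p : GolayPt) :
    g ∈ MulAction.stabilizer (Equiv.Perm GolayPt) p ↔ g p = p := MulAction.mem_stabilizer_iff

theorem m24idx_pair_mem_stabM (y : ↥Cfsg.M24) (p : GolayPt) :
    y ∈ MulAction.stabilizer ↥Cfsg.M24 p ↔ (y : Equiv.Perm GolayPt) p = p :=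
  MulAction.mem_stabilizer_iff

theorem m24idx_pair_stab_eq (p q : GolayPt) (hpq : p ≠ q) :
    (MulAction.stabilizer ↥Cfsg.M24 p ⊓ MulAction.stabilizer ↥Cfsg.M24 q).map (Cfsg.M24).subtype =
      (Cfsg.M24 ⊓ MulAction.stabilizer (Equiv.Perm GolayPt) ({p, q} : Finset GolayPt)) ⊓
        MulAction.stabilizer (Equiv.Perm GolayPt) p := by
  ext g
  rw [Subgroup.mem_map]
  constructor
  · rintro ⟨y, hy, rfl⟩
    have e1 : (y : Equiv.Perm GolayPt) p = p := (m24idx_pair_mem_stabM y p).1 hy.1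
    have e2 : (y : Equiv.Perm GolayPt) q = q := (m24idx_pair_mem_stabM y q).1 hy.2
    refine Subgroup.mem_inf.2 ⟨Subgroup.mem_inf.2 ⟨y.2, ?_⟩, (m24idx_pair_mem_stabP _ p).2 e1⟩
    rw [m24idx_pair_mem_stabS]
    change (y : Equiv.Perm GolayPt) • ({p, q} : Finset GolayPt) = {p, q}
    rw [m24idx_pair_smul_pair, e1, e2]
  · intro hg
    have hg1 := (Subgroup.mem_inf.1 hg).1
    have hgp' : g p = p := (m24idx_pair_mem_stabP g p).1 (Subgroup.mem_inf.1 hg).2
    have hgM : g ∈ Cfsg.M24 := (Subgroup.mem_inf.1 hg1).1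
    have hgs : g • ({p, q} : Finset GolayPt) = {p, q} :=
      (m24idx_pair_mem_stabS g _).1 (Subgroup.mem_inf.1 hg1).2
    rw [m24idx_pair_smul_pair, hgp'] at hgs
    have hq : g q ∈ ({p, q} : Finset GolayPt) := by
      rw [← hgs]; simp
    have hgq : g q = q := by
      rcases Finset.mem_insert.1 hq with h | h
      · exfalso
        apply hpq
        apply g.injective
        rw [hgp', h]
      · exact Finset.mem_singleton.1 h
    refine ⟨⟨g, hgM⟩, Subgroup.mem_inf.2 ⟨?_, ?_⟩, rfl⟩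
    · exact (m24idx_pair_mem_stabM _ p).2 hgp'
    · exact (m24idx_pair_mem_stabM _ q).2 hgq

/-- IDX-PAIR -/
theorem card_pairStab (s : Finset GolayPt) (hs : s.card = 2) :
    Nat.card ↥(Cfsg.M24 ⊓ MulAction.stabilizer (Equiv.Perm GolayPt) s) = 887040 := by
  classical
  obtain ⟨p, q, hpq, rfl⟩ := Finset.card_eq_two.1 hs
  have hstep := card_chain_step
    (Cfsg.M24 ⊓ MulAction.stabilizer (Equiv.Perm GolayPt) ({p, q} : Finset GolayPt)) p {p, q}
    (by
      intro g hg
      have hgs : g • ({p, q} : Finset GolayPt) = {p, q} :=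
        (m24idx_pair_mem_stabS g _).1 (Subgroup.mem_inf.1 hg).2
      rw [m24idx_pair_smul_pair] at hgs
      rw [← hgs]; simp)
    (by
      intro r hr
      rcases Finset.mem_insert.1 hr with rfl | h
      · exact ⟨1, Subgroup.one_mem _, rfl⟩
      · have hrq : r = q := Finset.mem_singleton.1 h
        subst hrq
        obtain ⟨g, hg, h1, h2⟩ := m24idx_pair_swap p r hpq
        refine ⟨g, Subgroup.mem_inf.2 ⟨hg, ?_⟩, h1⟩
        rw [m24idx_pair_mem_stabS, m24idx_pair_smul_pair, h1, h2]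
        exact Finset.pair_comm r p)
  rw [hstep, ← m24idx_pair_stab_eq p q hpq, Subgroup.card_subtype]
  have h2 : ({p, q} : Finset GolayPt).card = 2 := Finset.card_pair hpq
  rw [h2, card_stab_two p q hpq]

end Cfsg.Agent.Helper3.M24Idx
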