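import Mathlib
import Cfsg.Agent.Lib.Helper24.Cd3Util
import Cfsg.Agent.Lib.Helper24.Cd3Frob
import Cfsg.Agent.Lib.Helper24.Cd3Nil

/-!
# The key dichotomy behind Manz's theorem on the character degree graph (helper14)

For a finite nonabelian solvable group `G`, take `K ⊴ G` maximal with `G / K` nonabelian.
Either `G / K` is a `u`-group, and then `u` is joined to every other degree prime; or `G / K` is a
Frobenius group with complement of order `f` and kernel an `s`-group, and then every irreducible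
`χ` with `χ(1)` prime to `f` has `f χ(1)` a degree or `s ∣ χ(1)`.
-/

set_option autoImplicit false
set_option linter.style.haveILetI false
set_option linter.unusedSectionVars false
set_option linter.unusedVariables false

namespace Cfsg.Agent.Helper14.Manz

open Cfsg Cfsg.Agent.Helper24 Cfsg.Agent.Helper5 Cfsg.Agent.Helper18 Cfsg.Agent.Helper24.Cd2
  Cfsg.Agent.Helper24.Cd3
open Subgroup
open scoped ComplexConjugate commutatorElement Pointwise

universe u

/-- The two alternatives. -/
def NilAlt (G : Type u) [Group G] : Prop :=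
  ∃ u : ℕ, u.Prime ∧ ∃ β : G → ℂ, IsIrrCharacter G β ∧ u ∣ charDegree β ∧
    ∀ χ : G → ℂ, IsIrrCharacter G χ → ¬ u ∣ charDegree χ →
      ∃ ξ : G → ℂ, IsIrrCharacter G ξ ∧ charDegree ξ = charDegree β * charDegree χ

def FrobAlt (G : Type u) [Group G] : Prop :=
  ∃ f s : ℕ, 1 < f ∧ s.Prime ∧ (∃ β : G → ℂ, IsIrrCharacter G β ∧ charDegree β = f) ∧
    ∀ χ : G → ℂ, IsIrrCharacter G χ → (charDegree χ).Coprime f →
      (∃ ξ : G → ℂ, IsIrrCharacter G ξ ∧ charDegree ξ = f * charDegree χ) ∨ s ∣ charDegree χ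

theorem nilAlt_of_quotient {G : Type u} [Group G] [Finite G]
    (K : Subgroup G) [hK : K.Normal] (hnil : Group.IsNilpotent (G ⧸ K))
    (hnab : ∃ x y : G ⧸ K, x * y ≠ y * x)
    (hqab : ∀ (N' : Subgroup (G ⧸ K)) [N'.Normal], N' ≠ ⊥ →
      ∀ x y : (G ⧸ K) ⧸ N', x * y = y * x) : NilAlt G := by
  classical
  letI : Fintype G := Fintype.ofFinite G
  obtain ⟨p, n, hp, hcard⟩ := exists_card_eq_prime_pow hnil hnab hqab
  obtain ⟨β, hβ, hβnl⟩ := exists_nonlinear hnab
  have hβdvd : charDegree β ∣ p ^ n := by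
    rw [← hcard]
    exact charDegree_dvd_card hβ
  obtain ⟨j, -, hj⟩ := (Nat.dvd_prime_pow hp).mp hβdvd
  have hj0 : j ≠ 0 := by
    rintro rfl
    rw [pow_zero] at hj
    exact hβnl hj
  have hpβ : p ∣ charDegree β := by
    rw [hj]
    exact dvd_pow_self p hj0
  set β' : G → ℂ := β ∘ (QuotientGroup.mk' K) with hβ'
  have hβ'irr : IsIrrCharacter G β' :=
    isIrrCharacter_comp_of_surjective _ (QuotientGroup.mk'_surjective K) hβ
  have hβ'deg : charDegree β' = charDegree β := charDegree_comp _ β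
  have hβ'ker : ∀ k ∈ K, β' k = β' 1 := by
    intro k hk
    show β (QuotientGroup.mk k) = β (QuotientGroup.mk 1)
    rw [(QuotientGroup.eq_one_iff k).mpr hk, QuotientGroup.mk_one]
  have hKidx : K.index = p ^ n := by
    rw [Subgroup.index_eq_card, hcard]
  refine ⟨p, hp, β', hβ'irr, by rw [hβ'deg]; exact hpβ, ?_⟩
  intro χ hχ hpχ
  have hc : (charDegree χ).Coprime K.index := by
    rw [hKidx]
    exact Nat.Coprime.pow_right n ((Nat.Prime.coprime_iff_not_dvd hp).mpr hpχ).symm
  have hres := CopDeg.restrict_irr_of_coprime K hχ hc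
  refine ⟨β' * χ, OverInv.gallagher_mul K hχ hres hβ'irr hβ'ker, ?_⟩
  rw [charDegree_mul (isCharacter_of_isIrrCharacter hβ'irr) (isCharacter_of_isIrrCharacter hχ)]

theorem frobAlt_of_quotient {G : Type u} [Group G] [Finite G]
    (K : Subgroup G) [hK : K.Normal]
    (hKnn : ¬ Group.IsNilpotent (G ⧸ K)) [hsolvQ : Group.IsSolvable (G ⧸ K)]
    (hqab : ∀ (N' : Subgroup (G ⧸ K)) [N'.Normal], N' ≠ ⊥ →
      ∀ x y : (G ⧸ K) ⧸ N', x * y = y * x) : FrobAlt G := by
  classical
  letI : Fintype G := Fintype.ofFinite G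
  have hq : ∀ (N' : Subgroup (G ⧸ K)) [N'.Normal], N' ≠ ⊥ →
      Group.IsNilpotent ((G ⧸ K) ⧸ N') := by
    intro N' hN' hne
    letI : CommGroup ((G ⧸ K) ⧸ N') :=
      { (inferInstance : Group ((G ⧸ K) ⧸ N')) with mul_comm := hqab N' hne }
    exact CommGroup.isNilpotent
  have hnab : ∃ x y : G ⧸ K, x * y ≠ y * x := by
    by_contra hcon
    push Not at hcon
    apply hKnn
    letI : CommGroup (G ⧸ K) := { (inferInstance : Group (G ⧸ K)) with mul_comm := hcon }
    exact CommGroup.isNilpotent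
  obtain ⟨M, H, hprim⟩ := exists_prim hKnn hq
  haveI := hprim.normal
  have hQ' : commutator (G ⧸ K) ≤ M := by
    rw [commutator_def, Subgroup.commutator_le]
    intro x _ y _
    rw [← QuotientGroup.eq_one_iff]
    have h1 := hqab M hprim.ne_bot (QuotientGroup.mk x) (QuotientGroup.mk y)
    rw [commutatorElement_def, QuotientGroup.mk_mul, QuotientGroup.mk_mul, QuotientGroup.mk_mul,
      QuotientGroup.mk_inv, QuotientGroup.mk_inv, h1]
    group
  obtain ⟨p, e, hF⟩ := Cd3.Prim.frobData' hprim hnab hQ'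
  set f : ℕ := M.index with hf
  set N : Subgroup G := M.comap (QuotientGroup.mk' K) with hN
  haveI hNn : N.Normal := Subgroup.Normal.comap hF.normal _
  have hKN : K ≤ N := by
    intro k hk
    rw [hN, Subgroup.mem_comap, QuotientGroup.mk'_apply, (QuotientGroup.eq_one_iff k).mpr hk]
    exact M.one_mem
  have hNidx : N.index = f := by
    rw [hN, Subgroup.index_comap_of_surjective _ (QuotientGroup.mk'_surjective K)]
  have hfpos : 0 < f := by
    rw [← hNidx]
    exact Nat.pos_of_ne_zero Subgroup.index_ne_zero_of_finite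
  have hrel : K.relIndex N = p ^ e := by
    have h1 : K.relIndex N * N.index = K.index := Subgroup.relIndex_mul_index hKN
    have h2 : K.index = Nat.card M * M.index := by
      rw [Subgroup.index_eq_card, M.card_mul_index]
    rw [h2, hNidx, hF.card] at h1
    exact Nat.eq_of_mul_eq_mul_right hfpos h1
  have hmemN : ∀ g : G, g ∈ N ↔ (QuotientGroup.mk g : G ⧸ K) ∈ M := fun g => Iff.rfl
  -- `f` is a character degree of `G`
  obtain ⟨χ', hχ', hnl'⟩ := exists_nonlinear hnab
  have hdegχ' : charDegree χ' = f := Cd3.FrobData.degree hF hχ' hnl'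
  have hχG : IsIrrCharacter G (χ' ∘ (QuotientGroup.mk' K)) :=
    isIrrCharacter_comp_of_surjective _ (QuotientGroup.mk'_surjective K) hχ'
  have hdegG : charDegree (χ' ∘ (QuotientGroup.mk' K)) = f := by
    rw [charDegree_comp]
    exact hdegχ'
  have hf1 : f ≠ 1 := by
    rw [← hdegχ']
    exact hnl'
  have hpf : ¬ p ∣ f := hF.cop
  haveI : Fact p.Prime := ⟨hF.prime⟩
  refine ⟨f, p, by omega, hF.prime, ⟨_, hχG, hdegG⟩, ?_⟩
  letI : Fintype N := Fintype.ofFinite N
  intro χ hχ hcop
  by_cases hps : p ∣ charDegree χ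
  · exact Or.inr hps
  left
  have hc : (charDegree χ).Coprime N.index := by
    rw [hNidx]
    exact hcop
  have hirr := CopDeg.restrict_irr_of_coprime N hχ hc
  have hdegres : charDegree (fun n : N => χ n) = charDegree χ := rfl
  by_contra hnone
  push Not at hnone
  apply twist_count K N hKN ?_ ?_ hNidx ?_ hirr ?_ ?_
  · intro x hx y hy
    rw [← QuotientGroup.eq_one_iff]
    have := hF.comm _ ((hmemN x).mp hx) _ ((hmemN y).mp hy)
    rw [QuotientGroup.mk_mul, QuotientGroup.mk_mul, QuotientGroup.mk_mul, this,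
      QuotientGroup.mk_inv, QuotientGroup.mk_inv]
    group
  · intro g hg n hn
    obtain ⟨z, hz, hzeq⟩ := hF.surj (x := (QuotientGroup.mk g : G ⧸ K)) hg ((hmemN n).mp hn)
    obtain ⟨n', rfl⟩ := QuotientGroup.mk_surjective z
    refine ⟨n', hz, (g * n' * g⁻¹ * n'⁻¹)⁻¹ * n, ?_, by group⟩
    rw [← QuotientGroup.eq]
    rw [QuotientGroup.mk_mul, QuotientGroup.mk_mul, QuotientGroup.mk_mul, QuotientGroup.mk_inv,
      QuotientGroup.mk_inv]
    exact hzeq.symm
  · rw [hrel]
    have := hF.lt
    omega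
  · rw [hrel, hdegres]
    apply Nat.Coprime.pow_right
    exact ((Nat.Prime.coprime_iff_not_dvd hF.prime).mpr hps).symm
  · intro χ'' hχ'' hdeg''
    rw [hdegres] at hdeg''
    exact hnone χ'' hχ'' hdeg''

/-- **The dichotomy.** -/
theorem manz_key {G : Type u} [Group G] [Finite G] [hs : Group.IsSolvable G]
    (hnc : ¬ commutator G ≤ ⊥) : NilAlt G ∨ FrobAlt G := by
  classical
  letI : Fintype G := Fintype.ofFinite G
  let S : Set (Subgroup G) := {K | K.Normal ∧ ¬ commutator G ≤ K}
  have hS : S.Nonempty := ⟨⊥, inferInstance, hnc⟩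
  obtain ⟨K, ⟨hKn, hKc⟩, hKmax⟩ := (wellFounded_gt (α := Subgroup G)).has_min S hS
  haveI := hKn
  have hqab : ∀ (N' : Subgroup (G ⧸ K)) [N'.Normal], N' ≠ ⊥ →
      ∀ x y : (G ⧸ K) ⧸ N', x * y = y * x := by
    intro N' hN' hne x y
    set K' : Subgroup G := N'.comap (QuotientGroup.mk' K) with hK'
    haveI : K'.Normal := Subgroup.Normal.comap hN' _
    have hKK' : K ≤ K' := by
      intro k hk
      rw [hK', Subgroup.mem_comap, QuotientGroup.mk'_apply, (QuotientGroup.eq_one_iff k).mpr hk]
      exact N'.one_mem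
    have hlt' : K < K' := by
      refine lt_of_le_of_ne hKK' ?_
      intro heq
      apply hne
      rw [Subgroup.eq_bot_iff_forall]
      intro q hq
      obtain ⟨g, rfl⟩ := QuotientGroup.mk_surjective q
      have : g ∈ K' := hq
      rw [← heq] at this
      exact (QuotientGroup.eq_one_iff g).mpr this
    have hcK' : commutator G ≤ K' := by
      by_contra hcon
      exact hKmax K' ⟨inferInstance, hcon⟩ hlt'
    let φ : G →* (G ⧸ K) ⧸ N' := (QuotientGroup.mk' N').comp (QuotientGroup.mk' K)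
    have hφs : Function.Surjective φ :=
      (QuotientGroup.mk'_surjective N').comp (QuotientGroup.mk'_surjective K)
    obtain ⟨x, rfl⟩ := hφs x
    obtain ⟨y, rfl⟩ := hφs y
    have h1 : ⁅x, y⁆ ∈ K' :=
      hcK' (Subgroup.commutator_mem_commutator (Subgroup.mem_top _) (Subgroup.mem_top _))
    have h2 : φ ⁅x, y⁆ = 1 := by
      show QuotientGroup.mk' N' (QuotientGroup.mk' K ⁅x, y⁆) = 1
      rw [QuotientGroup.mk'_apply, QuotientGroup.eq_one_iff]
      exact h1
    rw [map_commutatorElement, commutatorElement_eq_one_iff_commute] at h2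
    exact h2.eq
  have hnab : ∃ x y : G ⧸ K, x * y ≠ y * x := by
    by_contra hcon
    push Not at hcon
    apply hKc
    rw [commutator_def, Subgroup.commutator_le]
    intro x _ y _
    have h1 : (QuotientGroup.mk' K) ⁅x, y⁆ = 1 := by
      rw [map_commutatorElement, commutatorElement_eq_one_iff_commute]
      exact hcon _ _
    exact (QuotientGroup.eq_one_iff _).mp h1
  haveI hsolvQ : Group.IsSolvable (G ⧸ K) := inferInstance
  by_cases hnil : Group.IsNilpotent (G ⧸ K)
  · exact Or.inl (nilAlt_of_quotient K hnil hnab hqab)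
  · exact Or.inr (frobAlt_of_quotient K hnil hqab)

end Cfsg.Agent.Helper14.Manz
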