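import Mathlib
import Cfsg.Prelude.Def_FusionSystem
import Cfsg.Agent.Lib.Helper14.MaxClassZ2
import Cfsg.Agent.Lib.Helper25.FusionSat3
import Cfsg.Agent.Lib.Helper25.FusionRS
import Cfsg.Agent.Lib.Helper25.FusionAlperin
import Cfsg.Agent.Lib.Helper3.SmallCenter2

/-!
# An essential subgroup of index `p` (helper14)

`isEssential_of_index_p`: a centric, fully normalized, fully automized subgroup `C` of index `p` in `S`
with an `F`-automorphism not normalizing `Aut_S(C)` is essential.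
-/

set_option autoImplicit false

namespace Cfsg.Agent.Helper14.MaxClassZ2

open Cfsg Cfsg.FusionSystem Cfsg.Agent.Helper25

variable {Ω : Type*} [Group Ω] {S : Subgroup Ω}

theorem isEssential_of_index_p [Finite S] (p : ℕ) [Fact p.Prime] (F : FusionSystem S)
    {C : Subgroup Ω} (hCS : C ≤ S) (hn : S ≤ Subgroup.normalizer (C : Set Ω))
    (hidx : (C.subgroupOf S).index = p) (hcen : F.IsCentric C) (hfn : F.IsFullyNormalized C)
    (hfa : F.IsFullyAutomized p C)
    {θ : MulAut C} (hθ : θ ∈ F.autGroup C) {β : MulAut C} (hβ : β ∈ autInducedBy S C)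
    (hθβ : θ * β * θ⁻¹ ∉ autInducedBy S C) : F.IsEssential p C := by
  classical
  have hp : p.Prime := Fact.out
  haveI : Finite C := finite_of_le_finite hCS
  haveI : Finite (MulAut C) :=
    Finite.of_injective (fun α : MulAut C => (α : C → C)) DFunLike.coe_injective
  have hCE : centralizerIn S C ≤ C := hcen.2 C (isConj_refl F hCS)
  haveI hnorm : ((Inn C).subgroupOf (F.autGroup C)).Normal :=
    inn_subgroupOf_normal C (F.autGroup C)
  refine ⟨hcen, hfn, hnorm, ?_⟩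
  set I := (Inn C).subgroupOf (F.autGroup C) with hI
  let κ₀ : ↥S →* MulAut ↥C := Cfsg.Agent.Helper3.SC.kap hn
  have hκ₀mem : ∀ s, κ₀ s ∈ F.autGroup C := fun s =>
    autInducedBy_le_autGroup F hCS (Cfsg.Agent.Helper3.SC.kap_mem hn s)
  let κ : ↥S →* F.autGroup C := κ₀.codRestrict (F.autGroup C) hκ₀mem
  let κb : ↥S →* (F.autGroup C ⧸ I) := (QuotientGroup.mk' I).comp κ
  have hker : κb.ker = C.subgroupOf S := by
    ext s
    rw [MonoidHom.mem_ker, Subgroup.mem_subgroupOf]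
    show QuotientGroup.mk' I (κ s) = 1 ↔ _
    rw [QuotientGroup.mk'_apply, QuotientGroup.eq_one_iff, hI, Subgroup.mem_subgroupOf]
    show κ₀ s ∈ Inn C ↔ _
    constructor
    · rintro ⟨e, he⟩
      have hcomm : ∀ x ∈ C, x * ((e : Ω)⁻¹ * s) = ((e : Ω)⁻¹ * s) * x := by
        intro x hx
        have h1 := congrArg (fun f : MulAut C => ((f ⟨x, hx⟩ : C) : Ω)) he
        have h2 : (e : Ω) * x * (e : Ω)⁻¹ = s * x * (s : Ω)⁻¹ := h1
        have h3 : x = (e : Ω)⁻¹ * (s * x * (s : Ω)⁻¹) * e := by rw [← h2]; group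
        calc x * ((e : Ω)⁻¹ * s) = ((e : Ω)⁻¹ * (s * x * (s : Ω)⁻¹) * e) * ((e : Ω)⁻¹ * s) := by
              rw [← h3]
          _ = ((e : Ω)⁻¹ * s) * x := by group
      have hmem : (e : Ω)⁻¹ * s ∈ centralizerIn S C := by
        rw [mem_centralizerIn]
        exact ⟨S.mul_mem (S.inv_mem (hCS e.2)) s.2, hcomm⟩
      have h4 := C.mul_mem e.2 (hCE hmem)
      rwa [mul_inv_cancel_left] at h4
    · intro hs
      exact ⟨⟨s, hs⟩, by ext x; rfl⟩
  set T : Subgroup (F.autGroup C ⧸ I) :=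
    ((autInducedBy S C).subgroupOf (F.autGroup C)).map (QuotientGroup.mk' I) with hT
  have hrange : κb.range = T := by
    ext y
    constructor
    · rintro ⟨s, rfl⟩
      exact ⟨κ s, Subgroup.mem_subgroupOf.mpr (Cfsg.Agent.Helper3.SC.kap_mem hn s), rfl⟩
    · rintro ⟨γ, hγ, rfl⟩
      obtain ⟨s, hs⟩ := Cfsg.Agent.Helper3.SC.exists_kap_eq hn (Subgroup.mem_subgroupOf.mp hγ)
      refine ⟨s, ?_⟩
      show QuotientGroup.mk' I (κ s) = _
      congr 1
      exact Subtype.ext hs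
  have hcardT : Nat.card T = p := by
    rw [← hrange, ← Subgroup.index_ker, hker, hidx]
  obtain ⟨-, R, hR⟩ := hfa
  let P : Sylow p (F.autGroup C ⧸ I) := R.mapSurjective (QuotientGroup.mk'_surjective I)
  have hP : (P : Subgroup (F.autGroup C ⧸ I)) = T := by
    show (R : Subgroup (F.autGroup C)).map (QuotientGroup.mk' I) = T
    rw [hR]
  refine ⟨Subgroup.normalizer (T : Set (F.autGroup C ⧸ I)), ?_, ?_, P, ?_⟩
  · have := Subgroup.card_subgroup_dvd_card T
    rwa [hcardT] at this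
  · intro htop
    have hθn : QuotientGroup.mk' I ⟨θ, hθ⟩ ∈ Subgroup.normalizer (T : Set (F.autGroup C ⧸ I)) := by
      rw [htop]; trivial
    have hβA : β ∈ F.autGroup C := autInducedBy_le_autGroup F hCS hβ
    have hβT : QuotientGroup.mk' I ⟨β, hβA⟩ ∈ T := ⟨_, Subgroup.mem_subgroupOf.mpr hβ, rfl⟩
    have h1 := (Subgroup.mem_normalizer_iff.mp hθn _).mp hβT
    obtain ⟨γ, hγ, hγe⟩ := h1
    have h2 : (QuotientGroup.mk' I) γ =
        QuotientGroup.mk' I (⟨θ, hθ⟩ * ⟨β, hβA⟩ * ⟨θ, hθ⟩⁻¹) := by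
      rw [hγe, map_mul, map_mul, map_inv]
    rw [QuotientGroup.mk'_apply, QuotientGroup.mk'_apply, QuotientGroup.eq, hI,
      Subgroup.mem_subgroupOf] at h2
    apply hθβ
    have h3 : ((γ⁻¹ * (⟨θ, hθ⟩ * ⟨β, hβA⟩ * ⟨θ, hθ⟩⁻¹) : F.autGroup C) : MulAut C) ∈
        autInducedBy S C := inn_le_autInducedBy hCS h2
    have h4 := Subgroup.mul_mem _ (Subgroup.mem_subgroupOf.mp hγ) h3
    have h5 : ((γ : F.autGroup C) : MulAut C) *
        ((γ⁻¹ * (⟨θ, hθ⟩ * ⟨β, hβA⟩ * ⟨θ, hθ⟩⁻¹) : F.autGroup C) : MulAut C) = θ * β * θ⁻¹ := by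
      simp
    rwa [h5] at h4
  · unfold kGeneratedCore
    apply iSup_le
    rintro ⟨Q, hQP, hQr⟩
    have hQT : Q ≤ T := hP ▸ hQP
    have hQne : Q ≠ ⊥ := by
      rintro rfl
      apply hQr
      intro A _ _
      rw [Nat.sub_self, pow_zero]
      exact Finite.card_le_one_iff_subsingleton.mpr inferInstance
    have hQeq : Q = T := by
      have hd : Nat.card Q ∣ Nat.card T := Subgroup.card_dvd_of_le hQT
      rw [hcardT] at hd
      rcases (Nat.dvd_prime hp).mp hd with h | h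
      · exact absurd (Subgroup.card_eq_one.mp h) hQne
      · exact Subgroup.eq_of_le_of_card_ge hQT (by rw [h, hcardT])
    show Subgroup.normalizer (Q : Set (F.autGroup C ⧸ I)) ≤ _
    rw [hQeq]

/-- `C_S(Z₂(S))` is essential when some `F`-automorphism of `Z₂(S)` moves `Z(S)` -/
theorem isEssential_centralizer [Finite S] (p : ℕ) [hp : Fact p.Prime] (hS : IsPGroup p S)
    (F : FusionSystem S) (hF : F.IsSaturated p) {Z₁ Z₂ : Subgroup Ω} (D : Z2Data p S Z₁ Z₂)
    (φ : Z₂ →* Ω) (hφ : φ ∈ F.Hom Z₂) (hφr : φ.range = Z₂)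
    (hmove : ∃ (z : Ω) (hz : z ∈ Z₂), z ∈ Z₁ ∧ φ ⟨z, hz⟩ ∉ Z₁) :
    F.IsEssential p (centralizerIn S Z₂) := by
  classical
  set C := centralizerIn S Z₂ with hC
  have hCS : C ≤ S := centralizerIn_le
  have hZC : Z₂ ≤ C := D.le_cent
  have hZ₂S := D.le2S
  haveI : Finite C := finite_of_le_finite hCS
  have hnC : S ≤ Subgroup.normalizer (C : Set Ω) := by
    intro s hs
    apply mem_normalizer_of_forall
    · intro y hy; exact D.cent_conj_mem hs hy
    · intro y hy
      have := D.cent_conj_mem (S.inv_mem hs) hy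
      simpa using this
  have hnZ : S ≤ Subgroup.normalizer (Z₂ : Set Ω) := by
    intro s hs
    apply mem_normalizer_of_forall
    · intro y hy; exact D.conj_mem hs hy
    · intro y hy
      have := D.conj_mem (S.inv_mem hs) hy
      simpa using this
  have hfn_of : ∀ {P : Subgroup Ω}, P ≤ S → S ≤ Subgroup.normalizer (P : Set Ω) →
      F.IsFullyNormalized P := by
    intro P hPS hnP
    refine ⟨hPS, fun Q _ => ?_⟩
    have h1 : normalizerIn S P = S := le_antisymm normalizerIn_le (fun s hs => ⟨hs, hnP hs⟩)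
    rw [h1]
    exact Subgroup.card_le_of_le normalizerIn_le
  have hfnC := hfn_of hCS hnC
  have hfnZ := hfn_of hZ₂S hnZ
  obtain ⟨hfcC, hfaC, hrecC⟩ := of_fullyNormalized p hS F hF hfnC
  obtain ⟨-, -, hrecZ⟩ := of_fullyNormalized p hS F hF hfnZ
  have hCE : centralizerIn S C ≤ C := by
    intro x hx
    obtain ⟨hxS, hxc⟩ := mem_centralizerIn.mp hx
    exact mem_centralizerIn.mpr ⟨hxS, fun b hb => hxc b (hZC hb)⟩
  have hcen : F.IsCentric C := isCentric_of_fullyCentralized F hfcC hCE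
  obtain ⟨ψ, hψF, hψ⟩ := hrecZ.2 Z₂ φ hφ hφr
  have hle : C ≤ extender S Z₂ φ := by
    intro g hg
    obtain ⟨hgS, hgc⟩ := mem_centralizerIn.mp hg
    rw [mem_extender_iff]
    refine ⟨hgS, hnZ hgS, 1, S.one_mem, fun x hx => ?_⟩
    have h1 : g * (x : Ω) * g⁻¹ = x := by rw [← hgc x x.2]; group
    have h2 : (⟨g * (x : Ω) * g⁻¹, hx⟩ : Z₂) = x := Subtype.ext h1
    rw [h2]; simp
  set ψ' : ↥C →* Ω := ψ.comp (Subgroup.inclusion hle) with hψ'
  have hψ'F : ψ' ∈ F.Hom C := restrict_mem F hle hψF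
  have hψ'Z : ∀ (x : Ω) (hx : x ∈ Z₂), ψ' ⟨x, hZC hx⟩ = φ ⟨x, hx⟩ :=
    fun x hx => hψ x hx (hle (hZC hx))
  have himg : ∀ c : ↥C, ψ' c ∈ C := by
    intro c
    show ψ' c ∈ centralizerIn S Z₂
    rw [mem_centralizerIn]
    refine ⟨(F.le_of_mem hψ'F).2 c, fun b hb => ?_⟩
    rw [← hφr] at hb
    obtain ⟨b₀, rfl⟩ := hb
    rw [← hψ'Z b₀ b₀.2, ← map_mul, ← map_mul]
    congr 1
    apply Subtype.ext
    exact (mem_centralizerIn.mp c.2).2 b₀ b₀.2
  have hinj : Function.Injective (ψ'.codRestrict C himg) := by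
    intro a b hab
    apply F.injective_of_mem hψ'F
    exact congrArg Subtype.val hab
  let θ : MulAut C :=
    MulEquiv.ofBijective (ψ'.codRestrict C himg) ⟨hinj, Finite.surjective_of_injective hinj⟩
  have hθapp : ∀ c : C, ((θ c : C) : Ω) = ψ' c := fun c => rfl
  have hθ : θ ∈ F.autGroup C := by
    rw [mem_autGroup_iff F hCS]
    have : C.subtype.comp θ.toMonoidHom = ψ' := by ext c; rfl
    rw [this]; exact hψ'F
  have hnot : ¬ ∀ β ∈ autInducedBy S C, θ * β * θ⁻¹ ∈ autInducedBy S C := by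
    intro hnorm
    obtain ⟨αbar, hαbar, hα⟩ := exists_autGroup_normalizerIn_extension F hrecC hθ hnorm
    obtain ⟨z, hz, hz1, hzφ⟩ := hmove
    apply hzφ
    have h1 := hα ⟨z, hZC hz⟩
    rw [hθapp, hψ'Z z hz] at h1
    rw [← h1, D.mem1]
    have hNS : normalizerIn S C = S :=
      le_antisymm normalizerIn_le (fun s hs => ⟨hs, hnC hs⟩)
    refine ⟨normalizerIn_le (αbar _).2, fun x hx => ?_⟩
    have hxN : x ∈ normalizerIn S C := by rw [hNS]; exact hx
    set zN : ↥(normalizerIn S C) := ⟨z, le_normalizerIn hrecC.1 (hZC hz)⟩ with hzN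
    set y : ↥(normalizerIn S C) := αbar⁻¹ ⟨x, hxN⟩ with hy
    have hxy : (⟨x, hxN⟩ : ↥(normalizerIn S C)) = αbar y := by rw [hy]; simp
    have hyz : y * zN = zN * y := Subtype.ext (D.cent hz1 (normalizerIn_le y.2))
    have h2 : αbar y * αbar zN = αbar zN * αbar y := by rw [← map_mul, ← map_mul, hyz]
    rw [← hxy] at h2
    exact congrArg Subtype.val h2
  push Not at hnot
  obtain ⟨β, hβ, hθβ⟩ := hnot
  exact isEssential_of_index_p p F hCS hnC (D.index_cent hS) hcen hfnC hfaC hθ hβ hθβ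

end Cfsg.Agent.Helper14.MaxClassZ2
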