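import Mathlib
import Cfsg.Agent.Lib.Helper21.N9KDefs
import Cfsg.Agent.Lib.Helper16.TC648Index
import Cfsg.Agent.Lib.Helper18.Higman333

/-!
# S3702 GROUP piece TRI0 (helper14): the generic Higman (3,3,3) core.

Wrapper of helper18's `Cfsg.Agent.Helper18.Higman333.exists_central_three` (which is helper26's S3805 argument), with
the hypotheses `x ^ 3 = 1`, `y ^ 3 = 1` instead of `orderOf x = 3`, `orderOf y = 3`.
-/

set_option autoImplicit false
set_option linter.unusedSectionVars false
set_option linter.unusedVariables false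

namespace Cfsg.Agent.Helper21.N9

open Cfsg Cfsg.Agent.Helper16

universe u

section Grp

variable {G : Type u} [Group G] [Finite G] {H J : Subgroup G}

/-- PIECE S3702-GR-TRI0 (generic Higman core). -/
theorem exists_central_of_not_isConj {x y : G} (hx : x ^ 3 = 1) (hy : y ^ 3 = 1) (hxy : (x * y) ^ 3 = 1)
    (hnc : ¬ IsConj x y) : ∃ a : G, a ≠ 1 ∧ a ^ 3 = 1 ∧ a * x = x * a ∧ a * y = y * a := by
  haveI : Fact (Nat.Prime 3) := ⟨by norm_num⟩
  by_cases hx1 : x = 1
  · subst hx1
    by_cases hy1 : y = 1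
    · subst hy1
      exact absurd (IsConj.refl (1 : G)) hnc
    · exact ⟨y, hy1, hy, by simp, rfl⟩
  · by_cases hy1 : y = 1
    · subst hy1
      exact ⟨x, hx1, hx, rfl, by simp⟩
    · have hox : orderOf x = 3 := orderOf_eq_prime hx hx1
      have hoy : orderOf y = 3 := orderOf_eq_prime hy hy1
      obtain ⟨a, ha1, ha3, hax, hay⟩ :=
        Cfsg.Agent.Helper18.Higman333.exists_central_three hox hoy hxy hnc
      exact ⟨a, ha1, ha3, hax.symm, hay.symm⟩

end Grp

end Cfsg.Agent.Helper21.N9
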