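import Mathlib
import Cfsg.Agent.Lib.Helper21.N9KDefs
import Cfsg.Agent.Lib.Helper16.TC648Index
import Cfsg.Agent.Lib.Helper14.N9TRI0

/-!
# S3702 GROUP pieces TI and TRI (helper14): core versions, with the other pieces (`fusion`, `J_exp`, `J_normal`,
`cent_outside`) as HYPOTHESES, so that this file depends on landed files only.  The wrappers with the exact skeleton
signatures are `N9TI.lean` and `N9TRI.lean`.
-/

set_option autoImplicit false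
set_option linter.unusedSectionVars false
set_option linter.unusedVariables false

namespace Cfsg.Agent.Helper21.N9

open Cfsg Cfsg.Agent.Helper16

universe u

section Grp

variable {G : Type u} [Group G] [Finite G] {H J : Subgroup G}

/-- TI from `fusion` -/
theorem ti_of_fusion (c : Cfg H J)
    (hfus : ∀ x ∈ J, x ≠ 1 → ∀ g : G, g * x * g⁻¹ ∈ J → g ∈ H)
    {x : G} (hx : x ∈ H) (k : ℕ) (hk : x ^ k ∈ J) (hk1 : x ^ k ≠ 1) {g : G}
    (hg : g * x * g⁻¹ ∈ H) : g ∈ H := by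
  have h1 : g * x ^ k * g⁻¹ = (g * x * g⁻¹) ^ k := (conj_pow (a := g) (b := x) (i := k)).symm
  have h2 : g * x ^ k * g⁻¹ ∈ H := by
    rw [h1]
    exact H.pow_mem hg k
  have h3 : g * x ^ k * g⁻¹ ∈ J := c.hsc _ hk g h2
  exact hfus _ hk hk1 g h3

/-- if `a ≠ 1`, `a³ = 1`, `a` commutes with `z ∈ J ∖ 1` and with a nontrivial `w` that is conjugate into `J` but not
conjugate to `u3`, then `a ∈ J`. -/
theorem tri_aux_of (c : Cfg H J) (u3 : G)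
    (hnorm : ∀ h ∈ H, ∀ x ∈ J, h * x * h⁻¹ ∈ J)
    (hfus : ∀ x ∈ J, x ≠ 1 → ∀ g : G, g * x * g⁻¹ ∈ J → g ∈ H)
    (hout : ∀ h ∈ H, h ∉ J → h ^ 3 = 1 → ∀ x ∈ J, x ≠ 1 → h * x = x * h → IsConj x u3)
    {a z w : G} (ha1 : a ≠ 1) (ha3 : a ^ 3 = 1)
    (hz : z ∈ J) (hz1 : z ≠ 1) (haz : a * z = z * a)
    (hw : ∃ g : G, g * w * g⁻¹ ∈ J) (hw1 : w ≠ 1) (haw : a * w = w * a)
    (hnu : ¬ IsConj w u3) : a ∈ J := by
  obtain ⟨g, hg⟩ := hw
  have hw'1 : g * w * g⁻¹ ≠ 1 := by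
    intro h
    apply hw1
    have h2 : w = g⁻¹ * (g * w * g⁻¹) * g := by group
    rw [h2, h]
    group
  have hcomm : g * a * g⁻¹ * (g * w * g⁻¹) = g * w * g⁻¹ * (g * a * g⁻¹) := by
    calc g * a * g⁻¹ * (g * w * g⁻¹) = g * (a * w) * g⁻¹ := by group
      _ = g * (w * a) * g⁻¹ := by rw [haw]
      _ = g * w * g⁻¹ * (g * a * g⁻¹) := by group
  have ha'H : g * a * g⁻¹ ∈ H := by
    apply c.hC (g * w * g⁻¹) hg hw'1
    rw [Subgroup.mem_centralizer_singleton_iff]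
    exact hcomm
  have ha'3 : (g * a * g⁻¹) ^ 3 = 1 := by
    rw [conj_pow, ha3]
    group
  have ha'1 : g * a * g⁻¹ ≠ 1 := by
    intro h
    apply ha1
    have h2 : a = g⁻¹ * (g * a * g⁻¹) * g := by group
    rw [h2, h]
    group
  have ha'J : g * a * g⁻¹ ∈ J := by
    by_contra hn
    apply hnu
    have h1 : IsConj (g * w * g⁻¹) u3 :=
      hout (g * a * g⁻¹) ha'H hn ha'3 (g * w * g⁻¹) hg hw'1 hcomm
    have h2 : IsConj w (g * w * g⁻¹) := isConj_iff.mpr ⟨g, rfl⟩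
    exact h2.trans h1
  have hcommz : g * z * g⁻¹ * (g * a * g⁻¹) = g * a * g⁻¹ * (g * z * g⁻¹) := by
    calc g * z * g⁻¹ * (g * a * g⁻¹) = g * (z * a) * g⁻¹ := by group
      _ = g * (a * z) * g⁻¹ := by rw [haz]
      _ = g * a * g⁻¹ * (g * z * g⁻¹) := by group
  have hz'H : g * z * g⁻¹ ∈ H := by
    apply c.hC (g * a * g⁻¹) ha'J ha'1
    rw [Subgroup.mem_centralizer_singleton_iff]
    exact hcommz
  have hz'J : g * z * g⁻¹ ∈ J := c.hsc z hz g hz'H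
  have hgH : g ∈ H := hfus z hz hz1 g hz'J
  have h3 : a = g⁻¹ * (g * a * g⁻¹) * g⁻¹⁻¹ := by group
  rw [h3]
  exact hnorm g⁻¹ (H.inv_mem hgH) (g * a * g⁻¹) ha'J

/-- conjugates of elements of `J` have cube `1` -/
theorem tri_cube_of (hexp : ∀ x ∈ J, x ^ 3 = 1) {w : G} (hw : ∃ g : G, g * w * g⁻¹ ∈ J) : w ^ 3 = 1 := by
  obtain ⟨g, hg⟩ := hw
  have h1 := hexp _ hg
  rw [conj_pow] at h1
  have h2 : w ^ 3 = g⁻¹ * (g * w ^ 3 * g⁻¹) * g := by group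
  rw [h2, h1]
  group

/-- the mixed Higman lemma, with the other pieces as hypotheses -/
theorem tri_of (c : Cfg H J) (u3 : G)
    (hexp : ∀ x ∈ J, x ^ 3 = 1)
    (hnorm : ∀ h ∈ H, ∀ x ∈ J, h * x * h⁻¹ ∈ J)
    (hfus : ∀ x ∈ J, x ≠ 1 → ∀ g : G, g * x * g⁻¹ ∈ J → g ∈ H)
    (hout : ∀ h ∈ H, h ∉ J → h ^ 3 = 1 → ∀ x ∈ J, x ≠ 1 → h * x = x * h → IsConj x u3)
    {x y z : G} (hx : ∃ g : G, g * x * g⁻¹ ∈ J) (hx1 : x ≠ 1)
    (hy : ∃ g : G, g * y * g⁻¹ ∈ J) (hy1 : y ≠ 1) (hxy : ¬ IsConj x y)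
    (hz : z ∈ J) (hz1 : z ≠ 1) (h : x * y = z) : x ∈ J ∧ y ∈ J := by
  have hx3 : x ^ 3 = 1 := tri_cube_of hexp hx
  have hy3 : y ^ 3 = 1 := tri_cube_of hexp hy
  have hz3 : (x * y) ^ 3 = 1 := by
    rw [h]
    exact hexp z hz
  obtain ⟨a, ha1, ha3, hax, hay⟩ := exists_central_of_not_isConj hx3 hy3 hz3 hxy
  have haz : a * z = z * a := by
    rw [← h, ← mul_assoc, hax, mul_assoc, hay, mul_assoc]
  have key : a ∈ J := by
    by_cases hxu : IsConj x u3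
    · have hyu : ¬ IsConj y u3 := fun hyu => hxy (hxu.trans hyu.symm)
      exact tri_aux_of c u3 hnorm hfus hout ha1 ha3 hz hz1 haz hy hy1 hay hyu
    · exact tri_aux_of c u3 hnorm hfus hout ha1 ha3 hz hz1 haz hx hx1 hax hxu
  have hmem : ∀ w : G, (∃ g : G, g * w * g⁻¹ ∈ J) → a * w = w * a → w ∈ J := by
    rintro w ⟨g, hg⟩ haw
    have hwH : w ∈ H := by
      apply c.hC a key ha1
      rw [Subgroup.mem_centralizer_singleton_iff]
      exact haw.symm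
    have h2 : w = g⁻¹ * (g * w * g⁻¹) * g⁻¹⁻¹ := by group
    rw [h2]
    apply c.hsc _ hg g⁻¹
    rw [← h2]
    exact hwH
  exact ⟨hmem x hx hax, hmem y hy hay⟩

end Grp

end Cfsg.Agent.Helper21.N9
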