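import Mathlib
import Cfsg.Agent.Lib.Helper21.N9KDefs
import Cfsg.Agent.Lib.Helper16.TC648Index
import Cfsg.Agent.Lib.Helper14.N9TRICore
import Cfsg.Agent.Lib.Helper17.N9FUS

/-!
# S3702 GROUP piece TI (helper14): `A = {x ∈ H : ⟨x⟩ ∩ J ≠ 1}` is a TI-set with normalizer `H`.
-/

set_option autoImplicit false
set_option linter.unusedSectionVars false
set_option linter.unusedVariables false

namespace Cfsg.Agent.Helper21.N9

open Cfsg Cfsg.Agent.Helper16

universe u

section Grp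

variable {G : Type u} [Group G] [Finite G] {H J : Subgroup G}

/-- PIECE S3702-GR-TI: `A` is a TI-set with normalizer `H`
(`(g x g⁻¹)^k = g x^k g⁻¹ ∈ H`, so `∈ J` by strong closure `c.hsc`, then `fusion`) -/
theorem ti (c : Cfg H J) {x : G} (hx : x ∈ H) (k : ℕ) (hk : x ^ k ∈ J) (hk1 : x ^ k ≠ 1) {g : G}
    (hg : g * x * g⁻¹ ∈ H) : g ∈ H :=
  ti_of_fusion c (fusion c) hx k hk hk1 hg

end Grp

end Cfsg.Agent.Helper21.N9
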