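import Mathlib
import Cfsg.Agent.Lib.Helper21.N9KDefs
import Cfsg.Agent.Lib.Helper16.TC648Index
import Cfsg.Agent.Lib.Helper14.N9TRICore
import Cfsg.Agent.Lib.Helper17.N9FUS
import Cfsg.Agent.Lib.Helper22.N9TRAJ
import Cfsg.Agent.Lib.Helper3.N9OUT

/-!
# S3702 GROUP piece TRI (helper14): the mixed Higman lemma.

If `x`, `y` are non-conjugate nontrivial elements, both conjugate into `J`, with `x y = z ∈ J ∖ 1`, then `x, y ∈ J`.
Uses TRI0 (generic Higman core), `J_exp`, `J_normal` (TRA), `fusion` (FUS), `cent_outside` (OUT); the proof is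
`tri_of` in `N9TRICore.lean`.
-/

set_option autoImplicit false
set_option linter.unusedSectionVars false
set_option linter.unusedVariables false

namespace Cfsg.Agent.Helper21.N9

open Cfsg Cfsg.Agent.Helper16

universe u

section Grp

variable {G : Type u} [Group G] [Finite G] {H J : Subgroup G}

/-- PIECE S3702-GR-TRI (mixed Higman lemma). -/
theorem tri (c : Cfg H J) {x y z : G} (hx : ∃ g : G, g * x * g⁻¹ ∈ J) (hx1 : x ≠ 1)
    (hy : ∃ g : G, g * y * g⁻¹ ∈ J) (hy1 : y ≠ 1) (hxy : ¬ IsConj x y)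
    (hz : z ∈ J) (hz1 : z ≠ 1) (h : x * y = z) : x ∈ J ∧ y ∈ J :=
  tri_of c (c.ι (CK.z 2)) (J_exp c) (J_normal c) (fusion c) (cent_outside c) hx hx1 hy hy1 hxy hz hz1 h

end Grp

end Cfsg.Agent.Helper21.N9
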