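import Mathlib
import Cfsg.Agent.Lib.Helper26.NSEDefs

/-!
# S3431 piece FULLP (helper14): a normal subgroup of index prime to `p` contains all elements of
order `p`.
-/

set_option autoImplicit false

namespace Cfsg.Agent.Helper26.NSE

open Cfsg.Agent.Helper20

namespace FULLP

variable {G : Type*} [Group G]

theorem mem_of_orderOf (N : Subgroup G) [N.Normal] (p : ℕ) (hp : p.Prime)
    (hpi : ¬ p ∣ N.index) (g : G) (hg : orderOf g = p) : g ∈ N := by
  have hcop : Nat.Coprime p N.index := (Nat.Prime.coprime_iff_not_dvd hp).2 hpi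
  have h1 : g ^ N.index ∈ N := Subgroup.pow_index_mem N g
  have h2 : g ^ p = 1 := hg ▸ pow_orderOf_eq_one g
  have hb := Nat.gcd_eq_gcd_ab p N.index
  rw [hcop.gcd_eq_one] at hb
  have hg' : g = (g ^ p) ^ (Nat.gcdA p N.index) * (g ^ N.index) ^ (Nat.gcdB p N.index) := by
    rw [← zpow_natCast g p, ← zpow_natCast g N.index, ← zpow_mul, ← zpow_mul, ← zpow_add, ← hb]
    simp
  rw [hg', h2, one_zpow, one_mul]
  exact N.zpow_mem h1 _

theorem ordCnt_eq_ncard (m : ℕ) : ordCnt G m = Set.ncard {g : G | orderOf g = m} := by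
  rw [ordCnt_def]
  exact Nat.card_coe_set_eq {g : G | orderOf g = m}

end FULLP

variable {G : Type*} [Group G] [Finite G]

/-- PIECE FULLP: a normal subgroup of index prime to `p` and `q` contains all elements of orders
`p` and `q` (their images in `G ⧸ N` are trivial). -/
theorem card_ge_of_full (N : Subgroup G) [N.Normal] (p q : ℕ) (hp : p.Prime) (hq : q.Prime)
    (hpq : p ≠ q) (hpi : ¬ p ∣ N.index) (hqi : ¬ q ∣ N.index) :
    1 + ordCnt G p + ordCnt G q ≤ Nat.card N := by
  rw [FULLP.ordCnt_eq_ncard, FULLP.ordCnt_eq_ncard]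
  have hN : Nat.card N = Set.ncard (N : Set G) := Nat.card_coe_set_eq (N : Set G)
  rw [hN]
  have hd1 : Disjoint ({1} : Set G) {g : G | orderOf g = p} := by
    rw [Set.disjoint_left]
    intro g hg1 hg2
    rw [Set.mem_singleton_iff] at hg1
    subst hg1
    rw [Set.mem_setOf_eq, orderOf_one] at hg2
    exact hp.one_lt.ne hg2
  have hd2 : Disjoint (({1} : Set G) ∪ {g : G | orderOf g = p}) {g : G | orderOf g = q} := by
    rw [Set.disjoint_left]
    rintro g (hg1 | hg1) hg2
    · rw [Set.mem_singleton_iff] at hg1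
      subst hg1
      rw [Set.mem_setOf_eq, orderOf_one] at hg2
      exact hq.one_lt.ne hg2
    · rw [Set.mem_setOf_eq] at hg1 hg2
      exact hpq (hg1.symm.trans hg2)
  have hu : (({1} : Set G) ∪ {g : G | orderOf g = p} ∪ {g : G | orderOf g = q}).ncard
      = 1 + Set.ncard {g : G | orderOf g = p} + Set.ncard {g : G | orderOf g = q} := by
    rw [Set.ncard_union_eq hd2 (Set.toFinite _) (Set.toFinite _),
      Set.ncard_union_eq hd1 (Set.toFinite _) (Set.toFinite _), Set.ncard_singleton]
  rw [← hu]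
  apply Set.ncard_le_ncard _ (Set.toFinite _)
  rintro g ((hg | hg) | hg)
  · rw [Set.mem_singleton_iff] at hg
    subst hg
    exact N.one_mem
  · exact FULLP.mem_of_orderOf N p hp hpi g hg
  · exact FULLP.mem_of_orderOf N q hq hqi g hg

/-- PIECE FULLP (2). -/
theorem card_ge_of_full_one (N : Subgroup G) [N.Normal] (p : ℕ) (hp : p.Prime)
    (hpi : ¬ p ∣ N.index) : 1 + ordCnt G p ≤ Nat.card N := by
  rw [FULLP.ordCnt_eq_ncard]
  have hN : Nat.card N = Set.ncard (N : Set G) := Nat.card_coe_set_eq (N : Set G)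
  rw [hN]
  have hd1 : Disjoint ({1} : Set G) {g : G | orderOf g = p} := by
    rw [Set.disjoint_left]
    intro g hg1 hg2
    rw [Set.mem_singleton_iff] at hg1
    subst hg1
    rw [Set.mem_setOf_eq, orderOf_one] at hg2
    exact hp.one_lt.ne hg2
  have hu : (({1} : Set G) ∪ {g : G | orderOf g = p}).ncard
      = 1 + Set.ncard {g : G | orderOf g = p} := by
    rw [Set.ncard_union_eq hd1 (Set.toFinite _) (Set.toFinite _), Set.ncard_singleton]
  rw [← hu]
  apply Set.ncard_le_ncard _ (Set.toFinite _)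
  rintro g (hg | hg)
  · rw [Set.mem_singleton_iff] at hg
    subst hg
    exact N.one_mem
  · exact FULLP.mem_of_orderOf N p hp hpi g hg

end Cfsg.Agent.Helper26.NSE
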