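import Mathlib
import Cfsg.Agent.Lib.Helper26.NSEDefs

/-!
# S3431 piece NOR (helper14): a nontrivial normal `p'`-subgroup (Frattini + fixed points).
-/

set_option autoImplicit false

namespace Cfsg.Agent.Helper26.NSE

open Cfsg.Agent.Helper20

namespace NOR

variable {G : Type*} [Group G]

/-- conjugation action of a subgroup `K ≤ N_G(R)` on `R` -/
def conjAct (R K : Subgroup G) (hK : K ≤ Subgroup.normalizer (R : Set G)) : MulAction K R where
  smul k y := ⟨(k : G) * y * (k : G)⁻¹, (Subgroup.mem_normalizer_iff.1 (hK k.2) y).1 y.2⟩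
  one_smul y := Subtype.ext (by
    show ((1 : K) : G) * y * ((1 : K) : G)⁻¹ = y
    simp)
  mul_smul k l y := Subtype.ext (by
    show ((k * l : K) : G) * y * ((k * l : K) : G)⁻¹ = (k : G) * ((l : G) * y * (l : G)⁻¹) * (k : G)⁻¹
    simp [mul_assoc])

/-- an element `x` of prime order `p` normalizing a finite subgroup `R` with `|R| ≢ 1 (mod p)`
centralizes a nontrivial element of `R` -/
theorem exists_fixed (p : ℕ) [Fact p.Prime] (R : Subgroup G) [Finite R] (x : G)
    (hx : x ∈ Subgroup.normalizer (R : Set G)) (hxp : orderOf x = p) (hmod : Nat.card R % p ≠ 1) :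
    ∃ y ∈ R, y ≠ 1 ∧ x * y = y * x := by
  have hp : p.Prime := Fact.out
  by_contra hcon
  push Not at hcon
  have hK : Subgroup.zpowers x ≤ Subgroup.normalizer (R : Set G) := (Subgroup.zpowers_le).2 hx
  have hPK : IsPGroup p (Subgroup.zpowers x) := by
    apply IsPGroup.of_card (n := 1)
    rw [Nat.card_zpowers, hxp, pow_one]
  letI := conjAct R (Subgroup.zpowers x) hK
  have hmodeq := hPK.card_modEq_card_fixedPoints R
  have hfix : (MulAction.fixedPoints (Subgroup.zpowers x) R) = {1} := by
    ext y
    constructor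
    · intro hy
      have h1 := hy ⟨x, Subgroup.mem_zpowers x⟩
      have h2 : x * (y : G) * x⁻¹ = y := congrArg Subtype.val h1
      have h3 : x * y = y * x := by
        have : x * (y : G) = x * (y : G) * x⁻¹ * x := by group
        rw [this, h2]
      by_contra hy1
      rw [Set.mem_singleton_iff] at hy1
      exact hcon y y.2 (fun h => hy1 (Subtype.ext h)) h3
    · intro hy k
      rw [Set.mem_singleton_iff] at hy
      subst hy
      exact Subtype.ext (by
        show (k : G) * ((1 : R) : G) * (k : G)⁻¹ = ((1 : R) : G)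
        simp)
  rw [hfix] at hmodeq
  have h1 : Nat.card ({1} : Set R) = 1 := by
    rw [Nat.card_coe_set_eq, Set.ncard_singleton]
  rw [h1] at hmodeq
  apply hmod
  rw [hmodeq]
  exact Nat.mod_eq_of_lt hp.one_lt

end NOR

variable {G : Type*} [Group G] [Finite G]

/-- PIECE NOR: a nontrivial normal `p'`-subgroup `N` (Frattini: some `x` of order `p` normalizes
a Sylow `r`-subgroup `R` of `N`; if `|R| ≢ 1 (mod p)` then `x` centralizes some `1 ≠ y ∈ R`, and
a power of `x * y` has order `p * r`). -/
theorem exists_prime_pow_of_normal (p : ℕ) [Fact p.Prime] (N : Subgroup G) [N.Normal]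
    (hN : N ≠ ⊥) (hpG : p ∣ Nat.card G) (hpN : ¬ p ∣ Nat.card N) :
    ∃ r k : ℕ, r.Prime ∧ r ≠ p ∧ 0 < k ∧ r ^ k ∣ Nat.card N ∧
      (r ^ k % p = 1 ∨ ordCnt G (p * r) ≠ 0) := by
  have hp : p.Prime := Fact.out
  have hcardN : Nat.card N ≠ 1 := fun h => hN (Subgroup.card_eq_one.1 h)
  obtain ⟨r, hr, hrN⟩ := Nat.exists_prime_and_dvd hcardN
  have : Fact r.Prime := ⟨hr⟩
  have hrp : r ≠ p := by
    rintro rfl
    exact hpN hrN
  have hkpos : 0 < (Nat.card N).factorization r :=
    hr.factorization_pos_of_dvd Nat.card_pos.ne' hrN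
  have R : Sylow r N := default
  have hRcard : Nat.card R = r ^ (Nat.card N).factorization r := Sylow.card_eq_multiplicity R
  refine ⟨r, (Nat.card N).factorization r, hr, hrp, hkpos, Nat.ordProj_dvd _ _, ?_⟩
  by_cases hmod : r ^ (Nat.card N).factorization r % p = 1
  · left; exact hmod
  · right
    have hR'card : Nat.card ((R : Subgroup N).map N.subtype) = r ^ (Nat.card N).factorization r := by
      rw [Subgroup.card_map_of_injective N.subtype_injective]
      exact hRcard
    have hfrat : Subgroup.normalizer (((R : Subgroup N).map N.subtype : Subgroup G) : Set G) ⊔ N = ⊤ :=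
      Sylow.normalizer_sup_eq_top R
    have hpnorm : p ∣ Nat.card (Subgroup.normalizer (((R : Subgroup N).map N.subtype : Subgroup G) : Set G)) := by
      have h1 : N.relIndex (Subgroup.normalizer (((R : Subgroup N).map N.subtype : Subgroup G) : Set G) ⊔ N)
          = N.relIndex (Subgroup.normalizer (((R : Subgroup N).map N.subtype : Subgroup G) : Set G)) := Subgroup.relIndex_sup_right _ _
      rw [hfrat, Subgroup.relIndex_top_right] at h1
      have h2 : Nat.card N * N.index = Nat.card G := Subgroup.card_mul_index N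
      have h3 : p ∣ N.index := by
        rw [← h2] at hpG
        exact (hp.dvd_mul.1 hpG).resolve_left hpN
      rw [h1] at h3
      exact dvd_trans h3 (Subgroup.relIndex_dvd_card _ _)
    obtain ⟨x, hx⟩ := exists_prime_orderOf_dvd_card' p hpnorm
    have hxp : orderOf (x : G) = p := by
      rw [Subgroup.orderOf_coe]; exact hx
    obtain ⟨y, hyR, hy1, hxy⟩ := NOR.exists_fixed p ((R : Subgroup N).map N.subtype) x x.2 hxp
      (by rw [hR'card]; exact hmod)
    have hRp : IsPGroup r ((R : Subgroup N).map N.subtype) := IsPGroup.of_card hR'card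
    obtain ⟨j, hj⟩ := (IsPGroup.iff_orderOf.1 hRp) ⟨y, hyR⟩
    rw [Subgroup.orderOf_mk] at hj
    have hj0 : j ≠ 0 := by
      rintro rfl
      rw [pow_zero, orderOf_eq_one_iff] at hj
      exact hy1 hj
    have hy'ord : orderOf (y ^ r ^ (j - 1)) = r := by
      rw [orderOf_pow_of_dvd (pow_ne_zero _ hr.ne_zero) (by rw [hj]; exact pow_dvd_pow r (by omega)),
        hj]
      have : r ^ j = r ^ (j - 1) * r := by
        rw [← pow_succ]; congr 1; omega
      rw [this, Nat.mul_div_cancel_left _ (pow_pos hr.pos _)]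
    have hcomm : Commute (x : G) (y ^ r ^ (j - 1)) := Commute.pow_right hxy _
    have hord : orderOf ((x : G) * y ^ r ^ (j - 1)) = p * r := by
      rw [hcomm.orderOf_mul_eq_mul_orderOf_of_coprime (by
        rw [hxp, hy'ord]; exact (Nat.coprime_primes hp hr).2 hrp.symm), hxp, hy'ord]
    exact ((ordCnt_pos_iff (G := G) (p * r)).2 ⟨_, hord⟩).ne'

end Cfsg.Agent.Helper26.NSE
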