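import Mathlib
import Cfsg.Agent.Lib.Helper3.SmallOrd
import Cfsg.Agent.Lib.Lead.PermTools
import Cfsg.Agent.Lib.Helper27.SylowSieve
import Cfsg.Agent.Lib.Helper5.BRP0
import Cfsg.Agent.Lib.Helper5.DetChar
import Cfsg.Agent.Lib.Helper24.DetTrace
import Cfsg.Agent.Lib.Helper17.BTRED
import Cfsg.Agent.Lib.Helper10.BrSieve
import Cfsg.Agent.Lib.Helper24.GlaubPGroup
import Cfsg.Agent.Lib.Helper23.BlockDefect
import Cfsg.Agent.Lib.Helper5.PrimeTIg
import Cfsg.Agent.S4441
import Cfsg.Agent.S0073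

/-!
# Order 5040, case B3, step (ii)  (piece `S0978-B3SIX`)

Brauer's theorem on blocks of defect one (`S4441`) at the prime `5` forces an irreducible
character of degree `6` in a simple group of order `5040` all of whose irreducible degrees are
`0, 1, 6` modulo `7`.
-/

set_option autoImplicit false
open Cfsg

namespace Cfsg.Agent.Helper28.Ord5040

namespace B3SIX

/-- The list of admissible degrees. -/
def InL (d : ℕ) : Prop :=
  d = 1 ∨ d = 6 ∨ d = 7 ∨ d = 8 ∨ d = 14 ∨ d = 15 ∨ d = 20 ∨ d = 21 ∨ d = 28 ∨ d = 35 ∨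
    d = 36 ∨ d = 42 ∨ d = 48 ∨ d = 56 ∨ d = 63 ∨ d = 70

theorem deg_list (d : ℕ) (hd : d ∣ 5040) (hsq : d ^ 2 ≤ 5040)
    (h7 : d % 7 = 0 ∨ d % 7 = 1 ∨ d % 7 = 6) : InL d := by
  have hle : d < 71 := by nlinarith
  unfold InL
  interval_cases d <;> omega

/-- A signed degree `ε d` with `d ≡ ε (mod 5)`, `d` admissible and `≠ 6`, is `0` or `1` modulo `7`;
it is `1` when `d = 1`. -/
theorem signed_mod_seven (d : ℕ) (ε : ℤ) (hd : InL d) (hd6 : d ≠ 6) (hε : ε = 1 ∨ ε = -1)
    (hmod : (d : ℤ) ≡ ε [ZMOD 5]) :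
    ((ε * (d : ℤ)) % 7 = 0 ∨ (ε * (d : ℤ)) % 7 = 1) ∧ (d = 1 → (ε * (d : ℤ)) % 7 = 1) := by
  unfold Int.ModEq at hmod
  unfold InL at hd
  rcases hε with rfl | rfl <;>
    rcases hd with rfl | rfl | rfl | rfl | rfl | rfl | rfl | rfl | rfl | rfl | rfl | rfl | rfl |
      rfl | rfl | rfl <;> omega

/-- The arithmetic of the case `e = 2`. -/
theorem arith_two (a b : ℕ) (ε ε' : ℤ) (ha : InL a) (ha1 : a ≠ 1) (ha6 : a ≠ 6) (hb : InL b)
    (hb6 : b ≠ 6) (hε : ε = 1 ∨ ε = -1) (hε' : ε' = 1 ∨ ε' = -1)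
    (hmoda : (a : ℤ) ≡ ε' [ZMOD 5]) (hmodb : (b : ℤ) ≡ ε * 2 [ZMOD 5])
    (hrel : ε * (b : ℤ) = 1 + ε' * (a : ℤ)) : False := by
  unfold Int.ModEq at hmoda hmodb
  unfold InL at ha hb
  rcases hε with rfl | rfl <;> rcases hε' with rfl | rfl <;>
    rcases ha with rfl | rfl | rfl | rfl | rfl | rfl | rfl | rfl | rfl | rfl | rfl | rfl | rfl |
      rfl | rfl | rfl <;> omega

/-- A sum of integers each `0` or `1` modulo `7` is congruent to the number of the latter. -/
theorem sum_mod_seven {ι : Type*} [DecidableEq ι] (s : Finset ι) (f : ι → ℤ)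
    (hf : ∀ i ∈ s, f i % 7 = 0 ∨ f i % 7 = 1) :
    (∑ i ∈ s, f i) % 7 = (((s.filter (fun i => f i % 7 = 1)).card : ℕ) : ℤ) % 7 := by
  rw [Finset.sum_int_mod]
  congr 1
  rw [Finset.card_filter]
  push_cast
  refine Finset.sum_congr rfl fun i hi => ?_
  rcases hf i hi with h0 | h1
  · rw [h0, if_neg (by omega)]
  · rw [h1, if_pos rfl]

end B3SIX

variable {G : Type*} [Group G] [Finite G] [IsSimpleGroup G]

/-- B3, step (ii): Brauer at `p = 5` forces a character of degree 6. -/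
theorem b3_exists_six (h : Nat.card G = 5040) (hG : ∃ x y : G, x * y ≠ y * x)
    (hdeg : ∀ χ : IrrCharacter G, charDegree (χ : G → ℂ) % 7 = 0 ∨
      charDegree (χ : G → ℂ) % 7 = 1 ∨ charDegree (χ : G → ℂ) % 7 = 6) :
    ∃ χ : IrrCharacter G, charDegree (χ : G → ℂ) = 6 := by
  classical
  by_contra hno
  push Not at hno
  haveI : Fintype G := Fintype.ofFinite G
  haveI : Fintype (IrrCharacter G) := Cfsg.Agent.Helper24.irrFintype
  -- admissible degrees
  have hL : ∀ χ : IrrCharacter G, B3SIX.InL (charDegree (χ : G → ℂ)) := by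
    intro χ
    have hd := Cfsg.Agent.Helper24.charDegree_dvd_card χ.2
    rw [h] at hd
    have hsq : charDegree (χ : G → ℂ) ^ 2 ≤ 5040 := by
      have hs := Cfsg.Agent.Helper24.sum_charDegree_sq (G := G)
      rw [h] at hs
      rw [← hs]
      exact Finset.single_le_sum (f := fun χ : IrrCharacter G => charDegree (χ : G → ℂ) ^ 2)
        (fun _ _ => Nat.zero_le _) (Finset.mem_univ χ)
    exact B3SIX.deg_list _ hd hsq (hdeg χ)
  -- linear characters are principal
  have hperf : commutator G = ⊤ := Cfsg.Agent.Helper10.BrSieve.perfect_of_simple hG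
  have hlin : ∀ χ : IrrCharacter G, charDegree (χ : G → ℂ) = 1 →
      χ = Cfsg.Agent.Helper24.principalChar G := by
    intro χ h1
    apply Subtype.ext
    exact Cfsg.Agent.Helper5.PrimeTI.linear_trivial hperf χ.2 h1
  have hd1 : charDegree ((Cfsg.Agent.Helper24.principalChar G : IrrCharacter G) : G → ℂ) = 1 :=
    Cfsg.Agent.Helper5.PrimeTI.charDegree_one
  -- Sylow 5
  haveI : Fact (Nat.Prime 5) := ⟨by norm_num⟩
  obtain ⟨P⟩ : Nonempty (Sylow 5 G) := inferInstance
  have hP : Nat.card P = 5 :=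
    Cfsg.Agent.Helper21.BT.RED.card_sylow 5 (by rw [h]; norm_num) (by rw [h]; norm_num) P
  have hdvd := Cfsg.Agent.Helper5.TL.relIndex_dvd 5 P hP
  set e := (Subgroup.centralizer ((P : Subgroup G) : Set G)).relIndex
    (Subgroup.normalizer ((P : Subgroup G) : Set G)) with he
  have he1 : e ≠ 1 := by
    intro h1
    rw [he, Subgroup.relIndex_eq_one] at h1
    exact Cfsg.Agent.S0073.not_normalizer_le_centralizer hG P (by rw [h]; norm_num) h1
  have he24 : e = 2 ∨ e = 4 := by
    have hle : e ≤ 4 := Nat.le_of_dvd (by norm_num) hdvd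
    have h3 : e ≠ 3 := by
      intro h3
      rw [h3] at hdvd
      norm_num at hdvd
    have h0 : e ≠ 0 := by
      intro h0
      rw [h0] at hdvd
      norm_num at hdvd
    omega
  -- Brauer
  obtain ⟨M, hM⟩ := Cfsg.Agent.Helper24.Glaub.exists_isPModular (p := 5) (by norm_num)
  haveI : M.IsPrime := hM.2.1.isPrime
  obtain ⟨X, Y, hB, hXY, hcX, hcY, εX, ε, hX, hε, hY, -, hrel⟩ :=
    Cfsg.Agent.S4441.result 5 M hM (by norm_num) P hP e he.symm
  have hprin : Cfsg.Agent.Helper24.principalChar G ∈ X ∪ Y := by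
    rw [← hB]
    exact Cfsg.Agent.Helper23.Blk.principalChar_mem_principalBlock
  have hord1 : ¬ 5 ∣ orderOf (1 : G) := by
    rw [orderOf_one]
    norm_num
  -- the relation at the identity, in `ℤ`
  have hXfin : X.Finite := Set.toFinite X
  have hrelZ : ∀ θ ∈ Y, ε * (charDegree (θ : G → ℂ) : ℤ) =
      ∑ χ ∈ hXfin.toFinset, εX χ * (charDegree (χ : G → ℂ) : ℤ) := by
    intro θ hθ
    have h1 := hrel θ hθ 1 hord1
    rw [finsum_mem_eq_finite_toFinset_sum _ hXfin] at h1
    rw [Cfsg.Agent.Helper24.irr_one_eq_charDegree θ.2] at h1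
    have h2 : ∑ χ ∈ hXfin.toFinset, (εX χ : ℂ) * (χ : G → ℂ) 1 =
        ∑ χ ∈ hXfin.toFinset, (εX χ : ℂ) * ((charDegree (χ : G → ℂ) : ℕ) : ℂ) :=
      Finset.sum_congr rfl fun χ _ => by rw [Cfsg.Agent.Helper24.irr_one_eq_charDegree χ.2]
    rw [h2] at h1
    exact_mod_cast h1
  have hXcard : hXfin.toFinset.card = e := by
    rw [← Set.ncard_eq_toFinset_card X hXfin, ← Nat.card_coe_set_eq]
    exact hcX
  -- data of the members of `X`
  have hXdata : ∀ χ ∈ X, (εX χ = 1 ∨ εX χ = -1) ∧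
      (charDegree (χ : G → ℂ) : ℤ) ≡ εX χ [ZMOD 5] := fun χ hχ =>
    ⟨(hX χ hχ).1, (hX χ hχ).2.1⟩
  have hYne : Y.Nonempty := by
    rw [← Set.nonempty_coe_sort]
    apply (Nat.card_pos_iff.1 _).1
    rw [hcY]
    rcases he24 with h2 | h4
    · rw [h2]
      norm_num
    · rw [h4]
      norm_num
  obtain ⟨θ, hθ⟩ := hYne
  have hθmod := hY θ hθ
  have hθrel := hrelZ θ hθ
  rcases he24 with h2 | h4
  · -- `e = 2`
    have hpX : Cfsg.Agent.Helper24.principalChar G ∈ X := by
      rcases hprin with hpX | hpY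
      · exact hpX
      · exfalso
        have hm := hY _ hpY
        rw [hd1, h2] at hm
        unfold Int.ModEq at hm
        rcases hε with rfl | rfl <;> omega
    have hpXf : Cfsg.Agent.Helper24.principalChar G ∈ hXfin.toFinset :=
      (Set.Finite.mem_toFinset hXfin).2 hpX
    have hcard1 : (hXfin.toFinset.erase (Cfsg.Agent.Helper24.principalChar G)).card = 1 := by
      rw [Finset.card_erase_of_mem hpXf, hXcard, h2]
    obtain ⟨χ', hχ'⟩ := Finset.card_eq_one.1 hcard1
    have hχ'mem : χ' ∈ hXfin.toFinset.erase (Cfsg.Agent.Helper24.principalChar G) := by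
      rw [hχ']
      exact Finset.mem_singleton_self χ'
    have hχ'ne : χ' ≠ Cfsg.Agent.Helper24.principalChar G := (Finset.mem_erase.1 hχ'mem).1
    have hχ'X : χ' ∈ X := (Set.Finite.mem_toFinset hXfin).1 (Finset.mem_erase.1 hχ'mem).2
    rw [← Finset.add_sum_erase _ _ hpXf, hχ', Finset.sum_singleton, hd1] at hθrel
    have hε1 : εX (Cfsg.Agent.Helper24.principalChar G) = 1 := by
      have hm := (hXdata _ hpX).2
      rw [hd1] at hm
      unfold Int.ModEq at hm
      rcases (hXdata _ hpX).1 with h1 | h1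
      · exact h1
      · rw [h1] at hm
        omega
    rw [hε1] at hθrel
    rw [h2] at hθmod
    refine B3SIX.arith_two (charDegree (χ' : G → ℂ)) (charDegree (θ : G → ℂ)) ε (εX χ')
      (hL χ') (fun h1 => hχ'ne (hlin χ' h1)) (hno χ') (hL θ) (hno θ) hε (hXdata χ' hχ'X).1
      (hXdata χ' hχ'X).2 hθmod ?_
    rw [hθrel]
    push_cast
    ring
  · -- `e = 4`
    rw [h4] at hθmod
    -- the signed terms
    have hterm : ∀ χ ∈ hXfin.toFinset,
        (εX χ * (charDegree (χ : G → ℂ) : ℤ)) % 7 = 0 ∨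
          (εX χ * (charDegree (χ : G → ℂ) : ℤ)) % 7 = 1 := fun χ hχ =>
      (B3SIX.signed_mod_seven _ _ (hL χ) (hno χ)
        (hXdata χ ((Set.Finite.mem_toFinset hXfin).1 hχ)).1
        (hXdata χ ((Set.Finite.mem_toFinset hXfin).1 hχ)).2).1
    have hsum := B3SIX.sum_mod_seven hXfin.toFinset
      (fun χ => εX χ * (charDegree (χ : G → ℂ) : ℤ)) hterm
    have hk : (hXfin.toFinset.filter
        (fun χ => (εX χ * (charDegree (χ : G → ℂ) : ℤ)) % 7 = 1)).card ≤ 4 := by
      calc _ ≤ hXfin.toFinset.card := Finset.card_filter_le _ _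
        _ = 4 := by rw [hXcard, h4]
    -- the term of `θ`
    have hθε : (-ε = 1 ∨ -ε = -1) := by
      rcases hε with rfl | rfl
      · right; rfl
      · left; rfl
    have hθmod' : (charDegree (θ : G → ℂ) : ℤ) ≡ -ε [ZMOD 5] := by
      unfold Int.ModEq at hθmod ⊢
      rcases hε with rfl | rfl <;> omega
    have hθterm := B3SIX.signed_mod_seven _ _ (hL θ) (hno θ) hθε hθmod'
    -- at least one term is `1` modulo `7`
    have hpos : 1 ≤ (hXfin.toFinset.filter
        (fun χ => (εX χ * (charDegree (χ : G → ℂ) : ℤ)) % 7 = 1)).card ∨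
        (-ε * (charDegree (θ : G → ℂ) : ℤ)) % 7 = 1 := by
      rcases hprin with hpX | hpY
      · left
        apply Finset.card_pos.2
        refine ⟨Cfsg.Agent.Helper24.principalChar G, Finset.mem_filter.2
          ⟨(Set.Finite.mem_toFinset hXfin).2 hpX, ?_⟩⟩
        exact (B3SIX.signed_mod_seven _ _ (hL _) (hno _) (hXdata _ hpX).1 (hXdata _ hpX).2).2 hd1
      · right
        -- `Y` is a singleton
        have hY1 : Y.ncard = 1 := by
          rw [← Nat.card_coe_set_eq, hcY, h4]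
        obtain ⟨θ₀, hθ₀⟩ := Set.ncard_eq_one.1 hY1
        have e1 : θ = θ₀ := by
          rw [hθ₀] at hθ
          exact hθ
        have e2 : Cfsg.Agent.Helper24.principalChar G = θ₀ := by
          rw [hθ₀] at hpY
          exact hpY
        have e3 : θ = Cfsg.Agent.Helper24.principalChar G := by rw [e1, e2]
        apply hθterm.2
        rw [e3]
        exact hd1
    -- conclude
    have hzero : (∑ χ ∈ hXfin.toFinset, εX χ * (charDegree (χ : G → ℂ) : ℤ)) +
        (-ε * (charDegree (θ : G → ℂ) : ℤ)) = 0 := by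
      rw [← hθrel]
      ring
    have hzero7 : ((∑ χ ∈ hXfin.toFinset, εX χ * (charDegree (χ : G → ℂ) : ℤ)) +
        (-ε * (charDegree (θ : G → ℂ) : ℤ))) % 7 = 0 := by
      rw [hzero]
      rfl
    rw [Int.add_emod, hsum] at hzero7
    rcases hθterm.1 with h0 | h1
    · rcases hpos with hp | hp
      · rw [h0] at hzero7
        omega
      · omega
    · rw [h1] at hzero7
      omega

end Cfsg.Agent.Helper28.Ord5040
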