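import Mathlib
import Cfsg.Prelude.Def_Sporadic_a
import Cfsg.Agent.Lib.Helper27.P13Defs

/-!
# S2916 part (D), piece LABPTS (helper14): a quadrangle of an `S(2,4,13)` labels all 13 points.
-/

set_option autoImplicit false
set_option linter.unusedVariables false
set_option linter.unusedSectionVars false

namespace Cfsg.Agent.Helper27.P13

open Finset

/-- the pairs of vertices spanning the six sides -/
def labpts_pr : Fin 6 → Fin 4 × Fin 4 := ![(0, 1), (2, 3), (0, 2), (1, 3), (0, 3), (1, 2)]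

/-- index of the diagonal point on the side `k` -/
def labpts_dj : Fin 6 → Fin 3 := ![0, 0, 1, 1, 2, 2]

/-- first side through the diagonal point `j` -/
def labpts_k0 : Fin 3 → Fin 6 := ![0, 2, 4]

/-- second side through the diagonal point `j` -/
def labpts_k1 : Fin 3 → Fin 6 := ![1, 3, 5]

theorem labpts_pr_ne : ∀ k : Fin 6, (labpts_pr k).1 ≠ (labpts_pr k).2 := by decide

theorem labpts_pr_inj : ∀ k m : Fin 6,
    ((labpts_pr m).1 = (labpts_pr k).1 ∨ (labpts_pr m).1 = (labpts_pr k).2) →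
    ((labpts_pr m).2 = (labpts_pr k).1 ∨ (labpts_pr m).2 = (labpts_pr k).2) → k = m := by decide

theorem labpts_pr_disj : ∀ (j : Fin 3) (i : Fin 4),
    (i = (labpts_pr (labpts_k0 j)).1 ∨ i = (labpts_pr (labpts_k0 j)).2) →
    (i = (labpts_pr (labpts_k1 j)).1 ∨ i = (labpts_pr (labpts_k1 j)).2) → False := by decide

theorem labpts_k_ne : ∀ j : Fin 3, labpts_k0 j ≠ labpts_k1 j := by decide

theorem labpts_card_sideF : ∀ k : Fin 6, (sideF k).card = 4 := by decide

section Plane

variable {α : Type*} [Fintype α] [DecidableEq α]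

/-- the line through two distinct points -/
theorem labpts_line {L : Set (Finset α)} (hL : Cfsg.IsSteinerSystem 2 4 L) {a b : α} (hab : a ≠ b) :
    ∃ l, l ∈ L ∧ a ∈ l ∧ b ∈ l ∧ ∀ m ∈ L, a ∈ m → b ∈ m → m = l := by
  obtain ⟨l, ⟨hlL, hsub⟩, huniq⟩ := hL.2 {a, b} (Finset.card_pair hab)
  refine ⟨l, hlL, hsub (by simp), hsub (by simp), ?_⟩
  intro m hm ha hb
  apply huniq m ⟨hm, ?_⟩
  intro x hx
  simp only [Finset.mem_insert, Finset.mem_singleton] at hx
  rcases hx with rfl | rfl
  exacts [ha, hb]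

/-- the fourth point of a 4-set -/
theorem labpts_fourth {S : Finset α} (hS : S.card = 4) {a b d : α} (ha : a ∈ S) (hb : b ∈ S)
    (hd : d ∈ S) (hab : a ≠ b) (had : a ≠ d) (hbd : b ≠ d) : ∃ p, S = {a, b, d, p} := by
  have hT : ({a, b, d} : Finset α).card = 3 :=
    Finset.card_eq_three.mpr ⟨a, b, d, hab, had, hbd, rfl⟩
  have hsub : ({a, b, d} : Finset α) ⊆ S := by
    intro x hx
    simp only [Finset.mem_insert, Finset.mem_singleton] at hx
    rcases hx with rfl | rfl | rfl <;> assumption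
  have hdiff : (S \ {a, b, d}).card = 1 := by
    rw [Finset.card_sdiff_of_subset hsub, hS, hT]
  obtain ⟨p, hp⟩ := Finset.card_eq_one.mp hdiff
  refine ⟨p, ?_⟩
  have h1 : S = {a, b, d} ∪ (S \ {a, b, d}) := (Finset.union_sdiff_of_subset hsub).symm
  rw [hp] at h1
  rw [h1]
  ext x
  simp only [Finset.mem_union, Finset.mem_insert, Finset.mem_singleton]
  tauto

/-- PIECE LABPTS. -/
theorem exists_labelling {L : Set (Finset α)} (hL : Cfsg.IsSteinerSystem 2 4 L)
    (hα : Fintype.card α = 13) (q : Fin 4 → α) (hq : IsQuad L q)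
    (hinjs : ∀ (ψ : Fin 13 → α) (side : Fin 6 → Finset α),
      (∀ k : Fin 6, ∀ i ∈ sideF k, ψ i ∈ side k) →
      (∀ k : Fin 6, ∀ i ∈ sideF k, ∀ j ∈ sideF k, ψ i = ψ j → i = j) →
      (∀ k m : Fin 6, k ≠ m → (side k ∩ side m).card ≤ 1) → Function.Injective ψ)
    (hmeet : ∀ l ∈ L, ∀ m ∈ L, l ≠ m → (l ∩ m).card = 1) :
    ∃ ψ : Fin 13 → α, (∀ i : Fin 4, ψ (c4 i) = q i) ∧ Function.Injective ψ ∧
      ∀ k : Fin 6, (sideF k).image ψ ∈ L := by
  obtain ⟨hqinj, hq2⟩ := hq
  -- the six sides
  have hex : ∀ k : Fin 6, ∃ l, l ∈ L ∧ q (labpts_pr k).1 ∈ l ∧ q (labpts_pr k).2 ∈ l ∧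
      ∀ m ∈ L, q (labpts_pr k).1 ∈ m → q (labpts_pr k).2 ∈ m → m = l := fun k =>
    labpts_line hL (fun h => labpts_pr_ne k (hqinj h))
  choose side hsL hs1 hs2 hsu using hex
  -- a vertex on a side is one of its two spanning vertices
  have hA : ∀ k i, q i ∈ side k → i = (labpts_pr k).1 ∨ i = (labpts_pr k).2 := by
    intro k i hi
    by_contra hcon
    push_neg at hcon
    have h3 : ({(labpts_pr k).1, (labpts_pr k).2, i} : Finset (Fin 4)) ⊆
        Finset.univ.filter (fun i => q i ∈ side k) := by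
      intro x hx
      simp only [Finset.mem_insert, Finset.mem_singleton] at hx
      simp only [Finset.mem_filter, Finset.mem_univ, true_and]
      rcases hx with rfl | rfl | rfl
      exacts [hs1 k, hs2 k, hi]
    have hc : ({(labpts_pr k).1, (labpts_pr k).2, i} : Finset (Fin 4)).card = 3 :=
      Finset.card_eq_three.mpr
        ⟨_, _, _, labpts_pr_ne k, Ne.symm hcon.1, Ne.symm hcon.2, rfl⟩
    have h4 := Finset.card_le_card h3
    have h5 := hq2 (side k) (hsL k)
    omega
  -- the sides are pairwise distinct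
  have hne : ∀ k m, k ≠ m → side k ≠ side m := by
    intro k m hkm heq
    apply hkm
    apply labpts_pr_inj k m
    · exact hA k _ (heq ▸ hs1 m)
    · exact hA k _ (heq ▸ hs2 m)
  -- the diagonal points
  have hdex : ∀ j : Fin 3, ∃ x, x ∈ side (labpts_k0 j) ∧ x ∈ side (labpts_k1 j) := by
    intro j
    have h1 := hmeet _ (hsL (labpts_k0 j)) _ (hsL (labpts_k1 j)) (hne _ _ (labpts_k_ne j))
    obtain ⟨x, hx⟩ := Finset.card_eq_one.mp h1
    have h2 : x ∈ side (labpts_k0 j) ∩ side (labpts_k1 j) := by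
      rw [hx]
      exact Finset.mem_singleton_self x
    exact ⟨x, (Finset.mem_inter.mp h2).1, (Finset.mem_inter.mp h2).2⟩
  choose d hd0 hd1 using hdex
  have hdq : ∀ j i, d j ≠ q i := by
    intro j i h
    exact labpts_pr_disj j i (hA _ i (h ▸ hd0 j)) (hA _ i (h ▸ hd1 j))
  have hdk : ∀ k, d (labpts_dj k) ∈ side k := by
    intro k
    fin_cases k
    exacts [hd0 0, hd1 0, hd0 1, hd1 1, hd0 2, hd1 2]
  -- the fourth points
  have hpex : ∀ k, ∃ p, side k = {q (labpts_pr k).1, q (labpts_pr k).2, d (labpts_dj k), p} :=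
    fun k => labpts_fourth (hL.1 _ (hsL k)) (hs1 k) (hs2 k) (hdk k)
      (fun h => labpts_pr_ne k (hqinj h)) (Ne.symm (hdq _ _)) (Ne.symm (hdq _ _))
  choose p hp using hpex
  obtain ⟨ψ, hψ⟩ : ∃ ψ : Fin 13 → α,
      ψ = ![q 0, q 1, q 2, q 3, d 0, d 1, d 2, p 0, p 1, p 2, p 3, p 4, p 5] := ⟨_, rfl⟩
  have himg : ∀ k, (sideF k).image ψ = side k := by
    intro k
    fin_cases k
    · show Finset.image ψ {0, 1, 4, 7} = side 0
      rw [hp 0, hψ]
      simp only [Finset.image_insert, Finset.image_singleton]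
      rfl
    · show Finset.image ψ {2, 3, 4, 8} = side 1
      rw [hp 1, hψ]
      simp only [Finset.image_insert, Finset.image_singleton]
      rfl
    · show Finset.image ψ {0, 2, 5, 9} = side 2
      rw [hp 2, hψ]
      simp only [Finset.image_insert, Finset.image_singleton]
      rfl
    · show Finset.image ψ {1, 3, 5, 10} = side 3
      rw [hp 3, hψ]
      simp only [Finset.image_insert, Finset.image_singleton]
      rfl
    · show Finset.image ψ {0, 3, 6, 11} = side 4
      rw [hp 4, hψ]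
      simp only [Finset.image_insert, Finset.image_singleton]
      rfl
    · show Finset.image ψ {1, 2, 6, 12} = side 5
      rw [hp 5, hψ]
      simp only [Finset.image_insert, Finset.image_singleton]
      rfl
  refine ⟨ψ, ?_, ?_, ?_⟩
  · intro i
    rw [hψ]
    fin_cases i <;> rfl
  · apply hinjs ψ side
    · intro k i hi
      rw [← himg k]
      exact Finset.mem_image_of_mem ψ hi
    · intro k
      have hcard : ((sideF k).image ψ).card = (sideF k).card := by
        rw [himg k, hL.1 _ (hsL k), labpts_card_sideF k]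
      have hinj := Finset.card_image_iff.mp hcard
      intro i hi j hj hij
      exact hinj hi hj hij
    · intro k m hkm
      exact (hmeet _ (hsL k) _ (hsL m) (hne k m hkm)).le
  · intro k
    rw [himg k]
    exact hsL k

end Plane

end Cfsg.Agent.Helper27.P13
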