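import Mathlib
import Cfsg.Agent.Lib.Helper14.AsymH3
import Cfsg.Agent.Lib.Helper22.PResidual

/-!
# Transitive families of `p`-minimal subgroups (helper14)

If `𝒦` is a transitive `H`-invariant family with `O^p(H) ≤ ⟨𝒦⟩`, `E O_p(H) ⊴ ⟨𝒦⟩ O_p(H)` and every
`E ∈ 𝒦` is `p`-minimal, then `H` is `p`-minimal.
-/

set_option autoImplicit false

namespace Cfsg.Agent.Helper14

open Cfsg

variable {H : Type*} [Group H]

local notation "cj[" g "]" A:max => Subgroup.map (MulEquiv.toMonoidHom (MulAut.conj g)) A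

/-- ambient form of `Y`-minimality: `E` is the normal closure of `TE` in `E`, and there is a largest
proper subgroup of `E` containing `TE` -/
def PMinAmb (E TE : Subgroup H) : Prop :=
  (∀ N : Subgroup H, TE ≤ N → N ≤ E → E ≤ Subgroup.normalizer (N : Set H) → N = E) ∧
    ∃ M : Subgroup H, TE ≤ M ∧ M < E ∧ ∀ Y : Subgroup H, TE ≤ Y → Y < E → Y ≤ M

/-- the join of the proper subgroups of `A` containing `B` -/
def maxOver (A B : Subgroup H) : Subgroup H := sSup {Y : Subgroup H | B ≤ Y ∧ Y < A}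

theorem PMinAmb.maxOver_spec {A B : Subgroup H} (h : PMinAmb A B) :
    B ≤ maxOver A B ∧ maxOver A B < A ∧ ∀ Y : Subgroup H, B ≤ Y → Y < A → Y ≤ maxOver A B := by
  obtain ⟨_, M, hBM, hMA, hmax⟩ := h
  have e : maxOver A B = M := by
    apply le_antisymm
    · exact sSup_le (fun Y hY => hmax Y hY.1 hY.2)
    · exact le_sSup ⟨hBM, hMA⟩
  rw [e]
  exact ⟨hBM, hMA, hmax⟩

theorem pMinAmb_of_isMinimalOver [Finite H] {E : Subgroup H} (T' : Subgroup ↥E)
    (h : IsMinimalOver T') : PMinAmb E (T'.map E.subtype) := by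
  obtain ⟨hncl, M', ⟨hM'co, hT'M'⟩, hM'uniq⟩ := h
  refine ⟨?_, M'.map E.subtype, Subgroup.map_mono hT'M', ?_, ?_⟩
  · intro N hTN hNE hEN
    have hNn : (N.subgroupOf E).Normal := (Subgroup.normal_subgroupOf_iff_le_normalizer hNE).mpr hEN
    have hT'N : T' ≤ N.subgroupOf E := by
      intro x hx
      rw [Subgroup.mem_subgroupOf]
      exact hTN ⟨x, hx, rfl⟩
    have h1 : Subgroup.normalClosure (T' : Set ↥E) ≤ N.subgroupOf E :=
      Subgroup.normalClosure_le_normal hT'N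
    rw [hncl] at h1
    apply le_antisymm hNE
    intro e he
    exact Subgroup.mem_subgroupOf.mp (h1 (Subgroup.mem_top (⟨e, he⟩ : ↥E)))
  · refine lt_of_le_of_ne (Subgroup.map_subtype_le _) ?_
    intro heq
    apply hM'co.1
    rw [eq_top_iff]
    intro x _
    have hx : (x : H) ∈ M'.map E.subtype := by rw [heq]; exact x.2
    obtain ⟨y, hy, hyx⟩ := hx
    have : y = x := Subtype.ext hyx
    rwa [← this]
  · intro Y hTY hYE
    set Y' := Y.subgroupOf E with hY'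
    have hY'top : Y' ≠ ⊤ := by
      intro htop
      apply hYE.ne
      apply le_antisymm hYE.le
      intro e he
      have : (⟨e, he⟩ : ↥E) ∈ Y' := by rw [htop]; exact Subgroup.mem_top _
      exact Subgroup.mem_subgroupOf.mp this
    have hT'Y' : T' ≤ Y' := by
      intro x hx
      rw [hY', Subgroup.mem_subgroupOf]
      exact hTY ⟨x, hx, rfl⟩
    obtain ⟨C, hC, hY'C⟩ := (eq_top_or_exists_le_coatom Y').resolve_left hY'top
    have hCM : C = M' := hM'uniq C ⟨hC, hT'Y'.trans hY'C⟩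
    rw [hCM] at hY'C
    have := Subgroup.map_mono (f := E.subtype) hY'C
    rwa [hY', Subgroup.map_subgroupOf_eq_of_le hYE.le] at this

theorem pMinAmb_sup {E TE Q P : Subgroup H} (hE : PMinAmb E TE)
    (hEQ : E ≤ Subgroup.normalizer (Q : Set H)) (hTEP : TE ≤ P) (hQP : Q ≤ P)
    (hPE : P ⊓ E = TE) (hP : P ≤ E ⊔ Q) : PMinAmb (E ⊔ Q) P := by
  obtain ⟨hcl, M, hTM, hME, hmax⟩ := hE
  have hTEE : TE ≤ E := by rw [← hPE]; exact inf_le_right
  refine ⟨?_, M ⊔ Q, ?_, ?_, ?_⟩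
  · intro N hPN hNEQ hEQN
    have h1 : N ⊓ E = E := by
      apply hcl _ (le_inf (hTEP.trans hPN) hTEE) inf_le_right
      exact le_normalizer_inf (le_sup_left.trans hEQN) Subgroup.le_normalizer
    apply le_antisymm hNEQ
    exact sup_le (by rw [← h1]; exact inf_le_left) (hQP.trans hPN)
  · intro x hx
    obtain ⟨e, he, q, hq, rfl⟩ := (mem_sup_of_le_normalizer hEQ).mp (hP hx)
    have heP : e ∈ P := by
      have := P.mul_mem hx (P.inv_mem (hQP hq))
      simpa using this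
    have heM : e ∈ M := hTM (by rw [← hPE]; exact Subgroup.mem_inf.mpr ⟨heP, he⟩)
    exact Subgroup.mul_mem_sup heM hq
  · refine lt_of_le_of_ne (sup_le_sup_right hME.le Q) ?_
    intro heq
    apply hME.ne
    apply le_antisymm hME.le
    intro e he
    have he' : e ∈ M ⊔ Q := by rw [heq]; exact Subgroup.mem_sup_left he
    obtain ⟨m, hm, q, hq, rfl⟩ := (mem_sup_of_le_normalizer (hME.le.trans hEQ)).mp he'
    have hqE : q ∈ E := by
      have := E.mul_mem (E.inv_mem (hME.le hm)) he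
      simpa using this
    have hqM : q ∈ M := hTM (by rw [← hPE]; exact Subgroup.mem_inf.mpr ⟨hQP hq, hqE⟩)
    exact M.mul_mem hm hqM
  · intro Y hPY hY
    have hlt : Y ⊓ E < E := by
      refine lt_of_le_of_ne inf_le_right ?_
      intro heq
      apply hY.ne
      apply le_antisymm hY.le
      exact sup_le (by rw [← heq]; exact inf_le_left) (hQP.trans hPY)
    have h1 : Y ⊓ E ≤ M := hmax _ (le_inf (hTEP.trans hPY) hTEE) hlt
    intro y hy
    obtain ⟨e, he, q, hq, rfl⟩ := (mem_sup_of_le_normalizer hEQ).mp (hY.le hy)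
    have heY : e ∈ Y := by
      have := Y.mul_mem hy (Y.inv_mem (hPY (hQP hq)))
      simpa using this
    exact Subgroup.mul_mem_sup (h1 (Subgroup.mem_inf.mpr ⟨heY, he⟩)) hq

section Family

variable [Finite H] {p : ℕ} [Fact p.Prime]

/-- `T ∩ E` is a Sylow `p`-subgroup of `E` when `T ∩ EQ` is one of `EQ`, `Q ≤ T` a normal `p`-subgroup -/
theorem isSylowOf_inf_of_sup {E Q T : Subgroup H} (hQn : Q.Normal) (hQp : IsPGroup p Q)
    (hTp : IsPGroup p T) (hQT : Q ≤ T) (hP : IsSylowOf p (E ⊔ Q) (T ⊓ (E ⊔ Q))) :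
    IsSylowOf p E (T ⊓ E) := by
  haveI := hQn
  have hNQ : ∀ A : Subgroup H, A ≤ Subgroup.normalizer (Q : Set H) := fun A => by
    rw [Subgroup.normalizer_eq_top_iff.mpr hQn]; exact le_top
  obtain ⟨T₀, hT₀⟩ := exists_isSylowOf p E
  have hT₀Qp : IsPGroup p ↥(T₀ ⊔ Q) := hT₀.isPGroup.to_sup_of_normal_right hQp
  obtain ⟨S', hS', hle⟩ := exists_isSylowOf_ge (sup_le_sup_right hT₀.le Q) hT₀Qp
  obtain ⟨g, hg, hgS⟩ := hP.exists_conj hS'
  have hginv : g⁻¹ ∈ E ⊔ Q := Subgroup.inv_mem _ hg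
  obtain ⟨e, he, q, hq, hqe⟩ := (mem_sup_of_le_normalizer (hNQ E)).mp hginv
  have hQP : Q ≤ T ⊓ (E ⊔ Q) := le_inf hQT le_sup_right
  have h1 : cj[g⁻¹] T₀ ≤ T ⊓ (E ⊔ Q) := by
    have h2 : T₀ ≤ cj[g] (T ⊓ (E ⊔ Q)) := (le_sup_left.trans hle).trans hgS.le
    have := Subgroup.map_mono (f := (MulAut.conj g⁻¹).toMonoidHom) h2
    rwa [map_conj_inv_map_conj] at this
  have h3 : cj[e] T₀ ≤ T ⊓ (E ⊔ Q) := by
    rintro _ ⟨x, hx, rfl⟩
    have hx' : g⁻¹ * x * g⁻¹⁻¹ ∈ T ⊓ (E ⊔ Q) := h1 ⟨x, hx, by simp⟩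
    have hq' : e * q * e⁻¹ ∈ T ⊓ (E ⊔ Q) := hQP (hQn.conj_mem q hq e)
    have e1 : (MulAut.conj e).toMonoidHom x =
        (e * q * e⁻¹)⁻¹ * (g⁻¹ * x * g⁻¹⁻¹) * (e * q * e⁻¹) := by
      rw [hqe]
      simp only [MulEquiv.coe_toMonoidHom, MulAut.conj_apply]
      group
    rw [e1]
    exact Subgroup.mul_mem _ (Subgroup.mul_mem _ (Subgroup.inv_mem _ hq') hx') hq'
  have hT₁ : IsSylowOf p E (cj[e] T₀) := hT₀.conj_mem he
  have h4 : cj[e] T₀ ≤ T ⊓ E := le_inf (h3.trans inf_le_left) hT₁.le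
  have h5 := (isSylowOf_iff.mp hT₁).2.2 (T ⊓ E) (hTp.to_le inf_le_left) h4 inf_le_right
  rw [h5]
  exact hT₁

/-- the common setup of a transitive family -/
structure FamilySetup (p : ℕ) (𝒦 : Set (Subgroup H)) : Prop where
  ne : 𝒦.Nonempty
  inv : ∀ h : H, ∀ E ∈ 𝒦, E.map (MulAut.conj h).toMonoidHom ∈ 𝒦
  tr : ∀ E ∈ 𝒦, ∀ K ∈ 𝒦, ∃ h : H, K = E.map (MulAut.conj h).toMonoidHom
  res : pResidual p H ≤ sSup 𝒦
  norm : ∀ E ∈ 𝒦, sSup 𝒦 ⊔ pCore p H ≤
    Subgroup.normalizer ((E ⊔ pCore p H : Subgroup H) : Set H)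

namespace FamilySetup

variable {𝒦 : Set (Subgroup H)}

omit [Finite H] [Fact p.Prime] in
theorem pCore_normal : (pCore p H).Normal := Subgroup.sSup_normal _ (fun K hK => hK.1)

omit [Finite H] [Fact p.Prime] in
theorem sSup_normal (h : FamilySetup p 𝒦) : (sSup 𝒦).Normal := by
  constructor
  intro x hx g
  have hle : (sSup 𝒦).map (MulAut.conj g).toMonoidHom ≤ sSup 𝒦 := by
    rw [Subgroup.map_le_iff_le_comap]
    apply sSup_le
    intro E hE
    rw [← Subgroup.map_le_iff_le_comap]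
    exact le_sSup (h.inv g E hE)
  have := hle (Subgroup.mem_map_of_mem _ hx)
  simpa using this

omit [Finite H] [Fact p.Prime] in
theorem sup_normal (h : FamilySetup p 𝒦) : (sSup 𝒦 ⊔ pCore p H).Normal := by
  haveI := h.sSup_normal
  haveI := pCore_normal (H := H) (p := p)
  exact Subgroup.sup_normal _ _

theorem exists_mul (h : FamilySetup p 𝒦) (T : Sylow p H) (x : H) :
    ∃ t ∈ (T : Subgroup H), ∃ r ∈ sSup 𝒦 ⊔ pCore p H, x = t * r := by
  have htop : (T : Subgroup H) ⊔ (sSup 𝒦 ⊔ pCore p H) = ⊤ := by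
    rw [eq_top_iff, ← Cfsg.Agent.Helper22.sylow_sup_pResidual_eq_top T]
    exact sup_le_sup_left (h.res.trans le_sup_left) _
  have hx : x ∈ (T : Subgroup H) ⊔ (sSup 𝒦 ⊔ pCore p H) := by rw [htop]; exact Subgroup.mem_top x
  refine (mem_sup_of_le_normalizer ?_).mp hx
  rw [Subgroup.normalizer_eq_top_iff.mpr h.sup_normal]
  exact le_top

omit [Finite H] [Fact p.Prime] in
theorem sup_le (h : FamilySetup p 𝒦) {E : Subgroup H} (hE : E ∈ 𝒦) :
    E ⊔ pCore p H ≤ sSup 𝒦 ⊔ pCore p H := sup_le_sup_right (le_sSup hE) _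

/-- `T` is transitive on the `E O_p(H)` -/
theorem exists_conj_sylow (h : FamilySetup p 𝒦) (T : Sylow p H) {E K : Subgroup H} (hE : E ∈ 𝒦)
    (hK : K ∈ 𝒦) : ∃ t ∈ (T : Subgroup H), K ⊔ pCore p H = cj[t] (E ⊔ pCore p H) := by
  obtain ⟨x, hx⟩ := h.tr E hE K hK
  obtain ⟨t, ht, r, hr, rfl⟩ := h.exists_mul T x
  refine ⟨t, ht, ?_⟩
  have hQ : cj[t * r] (pCore p H) = pCore p H :=
    map_conj_eq_self_of_le_normalizer (H := ⊤)
      (by rw [Subgroup.normalizer_eq_top_iff.mpr pCore_normal]) (Subgroup.mem_top _)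
  have h1 : K ⊔ pCore p H = cj[t * r] (E ⊔ pCore p H) := by
    rw [Subgroup.map_sup, hQ, hx]
  rw [h1, conj_mul_map, map_conj_eq_self_of_le_normalizer (h.norm E hE) hr]

/-- `T ∩ E O_p(H)` is a Sylow `p`-subgroup of `E O_p(H)` -/
theorem isSylowOf_inf_sup (h : FamilySetup p 𝒦) (T : Sylow p H) {E : Subgroup H} (hE : E ∈ 𝒦) :
    IsSylowOf p (E ⊔ pCore p H) ((T : Subgroup H) ⊓ (E ⊔ pCore p H)) := by
  have h0 : IsSylowOf p ⊤ (T : Subgroup H) := isSylowOf_of_sylow_le T le_top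
  have h1 : IsSylowOf p (sSup 𝒦 ⊔ pCore p H) ((T : Subgroup H) ⊓ (sSup 𝒦 ⊔ pCore p H)) :=
    h0.inf_of_le_normalizer le_top (by rw [Subgroup.normalizer_eq_top_iff.mpr h.sup_normal])
  have h2 := h1.inf_of_le_normalizer (h.sup_le hE) (h.norm E hE)
  rwa [inf_assoc, inf_of_le_right (h.sup_le hE)] at h2

theorem isSylowOf_inf (h : FamilySetup p 𝒦) (T : Sylow p H) {E : Subgroup H} (hE : E ∈ 𝒦) :
    IsSylowOf p E ((T : Subgroup H) ⊓ E) :=
  isSylowOf_inf_of_sup pCore_normal (pCore_isPGroup p H) T.isPGroup' (pCore_le_sylow T)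
    (h.isSylowOf_inf_sup T hE)

end FamilySetup

end Family

section PMin

variable [Finite H] {p : ℕ} [Fact p.Prime] {𝒦 : Set (Subgroup H)}

theorem FamilySetup.pMinAmb_sup (h : FamilySetup p 𝒦)
    (hmin : ∀ E ∈ 𝒦, ∀ T : Sylow p ↥E, IsMinimalOver (T : Subgroup ↥E)) (T : Sylow p H)
    {E : Subgroup H} (hE : E ∈ 𝒦) :
    PMinAmb (E ⊔ pCore p H) ((T : Subgroup H) ⊓ (E ⊔ pCore p H)) := by
  obtain ⟨T', hT'⟩ := h.isSylowOf_inf T hE
  have h1 := pMinAmb_of_isMinimalOver (T' : Subgroup ↥E) (hmin E hE T')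
  rw [hT'] at h1
  refine Cfsg.Agent.Helper14.pMinAmb_sup h1 ?_ (inf_le_inf_left _ le_sup_left)
    (le_inf (pCore_le_sylow T) le_sup_right) ?_ inf_le_right
  · rw [Subgroup.normalizer_eq_top_iff.mpr FamilySetup.pCore_normal]
    exact le_top
  · rw [inf_assoc, inf_of_le_right (le_sup_left : E ≤ E ⊔ pCore p H)]

omit [Finite H] [Fact p.Prime] in
/-- the product of the largest proper overgroup of `B` in `A` with `N_{RQ}(B)` meets `A` in the
former -/
theorem maxOver_sup_inf_le {A B RQ : Subgroup H} (hA : PMinAmb A B)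
    (hRQA : RQ ≤ Subgroup.normalizer (A : Set H)) :
    (maxOver A B ⊔ (RQ ⊓ Subgroup.normalizer (B : Set H))) ⊓ A ≤ maxOver A B := by
  obtain ⟨hBM, hMA, hmax⟩ := hA.maxOver_spec
  set M := maxOver A B with hM
  have hBA : B ≤ A := hBM.trans hMA.le
  have hnorm' : RQ ⊓ Subgroup.normalizer (B : Set H) ≤ Subgroup.normalizer (M : Set H) := by
    apply le_normalizer_of_map_conj_le
    intro g hg
    have hgB : g ∈ Subgroup.normalizer (B : Set H) := (Subgroup.mem_inf.mp hg).2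
    have hgA : g ∈ Subgroup.normalizer (A : Set H) := hRQA (Subgroup.mem_inf.mp hg).1
    apply hmax
    · calc B = cj[g] B := (map_conj_eq_self_of_le_normalizer le_rfl hgB).symm
        _ ≤ cj[g] M := Subgroup.map_mono hBM
    · have hle : cj[g] M ≤ A := by
        calc cj[g] M ≤ cj[g] A := Subgroup.map_mono hMA.le
          _ = A := map_conj_eq_self_of_le_normalizer le_rfl hgA
      refine lt_of_le_of_ne hle ?_
      intro heq
      apply hMA.ne
      have h2 : cj[g] M = cj[g] A := by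
        rw [heq, map_conj_eq_self_of_le_normalizer le_rfl hgA]
      exact Subgroup.map_injective (MulAut.conj g).injective h2
  intro x hx
  obtain ⟨hx1, hxA⟩ := Subgroup.mem_inf.mp hx
  rw [sup_comm] at hx1
  obtain ⟨n, hn, m, hm, rfl⟩ := (mem_sup_of_le_normalizer hnorm').mp hx1
  have hnA : n ∈ A := by
    have := A.mul_mem hxA (A.inv_mem (hMA.le hm))
    simpa using this
  have hlt : A ⊓ Subgroup.normalizer (B : Set H) < A := by
    refine lt_of_le_of_ne inf_le_left ?_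
    intro heq
    have hAB : A ≤ Subgroup.normalizer (B : Set H) := by rw [← heq]; exact inf_le_right
    have := hA.1 B le_rfl hBA hAB
    rw [this] at hBM
    exact absurd hMA (not_lt_of_ge hBM)
  have h3 : A ⊓ Subgroup.normalizer (B : Set H) ≤ M :=
    hmax _ (le_inf hBA Subgroup.le_normalizer) hlt
  exact M.mul_mem (h3 (Subgroup.mem_inf.mpr ⟨hnA, (Subgroup.mem_inf.mp hn).2⟩)) hm

/-- a proper subgroup containing `T` contains no `E O_p(H)` -/
theorem FamilySetup.not_sup_le (h : FamilySetup p 𝒦) (T : Sylow p H) {X : Subgroup H}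
    (hTX : (T : Subgroup H) ≤ X) (hX : X ≠ ⊤) {E : Subgroup H} (hE : E ∈ 𝒦) :
    ¬ E ⊔ pCore p H ≤ X := by
  intro hle
  apply hX
  rw [eq_top_iff]
  have hall : ∀ K ∈ 𝒦, K ⊔ pCore p H ≤ X := by
    intro K hK
    obtain ⟨t, ht, hKt⟩ := h.exists_conj_sylow T hE hK
    rw [hKt]
    calc cj[t] (E ⊔ pCore p H) ≤ cj[t] X := Subgroup.map_mono hle
      _ = X := map_conj_eq_self_of_mem (hTX ht)
  have hR : sSup 𝒦 ⊔ pCore p H ≤ X :=
    _root_.sup_le (sSup_le (fun K hK => le_sup_left.trans (hall K hK))) ((pCore_le_sylow T).trans hTX)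
  intro x _
  obtain ⟨t, ht, r, hr, rfl⟩ := h.exists_mul T x
  exact X.mul_mem (hTX ht) (hR hr)

/-- the core claim: `X ∩ RQ ≤ M̂_E N_{RQ}(T ∩ EQ)` for proper `X ≥ T` -/
theorem FamilySetup.inf_le_maxOver_sup (h : FamilySetup p 𝒦)
    (hmin : ∀ E ∈ 𝒦, ∀ T : Sylow p ↥E, IsMinimalOver (T : Subgroup ↥E)) (T : Sylow p H)
    {X : Subgroup H} (hTX : (T : Subgroup H) ≤ X) (hX : X ≠ ⊤) {E : Subgroup H} (hE : E ∈ 𝒦) :
    X ⊓ (sSup 𝒦 ⊔ pCore p H) ≤
      maxOver (E ⊔ pCore p H) ((T : Subgroup H) ⊓ (E ⊔ pCore p H)) ⊔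
        ((sSup 𝒦 ⊔ pCore p H) ⊓
          Subgroup.normalizer (((T : Subgroup H) ⊓ (E ⊔ pCore p H) : Subgroup H) : Set H)) := by
  set Q := pCore p H with hQ
  set RQ := sSup 𝒦 ⊔ Q with hRQ
  set A := E ⊔ Q with hA
  set B := (T : Subgroup H) ⊓ A with hB
  have hAB : PMinAmb A B := h.pMinAmb_sup hmin T hE
  obtain ⟨hBM, hMA, hmax⟩ := hAB.maxOver_spec
  have hBsyl : IsSylowOf p A B := h.isSylowOf_inf_sup T hE
  have hARQ : A ≤ RQ := h.sup_le hE
  have hRQA : RQ ≤ Subgroup.normalizer (A : Set H) := h.norm E hE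
  have hnot : ¬ A ≤ X := h.not_sup_le T hTX hX hE
  have hBX : B ≤ X ⊓ A := le_inf (inf_le_left.trans hTX) inf_le_right
  have hXA : X ⊓ A < A := by
    refine lt_of_le_of_ne inf_le_right ?_
    intro heq
    exact hnot (by rw [← heq]; exact inf_le_left)
  have hXAM : X ⊓ A ≤ maxOver A B := hmax _ hBX hXA
  intro u hu
  obtain ⟨huX, huRQ⟩ := Subgroup.mem_inf.mp hu
  have hB'syl : IsSylowOf p A (cj[u] B) := by
    have := hBsyl.map_equiv (MulAut.conj u)
    rwa [map_conj_eq_self_of_le_normalizer hRQA huRQ] at this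
  have hB'X : cj[u] B ≤ X ⊓ A := by
    refine le_inf ?_ hB'syl.le
    calc cj[u] B ≤ cj[u] X := Subgroup.map_mono (hBX.trans inf_le_left)
      _ = X := map_conj_eq_self_of_mem huX
  obtain ⟨m, hm, hmB⟩ := (hBsyl.of_le hBX inf_le_right).exists_conj (hB'syl.of_le hB'X inf_le_right)
  have hn : m⁻¹ * u ∈ Subgroup.normalizer (B : Set H) := by
    apply mem_normalizer_of_map_conj_eq
    rw [conj_mul_map, hmB, map_conj_inv_map_conj]
  have hmRQ : m ∈ RQ := hARQ (Subgroup.mem_inf.mp hm).2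
  have e : u = m * (m⁻¹ * u) := by group
  rw [e]
  exact Subgroup.mul_mem_sup (hXAM hm)
    (Subgroup.mem_inf.mpr ⟨RQ.mul_mem (RQ.inv_mem hmRQ) huRQ, hn⟩)

omit [Finite H] [Fact p.Prime] in
theorem map_conj_ne_top {X : Subgroup H} (hX : X ≠ ⊤) (g : H) : cj[g] X ≠ ⊤ := by
  intro htop
  apply hX
  have h1 : cj[g] (⊤ : Subgroup H) = ⊤ :=
    Subgroup.map_top_of_surjective _ (MulAut.conj g).surjective
  rw [← h1] at htop
  exact Subgroup.map_injective (MulAut.conj g).injective htop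

/-- **`p`-minimal members make `H` `p`-minimal** -/
theorem FamilySetup.isMinimalOver (h : FamilySetup p 𝒦)
    (hmin : ∀ E ∈ 𝒦, ∀ T : Sylow p ↥E, IsMinimalOver (T : Subgroup ↥E)) (T : Sylow p H) :
    IsMinimalOver (T : Subgroup H) := by
  classical
  set Q := pCore p H with hQ
  set RQ := sSup 𝒦 ⊔ Q with hRQ
  have hRQn : RQ.Normal := h.sup_normal
  obtain ⟨E₁, hE₁⟩ := h.ne
  set DE : Subgroup H → Subgroup H := fun E =>
    maxOver (E ⊔ Q) ((T : Subgroup H) ⊓ (E ⊔ Q)) ⊔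
      (RQ ⊓ Subgroup.normalizer (((T : Subgroup H) ⊓ (E ⊔ Q) : Subgroup H) : Set H)) with hDE
  set D : Subgroup H := ⨅ E ∈ 𝒦, DE E with hD
  set D' : Subgroup H := ⨅ t : ↥(T : Subgroup H), cj[(t : H)] D with hD'
  have hAB₁ : PMinAmb (E₁ ⊔ Q) ((T : Subgroup H) ⊓ (E₁ ⊔ Q)) := h.pMinAmb_sup hmin T hE₁
  obtain ⟨hBM₁, hMA₁, hmax₁⟩ := hAB₁.maxOver_spec
  have hDDE : ∀ E ∈ 𝒦, D ≤ DE E := fun E hE => iInf₂_le E hE
  have hDRQ : D ≤ RQ :=
    (hDDE E₁ hE₁).trans (_root_.sup_le (hMA₁.le.trans (h.sup_le hE₁)) inf_le_left)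
  have hcore : ∀ X : Subgroup H, (T : Subgroup H) ≤ X → X ≠ ⊤ → X ⊓ RQ ≤ D := fun X hTX hX =>
    le_iInf₂ (fun E hE => h.inf_le_maxOver_sup hmin T hTX hX hE)
  have hcore' : ∀ X : Subgroup H, (T : Subgroup H) ≤ X → X ≠ ⊤ → X ⊓ RQ ≤ D' := by
    intro X hTX hX
    apply le_iInf
    intro t
    have hX' : (T : Subgroup H) ≤ cj[(t : H)⁻¹] X := by
      calc (T : Subgroup H) = cj[(t : H)⁻¹] (T : Subgroup H) :=
            (map_conj_eq_self_of_mem ((T : Subgroup H).inv_mem t.2)).symm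
        _ ≤ cj[(t : H)⁻¹] X := Subgroup.map_mono hTX
    have h1 := hcore _ hX' (map_conj_ne_top hX _)
    intro x hx
    obtain ⟨hxX, hxR⟩ := Subgroup.mem_inf.mp hx
    rw [mem_map_conj_iff]
    apply h1
    refine Subgroup.mem_inf.mpr ⟨?_, ?_⟩
    · rw [mem_map_conj_iff]
      simpa [mul_assoc] using hxX
    · have := hRQn.conj_mem x hxR (t : H)⁻¹
      simpa using this
  have hTD' : (T : Subgroup H) ≤ Subgroup.normalizer (D' : Set H) := by
    apply le_normalizer_of_map_conj_le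
    intro s hs
    apply le_iInf
    intro t
    have h1 : D' ≤ cj[s⁻¹ * (t : H)] D :=
      iInf_le (fun t : ↥(T : Subgroup H) => cj[(t : H)] D)
        ⟨s⁻¹ * (t : H), (T : Subgroup H).mul_mem ((T : Subgroup H).inv_mem hs) t.2⟩
    have h2 := Subgroup.map_mono (f := (MulAut.conj s).toMonoidHom) h1
    rw [← conj_mul_map] at h2
    simpa using h2
  have hD'D : D' ≤ D := by
    have h1 : D' ≤ cj[((1 : ↥(T : Subgroup H)) : H)] D :=
      iInf_le (fun t : ↥(T : Subgroup H) => cj[(t : H)] D) 1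
    have h2 : cj[((1 : ↥(T : Subgroup H)) : H)] D = D := map_conj_eq_self_of_mem (by simp)
    rwa [h2] at h1
  have hTne : (T : Subgroup H) ≠ ⊤ := by
    intro htop
    have h1 : E₁ ⊔ Q ≤ (T : Subgroup H) ⊓ (E₁ ⊔ Q) := by rw [htop, top_inf_eq]
    exact absurd hMA₁ (not_lt_of_ge (h1.trans hBM₁))
  have hTRQ : (T : Subgroup H) ⊓ RQ ≤ D' := hcore' _ le_rfl hTne
  set Ls := D' ⊔ (T : Subgroup H) with hLs
  have hLsmax : ∀ X : Subgroup H, (T : Subgroup H) ≤ X → X ≠ ⊤ → X ≤ Ls := by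
    intro X hTX hX x hx
    obtain ⟨t, ht, r, hr, rfl⟩ := h.exists_mul T x
    have hrX : r ∈ X := by
      have := X.mul_mem (X.inv_mem (hTX ht)) hx
      simpa using this
    rw [hLs, sup_comm]
    exact Subgroup.mul_mem_sup ht (hcore' X hTX hX (Subgroup.mem_inf.mpr ⟨hrX, hr⟩))
  have hLsne : Ls ≠ ⊤ := by
    intro htop
    have hle : E₁ ⊔ Q ≤ maxOver (E₁ ⊔ Q) ((T : Subgroup H) ⊓ (E₁ ⊔ Q)) := by
      intro x hx
      have hxL : x ∈ (T : Subgroup H) ⊔ D' := by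
        rw [sup_comm, ← hLs, htop]; exact Subgroup.mem_top x
      obtain ⟨t, ht, d, hd, rfl⟩ := (mem_sup_of_le_normalizer hTD').mp hxL
      have hdRQ : d ∈ RQ := hDRQ (hD'D hd)
      have htRQ : t ∈ RQ := by
        have := RQ.mul_mem (h.sup_le hE₁ hx) (RQ.inv_mem hdRQ)
        simpa using this
      have htD' : t ∈ D' := hTRQ (Subgroup.mem_inf.mpr ⟨ht, htRQ⟩)
      have hxD : t * d ∈ DE E₁ := hDDE E₁ hE₁ (hD'D (D'.mul_mem htD' hd))
      exact maxOver_sup_inf_le hAB₁ (h.norm E₁ hE₁) (Subgroup.mem_inf.mpr ⟨hxD, hx⟩)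
    exact absurd hMA₁ (not_lt_of_ge hle)
  refine ⟨?_, ?_⟩
  · set N := Subgroup.normalClosure ((T : Subgroup H) : Set H) with hN
    have hTN : (T : Subgroup H) ≤ N := Subgroup.le_normalClosure
    have hNn : N.Normal := Subgroup.normalClosure_normal
    have hEN : ∀ E ∈ 𝒦, E ≤ N := by
      intro E hE
      obtain ⟨T', hT'⟩ := h.isSylowOf_inf T hE
      have h1 := pMinAmb_of_isMinimalOver (T' : Subgroup ↥E) (hmin E hE T')
      rw [hT'] at h1
      have h2 := h1.1 (N ⊓ E) (inf_le_inf_right _ hTN) inf_le_right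
        (le_normalizer_inf (by rw [Subgroup.normalizer_eq_top_iff.mpr hNn]; exact le_top)
          Subgroup.le_normalizer)
      rw [← h2]
      exact inf_le_left
    rw [eq_top_iff]
    intro x _
    obtain ⟨t, ht, r, hr, rfl⟩ := h.exists_mul T x
    have hRN : RQ ≤ N := _root_.sup_le (sSup_le hEN) ((pCore_le_sylow T).trans hTN)
    exact N.mul_mem (hTN ht) (hRN hr)
  · obtain ⟨M, hM, hLsM⟩ := (eq_top_or_exists_le_coatom Ls).resolve_left hLsne
    refine ⟨M, ⟨hM, le_sup_right.trans hLsM⟩, ?_⟩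
    rintro M' ⟨hM', hTM'⟩
    have h2 : M' ≤ M := (hLsmax M' hTM' hM'.1).trans hLsM
    exact ((hM'.le_iff_eq hM.1).mp h2).symm

end PMin

end Cfsg.Agent.Helper14
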