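import Mathlib
import Cfsg.Agent.S3028
import Cfsg.Agent.Lib.Helper14.Kieler
import Cfsg.Agent.Lib.Helper14.StronglyEmbedded
import Cfsg.Agent.Lib.Helper14.BasicProperty
import Cfsg.Agent.Lib.Helper14.AmalgamZ
import Cfsg.Agent.Lib.Helper3.Subnormal

/-!
# Point stabilizers of joins of subnormal subgroups (helper14)

For a finite group `H` of local characteristic `p`, `T ∈ Syl_p(H)` and subnormal `L₁, L₂`:
`P_{⟨L₁,L₂⟩} = ⟨P_{L₁}, P_{L₂}⟩`.
-/

set_option autoImplicit false

namespace Cfsg.Agent.Helper14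

open Cfsg

section

variable {H : Type*} [Group H]

local notation "ΩZ[" p "," R "]" =>
  omegaOne p (R ⊓ Subgroup.centralizer ((R : Subgroup H) : Set H))

/-- a subnormal subgroup containing one Sylow `p`-subgroup contains all of them -/
theorem sylow_le_of_isSubnormal [Finite H] {p : ℕ} [Fact p.Prime] {S : Subgroup H}
    (hS : S.IsSubnormal) (P : Sylow p H) (hP : (P : Subgroup H) ≤ S) :
    ∀ P' : Sylow p H, (P' : Subgroup H) ≤ S := by
  induction hS with
  | top => exact fun _ => le_top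
  | step S K hSK _ hN ih =>
    intro P'
    have hPK : (P : Subgroup H) ≤ K := hP.trans hSK
    have hP'K : (P' : Subgroup H) ≤ K := ih hPK P'
    have hKS : K ≤ Subgroup.normalizer (S : Set H) :=
      (Subgroup.normal_subgroupOf_iff_le_normalizer hSK).mp hN
    obtain ⟨g, hg, hgP⟩ := (isSylowOf_of_sylow_le P hPK).exists_conj (isSylowOf_of_sylow_le P' hP'K)
    rw [hgP]
    calc (P : Subgroup H).map (MulAut.conj g).toMonoidHom ≤ S.map (MulAut.conj g).toMonoidHom :=
          Subgroup.map_mono hP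
      _ = S := map_conj_eq_self_of_le_normalizer hKS hg

/-- a subnormal subgroup containing a Sylow `p`-subgroup contains all `p`-elements -/
theorem mem_of_isSubnormal_of_sylow_le [Finite H] {p : ℕ} [Fact p.Prime] {S : Subgroup H}
    (hS : S.IsSubnormal) (P : Sylow p H) (hP : (P : Subgroup H) ≤ S) {x : H} {k : ℕ}
    (hx : orderOf x = p ^ k) : x ∈ S := by
  have hxp : IsPGroup p (Subgroup.zpowers x) := by
    rw [IsPGroup.iff_card, Nat.card_zpowers]
    exact ⟨k, hx⟩
  obtain ⟨P', hP'⟩ := hxp.exists_le_sylow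
  exact sylow_le_of_isSubnormal hS P hP P' (hP' (Subgroup.mem_zpowers x))

/-- the Kieler lemma for a normal subgroup `X` of a subgroup `K` whose `p`-locals have
characteristic `p` -/
theorem kieler_normal_local {p : ℕ} [Fact p.Prime] [Finite H] {K X TK : Subgroup H}
    (hloc : ∀ R : Subgroup H, IsPGroup p R → R ≠ ⊥ →
      (K ⊓ Subgroup.normalizer (R : Set H)) ⊓
        Subgroup.centralizer (pCoreOf p (K ⊓ Subgroup.normalizer (R : Set H)) : Set H) ≤
          pCoreOf p (K ⊓ Subgroup.normalizer (R : Set H)))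
    (hTK : IsSylowOf p K TK) (hXK : X ≤ K) (hKX : K ≤ Subgroup.normalizer (X : Set H))
    (hne : TK ⊓ X ≠ ⊥) :
    X ⊓ Subgroup.centralizer (ΩZ[p, TK] : Set H) =
      X ⊓ Subgroup.centralizer (ΩZ[p, TK ⊓ X] : Set H) := by
  set ZK := ΩZ[p, TK] with hZK
  set ZX := ΩZ[p, TK ⊓ X] with hZX
  have hTKp : IsPGroup p TK := hTK.isPGroup
  have hTXp : IsPGroup p ↥(TK ⊓ X) := hTKp.to_le inf_le_left
  have hTKne : TK ≠ ⊥ := fun h => hne (by rw [h, bot_inf_eq])
  have hZKp : IsPGroup p ZK := hTKp.to_le ((omegaOne_le p _).trans inf_le_left)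
  have hZXp : IsPGroup p ZX := hTXp.to_le ((omegaOne_le p _).trans inf_le_left)
  have hZKne : ZK ≠ ⊥ :=
    omegaOne_ne_bot (hTKp.to_le inf_le_left) (inf_centralizer_ne_bot hTKp hTKne)
  have hZXne : ZX ≠ ⊥ :=
    omegaOne_ne_bot (hTXp.to_le inf_le_left) (inf_centralizer_ne_bot hTXp hne)
  have hTKNK : TK ≤ Subgroup.normalizer (ZK : Set H) :=
    le_normalizer_omegaOne (le_normalizer_inf Subgroup.le_normalizer
      (le_normalizer_centralizer_of_le_normalizer Subgroup.le_normalizer))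
  have hTKTX : TK ≤ Subgroup.normalizer ((TK ⊓ X : Subgroup H) : Set H) :=
    le_normalizer_inf Subgroup.le_normalizer (hTK.le.trans hKX)
  have hTKNX : TK ≤ Subgroup.normalizer (ZX : Set H) :=
    le_normalizer_omegaOne (le_normalizer_inf hTKTX
      (le_normalizer_centralizer_of_le_normalizer hTKTX))
  -- first local subgroup: `N_K(Z_X)`
  have h1 := kieler_normal (hloc ZX hZXp hZXne)
    (hTK.of_le (le_inf hTK.le hTKNX) inf_le_left)
    (L := X ⊓ Subgroup.normalizer (ZX : Set H)) (inf_le_inf_right _ hXK)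
    (le_normalizer_inf (inf_le_left.trans hKX) (inf_le_right.trans Subgroup.le_normalizer))
  have hT1 : TK ⊓ (X ⊓ Subgroup.normalizer (ZX : Set H)) = TK ⊓ X :=
    le_antisymm (inf_le_inf_left _ inf_le_left)
      (le_inf inf_le_left (le_inf inf_le_right (inf_le_left.trans hTKNX)))
  rw [hT1] at h1
  -- second local subgroup: `N_K(Z_K)`
  have h2 := kieler_normal (hloc ZK hZKp hZKne)
    (hTK.of_le (le_inf hTK.le hTKNK) inf_le_left)
    (L := X ⊓ Subgroup.normalizer (ZK : Set H)) (inf_le_inf_right _ hXK)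
    (le_normalizer_inf (inf_le_left.trans hKX) (inf_le_right.trans Subgroup.le_normalizer))
  have hT2 : TK ⊓ (X ⊓ Subgroup.normalizer (ZK : Set H)) = TK ⊓ X :=
    le_antisymm (inf_le_inf_left _ inf_le_left)
      (le_inf inf_le_left (le_inf inf_le_right (inf_le_left.trans hTKNK)))
  rw [hT2] at h2
  apply le_antisymm
  · intro x hx
    obtain ⟨hxX, hxC⟩ := Subgroup.mem_inf.mp hx
    have hx' : x ∈ (X ⊓ Subgroup.normalizer (ZK : Set H)) ⊓ Subgroup.centralizer (ZK : Set H) :=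
      Subgroup.mem_inf.mpr ⟨Subgroup.mem_inf.mpr ⟨hxX, Subgroup.centralizer_le_normalizer _ hxC⟩, hxC⟩
    rw [h2] at hx'
    exact Subgroup.mem_inf.mpr ⟨hxX, (Subgroup.mem_inf.mp hx').2⟩
  · intro x hx
    obtain ⟨hxX, hxC⟩ := Subgroup.mem_inf.mp hx
    have hx' : x ∈ (X ⊓ Subgroup.normalizer (ZX : Set H)) ⊓ Subgroup.centralizer (ZX : Set H) :=
      Subgroup.mem_inf.mpr ⟨Subgroup.mem_inf.mpr ⟨hxX, Subgroup.centralizer_le_normalizer _ hxC⟩, hxC⟩
    rw [← h1] at hx'
    exact Subgroup.mem_inf.mpr ⟨hxX, (Subgroup.mem_inf.mp hx').2⟩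

/-- the Kieler lemma in a group of local characteristic `p`, along a subnormal series -/
theorem kieler_local_aux {p : ℕ} [Fact p.Prime] [Finite H] (hH : IsOfLocalCharacteristic p H)
    (T : Sylow p H) (X : Subgroup H) (hX : X.IsSubnormal) :
    IsSylowOf p X ((T : Subgroup H) ⊓ X) ∧
      (∀ R : Subgroup H, IsPGroup p R → R ≠ ⊥ →
        (X ⊓ Subgroup.normalizer (R : Set H)) ⊓
          Subgroup.centralizer (pCoreOf p (X ⊓ Subgroup.normalizer (R : Set H)) : Set H) ≤
            pCoreOf p (X ⊓ Subgroup.normalizer (R : Set H))) ∧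
      ((T : Subgroup H) ⊓ X ≠ ⊥ →
        X ⊓ Subgroup.centralizer (ΩZ[p, (T : Subgroup H)] : Set H) =
          X ⊓ Subgroup.centralizer (ΩZ[p, (T : Subgroup H) ⊓ X] : Set H)) := by
  induction hX with
  | top =>
    refine ⟨?_, ?_, ?_⟩
    · rw [inf_top_eq]
      exact isSylowOf_of_sylow_le T le_top
    · intro R hRp hRne
      rw [top_inf_eq]
      exact charP_iff_ambient.mp (hH.2 R hRp hRne)
    · intro _
      rw [inf_top_eq]
  | step X K hXK _ hN ih =>
    obtain ⟨hTK, hlocK, hKeq⟩ := ih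
    have hKX : K ≤ Subgroup.normalizer (X : Set H) :=
      (Subgroup.normal_subgroupOf_iff_le_normalizer hXK).mp hN
    have hTX : ((T : Subgroup H) ⊓ K) ⊓ X = (T : Subgroup H) ⊓ X := by
      rw [inf_assoc, inf_of_le_right hXK]
    refine ⟨?_, ?_, ?_⟩
    · have := hTK.inf_of_le_normalizer hXK hKX
      rwa [hTX] at this
    · intro R hRp hRne
      exact charP_ambient_of_le_normalizer (hlocK R hRp hRne) (inf_le_inf_right _ hXK)
        (le_normalizer_inf (inf_le_left.trans hKX) (inf_le_right.trans Subgroup.le_normalizer))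
    · intro hne
      have hneK : (T : Subgroup H) ⊓ K ≠ ⊥ := by
        intro h
        apply hne
        rw [eq_bot_iff, ← h]
        exact inf_le_inf_left _ hXK
      have h1 := kieler_normal_local hlocK hTK hXK hKX (by rw [hTX]; exact hne)
      rw [hTX] at h1
      have h2 := hKeq hneK
      rw [← h1]
      calc X ⊓ Subgroup.centralizer (ΩZ[p, (T : Subgroup H)] : Set H)
          = X ⊓ (K ⊓ Subgroup.centralizer (ΩZ[p, (T : Subgroup H)] : Set H)) := by
            rw [← inf_assoc, inf_of_le_left hXK]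
        _ = X ⊓ (K ⊓ Subgroup.centralizer (ΩZ[p, (T : Subgroup H) ⊓ K] : Set H)) := by rw [h2]
        _ = X ⊓ Subgroup.centralizer (ΩZ[p, (T : Subgroup H) ⊓ K] : Set H) := by
            rw [← inf_assoc, inf_of_le_left hXK]

/-- the point stabilizer of a subnormal subgroup, computed with `Ω₁Z(T)` -/
theorem pointStabilizer_eq_of_isSubnormal {p : ℕ} [Fact p.Prime] [Finite H]
    (hH : IsOfLocalCharacteristic p H) (T : Sylow p H) (X : Subgroup H) (hX : X.IsSubnormal) :
    pointStabilizer p X ((T : Subgroup H) ⊓ X) =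
      Subgroup.closure {x : H | x ∈ X ⊓ Subgroup.centralizer (ΩZ[p, (T : Subgroup H)] : Set H) ∧
        ∃ k : ℕ, orderOf x = p ^ k} := by
  obtain ⟨hTX, _, hKeq⟩ := kieler_local_aux hH T X hX
  unfold pointStabilizer
  by_cases hne : (T : Subgroup H) ⊓ X = ⊥
  · have hone : ∀ x : H, x ∈ X → (∃ k : ℕ, orderOf x = p ^ k) → x = 1 := by
      intro x hxX hk
      obtain ⟨k, hk⟩ := hk
      have hxp : IsPGroup p (Subgroup.zpowers x) := by
        rw [IsPGroup.iff_card, Nat.card_zpowers]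
        exact ⟨k, hk⟩
      have h3 := (isSylowOf_iff.mp hTX).2.2 (Subgroup.zpowers x) hxp (by rw [hne]; exact bot_le)
        (by rw [Subgroup.zpowers_le]; exact hxX)
      rw [hne] at h3
      have : x ∈ Subgroup.zpowers x := Subgroup.mem_zpowers x
      rw [h3, Subgroup.mem_bot] at this
      exact this
    congr 1
    ext x
    simp only [Set.mem_ofPred_eq]
    constructor
    · rintro ⟨hx, hk⟩
      have := hone x (Subgroup.mem_inf.mp hx).1 hk
      subst this
      exact ⟨Subgroup.one_mem _, hk⟩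
    · rintro ⟨hx, hk⟩
      have := hone x (Subgroup.mem_inf.mp hx).1 hk
      subst this
      exact ⟨Subgroup.one_mem _, hk⟩
  · rw [hKeq hne]

end

section Main

variable {H : Type*} [Group H]

local notation "ΩZ[" p "," R "]" =>
  omegaOne p (R ⊓ Subgroup.centralizer ((R : Subgroup H) : Set H))

/-- the subgroup generated by the `p`-elements of `X` -/
def pgen (p : ℕ) (X : Subgroup H) : Subgroup H :=
  Subgroup.closure {x : H | x ∈ X ∧ ∃ k : ℕ, orderOf x = p ^ k}

theorem pgen_le (p : ℕ) (X : Subgroup H) : pgen p X ≤ X := by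
  unfold pgen
  rw [Subgroup.closure_le]
  exact fun x hx => hx.1

theorem pgen_mono (p : ℕ) {X Y : Subgroup H} (h : X ≤ Y) : pgen p X ≤ pgen p Y := by
  unfold pgen
  apply Subgroup.closure_mono
  exact fun x hx => ⟨h hx.1, hx.2⟩

theorem le_normalizer_pgen (p : ℕ) (X : Subgroup H) :
    Subgroup.normalizer (X : Set H) ≤ Subgroup.normalizer (pgen p X : Set H) := by
  apply le_normalizer_of_map_conj_le
  intro g hg
  unfold pgen
  rw [MonoidHom.map_closure, Subgroup.closure_le]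
  rintro _ ⟨x, ⟨hxX, k, hk⟩, rfl⟩
  apply Subgroup.subset_closure
  refine ⟨?_, k, ?_⟩
  · exact (Subgroup.mem_normalizer_iff.mp hg x).mp hxX
  · rw [orderOf_injective (MulAut.conj g).toMonoidHom (MulAut.conj g).injective x, hk]

theorem le_pgen_of_isPGroup {p : ℕ} [Fact p.Prime] {R X : Subgroup H} (hR : IsPGroup p R)
    (hRX : R ≤ X) : R ≤ pgen p X := by
  intro x hx
  apply Subgroup.subset_closure
  refine ⟨hRX hx, ?_⟩
  obtain ⟨k, hk⟩ := (IsPGroup.iff_orderOf.mp hR) ⟨x, hx⟩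
  rw [Subgroup.orderOf_mk] at hk
  exact ⟨k, hk⟩

/-- **point stabilizers of joins of subnormal subgroups** -/
theorem pointStabilizer_sup {p : ℕ} [Fact p.Prime] [Finite H]
    (hH : IsOfLocalCharacteristic p H) (T : Sylow p H) (L₁ L₂ : Subgroup H)
    (h₁ : L₁.IsSubnormal) (h₂ : L₂.IsSubnormal) :
    pointStabilizer p (L₁ ⊔ L₂) ((T : Subgroup H) ⊓ (L₁ ⊔ L₂)) =
      pointStabilizer p L₁ ((T : Subgroup H) ⊓ L₁) ⊔
        pointStabilizer p L₂ ((T : Subgroup H) ⊓ L₂) := by
  have h₁₂ : (L₁ ⊔ L₂).IsSubnormal := Cfsg.Agent.Helper3.isSubnormal_sup h₁ h₂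
  rw [pointStabilizer_eq_of_isSubnormal hH T _ h₁₂, pointStabilizer_eq_of_isSubnormal hH T _ h₁,
    pointStabilizer_eq_of_isSubnormal hH T _ h₂]
  set Zc := Subgroup.centralizer (ΩZ[p, (T : Subgroup H)] : Set H) with hZc
  show pgen p ((L₁ ⊔ L₂) ⊓ Zc) = pgen p (L₁ ⊓ Zc) ⊔ pgen p (L₂ ⊓ Zc)
  set A := (L₁ ⊔ L₂) ⊓ Zc with hA
  set S₁ := pgen p (L₁ ⊓ Zc) with hS₁
  set S₂ := pgen p (L₂ ⊓ Zc) with hS₂
  have hA₁ : L₁ ⊓ Zc ≤ A := inf_le_inf_right _ le_sup_left
  have hA₂ : L₂ ⊓ Zc ≤ A := inf_le_inf_right _ le_sup_right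
  have hS₁A : S₁ ≤ A := (pgen_le p _).trans hA₁
  have hS₂A : S₂ ≤ A := (pgen_le p _).trans hA₂
  apply le_antisymm _ (sup_le (pgen_mono p hA₁) (pgen_mono p hA₂))
  -- the Sylow subgroup
  have hTL : IsSylowOf p (L₁ ⊔ L₂) ((T : Subgroup H) ⊓ (L₁ ⊔ L₂)) :=
    (kieler_local_aux hH T _ h₁₂).1
  have hTZc : (T : Subgroup H) ≤ Zc := by
    rw [hZc, Subgroup.le_centralizer_iff]
    exact (omegaOne_le p _).trans inf_le_right
  have hTA : IsSylowOf p A ((T : Subgroup H) ⊓ (L₁ ⊔ L₂)) :=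
    hTL.of_le (le_inf inf_le_right (inf_le_left.trans hTZc)) inf_le_left
  have hTS : (T : Subgroup H) ⊓ (L₁ ⊔ L₂) ≤ S₁ ⊔ S₂ := by
    rw [inf_comm, Cfsg.Agent.S3028.result T L₁ L₂ h₁ h₂]
    apply sup_le_sup
    · exact le_pgen_of_isPGroup (T.isPGroup'.to_le inf_le_right)
        (le_inf inf_le_left (inf_le_right.trans hTZc))
    · exact le_pgen_of_isPGroup (T.isPGroup'.to_le inf_le_right)
        (le_inf inf_le_left (inf_le_right.trans hTZc))
  -- subnormality inside `A`
  have hsub : ∀ L : Subgroup H, L.IsSubnormal → L ⊓ Zc ≤ A →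
      ((pgen p (L ⊓ Zc)).subgroupOf A).IsSubnormal := by
    intro L hL hLA
    have h1 : ((L ⊓ Zc).subgroupOf A).IsSubnormal := by
      have : (L ⊓ Zc).subgroupOf A = L.subgroupOf A := by
        ext x
        rw [Subgroup.mem_subgroupOf, Subgroup.mem_subgroupOf, Subgroup.mem_inf]
        exact ⟨fun h => h.1, fun h => ⟨h, (Subgroup.mem_inf.mp x.2).2⟩⟩
      rw [this]
      exact hL.subgroupOf
    refine Subgroup.IsSubnormal.step _ _ ?_ h1 ?_
    · intro x hx
      rw [Subgroup.mem_subgroupOf] at hx ⊢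
      exact pgen_le p _ hx
    · rw [Subgroup.normal_subgroupOf_iff_le_normalizer]
      · intro x hx
        rw [Subgroup.mem_subgroupOf] at hx
        have hxN := le_normalizer_pgen p (L ⊓ Zc) (Subgroup.le_normalizer hx)
        rw [Subgroup.mem_normalizer_iff] at hxN ⊢
        intro h
        rw [Subgroup.mem_subgroupOf, Subgroup.mem_subgroupOf]
        simpa using hxN (h : H)
      · intro x hx
        rw [Subgroup.mem_subgroupOf] at hx ⊢
        exact pgen_le p _ hx
  have hsn : ((S₁ ⊔ S₂).subgroupOf A).IsSubnormal := by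
    rw [Subgroup.subgroupOf_sup hS₁A hS₂A]
    exact Cfsg.Agent.Helper3.isSubnormal_sup (hsub L₁ h₁ hA₁) (hsub L₂ h₂ hA₂)
  obtain ⟨P, hP⟩ := hTA
  have hPS : (P : Subgroup ↥A) ≤ (S₁ ⊔ S₂).subgroupOf A := by
    intro y hy
    rw [Subgroup.mem_subgroupOf]
    apply hTS
    rw [← hP]
    exact ⟨y, hy, rfl⟩
  unfold pgen
  rw [Subgroup.closure_le]
  rintro x ⟨hxA, k, hk⟩
  have hxk : orderOf (⟨x, hxA⟩ : ↥A) = p ^ k := by
    rw [Subgroup.orderOf_mk]
    exact hk
  have := mem_of_isSubnormal_of_sylow_le hsn P hPS hxk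
  exact Subgroup.mem_subgroupOf.mp this

end Main

end Cfsg.Agent.Helper14
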