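import Mathlib
import Cfsg.Agent.Lib.Helper14.PMinFamily
import Cfsg.Agent.Lib.Helper14.PointStab
import Cfsg.Agent.Lib.Helper14.OupAmb
import Cfsg.Agent.Lib.Helper16.InvCentQuot

/-!
# Transitive families of strongly `p`-irreducible subgroups (helper14)
-/

set_option autoImplicit false

namespace Cfsg.Agent.Helper14

open Cfsg
open scoped commutatorElement

local notation "cj[" g "]" A:max => Subgroup.map (MulEquiv.toMonoidHom (MulAut.conj g)) A

section Abstract

variable {G : Type*} [Group G]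

/-- a commutative subgroup generated by `p`-elements is a `p`-group -/
theorem isPGroup_pgen_of_comm {p : ℕ} {Z : Subgroup G}
    (hZ : ∀ a ∈ Z, ∀ b ∈ Z, a * b = b * a) : IsPGroup p ↥(pgen p Z) := by
  have key : ∀ x ∈ pgen p Z, ∃ k : ℕ, x ^ p ^ k = 1 := by
    intro x hx
    unfold pgen at hx
    induction hx using Subgroup.closure_induction with
    | mem x hx =>
      obtain ⟨_, k, hk⟩ := hx
      exact ⟨k, by rw [← hk]; exact pow_orderOf_eq_one x⟩
    | one => exact ⟨0, by simp⟩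
    | mul x y hx hy ihx ihy =>
      obtain ⟨a, ha⟩ := ihx
      obtain ⟨b, hb⟩ := ihy
      have hxZ : x ∈ Z := pgen_le p Z hx
      have hyZ : y ∈ Z := pgen_le p Z hy
      refine ⟨a + b, ?_⟩
      have hc : Commute x y := hZ x hxZ y hyZ
      rw [hc.mul_pow, pow_add, pow_mul, ha, one_pow, mul_comm (p ^ a), pow_mul, hb, one_pow, one_mul]
    | inv x _ ih =>
      obtain ⟨a, ha⟩ := ih
      exact ⟨a, by rw [inv_pow, ha, inv_one]⟩
  intro x
  obtain ⟨k, hk⟩ := key x x.2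
  exact ⟨k, Subtype.ext (by simpa using hk)⟩

/-- in a group with `O_p = 1`, an abelian subgroup `Z` of a normal subgroup `Rn`, normalized by `Rn`,
has no nontrivial `p`-elements -/
theorem eq_one_of_orderOf_eq_of_abelian {p : ℕ} (hO : pCore p G = ⊥) {Rn Z : Subgroup G}
    (hRn : Rn.Normal) (hZR : Z ≤ Rn) (hRZ : Rn ≤ Subgroup.normalizer (Z : Set G))
    (hZ : ∀ a ∈ Z, ∀ b ∈ Z, a * b = b * a) {z : G} (hz : z ∈ Z) {k : ℕ}
    (hk : orderOf z = p ^ k) : z = 1 := by
  have h1 : pgen p Z ≤ pCoreOf p Rn :=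
    le_pCoreOf ((pgen_le p Z).trans hZR) (hRZ.trans (le_normalizer_pgen p Z))
      (isPGroup_pgen_of_comm hZ)
  have hPn : (pCoreOf p Rn).Normal := by
    rw [← Subgroup.normalizer_eq_top_iff, eq_top_iff]
    refine le_trans ?_ (normalizer_le_normalizer_pCoreOf p Rn)
    rw [Subgroup.normalizer_eq_top_iff.mpr hRn]
  have h2 : pCoreOf p Rn ≤ ⊥ := hO ▸ le_pCore hPn (pCoreOf_isPGroup p Rn)
  have h3 : z ∈ pgen p Z := Subgroup.subset_closure ⟨hz, k, hk⟩
  exact Subgroup.mem_bot.mp (h2 (h1 h3))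

/-- `x` centralizes a subgroup `A` generated by `p`-elements, if its commutators with the
`p`-elements of `A` lie in a subgroup `Z` centralizing `A` without nontrivial `p`-elements -/
theorem commute_of_commutator_mem {p : ℕ} [hp : Fact p.Prime] {x : G} {A Z : Subgroup G}
    (hc : ∀ a ∈ A, x * a * x⁻¹ * a⁻¹ ∈ Z)
    (hZA : ∀ z ∈ Z, ∀ a ∈ A, z * a = a * z)
    (hZp : ∀ z ∈ Z, ∀ k : ℕ, orderOf z = p ^ k → z = 1)
    (hA : pgen p A = A) : ∀ a ∈ A, x * a = a * x := by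
  have hp1 : ∀ a ∈ A, ∀ k : ℕ, orderOf a = p ^ k → x * a = a * x := by
    intro a ha k hk
    set c := x * a * x⁻¹ * a⁻¹ with hcdef
    have hcZ : c ∈ Z := hc a ha
    have hca : Commute c a := hZA c hcZ a ha
    have hxa : x * a * x⁻¹ = c * a := by rw [hcdef]; group
    have hpow : ∀ n : ℕ, x * a ^ n * x⁻¹ = c ^ n * a ^ n := by
      intro n
      rw [← hca.mul_pow, ← hxa, conj_pow]
    have h1 : c ^ p ^ k = 1 := by
      have := hpow (p ^ k)
      rw [← hk, pow_orderOf_eq_one, mul_one, mul_one, mul_inv_cancel] at this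
      rw [hk] at this
      exact this.symm
    have hdvd : orderOf c ∣ p ^ k := orderOf_dvd_of_pow_eq_one h1
    obtain ⟨j, _, hj⟩ := (Nat.dvd_prime_pow hp.out).mp hdvd
    have hc1 : c = 1 := hZp c hcZ j hj
    have : x * a * x⁻¹ = a := by rw [hxa, hc1, one_mul]
    calc x * a = x * a * x⁻¹ * x := by group
      _ = a * x := by rw [this]
  intro a ha
  rw [← hA] at ha
  unfold pgen at ha
  induction ha using Subgroup.closure_induction with
  | mem a ha => exact hp1 a ha.1 ha.2.choose ha.2.choose_spec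
  | one => simp
  | mul a b _ _ iha ihb => rw [← mul_assoc, iha, mul_assoc, ihb, mul_assoc]
  | inv a _ ih =>
    calc x * a⁻¹ = a⁻¹ * (a * x) * a⁻¹ := by group
      _ = a⁻¹ * (x * a) * a⁻¹ := by rw [ih]
      _ = a⁻¹ * x := by group

end Abstract

section Bar

variable {G : Type*} [Group G] (Q : Subgroup G) [Q.Normal]

theorem map_mk'_sup_self (A : Subgroup G) :
    (A ⊔ Q).map (QuotientGroup.mk' Q) = A.map (QuotientGroup.mk' Q) := by
  rw [Subgroup.map_sup, QuotientGroup.map_mk'_self, sup_bot_eq]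

theorem commutator_le_iff_map_commute (A B : Subgroup G) :
    ⁅A, B⁆ ≤ Q ↔ ∀ a ∈ A.map (QuotientGroup.mk' Q), ∀ b ∈ B.map (QuotientGroup.mk' Q),
      a * b = b * a := by
  constructor
  · intro h
    rintro _ ⟨a, ha, rfl⟩ _ ⟨b, hb, rfl⟩
    have h1 : ⁅a, b⁆ ∈ Q := h (Subgroup.commutator_mem_commutator ha hb)
    have h2 : QuotientGroup.mk' Q ⁅a, b⁆ = 1 := (QuotientGroup.eq_one_iff _).mpr h1
    rw [commutatorElement_def, map_mul, map_mul, map_mul, map_inv, map_inv] at h2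
    have e : QuotientGroup.mk' Q a * QuotientGroup.mk' Q b =
        (QuotientGroup.mk' Q a * QuotientGroup.mk' Q b * (QuotientGroup.mk' Q a)⁻¹ *
          (QuotientGroup.mk' Q b)⁻¹) * (QuotientGroup.mk' Q b * QuotientGroup.mk' Q a) := by group
    rw [e, h2, one_mul]
  · intro h
    rw [Subgroup.commutator_le]
    intro a ha b hb
    have h1 := h _ (Subgroup.mem_map_of_mem _ ha) _ (Subgroup.mem_map_of_mem _ hb)
    apply (QuotientGroup.eq_one_iff _).mp
    show QuotientGroup.mk' Q ⁅a, b⁆ = 1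
    rw [commutatorElement_def, map_mul, map_mul, map_mul, map_inv, map_inv, h1]
    group

theorem map_mk'_inf (A B : Subgroup G) (hQA : Q ≤ A) :
    A.map (QuotientGroup.mk' Q) ⊓ B.map (QuotientGroup.mk' Q) =
      (A ⊓ B).map (QuotientGroup.mk' Q) := by
  apply le_antisymm
  · intro x hx
    obtain ⟨⟨a, ha, hax⟩, ⟨b, hb, hbx⟩⟩ := Subgroup.mem_inf.mp hx
    refine ⟨b, Subgroup.mem_inf.mpr ⟨?_, hb⟩, hbx⟩
    have h1 : QuotientGroup.mk' Q (a⁻¹ * b) = 1 := by
      rw [map_mul, map_inv, hax, hbx, inv_mul_cancel]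
    have h2 : a⁻¹ * b ∈ Q := (QuotientGroup.eq_one_iff _).mp h1
    have e : b = a * (a⁻¹ * b) := by group
    rw [e]
    exact A.mul_mem ha (hQA h2)
  · exact le_inf (Subgroup.map_mono inf_le_left) (Subgroup.map_mono inf_le_right)

theorem pgen_map_mk'_eq {p : ℕ} [hp : Fact p.Prime] {E : Subgroup G} (hE : pgen p E = E) :
    pgen p (E.map (QuotientGroup.mk' Q)) = E.map (QuotientGroup.mk' Q) := by
  apply le_antisymm (pgen_le p _)
  conv_lhs => rw [← hE]
  unfold pgen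
  rw [MonoidHom.map_closure]
  apply Subgroup.closure_mono
  rintro _ ⟨x, ⟨hxE, k, hk⟩, rfl⟩
  refine ⟨Subgroup.mem_map_of_mem _ hxE, ?_⟩
  have hdvd : orderOf (QuotientGroup.mk' Q x) ∣ p ^ k := by
    rw [← hk]
    exact orderOf_map_dvd _ x
  obtain ⟨j, _, hj⟩ := (Nat.dvd_prime_pow hp.out).mp hdvd
  exact ⟨j, hj⟩

end Bar

section SI

variable {H : Type*} [Group H] [Finite H] {p : ℕ} [Fact p.Prime]

omit [Finite H] [Fact p.Prime] in
/-- ambient form of strong `p`-irreducibility -/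
theorem oup_le_of_stronglyPIrreducible {E : Subgroup H} (hE : IsStronglyPIrreducible p ↥E)
    {N : Subgroup H} (hNE : N ≤ E) (hEN : E ≤ Subgroup.normalizer (N : Set H))
    (hN : ¬ ⁅N, E⁆ ≤ pCoreOf p E) : oup p E ≤ N := by
  have hNn : (N.subgroupOf E).Normal := (Subgroup.normal_subgroupOf_iff_le_normalizer hNE).mpr hEN
  have h1 : ¬ ⁅N.subgroupOf E, (⊤ : Subgroup ↥E)⁆ ≤ pCore p ↥E := by
    intro hle
    apply hN
    have h2 := Subgroup.map_mono (f := E.subtype) hle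
    rw [Subgroup.map_commutator, Subgroup.map_subgroupOf_eq_of_le hNE, ← MonoidHom.range_eq_map,
      Subgroup.range_subtype] at h2
    exact h2
  have h3 := hE.2 _ hNn h1
  have h4 := Subgroup.map_mono (f := E.subtype) h3
  rwa [Subgroup.map_subgroupOf_eq_of_le hNE] at h4

/-- a strongly `p`-irreducible group is generated by its `p`-elements -/
theorem pgen_eq_of_stronglyPIrreducible {E : Subgroup H} (hE : IsStronglyPIrreducible p ↥E) :
    pgen p E = E := by
  apply le_antisymm (pgen_le p E)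
  set N := pgen p E with hN
  have hNE : N ≤ E := pgen_le p E
  have hEN : E ≤ Subgroup.normalizer (N : Set H) := Subgroup.le_normalizer.trans (le_normalizer_pgen p E)
  have hnot : ¬ ⁅N, E⁆ ≤ pCoreOf p E := by
    intro hle
    apply hE.1
    obtain ⟨TE, hTE⟩ := exists_isSylowOf p E
    have hTN : TE ≤ N := le_pgen_of_isPGroup hTE.isPGroup hTE.le
    have hOT : pCoreOf p E ≤ TE := pCoreOf_le_of_isSylowOf hTE
    apply isPClosed_of_isSylowOf hTE
    apply le_normalizer_of_conj_mem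
    intro e he t ht
    have h1 : ⁅t, e⁆ ∈ ⁅N, E⁆ := Subgroup.commutator_mem_commutator (hTN ht) he
    have h2 : ⁅t, e⁆ ∈ TE := hOT (hle h1)
    have e1 : e * t * e⁻¹ = (⁅t, e⁆)⁻¹ * t := by
      rw [commutatorElement_def]; group
    rw [e1]
    exact TE.mul_mem (TE.inv_mem h2) ht
  have houp : oup p E ≤ N := oup_le_of_stronglyPIrreducible hE hNE hEN hnot
  intro g hg
  obtain ⟨k, hk⟩ := exists_pow_mem_oup (p := p) hg
  have hgk : g ^ p ^ k ∈ N := houp hk
  have ho : orderOf g ≠ 0 := (orderOf_pos g).ne'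
  obtain ⟨a, m, hm, hom⟩ := Nat.exists_eq_pow_mul_and_not_dvd ho p (Fact.out : p.Prime).ne_one
  have hm0 : m ≠ 0 := by
    rintro rfl
    exact hm (dvd_zero p)
  have hgm : g ^ m ∈ N := by
    apply Subgroup.subset_closure
    refine ⟨E.pow_mem hg m, a, ?_⟩
    rw [orderOf_pow, hom, Nat.gcd_mul_left_left, Nat.mul_div_cancel _ (Nat.pos_of_ne_zero hm0)]
  have hcop : Nat.Coprime (p ^ k) m :=
    Nat.Coprime.pow_left k ((Nat.Prime.coprime_iff_not_dvd Fact.out).mpr hm)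
  have hb := Nat.gcd_eq_gcd_ab (p ^ k) m
  rw [hcop.gcd_eq_one] at hb
  have hb' : (1 : ℤ) = ((p ^ k : ℕ) : ℤ) * Nat.gcdA (p ^ k) m + ((m : ℕ) : ℤ) * Nat.gcdB (p ^ k) m := by
    exact_mod_cast hb
  have e : g = (g ^ p ^ k) ^ (Nat.gcdA (p ^ k) m) * (g ^ m) ^ (Nat.gcdB (p ^ k) m) := by
    calc g = g ^ (1 : ℤ) := (zpow_one g).symm
      _ = g ^ (((p ^ k : ℕ) : ℤ) * Nat.gcdA (p ^ k) m + ((m : ℕ) : ℤ) * Nat.gcdB (p ^ k) m) := by
          rw [← hb']
      _ = (g ^ p ^ k) ^ (Nat.gcdA (p ^ k) m) * (g ^ m) ^ (Nat.gcdB (p ^ k) m) := by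
          rw [zpow_add, zpow_mul, zpow_mul, zpow_natCast, zpow_natCast]
  rw [e]
  exact N.mul_mem (N.zpow_mem hgk _) (N.zpow_mem hgm _)

end SI

section Oup

variable {H : Type*} [Group H] {p : ℕ}

/-- `O^p` commutes with conjugation -/
theorem oup_map_conj (A : Subgroup H) (g : H) : oup p (cj[g] A) = cj[g] (oup p A) := by
  have key : ∀ (B : Subgroup H) (x : H), cj[x] (oup p B) ≤ oup p (cj[x] B) := by
    intro B x
    apply map_conj_oup_le_of
    intro y hy hc
    apply mem_oup_of_coprime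
    · exact ⟨y, hy, rfl⟩
    · have : orderOf (x * y * x⁻¹) = orderOf y :=
        orderOf_injective (MulAut.conj x).toMonoidHom (MulAut.conj x).injective y
      rw [this]
      exact hc
  apply le_antisymm _ (key A g)
  have h1 := key (cj[g] A) g⁻¹
  rw [map_conj_inv_map_conj] at h1
  have h2 := Subgroup.map_mono (f := (MulAut.conj g).toMonoidHom) h1
  rwa [map_conj_map_conj_inv] at h2

end Oup

section FamilySI

variable {H : Type*} [Group H] [Finite H] {p : ℕ} [Fact p.Prime] {𝒦 : Set (Subgroup H)}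

omit [Finite H] [Fact p.Prime] in
/-- `O_p(E) ≤ O_p(H)` for `E ∈ 𝒦` -/
theorem FamilySetup.pCoreOf_le (h : FamilySetup p 𝒦) {E : Subgroup H} (hE : E ∈ 𝒦) :
    pCoreOf p E ≤ pCore p H := by
  set Q := pCore p H with hQ
  haveI hQn : Q.Normal := FamilySetup.pCore_normal
  have hNQ : ∀ A : Subgroup H, A ≤ Subgroup.normalizer (Q : Set H) := fun A => by
    rw [Subgroup.normalizer_eq_top_iff.mpr hQn]; exact le_top
  set O := pCoreOf p E with hO
  have hOQp : IsPGroup p ↥(O ⊔ Q) :=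
    (pCoreOf_isPGroup p E).to_sup_of_normal_right (pCore_isPGroup p H)
  have hEn : E ≤ Subgroup.normalizer ((O ⊔ Q : Subgroup H) : Set H) := fun e he =>
    Subgroup.normalizer_inf_normalizer_le_normalizer_sup O Q
      (Subgroup.mem_inf.mpr ⟨le_normalizer_pCoreOf p E he, hNQ E he⟩)
  have hQn' : Q ≤ Subgroup.normalizer ((O ⊔ Q : Subgroup H) : Set H) :=
    le_sup_right.trans Subgroup.le_normalizer
  have h1 : O ⊔ Q ≤ pCoreOf p (E ⊔ Q) :=
    le_pCoreOf (sup_le_sup_right (Cfsg.Agent.Helper14.pCoreOf_le p E) Q) (_root_.sup_le hEn hQn') hOQp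
  have h2 : pCoreOf p (E ⊔ Q) ≤ pCoreOf p (sSup 𝒦 ⊔ Q) :=
    pCoreOf_le_pCoreOf_of_le_normalizer (h.sup_le hE) (h.norm E hE)
  have hPn : (pCoreOf p (sSup 𝒦 ⊔ Q)).Normal := by
    rw [← Subgroup.normalizer_eq_top_iff, eq_top_iff]
    refine le_trans ?_ (normalizer_le_normalizer_pCoreOf p _)
    rw [Subgroup.normalizer_eq_top_iff.mpr h.sup_normal]
  exact le_sup_left.trans (h1.trans (h2.trans (le_pCore hPn (pCoreOf_isPGroup p _))))

/-- if `O^p(E) ≤ K O_p(H)` then `O^p(E O_p(H)) ≤ O^p(K O_p(H))` -/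
theorem FamilySetup.oup_sup_le (h : FamilySetup p 𝒦) {E K : Subgroup H} (hK : K ∈ 𝒦)
    (hEK : oup p E ≤ K ⊔ pCore p H) : oup p (E ⊔ pCore p H) ≤ oup p (K ⊔ pCore p H) := by
  set Q := pCore p H with hQ
  haveI hQn : Q.Normal := FamilySetup.pCore_normal
  have hQp : IsPGroup p ↥Q := pCore_isPGroup p H
  have hNQ : ∀ A : Subgroup H, A ≤ Subgroup.normalizer (Q : Set H) := fun A => by
    rw [Subgroup.normalizer_eq_top_iff.mpr hQn]; exact le_top
  set W := oup p (K ⊔ Q) with hW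
  have hEW : oup p E ≤ W := by
    apply oup_le_of_coprime_mem
    intro y hy hc
    exact mem_oup_of_coprime (hEK (mem_oup_of_coprime hy hc)) hc
  have hRW : sSup 𝒦 ⊔ Q ≤ Subgroup.normalizer (W : Set H) :=
    (h.norm K hK).trans (normalizer_le_normalizer_oup _)
  apply oup_le_of_coprime_mem
  intro g hg hc
  obtain ⟨e, he, q, hq, rfl⟩ := (mem_sup_of_le_normalizer (hNQ E)).mp hg
  obtain ⟨k, hk⟩ := exists_pow_mem_oup (p := p) he
  have e1 : e * q = (e * q * e⁻¹) * e := by group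
  obtain ⟨q', hq', hpow⟩ := mul_pow_mem_mul (hQn.conj_mem q hq e) (hNQ E he) (p ^ k)
  have h1 : (e * q) ^ p ^ k ∈ W ⊔ Q := by
    rw [e1, hpow, sup_comm]
    exact Subgroup.mul_mem_sup hq' (hEW hk)
  obtain ⟨j, hj⟩ := exists_pow_mem_of_mem_sup hQp (le_sup_right.trans hRW) h1
  rw [← pow_mul, ← pow_add] at hj
  exact mem_of_pow_mem_of_coprime hj hc

/-- if `O^p(E) ≤ K O_p(H)` then `O^p(E O_p(H)) = O^p(K O_p(H))` -/
theorem FamilySetup.oup_sup_eq (h : FamilySetup p 𝒦) {E K : Subgroup H} (hE : E ∈ 𝒦) (hK : K ∈ 𝒦)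
    (hEK : oup p E ≤ K ⊔ pCore p H) : oup p (E ⊔ pCore p H) = oup p (K ⊔ pCore p H) := by
  have hle := h.oup_sup_le hK hEK
  obtain ⟨T⟩ : Nonempty (Sylow p H) := Sylow.nonempty
  obtain ⟨t, _, hKt⟩ := h.exists_conj_sylow T hE hK
  apply Subgroup.eq_of_le_of_card_ge hle
  rw [hKt, oup_map_conj]
  exact (Nat.card_congr ((oup p (E ⊔ pCore p H)).equivMapOfInjective _
    (MulAut.conj t).injective).toEquiv).symm.le

end FamilySI

section Dichotomy

variable {H : Type*} [Group H] [Finite H] {p : ℕ} [Fact p.Prime] {𝒦 : Set (Subgroup H)}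

omit [Finite H] [Fact p.Prime] in
theorem FamilySetup.map_le_normalizer_map (h : FamilySetup p 𝒦) [hQn : (pCore p H).Normal]
    {E : Subgroup H} (hE : E ∈ 𝒦) :
    (sSup 𝒦 ⊔ pCore p H).map (QuotientGroup.mk' (pCore p H)) ≤
      Subgroup.normalizer ((E.map (QuotientGroup.mk' (pCore p H)) : Subgroup (H ⧸ pCore p H)) :
        Set (H ⧸ pCore p H)) := by
  calc (sSup 𝒦 ⊔ pCore p H).map (QuotientGroup.mk' (pCore p H))
      ≤ (Subgroup.normalizer ((E ⊔ pCore p H : Subgroup H) : Set H)).map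
          (QuotientGroup.mk' (pCore p H)) := Subgroup.map_mono (h.norm E hE)
    _ ≤ Subgroup.normalizer (((E ⊔ pCore p H).map (QuotientGroup.mk' (pCore p H)) :
          Subgroup (H ⧸ pCore p H)) : Set (H ⧸ pCore p H)) := Subgroup.le_normalizer_map _
    _ = _ := by rw [map_mk'_sup_self]

/-- the dichotomy for two members of a family of strongly `p`-irreducible subgroups -/
theorem FamilySetup.oup_eq_or_commutator_le (h : FamilySetup p 𝒦)
    (hsi : ∀ E ∈ 𝒦, IsStronglyPIrreducible p ↥E) {E K : Subgroup H} (hE : E ∈ 𝒦) (hK : K ∈ 𝒦) :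
    oup p (E ⊔ pCore p H) = oup p (K ⊔ pCore p H) ∨ ⁅E, K⁆ ≤ pCore p H := by
  haveI hQn : (pCore p H).Normal := FamilySetup.pCore_normal
  have hRQn := h.sup_normal
  have hER : E ≤ sSup 𝒦 ⊔ pCore p H := (le_sSup hE).trans le_sup_left
  have hKR : K ≤ sSup 𝒦 ⊔ pCore p H := (le_sSup hK).trans le_sup_left
  by_cases h1 : ⁅E ⊓ (K ⊔ pCore p H), E⁆ ≤ pCoreOf p E
  swap
  · left
    have hN : E ≤ Subgroup.normalizer ((E ⊓ (K ⊔ pCore p H) : Subgroup H) : Set H) :=
      le_normalizer_inf Subgroup.le_normalizer (hER.trans (h.norm K hK))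
    exact h.oup_sup_eq hE hK
      ((oup_le_of_stronglyPIrreducible (hsi E hE) inf_le_left hN h1).trans inf_le_right)
  by_cases h2 : ⁅K ⊓ (E ⊔ pCore p H), K⁆ ≤ pCoreOf p K
  swap
  · left
    have hN : K ≤ Subgroup.normalizer ((K ⊓ (E ⊔ pCore p H) : Subgroup H) : Set H) :=
      le_normalizer_inf Subgroup.le_normalizer (hKR.trans (h.norm E hE))
    exact (h.oup_sup_eq hK hE
      ((oup_le_of_stronglyPIrreducible (hsi K hK) inf_le_left hN h2).trans inf_le_right)).symm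
  right
  rw [commutator_le_iff_map_commute (pCore p H)]
  set π := QuotientGroup.mk' (pCore p H) with hπ
  have hπs : Function.Surjective π := QuotientGroup.mk'_surjective _
  set Eb := E.map π with hEb
  set Kb := K.map π with hKb
  set Rb := (sSup 𝒦 ⊔ pCore p H).map π with hRb
  have hO : pCore p (H ⧸ pCore p H) = ⊥ := Cfsg.Agent.Helper16.pCore_quotient_pCore_eq_bot p
  have hRbn : Rb.Normal := hRQn.map π hπs
  have hEbR : Eb ≤ Rb := Subgroup.map_mono hER
  have hKbR : Kb ≤ Rb := Subgroup.map_mono hKR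
  have hRbE : Rb ≤ Subgroup.normalizer (Eb : Set (H ⧸ pCore p H)) := h.map_le_normalizer_map hE
  have hRbK : Rb ≤ Subgroup.normalizer (Kb : Set (H ⧸ pCore p H)) := h.map_le_normalizer_map hK
  set Z := Eb ⊓ Kb with hZ
  have hZ1 : Z = (E ⊓ (K ⊔ pCore p H)).map π := by
    rw [inf_comm E, ← map_mk'_inf (pCore p H) (K ⊔ pCore p H) E le_sup_right, map_mk'_sup_self,
      inf_comm]
  have hZ2 : Z = (K ⊓ (E ⊔ pCore p H)).map π := by
    rw [inf_comm K, ← map_mk'_inf (pCore p H) (E ⊔ pCore p H) K le_sup_right, map_mk'_sup_self]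
  have hZE : ∀ z ∈ Z, ∀ a ∈ Eb, z * a = a * z := by
    rw [hZ1]
    exact (commutator_le_iff_map_commute (pCore p H) _ _).mp (h1.trans (h.pCoreOf_le hE))
  have hZK : ∀ z ∈ Z, ∀ a ∈ Kb, z * a = a * z := by
    rw [hZ2]
    exact (commutator_le_iff_map_commute (pCore p H) _ _).mp (h2.trans (h.pCoreOf_le hK))
  have hZab : ∀ a ∈ Z, ∀ b ∈ Z, a * b = b * a := fun a ha b hb => hZE a ha b (Subgroup.mem_inf.mp hb).1
  have hZR : Z ≤ Rb := inf_le_left.trans hEbR
  have hRZ : Rb ≤ Subgroup.normalizer (Z : Set (H ⧸ pCore p H)) := le_normalizer_inf hRbE hRbK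
  have hZp : ∀ z ∈ Z, ∀ k : ℕ, orderOf z = p ^ k → z = 1 := fun z hz k hk =>
    eq_one_of_orderOf_eq_of_abelian hO hRbn hZR hRZ hZab hz hk
  intro a ha b hb
  refine commute_of_commutator_mem (p := p) (x := a) (A := Kb) (Z := Z) ?_ hZK hZp
    (pgen_map_mk'_eq (pCore p H) (pgen_eq_of_stronglyPIrreducible (hsi K hK))) b hb
  intro k hk
  refine Subgroup.mem_inf.mpr ⟨?_, ?_⟩
  · have hkN := hRbE (hKbR hk)
    have h3 : k * a⁻¹ * k⁻¹ ∈ Eb := (Subgroup.mem_normalizer_iff.mp hkN a⁻¹).mp (Eb.inv_mem ha)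
    have e : a * k * a⁻¹ * k⁻¹ = a * (k * a⁻¹ * k⁻¹) := by group
    rw [e]
    exact Eb.mul_mem ha h3
  · have haN := hRbK (hEbR ha)
    have h3 : a * k * a⁻¹ ∈ Kb := (Subgroup.mem_normalizer_iff.mp haN k).mp hk
    exact Kb.mul_mem h3 (Kb.inv_mem hk)

end Dichotomy

section Irreducible

variable {H : Type*} [Group H] [Finite H] {p : ℕ} [Fact p.Prime] {𝒦 : Set (Subgroup H)}

/-- in the degenerate case, a normal subgroup `N₁ ≥ O_p(H)` is `p`-closed -/
theorem FamilySetup.isPClosed_of_commutator_le (h : FamilySetup p 𝒦)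
    (hsi : ∀ E ∈ 𝒦, IsStronglyPIrreducible p ↥E) {N₁ : Subgroup H} (hN₁n : N₁.Normal)
    (hQN₁ : pCore p H ≤ N₁) (hall : ∀ E ∈ 𝒦, ⁅N₁ ⊓ E, E⁆ ≤ pCoreOf p E) :
    IsPClosed p ↥N₁ := by
  haveI hQn : (pCore p H).Normal := FamilySetup.pCore_normal
  have hRQn := h.sup_normal
  obtain ⟨T⟩ : Nonempty (Sylow p H) := Sylow.nonempty
  set π := QuotientGroup.mk' (pCore p H) with hπ
  have hπs : Function.Surjective π := QuotientGroup.mk'_surjective _
  set Rb := (sSup 𝒦 ⊔ pCore p H).map π with hRb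
  set Nb := N₁.map π with hNb
  have hO : pCore p (H ⧸ pCore p H) = ⊥ := Cfsg.Agent.Helper16.pCore_quotient_pCore_eq_bot p
  have hRbn : Rb.Normal := hRQn.map π hπs
  have hNbn : Nb.Normal := hN₁n.map π hπs
  have hEbR : ∀ E ∈ 𝒦, E.map π ≤ Rb := fun E hE =>
    Subgroup.map_mono ((le_sSup hE).trans le_sup_left)
  have hRbE : ∀ E ∈ 𝒦, Rb ≤ Subgroup.normalizer ((E.map π : Subgroup (H ⧸ pCore p H)) :
      Set (H ⧸ pCore p H)) := fun E hE => h.map_le_normalizer_map hE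
  have hpgen : ∀ E ∈ 𝒦, pgen p (E.map π) = E.map π := fun E hE =>
    pgen_map_mk'_eq (pCore p H) (pgen_eq_of_stronglyPIrreducible (hsi E hE))
  -- `Rb` is generated by the `E.map π`
  have hRbgen : ∀ C : Subgroup (H ⧸ pCore p H), (∀ E ∈ 𝒦, E.map π ≤ C) → Rb ≤ C := by
    intro C hC
    rw [hRb, map_mk'_sup_self, Subgroup.map_le_iff_le_comap]
    apply sSup_le
    intro E hE
    rw [← Subgroup.map_le_iff_le_comap]
    exact hC E hE
  have hNE : ∀ E ∈ 𝒦, ∀ z ∈ Nb ⊓ E.map π, ∀ a ∈ E.map π, z * a = a * z := by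
    intro E hE
    rw [hNb, map_mk'_inf (pCore p H) N₁ E hQN₁]
    exact (commutator_le_iff_map_commute (pCore p H) _ _).mp ((hall E hE).trans (h.pCoreOf_le hE))
  -- Step A
  have hA : ∀ x ∈ Nb ⊓ Rb, ∀ E ∈ 𝒦, ∀ a ∈ E.map π, x * a = a * x := by
    intro x hx E hE
    obtain ⟨hxN, hxR⟩ := Subgroup.mem_inf.mp hx
    have hZab : ∀ a ∈ Nb ⊓ E.map π, ∀ b ∈ Nb ⊓ E.map π, a * b = b * a :=
      fun a ha b hb => hNE E hE a ha b (Subgroup.mem_inf.mp hb).2
    have hRZ : Rb ≤ Subgroup.normalizer ((Nb ⊓ E.map π : Subgroup (H ⧸ pCore p H)) :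
        Set (H ⧸ pCore p H)) :=
      le_normalizer_inf (by rw [Subgroup.normalizer_eq_top_iff.mpr hNbn]; exact le_top) (hRbE E hE)
    refine commute_of_commutator_mem (p := p) (x := x) (A := E.map π) (Z := Nb ⊓ E.map π) ?_
      (hNE E hE) (fun z hz k hk => eq_one_of_orderOf_eq_of_abelian hO hRbn
        (inf_le_right.trans (hEbR E hE)) hRZ hZab hz hk) (hpgen E hE)
    intro a ha
    refine Subgroup.mem_inf.mpr ⟨?_, ?_⟩
    · have h3 : a * x⁻¹ * a⁻¹ ∈ Nb := hNbn.conj_mem x⁻¹ (Nb.inv_mem hxN) a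
      have e : x * a * x⁻¹ * a⁻¹ = x * (a * x⁻¹ * a⁻¹) := by group
      rw [e]
      exact Nb.mul_mem hxN h3
    · have h3 : x * a * x⁻¹ ∈ E.map π :=
        (Subgroup.mem_normalizer_iff.mp (hRbE E hE hxR) a).mp ha
      exact Subgroup.mul_mem _ h3 (Subgroup.inv_mem _ ha)
  have hcent : ∀ x ∈ Nb ⊓ Rb, ∀ r ∈ Rb, x * r = r * x := by
    intro x hx r hr
    have h1 : Rb ≤ Subgroup.centralizer ({x} : Set (H ⧸ pCore p H)) := by
      apply hRbgen
      intro E hE a ha
      rw [Subgroup.mem_centralizer_singleton_iff]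
      exact (hA x hx E hE a ha).symm
    have := Subgroup.mem_centralizer_singleton_iff.mp (h1 hr)
    exact this.symm
  have hN1ab : ∀ a ∈ Nb ⊓ Rb, ∀ b ∈ Nb ⊓ Rb, a * b = b * a :=
    fun a ha b hb => hcent a ha b (Subgroup.mem_inf.mp hb).2
  have hN1n : (Nb ⊓ Rb).Normal := Subgroup.normal_inf_normal Nb Rb
  have hN1p : ∀ z ∈ Nb ⊓ Rb, ∀ k : ℕ, orderOf z = p ^ k → z = 1 := fun z hz k hk =>
    eq_one_of_orderOf_eq_of_abelian hO hN1n le_rfl Subgroup.le_normalizer hN1ab hz hk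
  -- Step B
  have hB : ∀ x ∈ Nb, ∀ E ∈ 𝒦, ∀ a ∈ E.map π, x * a = a * x := by
    intro x hxN E hE
    refine commute_of_commutator_mem (p := p) (x := x) (A := E.map π) (Z := Nb ⊓ Rb) ?_
      (fun z hz a ha => hcent z hz a (hEbR E hE ha)) hN1p (hpgen E hE)
    intro a ha
    refine Subgroup.mem_inf.mpr ⟨?_, ?_⟩
    · have h3 : a * x⁻¹ * a⁻¹ ∈ Nb := hNbn.conj_mem x⁻¹ (Nb.inv_mem hxN) a
      have e : x * a * x⁻¹ * a⁻¹ = x * (a * x⁻¹ * a⁻¹) := by group
      rw [e]
      exact Nb.mul_mem hxN h3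
    · have h3 : x * a * x⁻¹ ∈ Rb := hRbn.conj_mem a (hEbR E hE ha) x
      exact Rb.mul_mem h3 (Rb.inv_mem (hEbR E hE ha))
  have hcentN : ∀ x ∈ Nb, ∀ r ∈ Rb, x * r = r * x := by
    intro x hx r hr
    have h1 : Rb ≤ Subgroup.centralizer ({x} : Set (H ⧸ pCore p H)) := by
      apply hRbgen
      intro E hE a ha
      rw [Subgroup.mem_centralizer_singleton_iff]
      exact (hB x hx E hE a ha).symm
    have := Subgroup.mem_centralizer_singleton_iff.mp (h1 hr)
    exact this.symm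
  -- Step C
  have hTN : IsSylowOf p N₁ ((T : Subgroup H) ⊓ N₁) :=
    (isSylowOf_of_sylow_le T le_top).inf_of_le_normalizer le_top
      (by rw [Subgroup.normalizer_eq_top_iff.mpr hN₁n])
  apply isPClosed_of_isSylowOf hTN
  have hQTN : pCore p H ≤ (T : Subgroup H) ⊓ N₁ := le_inf (pCore_le_sylow T) hQN₁
  have hpc : PowCond p N₁ (sSup 𝒦 ⊔ pCore p H) := by
    intro n _
    obtain ⟨k, hk⟩ := Cfsg.Agent.Helper22.exists_pow_mem_pResidual (p := p) n
    exact ⟨k, le_sup_left (a := sSup 𝒦) (h.res hk)⟩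
  apply le_normalizer_of_conj_mem
  intro n hn y hy
  obtain ⟨t, ht, c, hc, rfl⟩ := exists_mul_of_powCond_amb hTN le_rfl Subgroup.le_normalizer
    (by rw [Subgroup.normalizer_eq_top_iff.mpr hRQn]; exact le_top) hpc n hn
  have hcy : c * y * c⁻¹ ∈ (T : Subgroup H) ⊓ N₁ := by
    have h1 : π y * π c = π c * π y :=
      hcentN (π y) (Subgroup.mem_map_of_mem _ (Subgroup.mem_inf.mp hy).2) (π c)
        (Subgroup.mem_map_of_mem _ (Subgroup.mem_inf.mp hc).1)
    have h2 : π (c * y * c⁻¹ * y⁻¹) = 1 := by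
      rw [map_mul, map_mul, map_mul, map_inv, map_inv, ← h1]
      group
    have h3 : c * y * c⁻¹ * y⁻¹ ∈ pCore p H := (QuotientGroup.eq_one_iff _).mp h2
    have e : c * y * c⁻¹ = (c * y * c⁻¹ * y⁻¹) * y := by group
    rw [e]
    exact Subgroup.mul_mem _ (hQTN h3) hy
  have e : t * c * y * (t * c)⁻¹ = t * (c * y * c⁻¹) * t⁻¹ := by group
  rw [e]
  exact Subgroup.mul_mem _ (Subgroup.mul_mem _ ht hcy) (Subgroup.inv_mem _ ht)

end Irreducible

section IrreducibleMain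

variable {H : Type*} [Group H] [Finite H] {p : ℕ} [Fact p.Prime] {𝒦 : Set (Subgroup H)}

/-- **strongly `p`-irreducible members make `H` `p`-irreducible** -/
theorem FamilySetup.isPIrreducible (h : FamilySetup p 𝒦)
    (hsi : ∀ E ∈ 𝒦, IsStronglyPIrreducible p ↥E) : IsPIrreducible p H := by
  haveI hQn : (pCore p H).Normal := FamilySetup.pCore_normal
  have hQp : IsPGroup p ↥(pCore p H) := pCore_isPGroup p H
  have hRQn := h.sup_normal
  have hNtop : ∀ {N : Subgroup H}, N.Normal → ∀ A : Subgroup H,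
      A ≤ Subgroup.normalizer (N : Set H) := fun hN A => by
    rw [Subgroup.normalizer_eq_top_iff.mpr hN]; exact le_top
  obtain ⟨E₁, hE₁⟩ := h.ne
  obtain ⟨T⟩ : Nonempty (Sylow p H) := Sylow.nonempty
  refine ⟨?_, ?_⟩
  · intro hcl
    apply (hsi E₁ hE₁).1
    apply isPClosed_of_isSylowOf (h.isSylowOf_inf T hE₁)
    exact le_normalizer_inf (hNtop (hcl T) E₁) Subgroup.le_normalizer
  · intro N hNn hNcl
    set N₁ := N ⊔ pCore p H with hN₁
    have hN₁n : N₁.Normal := Subgroup.sup_normal N (pCore p H)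
    suffices hsuff : pResidual p H ≤ N₁ by
      unfold pResidual
      rw [Subgroup.closure_le]
      intro g hg
      have hg1 : g ∈ N ⊔ pCore p H := hsuff (Cfsg.Agent.Helper22.mem_pResidual_of_coprime g hg)
      exact coprime_mem_of_mem_sup hQp (hNtop hNn _) hg1 hg
    have hN₁cl : ¬ IsPClosed p ↥N₁ := by
      intro hcl
      apply hNcl
      obtain ⟨T₁, hT₁, hN₁T₁⟩ := exists_isSylowOf_of_isPClosed hcl
      have hNN₁ : N ≤ N₁ := le_sup_left
      apply isPClosed_of_isSylowOf (hT₁.inf_of_le_normalizer hNN₁ (hNtop hNn _))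
      exact le_normalizer_inf (hNN₁.trans hN₁T₁) Subgroup.le_normalizer
    by_cases hex : ∃ E ∈ 𝒦, ¬ ⁅N₁ ⊓ E, E⁆ ≤ pCoreOf p E
    · obtain ⟨E, hE, hnot⟩ := hex
      have hEoup : oup p E ≤ N₁ :=
        (oup_le_of_stronglyPIrreducible (hsi E hE) inf_le_right
          (le_normalizer_inf (hNtop hN₁n E) Subgroup.le_normalizer) hnot).trans inf_le_left
      have hall : ∀ K ∈ 𝒦, oup p K ≤ N₁ := by
        intro K hK
        obtain ⟨x, hx⟩ := h.tr E hE K hK
        rw [hx, oup_map_conj]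
        calc cj[x] (oup p E) ≤ cj[x] N₁ := Subgroup.map_mono hEoup
          _ = N₁ := map_conj_eq_self_of_le_normalizer (H := ⊤) (hNtop hN₁n ⊤) (Subgroup.mem_top x)
      set π₁ := QuotientGroup.mk' N₁ with hπ₁
      have hQbot : (pCore p H).map π₁ = ⊥ := by
        rw [Subgroup.map_eq_bot_iff, QuotientGroup.ker_mk']
        exact le_sup_right
      have hKp : ∀ K ∈ 𝒦, K.map π₁ ≤ pCoreOf p ((sSup 𝒦 ⊔ pCore p H).map π₁) := by
        intro K hK
        apply le_pCoreOf (Subgroup.map_mono ((le_sSup hK).trans le_sup_left))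
        · have e : K.map π₁ = (K ⊔ pCore p H).map π₁ := by
            rw [Subgroup.map_sup, hQbot, sup_bot_eq]
          rw [e]
          exact (Subgroup.map_mono (h.norm K hK)).trans (Subgroup.le_normalizer_map π₁)
        · apply (powCond_iff_isPGroup_map K N₁).mp
          intro k hk
          obtain ⟨a, ha⟩ := exists_pow_mem_oup (p := p) hk
          exact ⟨a, hall K hK ha⟩
      have hRp : IsPGroup p ↥((sSup 𝒦).map π₁) := by
        apply (pCoreOf_isPGroup p ((sSup 𝒦 ⊔ pCore p H).map π₁)).to_le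
        rw [Subgroup.map_le_iff_le_comap]
        apply sSup_le
        intro K hK
        rw [← Subgroup.map_le_iff_le_comap]
        exact hKp K hK
      unfold pResidual
      rw [Subgroup.closure_le]
      intro g hg
      have hgR : g ∈ sSup 𝒦 := h.res (Cfsg.Agent.Helper22.mem_pResidual_of_coprime g hg)
      obtain ⟨k, hk⟩ := hRp ⟨π₁ g, Subgroup.mem_map_of_mem _ hgR⟩
      have hk' : (π₁ g) ^ p ^ k = 1 := by
        have := congrArg Subtype.val hk
        simpa using this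
      have h1 : π₁ (g ^ p ^ k) = 1 := by rw [map_pow]; exact hk'
      have hmem : g ^ p ^ k ∈ N₁ := (QuotientGroup.eq_one_iff _).mp h1
      exact mem_of_pow_mem_of_coprime hmem hg
    · push Not at hex
      exact absurd (h.isPClosed_of_commutator_le hsi hN₁n le_sup_right hex) hN₁cl

end IrreducibleMain

end Cfsg.Agent.Helper14
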