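import Mathlib
import Cfsg.Agent.Lib.Helper14.LargestPReduced
import Cfsg.Agent.Lib.Helper14.AxB
import Cfsg.Agent.Lib.Helper1.CharacteristicMap

set_option autoImplicit false

namespace Cfsg.Agent.Helper14

open Cfsg
open scoped commutatorElement

/-- `p`-reduced normal subgroups are carried to `p`-reduced normal subgroups by isomorphisms. -/
theorem IsPReducedNormal.map_equiv {L L' : Type*} [Group L] [Group L'] {p : ℕ} (φ : L ≃* L') {V : Subgroup L}
    (hV : IsPReducedNormal p V) : IsPReducedNormal p (V.map φ.toMonoidHom) := by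
  obtain ⟨hVn, hVe, hred⟩ := (isPReducedNormal_iff V).mp hV
  rw [isPReducedNormal_iff]
  refine ⟨Subgroup.Normal.map hVn φ.toMonoidHom φ.surjective, ⟨⟨⟨fun a b => ?_⟩⟩, ?_⟩, ?_⟩
  · obtain ⟨a', ha', haa⟩ := a.2
    obtain ⟨b', hb', hbb⟩ := b.2
    have h := hVe.1.is_comm.comm (⟨a', ha'⟩ : ↥V) ⟨b', hb'⟩
    have h' : a' * b' = b' * a' := congrArg Subtype.val h
    apply Subtype.ext
    show (a : L') * (b : L') = (b : L') * (a : L')
    rw [← haa, ← hbb]
    show φ a' * φ b' = φ b' * φ a'
    rw [← map_mul, ← map_mul, h']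
  · rintro _ ⟨a, ha, rfl⟩
    show (φ a) ^ p = 1
    rw [← map_pow, hVe.2 a ha, map_one]
  · intro D hDn hDp
    have hD'n : (D.comap φ.toMonoidHom).Normal := hDn.comap _
    have hD'p : PowCond p (D.comap φ.toMonoidHom) (Subgroup.centralizer (V : Set L)) := by
      intro d hd
      obtain ⟨k, hk⟩ := hDp (φ d) hd
      refine ⟨k, ?_⟩
      rw [Subgroup.mem_centralizer_iff] at hk ⊢
      intro v hv
      apply φ.injective
      have := hk (φ v) ⟨v, hv, rfl⟩
      rw [map_mul, map_mul, map_pow]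
      exact this
    have h := hred _ hD'n hD'p
    intro d hd
    have hd' : φ.symm d ∈ D.comap φ.toMonoidHom := by
      show φ (φ.symm d) ∈ D
      rwa [MulEquiv.apply_symm_apply]
    have hc := h hd'
    rw [Subgroup.mem_centralizer_iff] at hc ⊢
    rintro _ ⟨v, hv, rfl⟩
    have := hc v hv
    show φ v * d = d * φ v
    have e : d = φ (φ.symm d) := (MulEquiv.apply_symm_apply φ d).symm
    rw [e, ← map_mul, ← map_mul, this]

/-- `Y_L` is a characteristic subgroup. -/
theorem largestPReduced_characteristic {p : ℕ} [Fact p.Prime] (L : Type*) [Group L] [Finite L] :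
    (largestPReduced p L).Characteristic := by
  rw [Subgroup.characteristic_iff_map_le]
  intro φ
  exact (largestPReduced_spec L).2 _ (IsPReducedNormal.map_equiv φ (largestPReduced_spec L).1)

/-- `Y_L` is normalized by the normalizer of `L`. -/
theorem normalizer_le_normalizer_largestPReducedOf {H : Type*} [Group H] [Finite H] {p : ℕ} [Fact p.Prime]
    (L : Subgroup H) :
    Subgroup.normalizer (L : Set H) ≤ Subgroup.normalizer (largestPReducedOf p L : Set H) := by
  haveI := largestPReduced_characteristic (p := p) ↥L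
  exact Cfsg.Agent.Helper1.normalizer_le_normalizer_map_of_characteristic L (largestPReduced p ↥L)

theorem IsElementaryAbelian.mono {H : Type*} [Group H] {p : ℕ} {A B : Subgroup H} (hB : IsElementaryAbelian p B)
    (h : A ≤ B) : IsElementaryAbelian p A := by
  refine ⟨⟨⟨fun a b => ?_⟩⟩, fun a ha => hB.2 a (h ha)⟩
  have := hB.1.is_comm.comm (⟨a, h a.2⟩ : ↥B) ⟨b, h b.2⟩
  apply Subtype.ext
  exact congrArg (fun z : ↥B => (z : H)) this

theorem IsElementaryAbelian.comm {H : Type*} [Group H] {p : ℕ} {A : Subgroup H} (hA : IsElementaryAbelian p A) :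
    ∀ a ∈ A, ∀ b ∈ A, a * b = b * a := by
  intro a ha b hb
  exact congrArg Subtype.val (hA.1.is_comm.comm ⟨a, ha⟩ ⟨b, hb⟩)

/-- For a `p`-reduced normal subgroup `V` of a finite group and a subnormal subgroup `K`: `U = [V, O^p(K)]` lies in `K`, is a
`p`-reduced normal subgroup of `K`, and `C_K(U) ≤ C(V)`. -/
theorem commutator_pResidual_spec {L : Type*} [Group L] [Finite L] {p : ℕ} [Fact p.Prime] (V : Subgroup L)
    (hV : IsPReducedNormal p V) (K : Subgroup L) (hK : K.IsSubnormal) :
    ⁅V, (pResidual p ↥K).map K.subtype⁆ ≤ K ∧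
      IsPReducedNormal p ((⁅V, (pResidual p ↥K).map K.subtype⁆).subgroupOf K) ∧
        K ⊓ Subgroup.centralizer ((⁅V, (pResidual p ↥K).map K.subtype⁆ : Subgroup L) : Set L) ≤
          Subgroup.centralizer (V : Set L) := by
  have hVn : V.Normal := hV.1
  have hVe : IsElementaryAbelian p V := hV.2.1
  have hVp : IsPGroup p V := Cfsg.Agent.Helper14.IsElementaryAbelian.isPGroup hVe
  have hVc : ∀ a ∈ V, ∀ b ∈ V, a * b = b * a := IsElementaryAbelian.comm hVe
  set E := (pResidual p ↥K).map K.subtype with hE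
  set U := ⁅V, E⁆ with hU
  have hEK : E ≤ K := Subgroup.map_subtype_le _
  have hKE : K ≤ Subgroup.normalizer (E : Set L) :=
    le_normalizer_map_subtype_of_normal Cfsg.Agent.Helper22.pResidual_normal
  have hKV : K ≤ Subgroup.normalizer (V : Set L) := by
    rw [Subgroup.normalizer_eq_top_iff.mpr hVn]; exact le_top
  have hUV : U ≤ V := Subgroup.commutator_le_left V E
  -- Step B: U ≤ K
  have hUK : U ≤ K := by
    rw [hU, Subgroup.commutator_le]
    rintro v hv _ ⟨e, he, rfl⟩
    revert v
    unfold pResidual at he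
    induction he using Subgroup.closure_induction with
    | mem e he =>
      intro v hv
      have hec : (orderOf ((e : ↥K) : L)).Coprime p := by
        rw [Subgroup.orderOf_coe]; exact he
      have := comm_mem_of_subnormal hVn hVc hVp hK (e : L) e.2 hec v hv
      rwa [← commutatorElement_def] at this
    | one =>
      intro v _
      simp
    | mul a b _ _ iha ihb =>
      intro v hv
      have e : ⁅v, K.subtype (a * b)⁆ = ⁅v, K.subtype a⁆ * (K.subtype a * ⁅v, K.subtype b⁆ * (K.subtype a)⁻¹) := by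
        simp only [commutatorElement_def, map_mul]; group
      rw [e]
      exact K.mul_mem (iha v hv) (K.mul_mem (K.mul_mem a.2 (ihb v hv)) (K.inv_mem a.2))
    | inv a _ iha =>
      intro v hv
      have e : ⁅v, K.subtype a⁻¹⁆ = (K.subtype a)⁻¹ * ⁅v, K.subtype a⁆⁻¹ * K.subtype a := by
        simp only [commutatorElement_def, map_inv]; group
      rw [e]
      exact K.mul_mem (K.mul_mem (K.inv_mem a.2) (K.inv_mem (iha v hv))) a.2
  have hKU : K ≤ Subgroup.normalizer (U : Set L) := by
    apply le_normalizer_of_map_conj_le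
    intro g hg
    rw [hU, Subgroup.map_commutator, map_conj_eq_self_of_le_normalizer hKV hg,
      map_conj_eq_self_of_le_normalizer hKE hg]
  -- C_K(U) ≤ C(V)
  have hQ : K ⊓ Subgroup.centralizer (U : Set L) ≤ Subgroup.centralizer (V : Set L) := by
    apply le_centralizer_of_subnormal hV hK inf_le_left
      (le_normalizer_inf Subgroup.le_normalizer (le_normalizer_centralizer_of_le_normalizer hKU))
    intro y hy
    obtain ⟨a, ha⟩ := exists_pow_orderOf_coprime (p := p) y
    refine ⟨a, ?_⟩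
    have hzQ : y ^ (p ^ a) ∈ K ⊓ Subgroup.centralizer (U : Set L) := Subgroup.pow_mem _ hy _
    obtain ⟨hzK, hzU⟩ := Subgroup.mem_inf.mp hzQ
    have hzE : y ^ (p ^ a) ∈ E := by
      refine ⟨⟨y ^ (p ^ a), hzK⟩, ?_, rfl⟩
      apply Cfsg.Agent.Helper22.mem_pResidual_of_coprime
      rwa [Subgroup.orderOf_mk]
    rw [Subgroup.mem_centralizer_iff]
    intro v hv
    have hcU : v * y ^ (p ^ a) * v⁻¹ * (y ^ (p ^ a))⁻¹ ∈ U := by
      have := Subgroup.commutator_mem_commutator hv hzE
      rwa [commutatorElement_def] at this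
    have hcomm : Commute (v * y ^ (p ^ a) * v⁻¹ * (y ^ (p ^ a))⁻¹) (y ^ (p ^ a)) :=
      (Subgroup.mem_centralizer_iff.mp hzU) _ hcU
    obtain ⟨k, hk⟩ := hVp ⟨_, hUV hcU⟩
    have hk' : (v * y ^ (p ^ a) * v⁻¹ * (y ^ (p ^ a))⁻¹) ^ (p ^ k) = 1 := by
      have := congrArg Subtype.val hk
      simpa using this
    exact commute_of_commutator_commute' v (y ^ (p ^ a)) k hcomm hk' ha
  refine ⟨hUK, ?_, hQ⟩
  rw [isPReducedNormal_iff]
  refine ⟨(Subgroup.normal_subgroupOf_iff_le_normalizer hUK).mpr hKU, ⟨⟨⟨fun a b => ?_⟩⟩, fun a ha => ?_⟩, ?_⟩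
  · apply Subtype.ext
    apply Subtype.ext
    exact hVc _ (hUV (Subgroup.mem_subgroupOf.mp a.2)) _ (hUV (Subgroup.mem_subgroupOf.mp b.2))
  · apply Subtype.ext
    exact hVe.2 _ (hUV (Subgroup.mem_subgroupOf.mp ha))
  · intro D' hD'n hD'p
    set D := D'.map K.subtype with hD
    have hDK : D ≤ K := Subgroup.map_subtype_le _
    have hKD : K ≤ Subgroup.normalizer (D : Set L) := le_normalizer_map_subtype_of_normal hD'n
    have hDp : PowCond p D (Subgroup.centralizer (V : Set L)) := by
      rintro _ ⟨d, hd, rfl⟩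
      obtain ⟨k, hk⟩ := hD'p d hd
      refine ⟨k, ?_⟩
      have h1 := (mem_centralizer_subgroupOf_iff hUK _).mp hk
      exact hQ (Subgroup.mem_inf.mpr ⟨(d ^ (p ^ k)).2, h1⟩)
    have hDV := le_centralizer_of_subnormal hV hK hDK hKD hDp
    intro d hd
    rw [mem_centralizer_subgroupOf_iff hUK]
    exact Subgroup.centralizer_le hUV (hDV ⟨d, hd, rfl⟩)

end Cfsg.Agent.Helper14
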