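import Mathlib
import Cfsg.Agent.Lib.Helper14.PReducedComm

set_option autoImplicit false

namespace Cfsg.Agent.Helper14

open Cfsg

variable {H : Type*} [Group H]

/-- Relative normal case: for `L ≤ K ≤ N(L)`, `C_L(Y_K) ≤ C(Y_L)`. -/
theorem inf_centralizer_largestPReducedOf_le [Finite H] {p : ℕ} [Fact p.Prime] {K L : Subgroup H} (hLK : L ≤ K)
    (hKL : K ≤ Subgroup.normalizer (L : Set H)) :
    L ⊓ Subgroup.centralizer (largestPReducedOf p K : Set H) ≤
      Subgroup.centralizer (largestPReducedOf p L : Set H) := by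
  set Z := largestPReducedOf p L with hZ
  obtain ⟨hLZ, hZe, hredL⟩ := largestPReducedOf_spec (p := p) L
  have hZL : Z ≤ L := largestPReducedOf_le p L
  have hKZ : K ≤ Subgroup.normalizer (Z : Set H) := hKL.trans (normalizer_le_normalizer_largestPReducedOf L)
  have hLL : L ≤ Subgroup.normalizer (L : Set H) := Subgroup.le_normalizer
  -- minimal member of the family
  obtain ⟨Z', hZ'min⟩ := exists_minimal_of_wellFoundedLT
    (fun Z' : Subgroup H => Z' ≤ Z ∧ K ≤ Subgroup.normalizer (Z' : Set H) ∧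
      L ⊓ Subgroup.centralizer (Z' : Set H) ≤ Subgroup.centralizer (Z : Set H))
    ⟨Z, le_rfl, hKZ, inf_le_right⟩
  obtain ⟨⟨hZ'Z, hKZ', hCZ'⟩, hmin⟩ := hZ'min
  have hZ'e : IsElementaryAbelian p Z' := IsElementaryAbelian.mono hZe hZ'Z
  have hZ'p : IsPGroup p Z' := Cfsg.Agent.Helper14.IsElementaryAbelian.isPGroup hZ'e
  have hZ'c : ∀ a ∈ Z', ∀ b ∈ Z', a * b = b * a := IsElementaryAbelian.comm hZ'e
  have hZ'K : Z' ≤ K := hZ'Z.trans (hZL.trans hLK)
  -- Z' is p-reduced in K
  have hZ'red : IsPReducedNormal p (Z'.subgroupOf K) := by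
    rw [isPReducedNormal_subgroupOf_iff hZ'K]
    refine ⟨hKZ', hZ'e, ?_⟩
    intro D hDK hKD hDp
    set Z'' := Z' ⊓ Subgroup.centralizer (D : Set H) with hZ''
    have hKZ'' : K ≤ Subgroup.normalizer (Z'' : Set H) :=
      le_normalizer_inf hKZ' (le_normalizer_centralizer_of_le_normalizer hKD)
    -- D ⊓ L centralizes Z
    have hDL : D ⊓ L ≤ Subgroup.centralizer (Z : Set H) := by
      apply hredL _ inf_le_right (le_normalizer_inf (hLK.trans hKD) hLL)
      intro d hd
      obtain ⟨hdD, hdL⟩ := Subgroup.mem_inf.mp hd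
      obtain ⟨k, hk⟩ := hDp d hdD
      exact ⟨k, hCZ' (Subgroup.mem_inf.mpr ⟨L.pow_mem hdL _, hk⟩)⟩
    have hfam : L ⊓ Subgroup.centralizer (Z'' : Set H) ≤ Subgroup.centralizer (Z : Set H) := by
      apply hredL _ inf_le_left
        (le_normalizer_inf hLL (le_normalizer_centralizer_of_le_normalizer (hLK.trans hKZ'')))
      intro y hy
      obtain ⟨a, ha⟩ := exists_pow_orderOf_coprime (p := p) y
      refine ⟨a, ?_⟩
      set x := y ^ (p ^ a) with hx
      have hxQ : x ∈ L ⊓ Subgroup.centralizer (Z'' : Set H) := Subgroup.pow_mem _ hy _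
      obtain ⟨hxL, hxC⟩ := Subgroup.mem_inf.mp hxQ
      have hxK : x ∈ K := hLK hxL
      apply hCZ'
      refine Subgroup.mem_inf.mpr ⟨hxL, ?_⟩
      rw [Subgroup.mem_centralizer_iff]
      have := axb hZ'c hZ'p (hKZ' hxK) ha (hDK.trans hKZ') hDp ?_ ?_
      · intro v hv
        exact this v hv
      · intro d hd
        apply Subgroup.centralizer_le hZ'Z
        apply hDL
        refine Subgroup.mem_inf.mpr ⟨?_, ?_⟩
        · have h1 : x * d⁻¹ * x⁻¹ ∈ D :=
            (Subgroup.mem_normalizer_iff.mp (hKD hxK) d⁻¹).mp (D.inv_mem hd)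
          have e : d * x * d⁻¹ * x⁻¹ = d * (x * d⁻¹ * x⁻¹) := by group
          rw [e]
          exact D.mul_mem hd h1
        · have h1 : d * x * d⁻¹ ∈ L := (Subgroup.mem_normalizer_iff.mp (hKL (hDK hd)) x).mp hxL
          exact L.mul_mem h1 (L.inv_mem hxL)
      · intro z hz
        exact (Subgroup.mem_centralizer_iff.mp hxC) z hz
    have hle : Z' ≤ Z'' := hmin ⟨inf_le_left.trans hZ'Z, hKZ'', hfam⟩ inf_le_left
    have hZ'D : Z' ≤ Subgroup.centralizer (D : Set H) := hle.trans inf_le_right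
    exact Subgroup.le_centralizer_iff.mp hZ'D
  have hZ'Y : Z' ≤ largestPReducedOf p K := le_largestPReducedOf hZ'K hZ'red
  exact (inf_le_inf_left L (Subgroup.centralizer_le hZ'Y)).trans hCZ'

end Cfsg.Agent.Helper14
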