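import Mathlib
import Cfsg.Agent.Lib.Helper15.CoprimeGen2
import Cfsg.Agent.Lib.Helper21.PGroupFrattini
import Cfsg.Agent.Lib.Helper1.Coprime
import Cfsg.Agent.Lib.Helper7.Coprime
import Cfsg.Agent.Lib.Helper14.OupAmb
import Cfsg.Agent.Lib.Helper14.Ambient
import Cfsg.Agent.Lib.Helper27.Timmesfeld

/-!
# A minimal configuration in `p`-soluble groups (helper14's library)

An elementary abelian `p`-group `Ā` acting faithfully on a normal `p'`-subgroup `K`: there are a
hyperplane `B̄`, an element `ā ∈ Ā ∖ B̄` and a minimal `ā`-invariant subgroup `Y ≤ C_K(B̄)` not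
centralized by `ā`.
-/

set_option autoImplicit false

namespace Cfsg.Agent.Helper14.PSolMin

open Cfsg

variable {X : Type*} [Group X]

/-- The minimal configuration. -/
structure MinData (p : ℕ) (K Ab Bb Y : Subgroup X) (ab : X) : Prop where
  hB : Bb ≤ Ab
  hidx : Bb.relIndex Ab = p
  ha : ab ∈ Ab
  haB : ab ∉ Bb
  hgen : Ab ≤ Bb ⊔ Subgroup.zpowers ab
  hYK : Y ≤ K
  hYB : Y ≤ Subgroup.centralizer (Bb : Set X)
  haY : ab ∈ Subgroup.normalizer (Y : Set X)
  hnc : ¬ Y ≤ Subgroup.centralizer ({ab} : Set X)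
  hmin : ∀ Y' : Subgroup X, Y' ≤ Y → ab ∈ Subgroup.normalizer (Y' : Set X) →
    ¬ Y' ≤ Subgroup.centralizer ({ab} : Set X) → Y' = Y

theorem comm_of_elem {p : ℕ} {Ab : Subgroup X} (hAb : IsElementaryAbelian p Ab) :
    ∀ a ∈ Ab, ∀ b ∈ Ab, a * b = b * a := by
  intro a ha b hb
  have := hAb.1.is_comm.comm (⟨a, ha⟩ : Ab) ⟨b, hb⟩
  exact congrArg Subtype.val this

theorem isPGroup_of_elem {p : ℕ} {Ab : Subgroup X} (hAb : IsElementaryAbelian p Ab) :
    IsPGroup p Ab := by
  intro u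
  refine ⟨1, ?_⟩
  rw [pow_one]
  exact Subtype.ext (hAb.2 u u.2)

/-- a `p`-group and a group of order prime to `p` meet trivially -/
theorem inf_eq_bot_of_coprime {p : ℕ} [hp : Fact p.Prime] [Finite X] {P Y : Subgroup X}
    (hP : IsPGroup p P) (hY : (Nat.card Y).Coprime p) : P ⊓ Y = ⊥ := by
  have h1 : IsPGroup p (P ⊓ Y : Subgroup X) := hP.to_le inf_le_left
  obtain ⟨n, hn⟩ := h1.exists_card_eq
  have h2 : Nat.card (P ⊓ Y : Subgroup X) ∣ Nat.card Y := Subgroup.card_dvd_of_le inf_le_right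
  have h3 : (Nat.card (P ⊓ Y : Subgroup X)).Coprime p := Nat.Coprime.coprime_dvd_left h2 hY
  rw [hn] at h3
  have h4 : n = 0 := by
    by_contra hn0
    have : p ∣ Nat.gcd (p ^ n) p := Nat.dvd_gcd (dvd_pow_self p hn0) dvd_rfl
    rw [h3] at this
    exact hp.out.one_lt.ne' (Nat.dvd_one.1 this)
  rw [h4, pow_zero] at hn
  exact (Subgroup.card_eq_one).1 hn


/-- existence of a hyperplane whose centralizer in `K` is not centralized by `Ab` -/
theorem exists_hyperplane {p : ℕ} [hp : Fact p.Prime] [Finite X] {K Ab : Subgroup X}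
    (hK : (Nat.card K).Coprime p) (hAb : IsElementaryAbelian p Ab) (hAb1 : Ab ≠ ⊥)
    (hAK : Ab ≤ Subgroup.normalizer (K : Set X))
    (hf : ¬ K ≤ Subgroup.centralizer (Ab : Set X)) :
    ∃ Bb : Subgroup X, Bb ≤ Ab ∧ Bb.relIndex Ab = p ∧
      ¬ K ⊓ Subgroup.centralizer (Bb : Set X) ≤ Subgroup.centralizer (Ab : Set X) := by
  have hAbp : IsPGroup p Ab := isPGroup_of_elem hAb
  obtain ⟨k, hk⟩ := hAbp.exists_card_eq
  have hk0 : k ≠ 0 := by
    rintro rfl
    rw [pow_zero] at hk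
    exact hAb1 ((Subgroup.card_eq_one).1 hk)
  by_cases hk1 : k = 1
  · refine ⟨⊥, bot_le, ?_, ?_⟩
    · rw [Subgroup.relIndex_bot_left, hk, hk1, pow_one]
    · intro h
      apply hf
      intro x hx
      apply h
      refine Subgroup.mem_inf.2 ⟨hx, ?_⟩
      rw [Subgroup.mem_centralizer_iff]
      intro y hy
      have : y = 1 := by simpa using hy
      rw [this, one_mul, mul_one]
  · have hU2 : p ^ 2 ≤ Nat.card Ab := by
      rw [hk]
      apply Nat.pow_le_pow_right hp.out.pos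
      omega
    by_contra hcon
    push_neg at hcon
    apply hf
    apply Cfsg.Agent.Helper15.le_of_forall_coatom_inf_centralizer_le hAb hU2 hK hAK
    intro U₀ hU₀ hco
    apply hcon U₀ hU₀
    have := Cfsg.Agent.Helper21.coatom_index_of_isPGroup hAbp (U₀.subgroupOf Ab) hco
    exact this

theorem exists_minData {p : ℕ} [hp : Fact p.Prime] [Finite X] {K Ab : Subgroup X} [hKn : K.Normal]
    (hK : (Nat.card K).Coprime p) (hC : Subgroup.centralizer (K : Set X) ≤ K)
    (hAb : IsElementaryAbelian p Ab) (hAb1 : Ab ≠ ⊥) :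
    ∃ (Bb Y : Subgroup X) (ab : X), MinData p K Ab Bb Y ab := by
  have hAbp : IsPGroup p Ab := isPGroup_of_elem hAb
  have hcomm := comm_of_elem hAb
  have hAK : Ab ≤ Subgroup.normalizer (K : Set X) := by
    rw [Subgroup.normalizer_eq_top]; exact le_top
  -- faithful action
  have hf : ¬ K ≤ Subgroup.centralizer (Ab : Set X) := by
    intro h
    apply hAb1
    have h1 : Ab ≤ K := by
      refine le_trans ?_ hC
      intro a ha
      rw [Subgroup.mem_centralizer_iff]
      intro k hk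
      exact ((Subgroup.mem_centralizer_iff.1 (h hk)) a ha).symm
    have h2 : Ab ⊓ K = ⊥ := inf_eq_bot_of_coprime hAbp hK
    rw [inf_eq_left.2 h1] at h2
    exact h2
  obtain ⟨Bb, hB, hidx, hBf⟩ := exists_hyperplane hK hAb hAb1 hAK hf
  -- an element outside the hyperplane
  have hnle : ¬ Ab ≤ Bb := by
    intro h
    have : Bb.relIndex Ab = 1 := Subgroup.relIndex_eq_one.2 h
    rw [hidx] at this
    exact hp.out.one_lt.ne' this
  obtain ⟨ab, ha, haB⟩ := SetLike.not_le_iff_exists.1 hnle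
  -- generation
  have hgen : Ab ≤ Bb ⊔ Subgroup.zpowers ab := by
    have hle : Bb ⊔ Subgroup.zpowers ab ≤ Ab := sup_le hB ((Subgroup.zpowers_le).2 ha)
    have h1 := Subgroup.relIndex_mul_relIndex Bb (Bb ⊔ Subgroup.zpowers ab) Ab le_sup_left hle
    rw [hidx] at h1
    have h2 : Bb.relIndex (Bb ⊔ Subgroup.zpowers ab) ≠ 1 := by
      intro h
      have := Subgroup.relIndex_eq_one.1 h
      exact haB (this (Subgroup.mem_sup_right (Subgroup.mem_zpowers ab)))
    have h3 : Bb.relIndex (Bb ⊔ Subgroup.zpowers ab) = p := by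
      rcases (Nat.dvd_prime hp.out).1 (Dvd.intro _ h1) with h | h
      · exact absurd h h2
      · exact h
    rw [h3] at h1
    have h4 : (Bb ⊔ Subgroup.zpowers ab).relIndex Ab = 1 := by
      have hp0 : 0 < p := hp.out.pos
      nlinarith [Nat.eq_of_mul_eq_mul_left hp0 (by rw [h1, mul_one] : p * (Bb ⊔ Subgroup.zpowers ab).relIndex Ab = p * 1)]
    exact Subgroup.relIndex_eq_one.1 h4
  -- the centralizer of the hyperplane
  set C₁ : Subgroup X := K ⊓ Subgroup.centralizer (Bb : Set X) with hC₁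
  have haC₁ : ab ∈ Subgroup.normalizer (C₁ : Set X) := by
    rw [Subgroup.mem_normalizer_iff]
    have key : ∀ a : X, a ∈ Ab → ∀ c ∈ C₁, a * c * a⁻¹ ∈ C₁ := by
      intro a ha' c hc
      rw [hC₁, Subgroup.mem_inf] at hc
      refine Subgroup.mem_inf.2 ⟨hKn.conj_mem c hc.1 a, ?_⟩
      rw [Subgroup.mem_centralizer_iff]
      intro b hb
      have hbc : b * c = c * b := (Subgroup.mem_centralizer_iff.1 hc.2) b hb
      have hba : b * a = a * b := hcomm b (hB hb) a ha'
      have hba' : b * a⁻¹ = a⁻¹ * b := hcomm b (hB hb) a⁻¹ (Ab.inv_mem ha')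
      calc b * (a * c * a⁻¹) = (b * a) * c * a⁻¹ := by group
        _ = a * (b * c) * a⁻¹ := by rw [hba]; group
        _ = a * c * (b * a⁻¹) := by rw [hbc]; group
        _ = a * c * a⁻¹ * b := by rw [hba']; group
    intro c
    constructor
    · exact key ab ha c
    · intro h
      have := key ab⁻¹ (Ab.inv_mem ha) _ h
      simpa [mul_assoc] using this
  have hC₁f : ¬ C₁ ≤ Subgroup.centralizer ({ab} : Set X) := by
    intro h
    apply hBf
    intro c hc
    have hc' := hc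
    rw [Subgroup.mem_inf] at hc'
    rw [Subgroup.mem_centralizer_iff]
    intro a ha'
    obtain ⟨b, hb, z, hz, rfl⟩ := Cfsg.Agent.Helper1.exists_mul_of_mem_sup
      (N := Bb) (A := Subgroup.zpowers ab) (by
        intro z hz
        rw [Subgroup.mem_normalizer_iff]
        intro b
        have hzA : z ∈ Ab := (Subgroup.zpowers_le.2 ha) hz
        constructor
        · intro hb
          have : z * b * z⁻¹ = b := by
            rw [hcomm z hzA b (hB hb), mul_inv_cancel_right]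
          rw [this]; exact hb
        · intro hb
          have hb' : z * b * z⁻¹ ∈ Ab := Ab.mul_mem (Ab.mul_mem hzA (by
            -- `b = z⁻¹ (z b z⁻¹) z`
            have : b = z⁻¹ * (z * b * z⁻¹) * z := by group
            rw [this]
            exact Ab.mul_mem (Ab.mul_mem (Ab.inv_mem hzA) (hB hb)) hzA)) (Ab.inv_mem hzA)
          have hbA : b ∈ Ab := by
            have : b = z⁻¹ * (z * b * z⁻¹) * z := by group
            rw [this]
            exact Ab.mul_mem (Ab.mul_mem (Ab.inv_mem hzA) (hB hb)) hzA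
          have : z * b * z⁻¹ = b := by
            rw [hcomm z hzA b hbA, mul_inv_cancel_right]
          rw [this] at hb; exact hb) (hgen ha')
    have h1 : b * c = c * b := (Subgroup.mem_centralizer_iff.1 hc'.2) b hb
    have h2 : z * c = c * z := by
      obtain ⟨n, rfl⟩ := Subgroup.mem_zpowers_iff.1 hz
      have h3 : ab * c = c * ab := by
        have := Subgroup.mem_centralizer_iff.1 (h hc) ab rfl
        exact this
      exact ((Commute.zpow_left (show Commute ab c from h3) n)).eq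
    calc b * z * c = b * (z * c) := by group
      _ = b * (c * z) := by rw [h2]
      _ = (b * c) * z := by group
      _ = c * b * z := by rw [h1]
      _ = c * (b * z) := by group
  -- a minimal subgroup
  obtain ⟨Y, hYle, hYmin⟩ := Finite.exists_le_minimal
    (p := fun Y : Subgroup X => Y ≤ C₁ ∧ ab ∈ Subgroup.normalizer (Y : Set X) ∧
      ¬ Y ≤ Subgroup.centralizer ({ab} : Set X)) (a := C₁) ⟨le_rfl, haC₁, hC₁f⟩
  refine ⟨Bb, Y, ab, ⟨hB, hidx, ha, haB, hgen, hYmin.1.1.trans inf_le_left,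
    hYmin.1.1.trans inf_le_right, hYmin.1.2.1, hYmin.1.2.2, ?_⟩⟩
  intro Y' hY' haY' hnc'
  exact le_antisymm hY' (hYmin.2 ⟨hY'.trans hYmin.1.1, haY', hnc'⟩ hY')


section props

variable {p : ℕ} [hp : Fact p.Prime] [Finite X] {K Ab Bb Y : Subgroup X} {ab : X}

theorem MinData.Ab_le_normalizer (h : MinData p K Ab Bb Y ab) :
    Ab ≤ Subgroup.normalizer (Y : Set X) := by
  refine h.hgen.trans (sup_le ?_ ((Subgroup.zpowers_le).2 h.haY))
  exact (Subgroup.le_centralizer_iff.1 h.hYB).trans (Subgroup.centralizer_le_normalizer _)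

theorem MinData.card_Y_coprime (h : MinData p K Ab Bb Y ab) (hK : (Nat.card K).Coprime p) :
    (Nat.card Y).Coprime p :=
  Nat.Coprime.coprime_dvd_left (Subgroup.card_dvd_of_le h.hYK) hK

/-- an element of `Y` of `p`-power order is trivial -/
theorem MinData.eq_one_of_pow (h : MinData p K Ab Bb Y ab) (hK : (Nat.card K).Coprime p)
    {c : X} (hc : c ∈ Y) (hcp : c ^ p = 1) : c = 1 := by
  have h1 : orderOf c ∣ p := orderOf_dvd_of_pow_eq_one hcp
  have h2 : orderOf c ∣ Nat.card Y := by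
    have := orderOf_dvd_natCard (⟨c, hc⟩ : Y)
    rwa [Subgroup.orderOf_mk] at this
  have h3 : orderOf c ∣ Nat.gcd (Nat.card Y) p := Nat.dvd_gcd h2 h1
  rw [h.card_Y_coprime hK] at h3
  exact orderOf_eq_one_iff.1 (Nat.dvd_one.1 h3)

/-- `Y` lies in the group generated by `Ab` and a conjugate by a suitable element of `Y`. -/
theorem MinData.le_sup_conj (h : MinData p K Ab Bb Y ab) (hAb : IsElementaryAbelian p Ab)
    (hK : (Nat.card K).Coprime p) {xb : X} (hxY : xb ∈ Y) (hxc : ¬ xb * ab = ab * xb) :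
    Y ≤ Ab ⊔ Ab.map (MulAut.conj xb).toMonoidHom := by
  set D : Subgroup X := Subgroup.zpowers ab ⊔ Subgroup.zpowers (xb * ab * xb⁻¹) with hD
  have hDle : D ≤ Ab ⊔ Ab.map (MulAut.conj xb).toMonoidHom := by
    apply sup_le_sup
    · exact (Subgroup.zpowers_le).2 h.ha
    · rw [Subgroup.zpowers_le]
      exact ⟨ab, h.ha, rfl⟩
  have habD : ab ∈ D := Subgroup.mem_sup_left (Subgroup.mem_zpowers ab)
  have hcD : xb * ab * xb⁻¹ ∈ D := Subgroup.mem_sup_right (Subgroup.mem_zpowers _)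
  have hY' : D ⊓ Y = Y := by
    apply h.hmin (D ⊓ Y) inf_le_right
    · exact Cfsg.Agent.Helper15.normalizer_inf_normalizer_le_normalizer_inf D Y
        ⟨Subgroup.le_normalizer habD, h.haY⟩
    · intro hle
      -- the commutator `c = xb ab xb⁻¹ ab⁻¹`
      set c := xb * ab * xb⁻¹ * ab⁻¹ with hc
      have hcY : c ∈ Y := by
        have h1 : ab * xb⁻¹ * ab⁻¹ ∈ Y :=
          ((Subgroup.mem_normalizer_iff.1 h.haY) xb⁻¹).1 (Y.inv_mem hxY)
        have : c = xb * (ab * xb⁻¹ * ab⁻¹) := by rw [hc]; group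
        rw [this]
        exact Y.mul_mem hxY h1
      have hcD' : c ∈ D := D.mul_mem hcD (D.inv_mem habD)
      have hcc : ab * c = c * ab :=
        (Subgroup.mem_centralizer_iff.1 (hle (Subgroup.mem_inf.2 ⟨hcD', hcY⟩))) ab rfl
      have e1 : xb * ab * xb⁻¹ = c * ab := by rw [hc]; group
      have e2 : (xb * ab * xb⁻¹) ^ p = 1 := by
        rw [conj_pow, hAb.2 ab h.ha]; group
      have e3 : (c * ab) ^ p = c ^ p * ab ^ p := (Commute.mul_pow (show Commute c ab from hcc.symm) p)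
      rw [e1, e3, hAb.2 ab h.ha, mul_one] at e2
      have hc1 : c = 1 := h.eq_one_of_pow hK hcY e2
      apply hxc
      have : xb * ab * xb⁻¹ = ab := by rw [e1, hc1, one_mul]
      calc xb * ab = (xb * ab * xb⁻¹) * xb := by group
        _ = ab * xb := by rw [this]
  calc Y = D ⊓ Y := hY'.symm
    _ ≤ D := inf_le_left
    _ ≤ _ := hDle

theorem MinData.sup_conj_eq (h : MinData p K Ab Bb Y ab) (hAb : IsElementaryAbelian p Ab)
    (hK : (Nat.card K).Coprime p) {xb : X} (hxY : xb ∈ Y) (hxc : ¬ xb * ab = ab * xb) :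
    Ab ⊔ Ab.map (MulAut.conj xb).toMonoidHom = Ab ⊔ Y := by
  apply le_antisymm
  · apply sup_le le_sup_left
    rintro _ ⟨a, ha, rfl⟩
    show xb * a * xb⁻¹ ∈ Ab ⊔ Y
    have h1 : a * xb⁻¹ * a⁻¹ ∈ Y :=
      ((Subgroup.mem_normalizer_iff.1 (h.Ab_le_normalizer ha)) xb⁻¹).1 (Y.inv_mem hxY)
    have e : xb * a * xb⁻¹ = (xb * (a * xb⁻¹ * a⁻¹)) * a := by group
    rw [e]
    exact Subgroup.mul_mem _ (Subgroup.mem_sup_right (Y.mul_mem hxY h1)) (Subgroup.mem_sup_left ha)
  · exact sup_le le_sup_left (h.le_sup_conj hAb hK hxY hxc)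

theorem MinData.Bb_le_centralizer (h : MinData p K Ab Bb Y ab) (hAb : IsElementaryAbelian p Ab) :
    Bb ≤ Subgroup.centralizer ((Ab ⊔ Y : Subgroup X) : Set X) := by
  rw [Cfsg.Agent.Helper27.centralizer_sup]
  apply le_inf
  · intro b hb
    rw [Subgroup.mem_centralizer_iff]
    intro a ha
    exact comm_of_elem hAb a ha b (h.hB hb)
  · exact Subgroup.le_centralizer_iff.1 h.hYB

/-- a normal `p`-subgroup of `Ab ⊔ Y` lies in `Bb` -/
theorem MinData.normal_pGroup_le (h : MinData p K Ab Bb Y ab) (hAb : IsElementaryAbelian p Ab)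
    (hK : (Nat.card K).Coprime p) {P : Subgroup X} (hP : IsPGroup p P) (hPle : P ≤ Ab ⊔ Y)
    (hPn : Ab ⊔ Y ≤ Subgroup.normalizer (P : Set X)) : P ≤ Bb := by
  have hcop : P ⊓ Y = ⊥ := inf_eq_bot_of_coprime hP (h.card_Y_coprime hK)
  have hLY : Ab ⊔ Y ≤ Subgroup.normalizer (Y : Set X) :=
    sup_le h.Ab_le_normalizer Subgroup.le_normalizer
  intro g hg
  -- `g` centralizes `Y`
  have hgY : ∀ y ∈ Y, g * y = y * g := by
    intro y hy
    have h1 : g * y * g⁻¹ ∈ Y := ((Subgroup.mem_normalizer_iff.1 (hLY (hPle hg))) y).1 hy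
    have h2 : y * g⁻¹ * y⁻¹ ∈ P :=
      ((Subgroup.mem_normalizer_iff.1 (hPn (Subgroup.mem_sup_right hy))) g⁻¹).1 (P.inv_mem hg)
    have h3 : g * y * g⁻¹ * y⁻¹ ∈ P ⊓ Y := by
      refine Subgroup.mem_inf.2 ⟨?_, Y.mul_mem h1 (Y.inv_mem hy)⟩
      have : g * y * g⁻¹ * y⁻¹ = g * (y * g⁻¹ * y⁻¹) := by group
      rw [this]
      exact P.mul_mem hg h2
    rw [hcop, Subgroup.mem_bot] at h3
    calc g * y = (g * y * g⁻¹ * y⁻¹) * y * g := by group
      _ = y * g := by rw [h3, one_mul]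
  -- write `g = y * a`
  obtain ⟨y, hy, a, ha, hga⟩ := Cfsg.Agent.Helper1.exists_mul_of_mem_sup
    (N := Y) (A := Ab) h.Ab_le_normalizer (by rw [sup_comm]; exact hPle hg)
  -- `y = 1`
  have hgy : g * y = y * g := hgY y hy
  have hyg' : y⁻¹ * g = g * y⁻¹ := by
    calc y⁻¹ * g = y⁻¹ * (g * y) * y⁻¹ := by group
      _ = y⁻¹ * (y * g) * y⁻¹ := by rw [hgy]
      _ = g * y⁻¹ := by group
  have ha' : a = y⁻¹ * g := by rw [hga]; group
  have hap : a ^ p = 1 := hAb.2 a ha
  have e1 : (y⁻¹ * g) ^ p = (y⁻¹) ^ p * g ^ p :=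
    Commute.mul_pow (show Commute y⁻¹ g from hyg') p
  rw [ha', e1] at hap
  have hgp : g ^ p = y ^ p := by
    have : g ^ p = ((y⁻¹) ^ p)⁻¹ := eq_inv_of_mul_eq_one_right hap
    rw [this, inv_pow, inv_inv]
  have hyp : y ^ p ∈ P ⊓ Y := Subgroup.mem_inf.2 ⟨by rw [← hgp]; exact P.pow_mem hg p, Y.pow_mem hy p⟩
  rw [hcop, Subgroup.mem_bot] at hyp
  have hy1 : y = 1 := h.eq_one_of_pow hK hy hyp
  have hgA : g = a := by rw [hga, hy1, one_mul]
  -- `g ∈ Ab` centralizes `Y`; decompose along `Bb ⊔ zpowers ab`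
  have hzn : Subgroup.zpowers ab ≤ Subgroup.normalizer (Bb : Set X) := by
    intro z hz
    have hzA : z ∈ Ab := (Subgroup.zpowers_le.2 h.ha) hz
    have hAC : Ab ≤ Subgroup.centralizer (Bb : Set X) := by
      intro a' ha'
      rw [Subgroup.mem_centralizer_iff]
      intro b hb
      exact comm_of_elem hAb b (h.hB hb) a' ha'
    exact (hAC.trans (Subgroup.centralizer_le_normalizer _)) hzA
  obtain ⟨b, hb, z, hz, hgz⟩ := Cfsg.Agent.Helper1.exists_mul_of_mem_sup
    (N := Bb) (A := Subgroup.zpowers ab) hzn (h.hgen (hgA ▸ ha))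
  -- `z` centralizes `Y`
  have hbY : ∀ y ∈ Y, b * y = y * b := fun y hy =>
    (Subgroup.mem_centralizer_iff.1 (h.hYB hy)) b hb
  have hzY : ∀ y ∈ Y, z * y = y * z := by
    intro y hy
    have hz' : z = b⁻¹ * g := by rw [hgz]; group
    have hb' : b⁻¹ * y = y * b⁻¹ := by
      have := hbY y hy
      calc b⁻¹ * y = b⁻¹ * (y * b) * b⁻¹ := by group
        _ = b⁻¹ * (b * y) * b⁻¹ := by rw [this]
        _ = y * b⁻¹ := by group
    rw [hz']
    calc b⁻¹ * g * y = b⁻¹ * (g * y) := by group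
      _ = b⁻¹ * (y * g) := by rw [hgY y hy]
      _ = (b⁻¹ * y) * g := by group
      _ = y * b⁻¹ * g := by rw [hb']
      _ = y * (b⁻¹ * g) := by group
  by_cases hz1 : z = 1
  · rw [hgz, hz1, mul_one]; exact hb
  · exfalso
    apply h.hnc
    -- `ab ∈ zpowers z`
    have hab1 : ab ≠ 1 := fun h1 => h.haB (h1 ▸ Bb.one_mem)
    have hord : orderOf ab = p := orderOf_eq_prime (hAb.2 ab h.ha) hab1
    have hcard : Nat.card (Subgroup.zpowers ab) = p := by rw [Nat.card_zpowers, hord]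
    have hz1' : (⟨z, hz⟩ : Subgroup.zpowers ab) ≠ 1 := by
      intro h1
      exact hz1 (congrArg Subtype.val h1)
    have htop := zpowers_eq_top_of_prime_card hcard hz1'
    have hmem : (⟨ab, Subgroup.mem_zpowers ab⟩ : Subgroup.zpowers ab) ∈
        Subgroup.zpowers (⟨z, hz⟩ : Subgroup.zpowers ab) := by rw [htop]; exact Subgroup.mem_top _
    obtain ⟨n, hn⟩ := Subgroup.mem_zpowers_iff.1 hmem
    have hn' : z ^ n = ab := by
      have := congrArg Subtype.val hn
      simpa using this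
    intro y hy
    rw [Subgroup.mem_centralizer_iff]
    intro w hw
    rw [Set.mem_singleton_iff] at hw
    rw [hw, ← hn']
    exact ((Commute.zpow_left (show Commute z y from hzY y hy) n)).eq

end props

end Cfsg.Agent.Helper14.PSolMin
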