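import Mathlib
import Cfsg.Agent.Lib.Helper14.PSolMin
import Cfsg.Agent.Lib.Helper4.HHDual
import Cfsg.Agent.Lib.Helper10.SecFusion
import Cfsg.Agent.Lib.Helper23.PSolvable

/-!
# Subgroups generated by two conjugates in `p`-soluble groups (helper14's library)
-/

set_option autoImplicit false

namespace Cfsg.Agent.Helper14.PSolMin

open Cfsg Cfsg.Agent.Helper14
open scoped commutatorElement

section comm

variable {M : Type*} [Group M]

/-- `[O^p(L), A] = O^p(L)` when `L = ⟨A, A^x⟩` with `x ∈ O^p(L)` and `A` a `p`-group. -/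
theorem commutator_oup_eq {p : ℕ} [Fact p.Prime] {A : Subgroup M} (hA : IsPGroup p A) {x : M}
    (hx : x ∈ oup p (A ⊔ A.map (MulAut.conj x).toMonoidHom)) :
    ⁅oup p (A ⊔ A.map (MulAut.conj x).toMonoidHom), A⁆ =
      oup p (A ⊔ A.map (MulAut.conj x).toMonoidHom) := by
  set L := A ⊔ A.map (MulAut.conj x).toMonoidHom with hL
  set R := oup p L with hR
  have hAL : A ≤ L := le_sup_left
  have hAR : A ≤ Subgroup.normalizer (R : Set M) := hAL.trans (le_normalizer_oup L)
  have hNR : ⁅R, A⁆ ≤ R := Cfsg.Agent.Helper7.commutator_le_of_le_normalizer hAR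
  apply le_antisymm hNR
  have hAN : A ≤ Subgroup.normalizer ((⁅R, A⁆ : Subgroup M) : Set M) := by
    refine le_trans ?_ (Cfsg.Agent.Helper7.normalizer_inf_normalizer_le_normalizer_commutator R A)
    exact le_inf hAR Subgroup.le_normalizer
  have hLle : L ≤ ⁅R, A⁆ ⊔ A := by
    rw [hL]
    apply sup_le le_sup_right
    rintro _ ⟨a, ha, rfl⟩
    show x * a * x⁻¹ ∈ _
    have e : x * a * x⁻¹ = ⁅x, a⁆ * a := by rw [commutatorElement_def]; group
    rw [e]
    exact Subgroup.mul_mem _
      (Subgroup.mem_sup_left (Subgroup.commutator_mem_commutator hx ha))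
      (Subgroup.mem_sup_right ha)
  apply oup_le_of_pow_mem
  intro g hg
  exact exists_pow_mem_of_mem_sup hA hAN (hLle hg)

end comm

section main

variable {M X : Type*} [Group M] [Finite M] [Group X] [Finite X] {p : ℕ} [hp : Fact p.Prime]

theorem map_conj_map (π : M →* X) (A : Subgroup M) (x : M) :
    (A.map (MulAut.conj x).toMonoidHom).map π = (A.map π).map (MulAut.conj (π x)).toMonoidHom := by
  rw [Subgroup.map_map, Subgroup.map_map]
  congr 1
  ext a
  simp [MulAut.conj_apply]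

theorem map_LL (π : M →* X) (A : Subgroup M) (x : M) :
    (A ⊔ A.map (MulAut.conj x).toMonoidHom).map π =
      A.map π ⊔ (A.map π).map (MulAut.conj (π x)).toMonoidHom := by
  rw [Subgroup.map_sup, map_conj_map]

/-- existence of a good element -/
theorem exists_good (π : M →* X) (hπ : Function.Surjective π)
    {K Bb Y : Subgroup X} {ab : X} (hK : (Nat.card K).Coprime p)
    (A : Subgroup M) (hAb : IsElementaryAbelian p (A.map π))
    (h : MinData p K (A.map π) Bb Y ab) :
    ∃ x : M, π x ∈ Y ∧ ¬ π x * ab = ab * π x ∧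
      x ∈ oup p (A ⊔ A.map (MulAut.conj x).toMonoidHom) := by
  -- a non-centralizing element of `Y`
  have hex : ∃ xb ∈ Y, ¬ xb * ab = ab * xb := by
    by_contra hcon
    push_neg at hcon
    apply h.hnc
    intro y hy
    rw [Subgroup.mem_centralizer_iff]
    intro w hw
    rw [Set.mem_singleton_iff] at hw
    rw [hw]
    exact (hcon y hy).symm
  obtain ⟨xb, hxbY, hxbc⟩ := hex
  obtain ⟨x₀, hx₀⟩ := hπ xb
  set S : Set M := {x | π x ∈ Y ∧ ¬ π x * ab = ab * π x} with hS
  have hSne : S.Nonempty := ⟨x₀, by rw [hS]; simp only [Set.mem_setOf_eq, hx₀]; exact ⟨hxbY, hxbc⟩⟩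
  obtain ⟨x, hxS, hxmin⟩ := Set.exists_min_image S
    (fun x => Nat.card (A ⊔ A.map (MulAut.conj x).toMonoidHom : Subgroup M)) (Set.toFinite _) hSne
  obtain ⟨hxY, hxc⟩ := hxS
  have hLx : (A ⊔ A.map (MulAut.conj x).toMonoidHom).map π = A.map π ⊔ Y := by
    rw [map_LL]
    exact h.sup_conj_eq hAb hK hxY hxc
  have hxm : π x ∈ (A ⊔ A.map (MulAut.conj x).toMonoidHom).map π := by
    rw [hLx]; exact Subgroup.mem_sup_right hxY
  obtain ⟨l, hl, hlx⟩ := hxm
  obtain ⟨k, hk⟩ := exists_pow_mem_oup (p := p) hl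
  have hord : (orderOf (π x)).Coprime p := by
    have h2 : orderOf (π x) ∣ Nat.card Y := by
      have := orderOf_dvd_natCard (⟨π x, hxY⟩ : Y)
      rwa [Subgroup.orderOf_mk] at this
    exact Nat.Coprime.coprime_dvd_left h2 (h.card_Y_coprime hK)
  have hc' : Nat.Coprime (p ^ k) (orderOf (π x)) := (Nat.Coprime.pow_right k hord).symm
  obtain ⟨m, hm⟩ := exists_pow_eq_self_of_coprime hc'
  set x' : M := (l ^ p ^ k) ^ m with hx'
  have hx'o : x' ∈ oup p (A ⊔ A.map (MulAut.conj x).toMonoidHom) := Subgroup.pow_mem _ hk m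
  have hπx' : π x' = π x := by
    rw [hx', map_pow, map_pow, hlx, hm]
  have hx'S : x' ∈ S := by
    rw [hS]; simp only [Set.mem_setOf_eq, hπx']; exact ⟨hxY, hxc⟩
  have hx'L : x' ∈ A ⊔ A.map (MulAut.conj x).toMonoidHom := oup_le _ hx'o
  have hle : A ⊔ A.map (MulAut.conj x').toMonoidHom ≤ A ⊔ A.map (MulAut.conj x).toMonoidHom := by
    apply sup_le le_sup_left
    rintro _ ⟨a, ha, rfl⟩
    show x' * a * x'⁻¹ ∈ _
    exact Subgroup.mul_mem _ (Subgroup.mul_mem _ hx'L (Subgroup.mem_sup_left ha))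
      (Subgroup.inv_mem _ hx'L)
  have hcard := hxmin x' hx'S
  have heq : A ⊔ A.map (MulAut.conj x').toMonoidHom = A ⊔ A.map (MulAut.conj x).toMonoidHom :=
    Subgroup.eq_of_le_of_card_ge hle hcard
  refine ⟨x', by rw [hπx']; exact hxY, by rw [hπx']; exact hxc, ?_⟩
  rw [heq]
  exact hx'o

theorem main_abstract (π : M →* X) (hπ : Function.Surjective π)
    {K : Subgroup X} [hKn : K.Normal] (hK : (Nat.card K).Coprime p)
    (hC : Subgroup.centralizer (K : Set X) ≤ K)
    (A : Subgroup M) (hA : IsPGroup p A) (hker : IsPGroup p π.ker)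
    (hAb : IsElementaryAbelian p (A.map π)) (hAb1 : A.map π ≠ ⊥) :
    ∃ x : M, π x ∈ K ∧ x ∈ oup p (A ⊔ A.map (MulAut.conj x).toMonoidHom) ∧
      oup p (A ⊔ A.map (MulAut.conj x).toMonoidHom) ≤ K.comap π ∧
      ⁅oup p (A ⊔ A.map (MulAut.conj x).toMonoidHom), A⁆ =
        oup p (A ⊔ A.map (MulAut.conj x).toMonoidHom) ∧
      (A ⊓ pCoreOf p (A ⊔ A.map (MulAut.conj x).toMonoidHom)).relIndex A = p ∧
      ⁅A ⊓ pCoreOf p (A ⊔ A.map (MulAut.conj x).toMonoidHom),
        A ⊔ A.map (MulAut.conj x).toMonoidHom⁆ ≤ π.ker := by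
  obtain ⟨Bb, Y, ab, h⟩ := exists_minData hK hC hAb hAb1
  obtain ⟨x, hxY, hxc, hxo⟩ := exists_good π hπ hK A hAb h
  set L := A ⊔ A.map (MulAut.conj x).toMonoidHom with hL
  have hLx : L.map π = A.map π ⊔ Y := by
    rw [hL, map_LL]
    exact h.sup_conj_eq hAb hK hxY hxc
  have hAbp : IsPGroup p (A.map π) := isPGroup_of_elem hAb
  -- `A ⊓ O_p(L)` is the preimage of the hyperplane
  have hcore : A ⊓ pCoreOf p L = A ⊓ Bb.comap π := by
    apply le_antisymm
    · apply le_inf inf_le_left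
      intro g hg
      rw [Subgroup.mem_inf] at hg
      rw [Subgroup.mem_comap]
      have hP : IsPGroup p ((pCoreOf p L).map π) := (pCoreOf_isPGroup p L).map π
      have hPle : (pCoreOf p L).map π ≤ A.map π ⊔ Y := by
        rw [← hLx]; exact Subgroup.map_mono (pCoreOf_le p L)
      have hPn : A.map π ⊔ Y ≤ Subgroup.normalizer (((pCoreOf p L).map π : Subgroup X) : Set X) := by
        rw [← hLx]
        exact (Subgroup.map_mono (le_normalizer_pCoreOf p L)).trans (Subgroup.le_normalizer_map π)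
      exact h.normal_pGroup_le hAb hK hP hPle hPn ⟨g, hg.2, rfl⟩
    · apply le_inf inf_le_left
      have hN : IsPGroup p (L ⊓ Bb.comap π : Subgroup M) := by
        rintro ⟨g, hg⟩
        rw [Subgroup.mem_inf, Subgroup.mem_comap] at hg
        have h1 : (π g) ^ p = 1 := hAb.2 _ (h.hB hg.2)
        have h2 : g ^ p ∈ π.ker := by rw [MonoidHom.mem_ker, map_pow, h1]
        obtain ⟨j, hj⟩ := hker ⟨g ^ p, h2⟩
        have hj' : (g ^ p) ^ p ^ j = 1 := by
          have := congrArg Subtype.val hj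
          simpa using this
        refine ⟨j + 1, Subtype.ext ?_⟩
        show g ^ p ^ (j + 1) = 1
        rw [pow_succ', pow_mul, hj']
      have hNn : L ≤ Subgroup.normalizer ((L ⊓ Bb.comap π : Subgroup M) : Set M) := by
        have key : ∀ l ∈ L, ∀ n ∈ (L ⊓ Bb.comap π : Subgroup M), l * n * l⁻¹ ∈ (L ⊓ Bb.comap π : Subgroup M) := by
          intro l hl n hn
          rw [Subgroup.mem_inf, Subgroup.mem_comap] at hn ⊢
          refine ⟨L.mul_mem (L.mul_mem hl hn.1) (L.inv_mem hl), ?_⟩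
          have hlm : π l ∈ A.map π ⊔ Y := by rw [← hLx]; exact ⟨l, hl, rfl⟩
          have hcen := Subgroup.mem_centralizer_iff.1 (h.Bb_le_centralizer hAb hn.2) (π l) hlm
          rw [map_mul, map_mul, map_inv, hcen, mul_inv_cancel_right]
          exact hn.2
        intro l hl
        rw [Subgroup.mem_normalizer_iff]
        intro n
        constructor
        · exact key l hl n
        · intro hn
          have := key l⁻¹ (L.inv_mem hl) _ hn
          simpa [mul_assoc] using this
      have := le_pCoreOf (inf_le_left : (L ⊓ Bb.comap π : Subgroup M) ≤ L) hNn hN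
      refine le_trans ?_ this
      exact inf_le_inf_right _ (le_sup_left : A ≤ L)
  refine ⟨x, h.hYK hxY, hxo, ?_, commutator_oup_eq hA hxo, ?_, ?_⟩
  · -- `O^p(L) ≤ π⁻¹ K`
    apply oup_le_of_coprime_mem
    intro g hg hc
    rw [Subgroup.mem_comap]
    apply h.hYK
    have hgm : π g ∈ Y ⊔ A.map π := by
      rw [sup_comm, ← hLx]; exact ⟨g, hg, rfl⟩
    have hc' : (orderOf (π g)).Coprime p := Nat.Coprime.coprime_dvd_left (orderOf_map_dvd π g) hc
    exact coprime_mem_of_mem_sup hAbp h.Ab_le_normalizer hgm hc'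
  · rw [hcore, Subgroup.inf_relIndex_left, Subgroup.relIndex_comap]
    exact h.hidx
  · rw [hcore, Subgroup.commutator_le]
    intro g hg l hl
    rw [Subgroup.mem_inf, Subgroup.mem_comap] at hg
    rw [MonoidHom.mem_ker, map_commutatorElement, commutatorElement_eq_one_iff_mul_comm]
    have hlm : π l ∈ A.map π ⊔ Y := by rw [← hLx]; exact ⟨l, hl, rfl⟩
    exact (Subgroup.mem_centralizer_iff.1 (h.Bb_le_centralizer hAb hg.2) (π l) hlm).symm

end main

end Cfsg.Agent.Helper14.PSolMin
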