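import Mathlib
import Cfsg.Prelude.Def_Local
import Cfsg.Agent.Lib.Helper7.PConstrained
import Cfsg.Agent.Lib.Helper23.PSolvable

/-!
# `p`-solvable groups are `p`-constrained (helper14)
-/

set_option autoImplicit false

namespace Cfsg.Agent.Helper14.PSolvConstr

open Cfsg Subgroup

variable {G : Type*} [Group G]

theorem isPConstrained_of_isPSolvable [Finite G] (p : ℕ) [Fact p.Prime] (h : IsPSolvable p G) :
    IsPConstrained p G := by
  haveI := Cfsg.Agent.Helper22.pPrimeCore_normal (G := G) p
  rw [Cfsg.Agent.Helper7.isPConstrained_iff_centralizer_le p]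
  exact Cfsg.Agent.Helper23.PSolv.centralizer_pCore_le
    (Cfsg.Agent.Helper23.PSolv.isPSolvable_quotient _ h)
    (Cfsg.Agent.Helper23.PSolv.pPrimeCore_quotient_pPrimeCore p)

end Cfsg.Agent.Helper14.PSolvConstr
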