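import Mathlib
import Cfsg.Agent.Lib.Helper7.Quasisimple
import Cfsg.Agent.Lib.Helper14.WeakClosureOup
import Cfsg.Agent.Lib.Helper14.PReduced

/-!
# `p`-subgroups acting on a normal quasisimple subgroup of `p`-power index (helper14)
-/

set_option autoImplicit false

namespace Cfsg.Agent.Helper14

open Subgroup Cfsg
open scoped commutatorElement

/-- a normal subgroup of `p`-power index in a quasisimple group is the whole group -/
theorem quasisimple_eq_top_of_pow {K : Type*} [Group K] [Finite K] {p : ℕ} [Fact p.Prime]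
    (hK : Cfsg.IsQuasisimple K) (N : Subgroup K) [N.Normal]
    (hpow : ∀ x : K, ∃ k : ℕ, x ^ p ^ k ∈ N) : N = ⊤ := by
  rcases Cfsg.Agent.Helper7.quasisimple_normal_eq_top_or_le_center hK N with h | h
  · exact h
  · exfalso
    have hpg : IsPGroup p (K ⧸ center K) := by
      intro q
      obtain ⟨x, rfl⟩ := QuotientGroup.mk_surjective q
      obtain ⟨k, hk⟩ := hpow x
      refine ⟨k, ?_⟩
      rw [← QuotientGroup.mk_pow, QuotientGroup.eq_one_iff]
      exact h hk
    haveI : Group.IsNilpotent (K ⧸ center K) := hpg.isNilpotent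
    haveI := hK.2
    haveI := hK.1
    haveI : Group.IsPerfect (K ⧸ center K) := inferInstance
    exact Group.IsPerfect.not_isSolvable (K ⧸ center K) inferInstance

section Act

variable {Eb : Type*} [Group Eb] [Finite Eb] {p : ℕ} [Fact p.Prime]

/-- no nontrivial `p`-element centralizes a normal subgroup `K` of `p`-power index when `O_p = 1` -/
theorem eq_one_of_mem_centralizer_of_pow (K : Subgroup Eb) [K.Normal]
    (hpow : ∀ x : Eb, ∃ k : ℕ, x ^ p ^ k ∈ K) (hOp : Cfsg.pCore p Eb = ⊥) {y : Eb}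
    (hy : y ∈ centralizer (K : Set Eb)) (hyp : ∃ k : ℕ, y ^ p ^ k = 1) : y = 1 := by
  -- a Sylow subgroup containing `y`
  have hzp : IsPGroup p (Subgroup.zpowers y) := by
    obtain ⟨k, hk⟩ := hyp
    rw [IsPGroup.iff_orderOf]
    rintro ⟨z, hz⟩
    obtain ⟨n, rfl⟩ := Subgroup.mem_zpowers_iff.mp hz
    have hdvd : orderOf (⟨y ^ n, hz⟩ : Subgroup.zpowers y) ∣ p ^ k := by
      apply orderOf_dvd_of_pow_eq_one
      apply Subtype.ext
      show (y ^ n) ^ p ^ k = 1
      rw [← zpow_natCast, ← zpow_mul, mul_comm, zpow_mul, zpow_natCast, hk, one_zpow]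
    obtain ⟨j, _, hj⟩ := (Nat.dvd_prime_pow Fact.out).mp hdvd
    exact ⟨j, hj⟩
  obtain ⟨S, hS⟩ := hzp.exists_le_sylow
  have hyS : y ∈ (S : Subgroup Eb) := hS (Subgroup.mem_zpowers y)
  have hCn : (centralizer (K : Set Eb)).Normal := Subgroup.normal_centralizer
  -- every conjugate of `y` lies in `S`
  have hconj : ∀ g : Eb, g * y * g⁻¹ ∈ (S : Subgroup Eb) := by
    intro g
    have hpc : PowCond p (⊤ : Subgroup Eb) K := fun d _ => hpow d
    obtain ⟨t, ht, n, hn, rfl⟩ := exists_mul_of_powCond S (N := K) (D := ⊤) inferInstance hpc g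
      (Subgroup.mem_top g)
    have h1 : n * y * n⁻¹ = y := by
      have := Subgroup.mem_centralizer_iff.mp hy n hn
      rw [this]
      group
    have e : t * n * y * (t * n)⁻¹ = t * (n * y * n⁻¹) * t⁻¹ := by group
    rw [e, h1]
    exact Subgroup.mul_mem _ (Subgroup.mul_mem _ ht hyS) (Subgroup.inv_mem _ ht)
  have hle : Subgroup.normalClosure ({y} : Set Eb) ≤ (S : Subgroup Eb) := by
    unfold Subgroup.normalClosure
    rw [Subgroup.closure_le]
    intro z hz
    rw [Group.mem_conjugatesOfSet_iff] at hz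
    obtain ⟨a, ha, hza⟩ := hz
    rw [Set.mem_singleton_iff] at ha
    subst ha
    rw [isConj_iff] at hza
    obtain ⟨c, rfl⟩ := hza
    exact hconj c
  have hp : IsPGroup p (Subgroup.normalClosure ({y} : Set Eb)) := S.isPGroup'.to_le hle
  have h1 := le_pCore (Subgroup.normalClosure_normal) hp
  rw [hOp] at h1
  have h2 : y ∈ Subgroup.normalClosure ({y} : Set Eb) :=
    Subgroup.subset_normalClosure (Set.mem_singleton y)
  exact Subgroup.mem_bot.mp (h1 h2)

/-- a nontrivial `p`-subgroup acts nontrivially: `[K, Y] = K` -/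
theorem commutator_eq_of_quasisimple (K : Subgroup Eb) [hKn : K.Normal]
    (hK : Cfsg.IsQuasisimple ↥K) (hpow : ∀ x : Eb, ∃ k : ℕ, x ^ p ^ k ∈ K)
    (hOp : Cfsg.pCore p Eb = ⊥) (Y : Subgroup Eb) (hY : IsPGroup p ↥Y) (hY1 : Y ≠ ⊥) :
    ⁅K, Y⁆ = K := by
  have hVK : ⁅K, Y⁆ ≤ K := Subgroup.commutator_le_left K Y
  have hKV : K ≤ normalizer ((⁅K, Y⁆ : Subgroup Eb) : Set Eb) :=
    Cfsg.Agent.Helper10.le_normalizer_commutator_left K Y
  haveI hN : ((⁅K, Y⁆ : Subgroup Eb).subgroupOf K).Normal :=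
    (Subgroup.normal_subgroupOf_iff_le_normalizer hVK).mpr hKV
  rcases Cfsg.Agent.Helper7.quasisimple_normal_eq_top_or_le_center hK
    ((⁅K, Y⁆ : Subgroup Eb).subgroupOf K) with h | h
  · exact le_antisymm hVK (Subgroup.subgroupOf_eq_top.mp h)
  · exfalso
    -- `[[K,Y],K] = 1`
    have h1 : ⁅⁅K, Y⁆, K⁆ = ⊥ := by
      rw [eq_bot_iff, Subgroup.commutator_le]
      intro v hv k hk
      have hvc : (⟨v, hVK hv⟩ : ↥K) ∈ center ↥K := h (Subgroup.mem_subgroupOf.mpr hv)
      have := Subgroup.mem_center_iff.mp hvc ⟨k, hk⟩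
      have hcomm : k * v = v * k := congrArg Subtype.val this
      rw [Subgroup.mem_bot, commutatorElement_def, ← hcomm]
      group
    have h2 : ⁅⁅Y, K⁆, K⁆ = ⊥ := by rw [Subgroup.commutator_comm Y K]; exact h1
    have h3 : ⁅⁅K, K⁆, Y⁆ = ⊥ := Subgroup.commutator_commutator_eq_bot_of_rotate h1 h2
    haveI := hK.1
    have hperf : ⁅K, K⁆ = K := Subgroup.commutator_eq_self
    rw [hperf] at h3
    -- so `Y` centralizes `K`
    obtain ⟨⟨y, hyY⟩, hyne⟩ := (Subgroup.ne_bot_iff_exists_ne_one).mp hY1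
    have hyc : y ∈ centralizer (K : Set Eb) := by
      rw [Subgroup.mem_centralizer_iff]
      intro k hk
      have : ⁅k, y⁆ ∈ (⊥ : Subgroup Eb) := h3 ▸ Subgroup.commutator_mem_commutator hk hyY
      rw [Subgroup.mem_bot, commutatorElement_def] at this
      have e : k * y = k * y * k⁻¹ * y⁻¹ * (y * k) := by group
      rw [e, this, one_mul]
    have hyp : ∃ k : ℕ, y ^ p ^ k = 1 := by
      obtain ⟨k, hk⟩ := hY ⟨y, hyY⟩
      exact ⟨k, congrArg Subtype.val hk⟩
    have := eq_one_of_mem_centralizer_of_pow K hpow hOp hyc hyp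
    apply hyne
    exact Subtype.ext this

end Act

section Conj

variable {G : Type*} [Group G] {p : ℕ}

/-- pointwise form: an element of a conjugate `Q^x` normalizing `D` centralizes `D` modulo `O_p(D)`,
when `D` normalizes `Q` and `x` normalizes `D` -/
theorem commutator_mem_pCoreOf_of_mem_map_conj {Q D : Subgroup G} (hQp : IsPGroup p ↥Q)
    (hDQ : D ≤ normalizer (Q : Set G)) {x : G} (hx : x ∈ normalizer (D : Set G)) {y : G}
    (hy : y ∈ Q.map (MulAut.conj x).toMonoidHom) (hyD : y ∈ normalizer (D : Set G)) {d : G}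
    (hd : d ∈ D) : ⁅y, d⁆ ∈ pCoreOf p D := by
  have hDQx : ∀ d ∈ D, ∀ z ∈ Q.map (MulAut.conj x).toMonoidHom,
      d * z * d⁻¹ ∈ Q.map (MulAut.conj x).toMonoidHom := by
    intro d hd z hz
    rw [mem_map_conj_iff] at hz ⊢
    have hxinv : x⁻¹ ∈ normalizer (D : Set G) := Subgroup.inv_mem _ hx
    have h1 : x⁻¹ * d * x⁻¹⁻¹ ∈ D := (Subgroup.mem_normalizer_iff.mp hxinv d).mp hd
    have h2 := hDQ h1
    have h3 := (Subgroup.mem_normalizer_iff.mp h2 _).mp hz
    have e : x⁻¹ * (d * z * d⁻¹) * x =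
        x⁻¹ * d * x⁻¹⁻¹ * (x⁻¹ * z * x) * (x⁻¹ * d * x⁻¹⁻¹)⁻¹ := by group
    rw [e]
    exact h3
  have hDnorm : D ≤ normalizer ((D ⊓ Q.map (MulAut.conj x).toMonoidHom : Subgroup G) : Set G) := by
    apply le_normalizer_of_conj_mem
    intro d hd z hz
    rw [Subgroup.mem_inf] at hz ⊢
    exact ⟨D.mul_mem (D.mul_mem hd hz.1) (D.inv_mem hd), hDQx d hd z hz.2⟩
  have hpg : IsPGroup p ↥(D ⊓ Q.map (MulAut.conj x).toMonoidHom) :=
    (hQp.map _).to_le inf_le_right
  have hle := le_pCoreOf inf_le_left hDnorm hpg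
  apply hle
  rw [Subgroup.mem_inf]
  constructor
  · have h1 : y * d * y⁻¹ ∈ D := (Subgroup.mem_normalizer_iff.mp hyD d).mp hd
    have e : ⁅y, d⁆ = y * d * y⁻¹ * d⁻¹ := by simp only [commutatorElement_def]
    rw [e]
    exact D.mul_mem h1 (D.inv_mem hd)
  · have h1 := hDQx d hd y⁻¹ (Subgroup.inv_mem _ hy)
    have e : ⁅y, d⁆ = y * (d * y⁻¹ * d⁻¹) := by simp only [commutatorElement_def]; group
    rw [e]
    exact Subgroup.mul_mem _ hy h1

/-- a conjugate of `Q` centralizes `D` modulo `O_p(D)` when `D` normalizes `Q` -/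
theorem map_conj_le_centMod_pCoreOf {Q D : Subgroup G} (hQp : IsPGroup p ↥Q)
    (hDQ : D ≤ normalizer (Q : Set G)) {x : G} (hx : x ∈ normalizer (D : Set G))
    (hQx : Q.map (MulAut.conj x).toMonoidHom ≤ normalizer (D : Set G)) :
    Q.map (MulAut.conj x).toMonoidHom ≤ centMod (pCoreOf p D) (D : Set G) := by
  intro y hy
  have hyD : y ∈ normalizer (D : Set G) := hQx hy
  refine ⟨normalizer_le_normalizer_pCoreOf p D hyD, ?_⟩
  intro d hd
  exact commutator_mem_pCoreOf_of_mem_map_conj hQp hDQ hx hy hyD hd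

end Conj

end Cfsg.Agent.Helper14
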