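import Mathlib
import Cfsg.Agent.Lib.Helper14.S4Section

set_option autoImplicit false

/-! The homomorphism of the symmetric group of degree four onto that of degree three, and a
transfer lemma for sections of quotients. -/

namespace Cfsg.Agent.Helper14.S4Rho

open Equiv Subgroup

/-- the three fixed point free involutions of `S₄` -/
def vv : Fin 3 → Perm (Fin 4) :=
  ![swap 0 3 * swap 1 2, swap 1 3 * swap 0 2, swap 2 3 * swap 0 1]

/-- truncation `Fin 4 → Fin 3` -/
def cc (x : Fin 4) : Fin 3 := if h : x.val < 3 then ⟨x.val, h⟩ else 0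

/-- the action of `S₄` on the three fixed point free involutions, by conjugation -/
def rr (s : Perm (Fin 4)) (i : Fin 3) : Fin 3 := cc (s (vv i (s⁻¹ 3)))

set_option maxRecDepth 100000 in
theorem rr_one : ∀ i : Fin 3, rr 1 i = i := by decide

set_option maxRecDepth 100000 in
theorem rr_mul : ∀ (s t : Perm (Fin 4)) (i : Fin 3), rr (s * t) i = rr s (rr t i) := by decide

/-- the action of `S₄` on three points -/
@[instance_reducible]
def act : MulAction (Perm (Fin 4)) (Fin 3) where
  smul := rr
  one_smul := rr_one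
  mul_smul := rr_mul

/-- the homomorphism `S₄ → S₃` -/
def rho : Perm (Fin 4) →* Perm (Fin 3) := @MulAction.toPermHom _ (Fin 3) _ act

set_option maxRecDepth 100000 in
theorem rho_surj : ∀ t : Perm (Fin 3), ∃ s : Perm (Fin 4), rho s = t := by decide

set_option maxRecDepth 100000 in
theorem rho_ker_sq : ∀ v : Perm (Fin 4), rho v = 1 → v * v = 1 := by decide

set_option maxRecDepth 100000 in
theorem rho_cent : ∀ s : Perm (Fin 4),
    (∀ v : Perm (Fin 4), rho v = 1 → s * v = v * s) → rho s = 1 := by
  decide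

universe u v w

/-- **Transfer of sections to a quotient.** -/
theorem involves_quotient_of_hom {X : Type u} [Group X] (N : Subgroup X) [N.Normal]
    {L : Type v} [Group L] {S : Type w} [Group S] (φ : L →* X) (ψ : L →* S)
    (hψ : Function.Surjective ψ) (h : ∀ l : L, φ l ∈ N → ψ l = 1) :
    Cfsg.Involves S (X ⧸ N) := by
  obtain ⟨θ, hθ⟩ : ∃ θ : L →* X ⧸ N, θ = (QuotientGroup.mk' N).comp φ := ⟨_, rfl⟩
  have hsurj : Function.Surjective θ.rangeRestrict := θ.rangeRestrict_surjective
  have hker : θ.rangeRestrict.ker ≤ ψ.ker := by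
    intro l hl
    rw [MonoidHom.mem_ker] at hl ⊢
    have h1 : θ l = 1 := by
      have := congrArg (fun z : ↥θ.range => (z : X ⧸ N)) hl
      simpa using this
    rw [hθ, MonoidHom.comp_apply, QuotientGroup.mk'_apply, QuotientGroup.eq_one_iff] at h1
    exact h l h1
  refine S4Sec.involves_of_surjective θ.range
    (MonoidHom.liftOfSurjective θ.rangeRestrict hsurj ⟨ψ, hker⟩) ?_
  intro s
  obtain ⟨l, rfl⟩ := hψ s
  refine ⟨θ.rangeRestrict l, ?_⟩
  exact MonoidHom.liftOfRightInverse_comp_apply _ _ _ ⟨ψ, hker⟩ l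

end Cfsg.Agent.Helper14.S4Rho
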