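import Mathlib
import Cfsg.Agent.Lib.Helper15.S52Defs

/-!
# S3452, piece S52-SPLIT (helper14 for helper15): the split torus element of `PSL₂(p)` of order
`(p - 1) / 2` and a cuspidal function whose norm sum along it does not vanish.
-/

set_option autoImplicit false
set_option linter.unusedVariables false

namespace Cfsg.Agent.Helper15.S52

open Cfsg.Agent.Helper2

/-- the diagonal matrix `diag(u, v)` with `u * v = 1` -/
def s52_split_D {F : Type*} [Field F] (u v : F) (h : u * v = 1) : SL2 F :=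
  ⟨Matrix.diagonal ![u, v], by
    rw [Matrix.det_diagonal, Fin.prod_univ_two]
    simpa using h⟩

theorem s52_split_D_pow {F : Type*} [Field F] (u v : F) (h : u * v = 1) (k : ℕ) :
    ((s52_split_D u v h) ^ k).1 = Matrix.diagonal ![u ^ k, v ^ k] := by
  rw [Matrix.SpecialLinearGroup.coe_pow]
  show (Matrix.diagonal ![u, v]) ^ k = _
  rw [Matrix.diagonal_pow]
  congr 1
  funext i
  fin_cases i <;> simp

theorem s52_split_D_mul {F : Type*} [Field F] (u v : F) (h : u * v = 1) (h' : v * u = 1) :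
    s52_split_D u v h * s52_split_D v u h' = 1 := by
  apply Subtype.ext
  rw [Matrix.SpecialLinearGroup.coe_mul]
  show Matrix.diagonal ![u, v] * Matrix.diagonal ![v, u] = 1
  rw [Matrix.diagonal_mul_diagonal, ← Matrix.diagonal_one]
  congr 1
  funext i
  fin_cases i <;> simp [h, h']

/-- a power of `mk diag(u, v)` is trivial iff `u ^ k = v ^ k` -/
theorem s52_split_pow_eq_one_iff {F : Type*} [Field F] (u v : F) (h : u * v = 1) (k : ℕ) :
    (mk F (s52_split_D u v h)) ^ k = 1 ↔ u ^ k = v ^ k := by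
  rw [← map_pow, mk_eq_one_iff, Matrix.SpecialLinearGroup.mem_center_iff, s52_split_D_pow]
  constructor
  · rintro ⟨r, -, hr⟩
    have h0 := congrFun (congrFun hr 0) 0
    have h1 := congrFun (congrFun hr 1) 1
    simp [Matrix.scalar_apply] at h0 h1
    rw [← h0, ← h1]
  · intro huv
    refine ⟨u ^ k, ?_, ?_⟩
    · rw [Fintype.card_fin, pow_two]
      nth_rewrite 2 [huv]
      rw [← mul_pow, h, one_pow]
    · ext i j
      fin_cases i <;> fin_cases j <;> simp [Matrix.scalar_apply, huv]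

/-- the matrix `x` -/
def s52_split_X {F : Type*} [Field F] (h2 : (2 : F) ≠ 0) (s : F) : SL2 F :=
  ⟨!![s / 2, 1; (s ^ 2 - 4) / 4, s / 2], by
    rw [Matrix.det_fin_two_of]
    have h4 : (4 : F) ≠ 0 := by
      have : (4 : F) = 2 * 2 := by norm_num
      rw [this]; exact mul_ne_zero h2 h2
    field_simp
    ring⟩

theorem s52_split_trace {F : Type*} [Field F] (h2 : (2 : F) ≠ 0) (s : F) (u v : F) (h : u * v = 1)
    (k : ℕ) :
    ((s52_split_D u v h) ^ k * s52_split_X h2 s).1.trace = (u ^ k + v ^ k) * (s / 2) := by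
  rw [Matrix.SpecialLinearGroup.coe_mul, s52_split_D_pow, Matrix.trace_fin_two,
    Matrix.diagonal_mul, Matrix.diagonal_mul]
  simp [s52_split_X]
  ring

/-- the key equivalence for the traces -/
theorem s52_split_trace_sq {F : Type*} [Field F] (h2 : (2 : F) ≠ 0) {s : F} (hs : s ≠ 0) (u v : F)
    (h : u * v = 1) (k : ℕ) :
    ((u ^ k + v ^ k) * (s / 2)) ^ 2 = s ^ 2 ↔ u ^ k = v ^ k := by
  have huv : u ^ k * v ^ k = 1 := by rw [← mul_pow, h, one_pow]
  have h4 : (4 : F) ≠ 0 := by
    have : (4 : F) = 2 * 2 := by norm_num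
    rw [this]; exact mul_ne_zero h2 h2
  have key : ((u ^ k + v ^ k) * (s / 2)) ^ 2 - s ^ 2 = (u ^ k - v ^ k) ^ 2 * (s ^ 2 / 4) := by
    have e : (u ^ k + v ^ k) ^ 2 = (u ^ k - v ^ k) ^ 2 + 4 * (u ^ k * v ^ k) := by ring
    have : ((u ^ k + v ^ k) * (s / 2)) ^ 2 = (u ^ k + v ^ k) ^ 2 * (s ^ 2 / 4) := by
      field_simp
      ring
    rw [this, e, huv]
    field_simp
    ring
  constructor
  · intro hh
    have h0 : (u ^ k - v ^ k) ^ 2 * (s ^ 2 / 4) = 0 := by rw [← key, hh, sub_self]
    have hs2 : s ^ 2 / 4 ≠ 0 := div_ne_zero (pow_ne_zero 2 hs) h4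
    have h1 : (u ^ k - v ^ k) ^ 2 = 0 := (mul_eq_zero.1 h0).resolve_right hs2
    exact sub_eq_zero.1 ((pow_eq_zero_iff (two_ne_zero)).1 h1)
  · intro hh
    have : ((u ^ k + v ^ k) * (s / 2)) ^ 2 - s ^ 2 = 0 := by
      rw [key, hh, sub_self]
      ring
    exact sub_eq_zero.1 this

/-- PIECE S52-SPLIT -/
theorem split_main {F : Type*} [Field F] [Fintype F] {p : ℕ} [Fact p.Prime]
    (hF : Fintype.card F = p) (hp5 : 5 ≤ p) {s : F} (hs : GoodS s)
    (hmem : trfun F s ∈ cuspSub (us F)) :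
    ∃ (g : P2 F) (m : W (us F)), orderOf g = (p - 1) / 2 ∧
      ∑ k ∈ Finset.range ((p - 1) / 2), g ^ k • m ≠ 0 := by
  classical
  have hp : p.Prime := Fact.out
  have hchar : CharP F p := charP_of_card_eq_prime hF
  have h2 : (2 : F) ≠ 0 := by
    intro h
    have h' : ((2 : ℕ) : F) = 0 := by exact_mod_cast h
    have hd : p ∣ 2 := (CharP.cast_eq_zero_iff F p 2).1 h'
    have := Nat.le_of_dvd (by norm_num) hd
    omega
  have hs0 : s ≠ 0 := hs.1
  -- a generator of the multiplicative group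
  obtain ⟨a, ha⟩ := IsCyclic.exists_generator (α := Fˣ)
  have hoa : orderOf a = p - 1 := by
    rw [orderOf_eq_card_of_forall_mem_zpowers ha, Nat.card_eq_fintype_card, Fintype.card_units, hF]
  have hodd : p % 2 = 1 := by
    rcases hp.eq_two_or_odd with h | h
    · omega
    · exact h
  set n := (p - 1) / 2 with hn
  have hpn : p - 1 = 2 * n := by omega
  have hn2 : 2 ≤ n := by omega
  set u : F := (a : F) with hu
  set v : F := ((a⁻¹ : Fˣ) : F) with hv
  have huv : u * v = 1 := by rw [hu, hv, ← Units.val_mul, mul_inv_cancel, Units.val_one]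
  have hvu : v * u = 1 := by rw [mul_comm]; exact huv
  -- `u ^ k = v ^ k ↔ n ∣ k`
  have hkey : ∀ k : ℕ, u ^ k = v ^ k ↔ n ∣ k := by
    intro k
    have e1 : u ^ k = v ^ k ↔ a ^ (2 * k) = 1 := by
      constructor
      · intro h
        apply Units.ext
        rw [Units.val_pow_eq_pow_val, Units.val_one]
        show u ^ (2 * k) = 1
        have e0 : u ^ (2 * k) = u ^ k * u ^ k := by rw [two_mul, pow_add]
        rw [e0]
        nth_rewrite 2 [h]
        rw [← mul_pow, huv, one_pow]
      · intro h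
        have h' : u ^ (2 * k) = 1 := by
          rw [hu, ← Units.val_pow_eq_pow_val, h, Units.val_one]
        have hvk : v ^ k * u ^ k = 1 := by rw [← mul_pow, hvu, one_pow]
        calc u ^ k = u ^ k * (v ^ k * u ^ k) := by rw [hvk, mul_one]
          _ = v ^ k * u ^ (2 * k) := by rw [two_mul, pow_add]; ring
          _ = v ^ k := by rw [h', mul_one]
    rw [e1, ← orderOf_dvd_iff_pow_eq_one, hoa, hpn]
    exact Nat.mul_dvd_mul_iff_left (by norm_num)
  set D : SL2 F := s52_split_D u v huv with hD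
  set E : SL2 F := s52_split_D v u hvu with hE
  have hDE : D * E = 1 := s52_split_D_mul u v huv hvu
  set g : P2 F := mk F D with hg
  have hginv : g⁻¹ = mk F E := by
    rw [hg, inv_eq_iff_mul_eq_one, ← map_mul, hDE, map_one]
  have hgpow : ∀ k : ℕ, g ^ k = 1 ↔ n ∣ k := by
    intro k
    rw [hg, hD, s52_split_pow_eq_one_iff, hkey]
  have hog : orderOf g = n := by
    apply Nat.dvd_antisymm
    · rw [orderOf_dvd_iff_pow_eq_one, hgpow]
    · rw [← hgpow]; exact pow_orderOf_eq_one g
  set X : SL2 F := s52_split_X h2 s with hX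
  set m : W (us F) := rtrans ⟨trfun F s, hmem⟩ (mk F X) with hm
  refine ⟨g, m, hog, ?_⟩
  -- the values at the point `1`
  have hval : ∀ k : ℕ, (g ^ k • m).1 1 = if n ∣ k then 1 else 0 := by
    intro k
    rw [smul_apply, hm, rtrans_apply]
    have e : (g ^ k)⁻¹ * 1 * mk F X = mk F (E ^ k * X) := by
      rw [mul_one, ← inv_pow, hginv, ← map_pow, ← map_mul]
    rw [e]
    show trfun F s (mk F (E ^ k * X)) = _
    rw [trfun_mk]
    have htr : (E ^ k * X).1.trace = (v ^ k + u ^ k) * (s / 2) := by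
      rw [hE, hX]; exact s52_split_trace h2 s v u hvu k
    by_cases hk : n ∣ k
    · rw [if_pos hk]
      apply trfun0_eq_one
      rw [htr]
      exact (s52_split_trace_sq h2 hs0 v u hvu k).2 ((hkey k).2 hk).symm
    · rw [if_neg hk]
      apply trfun0_eq_zero
      rw [htr]
      intro h
      exact hk ((hkey k).1 ((s52_split_trace_sq h2 hs0 v u hvu k).1 h).symm)
  intro h0
  have h1 : (∑ k ∈ Finset.range n, g ^ k • m).1 1 = 0 := by rw [h0]; rfl
  rw [sum_apply] at h1
  have h3 : ∑ k ∈ Finset.range n, (g ^ k • m).1 1 = 1 := by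
    rw [Finset.sum_eq_single 0]
    · rw [hval 0, if_pos (dvd_zero n)]
    · intro k hk hk0
      rw [hval k, if_neg]
      exact Nat.not_dvd_of_pos_of_lt (Nat.pos_of_ne_zero hk0) (Finset.mem_range.1 hk)
    · intro h
      exact absurd (Finset.mem_range.2 (by omega)) h
  rw [h3] at h1
  exact one_ne_zero h1

end Cfsg.Agent.Helper15.S52
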