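import Mathlib
import Cfsg.Prelude.Def_Perm
import Cfsg.Prelude.Def_Transfer
import Cfsg.Prelude.Def_Solvable
import Cfsg.Prelude.Def_CaseTheorems
import Cfsg.Agent.Lib.Helper7.HupDefs

/-!
# S4025 (semi-affine Sylow normalizers): shared definitions (helper14)

`V` a finite `ZMod p`-space, `A ≤ GL(V)`.
* `PtTrans A` : `A` is transitive on the 1-dimensional subspaces;
* `LnTrans A` : `A` is transitive on the subspaces of order `p ^ 2`;
* `HasScalars A` : `A` contains the scalars;
* `addScalars A` : `A` extended by the scalars;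
* `Link p P V` : an identification of the (elementary abelian) subgroup `P` with the space `V`.
-/

set_option autoImplicit false

namespace Cfsg.Agent.Helper14.SA

variable {p : ℕ} [Fact p.Prime] {V : Type*} [AddCommGroup V] [Module (ZMod p) V]

/-- transitivity on the 1-dimensional subspaces -/
def PtTrans (A : Subgroup (V ≃ₗ[ZMod p] V)) : Prop :=
  ∀ v w : V, v ≠ 0 → w ≠ 0 → ∃ g ∈ A, ∃ c : (ZMod p)ˣ, g v = (c : ZMod p) • w

/-- transitivity on the subspaces of order `p ^ 2` -/
def LnTrans (A : Subgroup (V ≃ₗ[ZMod p] V)) : Prop :=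
  ∀ U W : Submodule (ZMod p) V, Nat.card U = p ^ 2 → Nat.card W = p ^ 2 →
    ∃ g ∈ A, U.map (g : V ≃ₗ[ZMod p] V).toLinearMap = W

/-- `A` contains the scalars -/
def HasScalars (A : Subgroup (V ≃ₗ[ZMod p] V)) : Prop :=
  ∀ c : (ZMod p)ˣ, ∃ g ∈ A, ∀ v : V, g v = (c : ZMod p) • v

/-- the scalars, as a homomorphism into `GL(V)` -/
noncomputable def scalHom (p : ℕ) [Fact p.Prime] (V : Type*) [AddCommGroup V] [Module (ZMod p) V] :
    (ZMod p)ˣ →* (V ≃ₗ[ZMod p] V) :=
  DistribMulAction.toModuleAut (ZMod p) V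

@[simp] theorem scalHom_apply (c : (ZMod p)ˣ) (v : V) : scalHom p V c v = (c : ZMod p) • v := rfl

/-- `A` extended by the scalars -/
noncomputable def addScalars (A : Subgroup (V ≃ₗ[ZMod p] V)) : Subgroup (V ≃ₗ[ZMod p] V) :=
  A ⊔ (scalHom p V).range

/-- an identification of the subgroup `P` (written multiplicatively) with the space `V` -/
structure Link (p : ℕ) [Fact p.Prime] {G : Type*} [Group G] (P : Subgroup G)
    (V : Type*) [AddCommGroup V] [Module (ZMod p) V] where
  /-- the identification -/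
  ι : ↥P ≃ V
  map_mul : ∀ x y : P, ι (x * y) = ι x + ι y

end Cfsg.Agent.Helper14.SA
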