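import Mathlib
import Cfsg.Agent.Lib.Helper14.SADefs

/-!
# S4025: the predicate `IsRep` (helper14)

`IsRep P L ρ` : `ρ` is the conjugation representation of `N_G(P)` on the space `V`
identified with `P` through the link `L`.
-/

set_option autoImplicit false
set_option linter.unusedSectionVars false
set_option linter.unusedVariables false

universe u

namespace Cfsg.Agent.Helper14.SA

variable {G : Type u} [Group G] [Finite G] {p : ℕ} [Fact p.Prime]

variable {V : Type*} [AddCommGroup V] [Module (ZMod p) V] [Finite V]

/-- the defining property of the conjugation representation of `N_G(P)` on `V` -/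
def IsRep (P : Subgroup G) (L : Link p P V)
    (ρ : ↥(Subgroup.normalizer (P : Set G)) →* (V ≃ₗ[ZMod p] V)) : Prop :=
  ∀ (g : ↥(Subgroup.normalizer (P : Set G))) (x : P) (hx : (g : G) * x * (g : G)⁻¹ ∈ P),
    ρ g (L.ι x) = L.ι ⟨(g : G) * x * (g : G)⁻¹, hx⟩

end Cfsg.Agent.Helper14.SA
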