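import Mathlib
import Cfsg.Agent.Lib.Helper14.SADefs
import Cfsg.Agent.Lib.Helper14.SADefs2
import Cfsg.Agent.Lib.Helper22.PPrimeCore

/-!
# S4025: pieces KER1, KER2, EMB (helper14)

Abstract setting: `N` a finite group, `Q` a normal abelian Sylow `p`-subgroup identified with a
`ZMod p`-space `V` through `ι`, `ρ : N →* GL(V)` the conjugation representation.
-/

set_option autoImplicit false
set_option linter.unusedSectionVars false
set_option linter.unusedVariables false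

universe u

namespace Cfsg.Agent.Helper14.SA

section Abstract

variable {N : Type*} [Group N] [Finite N] {p : ℕ} [hp : Fact p.Prime]
variable {V : Type*} [AddCommGroup V] [Module (ZMod p) V]
variable (Q : Subgroup N) [hQn : Q.Normal]
variable (ι : Q ≃ V) (ρ : N →* (V ≃ₗ[ZMod p] V))

/-- the hypothesis that `ρ` is the conjugation action -/
def AbsRep : Prop :=
  ∀ (g : N) (x : Q), ρ g (ι x) = ι ⟨g * x * g⁻¹, hQn.conj_mem x x.2 g⟩

variable {Q ι ρ}

theorem abs_iota_one (hι : ∀ x y : Q, ι (x * y) = ι x + ι y) : ι 1 = 0 := by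
  have := hι 1 1
  rw [mul_one] at this
  exact left_eq_add.mp this

theorem abs_conj_eq_of_mem_ker (hρ : AbsRep Q ι ρ) {d : N} (hd : d ∈ ρ.ker) (x : Q) :
    d * x * d⁻¹ = x := by
  have h1 := hρ d x
  rw [MonoidHom.mem_ker.mp hd] at h1
  have := ι.injective h1
  exact (congrArg Subtype.val this).symm

theorem abs_mem_ker_of_conj_eq (hρ : AbsRep Q ι ρ) {d : N} (hd : ∀ x : Q, d * x * d⁻¹ = x) :
    d ∈ ρ.ker := by
  rw [MonoidHom.mem_ker]
  ext v
  obtain ⟨x, rfl⟩ := ι.surjective v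
  rw [hρ d x]
  simp only [LinearEquiv.coe_one, id_eq]
  congr 1
  exact Subtype.ext (hd x)

theorem abs_le_ker (hρ : AbsRep Q ι ρ) (hab : ∀ x y : Q, x * y = y * x) : Q ≤ ρ.ker := by
  intro y hy
  apply abs_mem_ker_of_conj_eq hρ
  intro x
  have := hab ⟨y, hy⟩ x
  have h2 : y * (x : N) = x * y := congrArg Subtype.val this
  rw [h2, mul_inv_cancel_right]

theorem abs_core_inf (hQp : IsPGroup p Q) : Cfsg.pPrimeCore p N ⊓ Q = ⊥ := by
  apply Subgroup.inf_eq_bot_of_coprime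
  obtain ⟨m, hm⟩ := IsPGroup.iff_card.mp hQp
  rw [hm]
  exact Nat.Coprime.pow_right _ (Cfsg.Agent.Helper22.card_pPrimeCore_coprime p)

theorem abs_core_le_ker (hρ : AbsRep Q ι ρ) (hQp : IsPGroup p Q) :
    Cfsg.pPrimeCore p N ≤ ρ.ker := by
  intro k hk
  apply abs_mem_ker_of_conj_eq hρ
  intro x
  have hK : (Cfsg.pPrimeCore p N).Normal := Cfsg.Agent.Helper22.pPrimeCore_normal p
  have h1 : k * x * k⁻¹ * (x : N)⁻¹ ∈ Cfsg.pPrimeCore p N ⊓ Q := by
    refine ⟨?_, ?_⟩
    · have : (x : N) * k⁻¹ * (x : N)⁻¹ ∈ Cfsg.pPrimeCore p N :=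
        hK.conj_mem _ (inv_mem hk) _
      have h2 := mul_mem hk this
      simpa [mul_assoc] using h2
    · exact Q.mul_mem (hQn.conj_mem _ x.2 _) (Q.inv_mem x.2)
  rw [abs_core_inf hQp, Subgroup.mem_bot] at h1
  exact mul_inv_eq_one.mp h1

section Compl

variable {H : Subgroup N}

theorem abs_exists_mul (hc : Subgroup.IsComplement' Q H) (g : N) :
    ∃ (x : Q) (h : H), g = x * h := by
  obtain ⟨⟨x, h⟩, hxh⟩ := hc.2 g
  exact ⟨⟨x.1, x.2⟩, ⟨h.1, h.2⟩, hxh.symm⟩

theorem abs_card_compl_coprime (hidx : ¬ p ∣ Q.index) (hc : Subgroup.IsComplement' Q H) :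
    (Nat.card H).Coprime p := by
  rw [← hc.symm.index_eq_card]
  exact ((Nat.Prime.coprime_iff_not_dvd hp.out).mpr hidx).symm

theorem abs_core_le_compl (hQp : IsPGroup p Q) (hidx : ¬ p ∣ Q.index)
    (hc : Subgroup.IsComplement' Q H) : Cfsg.pPrimeCore p N ≤ H := by
  intro k hk
  have hK : (Cfsg.pPrimeCore p N).Normal := Cfsg.Agent.Helper22.pPrimeCore_normal p
  obtain ⟨x, h, rfl⟩ := abs_exists_mul hc k
  have hbot : Q ⊓ (H ⊔ Cfsg.pPrimeCore p N) = ⊥ := by
    apply Subgroup.inf_eq_bot_of_coprime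
    obtain ⟨m, hm⟩ := IsPGroup.iff_card.mp hQp
    rw [hm]
    apply Nat.Coprime.pow_left
    apply Nat.Coprime.symm
    exact Nat.Coprime.coprime_dvd_left (Cfsg.Agent.Helper22.card_sup_dvd_mul H _)
      (Nat.Coprime.mul_left (abs_card_compl_coprime hidx hc)
        (Cfsg.Agent.Helper22.card_pPrimeCore_coprime p))
  have hx : (x : N) ∈ Q ⊓ (H ⊔ Cfsg.pPrimeCore p N) := by
    refine ⟨x.2, ?_⟩
    have h1 : (x : N) = (x * h) * (h : N)⁻¹ := by rw [mul_inv_cancel_right]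
    rw [h1]
    exact Subgroup.mul_mem _ (Subgroup.mem_sup_right hk)
      (Subgroup.mem_sup_left (H.inv_mem h.2))
  rw [hbot, Subgroup.mem_bot] at hx
  rw [hx, one_mul]
  exact h.2

theorem abs_compl_inf_ker_le (hρ : AbsRep Q ι ρ) (hidx : ¬ p ∣ Q.index)
    (hc : Subgroup.IsComplement' Q H) : H ⊓ ρ.ker ≤ Cfsg.pPrimeCore p N := by
  apply Cfsg.Agent.Helper22.le_pPrimeCore p
  · constructor
    intro d hd g
    obtain ⟨x, h, rfl⟩ := abs_exists_mul hc g
    have hd' : (h : N) * d * (h : N)⁻¹ ∈ H ⊓ ρ.ker :=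
      ⟨H.mul_mem (H.mul_mem h.2 hd.1) (H.inv_mem h.2),
        (MonoidHom.normal_ker ρ).conj_mem _ hd.2 _⟩
    have h1 := abs_conj_eq_of_mem_ker hρ hd'.2 x
    have h2 : (x : N) * ((h : N) * d * (h : N)⁻¹) * (x : N)⁻¹ = (h : N) * d * (h : N)⁻¹ := by
      rw [mul_inv_eq_iff_eq_mul]
      exact (mul_inv_eq_iff_eq_mul.mp h1).symm
    have h3 : (x : N) * h * d * ((x : N) * h)⁻¹ =
        (x : N) * ((h : N) * d * (h : N)⁻¹) * (x : N)⁻¹ := by
      simp only [mul_inv_rev, mul_assoc]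
    rw [h3, h2]
    exact hd'
  · exact Nat.Coprime.coprime_dvd_left (Subgroup.card_dvd_of_le inf_le_left)
      (abs_card_compl_coprime hidx hc)

theorem abs_card_ker (hρ : AbsRep Q ι ρ) (hab : ∀ x y : Q, x * y = y * x) (hQp : IsPGroup p Q)
    (hidx : ¬ p ∣ Q.index) (hc : Subgroup.IsComplement' Q H) :
    Nat.card ρ.ker = Nat.card Q * Nat.card (Cfsg.pPrimeCore p N) := by
  have hK : (Cfsg.pPrimeCore p N).Normal := Cfsg.Agent.Helper22.pPrimeCore_normal p
  have : ρ.ker = Q ⊔ Cfsg.pPrimeCore p N := by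
    apply le_antisymm _ (sup_le (abs_le_ker hρ hab) (abs_core_le_ker hρ hQp))
    intro c hcm
    obtain ⟨x, h, rfl⟩ := abs_exists_mul hc c
    have hh : (h : N) ∈ H ⊓ ρ.ker := by
      refine ⟨h.2, ?_⟩
      have h1 : (h : N) = (x : N)⁻¹ * (x * h) := by rw [inv_mul_cancel_left]
      rw [h1]
      exact Subgroup.mul_mem _ (Subgroup.inv_mem _ (abs_le_ker hρ hab x.2)) hcm
    exact Subgroup.mul_mem_sup x.2 (abs_compl_inf_ker_le hρ hidx hc hh)
  rw [this]
  exact Cfsg.Agent.Helper22.card_sup_eq_mul Q _ (by rw [inf_comm]; exact abs_core_inf hQp)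

end Compl

theorem abs_exists_compl (hQp : IsPGroup p Q) (hidx : ¬ p ∣ Q.index) :
    ∃ H : Subgroup N, Subgroup.IsComplement' Q H := by
  apply Subgroup.exists_right_complement'_of_coprime
  obtain ⟨m, hm⟩ := IsPGroup.iff_card.mp hQp
  rw [hm]
  exact Nat.Coprime.pow_left _ ((Nat.Prime.coprime_iff_not_dvd hp.out).mpr hidx)

theorem abs_card_quot (hρ : AbsRep Q ι ρ) (hab : ∀ x y : Q, x * y = y * x) (hQp : IsPGroup p Q)
    (hidx : ¬ p ∣ Q.index) :
    Nat.card (N ⧸ Cfsg.pPrimeCore p N) = Nat.card Q * Nat.card ρ.range := by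
  obtain ⟨H, hc⟩ := abs_exists_compl hQp hidx
  have h1 : Nat.card N = Nat.card (N ⧸ Cfsg.pPrimeCore p N) * Nat.card (Cfsg.pPrimeCore p N) :=
    Subgroup.card_eq_card_quotient_mul_card_subgroup _
  have h2 : Nat.card N = Nat.card (N ⧸ ρ.ker) * Nat.card ρ.ker :=
    Subgroup.card_eq_card_quotient_mul_card_subgroup _
  have h3 : Nat.card (N ⧸ ρ.ker) = Nat.card ρ.range :=
    Nat.card_congr (QuotientGroup.quotientKerEquivRange ρ).toEquiv
  rw [h3, abs_card_ker hρ hab hQp hidx hc] at h2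
  have hKpos : 0 < Nat.card (Cfsg.pPrimeCore p N) := Nat.card_pos
  apply Nat.eq_of_mul_eq_mul_right hKpos
  rw [← h1, h2]
  ring

section Emb

theorem abs_exists_hom {X : Type*} {H : Subgroup N} (hc : Subgroup.IsComplement' Q H)
    (τ : Q →* Equiv.Perm X) (lam : N →* Equiv.Perm X)
    (hcompat : ∀ (g : N) (x : Q),
      τ ⟨g * x * g⁻¹, hQn.conj_mem x x.2 g⟩ = lam g * τ x * (lam g)⁻¹) :
    ∃ Φ : N →* Equiv.Perm X, ∀ (x : Q) (h : H), Φ (x * h) = τ x * lam h := by
  let E := SemidirectProduct.mulEquivSubgroup hc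
  have compat : ∀ g : H, τ.comp ((((Q.normalizerMonoidHom).comp
      (Subgroup.inclusion (Q.normalizer_eq_top ▸ le_top))) g).toMonoidHom) =
      (MulAut.conj ((lam.comp H.subtype) g)).toMonoidHom.comp τ := by
    intro g
    ext x : 1
    simp only [MonoidHom.comp_apply, MulEquiv.coe_toMonoidHom, MulAut.conj_apply]
    have := hcompat g x
    rw [Subgroup.subtype_apply, ← this]
    rfl
  refine ⟨(SemidirectProduct.lift τ (lam.comp H.subtype) compat).comp E.symm.toMonoidHom, ?_⟩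
  intro x h
  have h1 : E.symm ((x : N) * h) = ⟨x, h⟩ := by
    rw [MulEquiv.symm_apply_eq]
    rfl
  simp only [MonoidHom.comp_apply, MulEquiv.coe_toMonoidHom, h1]
  simp [SemidirectProduct.lift]

theorem abs_coeff_ne_zero {F : Type} [Field F] (e : V ≃+ F) (g : V ≃ₗ[ZMod p] V) (a : F)
    (σ : F → F) (h : ∀ v : V, e (g v) = a * σ (e v)) : a ≠ 0 := by
  rintro rfl
  have h1 := h (e.symm 1)
  rw [zero_mul] at h1
  have h2 : g (e.symm 1) = 0 := (AddEquiv.map_eq_zero_iff e).mp h1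
  have h3 : e.symm (1 : F) = 0 := (LinearEquiv.map_eq_zero_iff g).mp h2
  have h4 : (1 : F) = 0 := (AddEquiv.map_eq_zero_iff e.symm).mp h3
  exact one_ne_zero h4

theorem abs_embedding (hι : ∀ x y : Q, ι (x * y) = ι x + ι y) (hρ : AbsRep Q ι ρ)
    (hab : ∀ x y : Q, x * y = y * x) (hQp : IsPGroup p Q) (hidx : ¬ p ∣ Q.index)
    (F : Type) [Field F] [Fintype F] (e : V ≃+ F)
    (hsl : ∀ g : N, ∃ (a : F) (σ : F ≃+* F), ∀ v : V, e (ρ g v) = a * σ (e v)) :
    ∃ f : (N ⧸ Cfsg.pPrimeCore p N) →* ↥(Cfsg.semiaffineGroup F),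
      Function.Injective f ∧
      ((∀ g : N, ∃ a : F, ∀ v : V, e (ρ g v) = a * e v) →
        ∀ x, ((f x : ↥(Cfsg.semiaffineGroup F)) : Equiv.Perm F) ∈ Cfsg.affineGroup F) := by
  obtain ⟨H, hc⟩ := abs_exists_compl hQp hidx
  let τ : Q →* Equiv.Perm F := MonoidHom.mk' (fun x => Equiv.addRight (e (ι x))) (by
    intro a b
    ext v
    simp only [Equiv.Perm.mul_apply, Equiv.coe_addRight, hι, map_add]
    abel)
  let lam : N →* Equiv.Perm F :=
    MonoidHom.mk' (fun g => (e.symm.toEquiv.trans (ρ g).toEquiv).trans e.toEquiv) (by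
      intro a b
      ext v
      simp)
  have hτ : ∀ x v, τ x v = v + e (ι x) := fun _ _ => rfl
  have hlam : ∀ g v, lam g v = e (ρ g (e.symm v)) := fun _ _ => rfl
  have hcompat : ∀ (g : N) (x : Q),
      τ ⟨g * x * g⁻¹, hQn.conj_mem x x.2 g⟩ = lam g * τ x * (lam g)⁻¹ := by
    intro g x
    ext v
    rw [hτ, Equiv.Perm.mul_apply, Equiv.Perm.mul_apply, hlam, hτ]
    have h1 : (lam g)⁻¹ v = e ((ρ g)⁻¹ (e.symm v)) := by
      rw [Equiv.Perm.inv_eq_iff_eq, hlam]
      simp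
    rw [h1, map_add, AddEquiv.symm_apply_apply, AddEquiv.symm_apply_apply, map_add, map_add,
      ← hρ g x]
    simp
  obtain ⟨Φ, hΦ⟩ := abs_exists_hom hc τ lam hcompat
  have hval : ∀ (x : Q) (h : H) (v : F), Φ (x * h) v = e (ρ h (e.symm v)) + e (ι x) := by
    intro x h v
    rw [hΦ, Equiv.Perm.mul_apply, hτ, hlam]
  have hrange : ∀ g, Φ g ∈ Cfsg.semiaffineGroup F := by
    intro g
    obtain ⟨x, h, rfl⟩ := abs_exists_mul hc g
    obtain ⟨a, σ, haσ⟩ := hsl h
    have ha : a ≠ 0 := abs_coeff_ne_zero e (ρ h) a σ haσ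
    refine ⟨Units.mk0 a ha, e (ι x), σ, fun v => ?_⟩
    rw [hval, haσ]
    simp
  have hK : (Cfsg.pPrimeCore p N).Normal := Cfsg.Agent.Helper22.pPrimeCore_normal p
  have hker1 : ∀ k ∈ Cfsg.pPrimeCore p N, Φ k = 1 := by
    intro k hk
    have hkH : k ∈ H := abs_core_le_compl hQp hidx hc hk
    have h1 := hΦ 1 ⟨k, hkH⟩
    simp only [OneMemClass.coe_one, one_mul, map_one] at h1
    rw [h1]
    ext v
    rw [hlam, MonoidHom.mem_ker.mp (abs_core_le_ker hρ hQp hk)]
    simp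
  have hker2 : ∀ g, Φ g = 1 → g ∈ Cfsg.pPrimeCore p N := by
    intro g hg
    obtain ⟨x, h, rfl⟩ := abs_exists_mul hc g
    have h0 := hval x h 0
    rw [hg] at h0
    simp only [Equiv.Perm.coe_one, id_eq, map_zero, zero_add] at h0
    have hx0 : ι x = 0 := (AddEquiv.map_eq_zero_iff e).mp h0.symm
    have hx : x = 1 := ι.injective (by rw [hx0, abs_iota_one hι])
    have hh : (h : N) ∈ H ⊓ ρ.ker := by
      refine ⟨h.2, ?_⟩
      show (h : N) ∈ ρ.ker
      rw [MonoidHom.mem_ker]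
      ext w
      have h1 := hval x h (e w)
      rw [hg, hx0] at h1
      simp only [Equiv.Perm.coe_one, id_eq, map_zero, add_zero, AddEquiv.symm_apply_apply] at h1
      have := e.injective h1
      rw [← this]
      simp
    rw [hx]
    simp only [OneMemClass.coe_one, one_mul]
    exact abs_compl_inf_ker_le hρ hidx hc hh
  let Φ' : N →* ↥(Cfsg.semiaffineGroup F) := Φ.codRestrict _ hrange
  have hΦ' : ∀ g, ((Φ' g : ↥(Cfsg.semiaffineGroup F)) : Equiv.Perm F) = Φ g := fun _ => rfl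
  have hle : Cfsg.pPrimeCore p N ≤ Φ'.ker := by
    intro k hk
    rw [MonoidHom.mem_ker]
    apply Subtype.ext
    rw [hΦ', hker1 k hk]
    rfl
  refine ⟨QuotientGroup.lift _ Φ' hle, ?_, ?_⟩
  · rw [injective_iff_map_eq_one]
    intro a
    induction a using QuotientGroup.induction_on with
    | H g =>
      intro hg
      rw [QuotientGroup.lift_mk] at hg
      have h1 : Φ g = 1 := by
        rw [← hΦ', hg]
        rfl
      exact (QuotientGroup.eq_one_iff g).mpr (hker2 g h1)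
  · intro haff a
    induction a using QuotientGroup.induction_on with
    | H g =>
      rw [QuotientGroup.lift_mk, hΦ']
      obtain ⟨x, h, rfl⟩ := abs_exists_mul hc g
      obtain ⟨a, haσ⟩ := haff h
      have ha : a ≠ 0 := abs_coeff_ne_zero e (ρ h) a id haσ
      refine ⟨Units.mk0 a ha, e (ι x), fun v => ?_⟩
      rw [hval, haσ]
      simp

end Emb

end Abstract

section Group

variable {G : Type u} [Group G] [Finite G] {p : ℕ} [Fact p.Prime]

variable {V : Type*} [AddCommGroup V] [Module (ZMod p) V] [Finite V]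

/-- `P` inside its normalizer -/
abbrev subQ (P : Subgroup G) : Subgroup ↥(Subgroup.normalizer (P : Set G)) :=
  P.subgroupOf (Subgroup.normalizer (P : Set G))

instance subQ_normal (P : Subgroup G) : (subQ P).Normal := Subgroup.normal_in_normalizer

/-- the identification of `subQ P` with `V` -/
noncomputable def subIota (P : Subgroup G) (L : Link p P V) : ↥(subQ P) ≃ V :=
  (Subgroup.subgroupOfEquivOfLe (Subgroup.le_normalizer (H := P))).toEquiv.trans L.ι

theorem subIota_apply (P : Subgroup G) (L : Link p P V) (x : ↥(subQ P)) :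
    subIota P L x = L.ι ⟨x.1.1, x.2⟩ := rfl

theorem subIota_mul (P : Subgroup G) (L : Link p P V) (x y : ↥(subQ P)) :
    subIota P L (x * y) = subIota P L x + subIota P L y := by
  rw [subIota_apply, subIota_apply, subIota_apply, ← L.map_mul]
  rfl

theorem absRep_of_isRep (P : Subgroup G) (L : Link p P V)
    (ρ : ↥(Subgroup.normalizer (P : Set G)) →* (V ≃ₗ[ZMod p] V)) (hρ : IsRep P L ρ) :
    AbsRep (subQ P) (subIota P L) ρ := by
  intro g x
  rw [subIota_apply, subIota_apply]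
  have hx : (g : G) * ((⟨x.1.1, x.2⟩ : P) : G) * (g : G)⁻¹ ∈ P :=
    (Subgroup.mem_normalizer_iff.mp g.2 _).mp x.2
  rw [hρ g ⟨x.1.1, x.2⟩ hx]
  rfl

theorem subQ_comm (P : Subgroup G) (hab : IsMulCommutative P) (x y : ↥(subQ P)) :
    x * y = y * x := by
  apply Subtype.ext
  apply Subtype.ext
  have hx : (x.1.1 : G) ∈ P := x.2
  have hy : (y.1.1 : G) ∈ P := y.2
  exact setLike_mul_comm (s := P) hx hy

theorem subQ_isPGroup (P : Sylow p G) : IsPGroup p ↥(subQ (P : Subgroup G)) :=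
  (P.subtype Subgroup.le_normalizer).2

theorem subQ_not_dvd (P : Sylow p G) : ¬ p ∣ (subQ (P : Subgroup G)).index :=
  (P.subtype Subgroup.le_normalizer).not_dvd_index

theorem subQ_card (P : Subgroup G) : Nat.card ↥(subQ P) = Nat.card P :=
  Nat.card_congr (Subgroup.subgroupOfEquivOfLe (Subgroup.le_normalizer (H := P))).toEquiv

/-- PIECE KER1 -/
theorem pPrimeCore_le_ker (P : Sylow p G) (L : Link p (P : Subgroup G) V)
    (ρ : ↥(Subgroup.normalizer ((P : Subgroup G) : Set G)) →* (V ≃ₗ[ZMod p] V))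
    (hρ : IsRep (P : Subgroup G) L ρ) :
    Cfsg.pPrimeCore p ↥(Subgroup.normalizer ((P : Subgroup G) : Set G)) ≤ ρ.ker :=
  abs_core_le_ker (absRep_of_isRep _ L ρ hρ) (subQ_isPGroup P)

/-- PIECE KER2 -/
theorem card_quot (P : Sylow p G) (hab : IsMulCommutative (P : Subgroup G))
    (L : Link p (P : Subgroup G) V)
    (ρ : ↥(Subgroup.normalizer ((P : Subgroup G) : Set G)) →* (V ≃ₗ[ZMod p] V))
    (hρ : IsRep (P : Subgroup G) L ρ) :
    Nat.card (↥(Subgroup.normalizer ((P : Subgroup G) : Set G)) ⧸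
        Cfsg.pPrimeCore p ↥(Subgroup.normalizer ((P : Subgroup G) : Set G))) =
      Nat.card P * Nat.card ρ.range := by
  have h := abs_card_quot (absRep_of_isRep _ L ρ hρ) (subQ_comm _ hab) (subQ_isPGroup P)
    (subQ_not_dvd P)
  rw [subQ_card] at h
  exact h

/-- PIECE EMB -/
theorem exists_embedding (P : Sylow p G) (hab : IsMulCommutative (P : Subgroup G))
    (L : Link p (P : Subgroup G) V)
    (ρ : ↥(Subgroup.normalizer ((P : Subgroup G) : Set G)) →* (V ≃ₗ[ZMod p] V))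
    (hρ : IsRep (P : Subgroup G) L ρ) (F : Type) [Field F] [Fintype F] (e : V ≃+ F)
    (hsl : ∀ g : ↥(Subgroup.normalizer ((P : Subgroup G) : Set G)),
      ∃ (a : F) (σ : F ≃+* F), ∀ v : V, e (ρ g v) = a * σ (e v)) :
    ∃ f : (↥(Subgroup.normalizer ((P : Subgroup G) : Set G)) ⧸
        Cfsg.pPrimeCore p ↥(Subgroup.normalizer ((P : Subgroup G) : Set G))) →*
          ↥(Cfsg.semiaffineGroup F),
      Function.Injective f ∧
      ((∀ g : ↥(Subgroup.normalizer ((P : Subgroup G) : Set G)),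
          ∃ a : F, ∀ v : V, e (ρ g v) = a * e v) →
        ∀ x, ((f x : ↥(Cfsg.semiaffineGroup F)) : Equiv.Perm F) ∈ Cfsg.affineGroup F) :=
  abs_embedding (subIota_mul _ L) (absRep_of_isRep _ L ρ hρ) (subQ_comm _ hab) (subQ_isPGroup P)
    (subQ_not_dvd P) F e hsl

end Group

end Cfsg.Agent.Helper14.SA
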