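import Mathlib
import Cfsg.Agent.Lib.Helper14.SADefs
import Cfsg.Agent.Lib.Helper14.SADefs2
import Cfsg.Agent.Lib.Helper14.SAEmb

/-!
# S4025: pieces SOLV, LINK, REP (helper14)
-/

set_option autoImplicit false
set_option linter.unusedSectionVars false
set_option linter.unusedVariables false

universe u

namespace Cfsg.Agent.Helper14.SA

section Group

variable {G : Type u} [Group G] [Finite G] {p : ℕ} [Fact p.Prime]

/-- PIECE LINK -/
theorem exists_link (P : Subgroup G) (hel : Cfsg.IsElementaryAbelian p P) :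
    ∃ (V : Type u) (_ : AddCommGroup V) (_ : Module (ZMod p) V) (_ : Finite V),
      Nonempty (Link p P V) := by
  obtain ⟨hab, hexp⟩ := hel
  letI cg : CommGroup ↥P := { (inferInstance : Group ↥P) with mul_comm := fun a b => mul_comm' a b }
  letI acg : AddCommGroup (Additive ↥P) := Additive.addCommGroup
  have hsmul : ∀ x : Additive ↥P, p • x = 0 := by
    intro x
    have h1 : (Additive.toMul x) ^ p = 1 := by
      apply Subtype.ext
      rw [Subgroup.coe_pow]
      exact hexp _ (Additive.toMul x).2
    exact congrArg Additive.ofMul h1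
  letI md : Module (ZMod p) (Additive ↥P) := AddCommGroup.zmodModule hsmul
  exact ⟨Additive ↥P, acg, md, inferInstance, ⟨⟨Additive.ofMul, fun _ _ => rfl⟩⟩⟩

variable {V : Type*} [AddCommGroup V] [Module (ZMod p) V] [Finite V]

/-- the link as an additive equivalence -/
noncomputable def Link.addEquiv {P : Subgroup G} (L : Link p P V) : Additive ↥P ≃+ V where
  toFun x := L.ι (Additive.toMul x)
  invFun v := Additive.ofMul (L.ι.symm v)
  left_inv x := by simp
  right_inv v := by simp
  map_add' x y := L.map_mul _ _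

/-- transport of an automorphism of `P` to a linear automorphism of `V` -/
noncomputable def Link.conjAut {P : Subgroup G} (L : Link p P V) (φ : MulAut ↥P) :
    V ≃ₗ[ZMod p] V :=
  let f : V ≃+ V := (L.addEquiv.symm.trans (MulEquiv.toAdditive φ)).trans L.addEquiv
  { f with map_smul' := fun c x => ZMod.map_smul f c x }

theorem Link.conjAut_apply {P : Subgroup G} (L : Link p P V) (φ : MulAut ↥P) (x : P) :
    L.conjAut φ (L.ι x) = L.ι (φ x) := by
  show L.ι (φ (L.ι.symm (L.ι x))) = L.ι (φ x)
  rw [Equiv.symm_apply_apply]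

/-- PIECE REP -/
theorem exists_rep (P : Subgroup G) (L : Link p P V) :
    ∃ ρ : ↥(Subgroup.normalizer (P : Set G)) →* (V ≃ₗ[ZMod p] V), IsRep P L ρ := by
  let c : MulAut ↥P →* (V ≃ₗ[ZMod p] V) := MonoidHom.mk' (fun φ => L.conjAut φ) (by
    intro φ ψ
    ext v
    obtain ⟨x, rfl⟩ := L.ι.surjective v
    rw [LinearEquiv.mul_apply, Link.conjAut_apply, Link.conjAut_apply, Link.conjAut_apply]
    rfl)
  refine ⟨c.comp P.normalizerMonoidHom, ?_⟩
  intro g x hx
  show L.conjAut (P.normalizerMonoidHom g) (L.ι x) = _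
  rw [Link.conjAut_apply]
  rfl

/-- PIECE SOLV -/
theorem range_solvable (P : Sylow p G) (L : Link p (P : Subgroup G) V)
    (ρ : ↥(Subgroup.normalizer ((P : Subgroup G) : Set G)) →* (V ≃ₗ[ZMod p] V))
    (hρ : IsRep (P : Subgroup G) L ρ)
    (hsolv : Group.IsSolvable (↥(Subgroup.normalizer ((P : Subgroup G) : Set G)) ⧸
        Cfsg.pPrimeCore p ↥(Subgroup.normalizer ((P : Subgroup G) : Set G)))) :
    Group.IsSolvable ρ.range := by
  have hle : Cfsg.pPrimeCore p ↥(Subgroup.normalizer ((P : Subgroup G) : Set G)) ≤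
      ρ.rangeRestrict.ker := by
    rw [MonoidHom.ker_rangeRestrict]
    exact pPrimeCore_le_ker P L ρ hρ
  have hsurj : Function.Surjective (QuotientGroup.lift _ ρ.rangeRestrict hle) := by
    intro y
    obtain ⟨g, hg⟩ := ρ.rangeRestrict_surjective y
    exact ⟨QuotientGroup.mk g, by rw [QuotientGroup.lift_mk]; exact hg⟩
  exact solvable_of_surjective hsurj

end Group

end Cfsg.Agent.Helper14.SA
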