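import Mathlib
import Cfsg.Agent.Lib.Helper14.SADefs
import Cfsg.Agent.Lib.Helper14.SADefs2
import Cfsg.Agent.Lib.Helper7.HupMain
import Cfsg.Agent.Lib.Helper14.SAEmb
import Cfsg.Agent.Lib.Helper14.SARep
import Cfsg.Agent.Lib.Helper15.SAE81A
import Cfsg.Agent.Lib.Helper15.SAE81B
import Cfsg.Agent.Lib.Helper15.SAE81C
import Cfsg.Agent.Lib.Helper15.SAE81D
import Cfsg.Agent.Lib.Helper15.SALDVD
import Cfsg.Agent.Lib.Helper15.SASC
import Cfsg.Agent.Lib.Helper15.SAPT
import Cfsg.Agent.Lib.Helper15.SALN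
import Cfsg.Agent.Lib.Helper16.SABURN
import Cfsg.Agent.Lib.Helper16.SACARD
import Cfsg.Agent.Lib.Helper16.SATR
import Cfsg.Agent.Lib.Helper27.SAARITH
import Cfsg.Agent.Lib.Helper27.SAAUT
import Cfsg.Agent.Lib.Helper27.SALINES
import Cfsg.Agent.Lib.Helper27.SASIG
import Cfsg.Agent.Lib.Helper27.SASTAB

set_option autoImplicit false
set_option linter.unusedSectionVars false
set_option linter.unusedVariables false

universe u

namespace Cfsg.Agent.Helper14.SA

open Cfsg.Agent.Helper7.Hup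

section E81

variable {V : Type*} [AddCommGroup V] [Module (ZMod 3) V] [Finite V]

theorem no_81 (H : Subgroup (V ≃ₗ[ZMod 3] V)) (hsol : Group.IsSolvable H) (htr : Trans H)
    (hln : LnTrans H) (hV : Nat.card V = 81) : False :=
  e81_hall H hsol hV (e81_dvd H htr hln hV)

end E81

section Linear

variable {p : ℕ} [Fact p.Prime] {V : Type*} [AddCommGroup V] [Module (ZMod p) V] [Finite V]

theorem arith0 (q n k Lc : ℕ) (hq : q.Prime) (hn : 2 ≤ n)
    (hL : Lc * ((q ^ 2 - 1) * (q ^ 2 - q)) = (q ^ n - 1) * (q ^ n - q))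
    (hd : Lc * (q - 1) ∣ k * (q ^ n - 1)) : (q ^ (n - 1) - 1) ∣ k * (q ^ 2 - 1) := by
  have h2 : 2 ≤ q := hq.two_le
  obtain ⟨s, hs⟩ := hd
  obtain ⟨m, rfl⟩ : ∃ m, n = m + 1 := ⟨n - 1, by omega⟩
  have hm1 : 1 ≤ m := by omega
  simp only [Nat.add_sub_cancel]
  have hqm : 1 ≤ q ^ m := Nat.one_le_pow _ _ (by omega)
  have hqn : q ≤ q ^ (m + 1) := by
    calc q = q ^ 1 := (pow_one q).symm
      _ ≤ q ^ (m + 1) := Nat.pow_le_pow_right (by omega) (by omega)
  have e1 : q ^ (m + 1) - q = q * (q ^ m - 1) := by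
    rw [Nat.mul_sub, mul_one, pow_succ, mul_comm]
  have e2 : q ^ 2 - q = q * (q - 1) := by
    rw [Nat.mul_sub, mul_one, sq]
  have hpos : 0 < q ^ (m + 1) - 1 := by
    have : 2 ≤ q ^ (m + 1) := le_trans h2 hqn
    omega
  -- k (q^n - 1) (q²-1)(q²-q) = (q-1) s (q^n-1)(q^n-q)
  have key : (q ^ (m + 1) - 1) * (k * (q ^ 2 - 1) * (q * (q - 1))) =
      (q ^ (m + 1) - 1) * ((q ^ m - 1) * s * (q * (q - 1))) := by
    calc (q ^ (m + 1) - 1) * (k * (q ^ 2 - 1) * (q * (q - 1)))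
        = (k * (q ^ (m + 1) - 1)) * ((q ^ 2 - 1) * (q ^ 2 - q)) := by rw [e2]; ring
      _ = (Lc * (q - 1) * s) * ((q ^ 2 - 1) * (q ^ 2 - q)) := by rw [hs]
      _ = (Lc * ((q ^ 2 - 1) * (q ^ 2 - q))) * ((q - 1) * s) := by ring
      _ = ((q ^ (m + 1) - 1) * (q ^ (m + 1) - q)) * ((q - 1) * s) := by rw [hL]
      _ = (q ^ (m + 1) - 1) * ((q ^ m - 1) * s * (q * (q - 1))) := by rw [e1]; ring
  have key2 := Nat.eq_of_mul_eq_mul_left hpos key
  have hpos2 : 0 < q * (q - 1) := Nat.mul_pos (by omega) (by omega)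
  have key3 := Nat.eq_of_mul_eq_mul_right hpos2 key2
  exact ⟨s, key3⟩

theorem linear_main (A : Subgroup (V ≃ₗ[ZMod p] V)) (hsol : Group.IsSolvable A) (hpt : PtTrans A)
    (hln : LnTrans A) (n : ℕ) (hn : 3 ≤ n) (hV : Nat.card V = p ^ n) :
    ∃ (F : Type) (_ : Field F) (_ : Fintype F) (e : V ≃+ F) (k : ℕ),
      (∀ h ∈ addScalars A, ∃ (a : F) (σ : F ≃+* F), ∀ v : V, e (h v) = a * σ (e v)) ∧
      k ∣ n ∧ Nat.card (addScalars A) = k * (p ^ n - 1) ∧
      (n = 3 ∨ (n = 5 ∧ p = 2 ∧ k = 5)) := by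
  have hp : p.Prime := Fact.out
  haveI : Nontrivial V := by
    apply (Finite.one_lt_card_iff_nontrivial).1
    rw [hV]
    exact Nat.one_lt_pow (by omega) hp.one_lt
  have hBsol := addScalars_solvable A hsol
  have hBtr := addScalars_trans A hpt
  have hBln := addScalars_lnTrans A hln
  have hBsc := addScalars_hasScalars A
  rcases huppert (addScalars A) hBsol hBtr with ⟨F, iF, iFt, e, he⟩ | hcard
  · have hsl : ∀ h ∈ addScalars A, ∃ (a : F) (σ : F ≃+* F), ∀ v : V, e (h v) = a * σ (e v) :=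
      fun h hh => he ⟨h, hh⟩
    obtain ⟨k, hkn, hcardB⟩ := card_of_semilinear (addScalars A) hBtr n (by omega) hV F e hsl
    have hL := card_lines (p := p) (V := V) n (by omega) hV
    have hdvd := lines_mul_dvd (addScalars A) hBln hBsc n (by omega) hV
    rw [hcardB] at hdvd
    refine ⟨F, iF, iFt, e, k, hsl, hkn, hcardB, ?_⟩
    exact arith p n k hp hn hkn (arith0 p n k _ hp (by omega) hL hdvd)
  · exfalso
    rw [hV] at hcard
    have hpow : ∀ q : ℕ, q.Prime → ∀ j : ℕ, p ^ n = q ^ j → p = q ∧ n = j := by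
      intro q hq j h
      have h1 : p ∣ q ^ j := by
        rw [← h]; exact dvd_pow_self p (by omega)
      have h2 : p = q := (Nat.prime_dvd_prime_iff_eq hp hq).1 (hp.dvd_of_dvd_pow h1)
      refine ⟨h2, ?_⟩
      rw [h2] at h
      exact Nat.pow_right_injective hq.two_le h
    simp only [Set.mem_insert_iff, Set.mem_singleton_iff] at hcard
    rcases hcard with h | h | h | h | h | h
    · have := (hpow 3 (by norm_num) 2 (by rw [h]; norm_num)).2; omega
    · have := (hpow 5 (by norm_num) 2 (by rw [h]; norm_num)).2; omega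
    · have := (hpow 7 (by norm_num) 2 (by rw [h]; norm_num)).2; omega
    · have := (hpow 11 (by norm_num) 2 (by rw [h]; norm_num)).2; omega
    · have := (hpow 23 (by norm_num) 2 (by rw [h]; norm_num)).2; omega
    · obtain ⟨h3, h4⟩ := hpow 3 (by norm_num) 4 (by rw [h]; norm_num)
      subst h3
      have hV' : Nat.card V = 81 := by rw [hV, h]
      exact no_81 (addScalars A) hBsol hBtr hBln hV'

end Linear

end Cfsg.Agent.Helper14.SA
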