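import Mathlib
import Cfsg.Agent.Lib.Helper7.Coprime
import Cfsg.Agent.Lib.Helper7.Bender
import Cfsg.Agent.Lib.Helper4.SL2FreeApps
import Cfsg.Agent.S4227
import Cfsg.Agent.Lib.Helper16.Solvable2
import Cfsg.Agent.Lib.Helper14.Basic

set_option autoImplicit false
set_option linter.unusedSectionVars false
set_option linter.style.haveILetI false
set_option linter.unusedVariables false

/-! Centralizers of self-centralizing normal subgroups of a nilpotent subgroup containing `F(G)`,
`G` solvable: `r`-elements (`r ≥ 5`) of `C_G(B)` lie in `B`. -/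

namespace Cfsg.Agent.Helper14.ScnCent

open Cfsg Subgroup
open scoped commutatorElement Pointwise

variable {G : Type*} [Group G]

/-- the join of the `O_s(G)` over the primes `s ≠ r` -/
def Wr (r : ℕ) (G : Type*) [Group G] : Subgroup G :=
  ⨆ s : {s : Nat.Primes // (s : ℕ) ≠ r}, pCore ((s : Nat.Primes) : ℕ) G

instance Wr_normal (r : ℕ) : (Wr r G).Normal := by
  unfold Wr
  haveI : ∀ s : {s : Nat.Primes // (s : ℕ) ≠ r}, (pCore ((s : Nat.Primes) : ℕ) G).Normal :=
    fun s => Cfsg.Agent.Helper7.pCore_normal _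
  exact Subgroup.iSup_normal _

theorem fitting_le_sup [Finite G] (r : ℕ) [Fact r.Prime] :
    fittingSubgroup G ≤ pCore r G ⊔ Wr r G := by
  rw [Cfsg.Agent.Helper7.fittingSubgroup_eq_iSup_pCore]
  apply iSup_le
  intro s
  by_cases hs : (s : ℕ) = r
  · rw [hs]; exact le_sup_left
  · exact le_trans (le_iSup (fun s : {s : Nat.Primes // (s : ℕ) ≠ r} =>
      pCore ((s : Nat.Primes) : ℕ) G) ⟨s, hs⟩) le_sup_right

theorem Wr_le_centralizer_pCore [Finite G] (r : ℕ) [Fact r.Prime] :
    Wr r G ≤ centralizer (pCore r G : Set G) := by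
  unfold Wr
  apply iSup_le
  rintro ⟨s, hs⟩
  haveI : Fact ((s : ℕ)).Prime := ⟨s.2⟩
  exact Subgroup.commutator_eq_bot_iff_le_centralizer.mp
    (Cfsg.Agent.Helper7.pCore_commutator_pCore_of_ne hs)

/-- subgroups of nilpotent subgroups are nilpotent -/
theorem isNilpotent_of_le {K L : Subgroup G} (hKL : K ≤ L) (hL : Group.IsNilpotent ↥L) :
    Group.IsNilpotent ↥K := by
  haveI := hL
  apply Subgroup.isNilpotent_of_ker_le_center (Subgroup.inclusion hKL)
  rw [(MonoidHom.ker_eq_bot_iff _).mpr (Subgroup.inclusion_injective hKL)]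
  exact bot_le

/-- `r`-power of elements of `M` lands in `Wr` -/
theorem exists_pow_mem_Wr [Finite G] (hsol : Group.IsSolvable G) (r : ℕ) [Fact r.Prime]
    (m : G)
    (hmT : (QuotientGroup.mk m : G ⧸ centralizer (pCore r G : Set G)) ∈
      pCore r (G ⧸ centralizer (pCore r G : Set G)))
    (hmU : m ∈ centralizer (Wr r G : Set G)) : ∃ k : ℕ, m ^ (r ^ k) ∈ Wr r G := by
  set P := pCore r G with hP
  set W := Wr r G with hW
  -- some `r`-power lies in `C(P)`
  obtain ⟨a, ha⟩ := (Cfsg.Agent.Helper14.pCore_isPGroup r (G ⧸ centralizer (P : Set G))) ⟨_, hmT⟩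
  have ha' : ((QuotientGroup.mk m : G ⧸ centralizer (P : Set G))) ^ (r ^ a) = 1 := by
    have := congrArg Subtype.val ha
    simpa using this
  have hnP : m ^ (r ^ a) ∈ centralizer (P : Set G) := by
    rw [← QuotientGroup.eq_one_iff]
    simpa using ha'
  set n := m ^ (r ^ a) with hn
  have hnW : n ∈ centralizer (W : Set G) := pow_mem hmU _
  have h1 : zpowers n ≤ centralizer (P : Set G) := zpowers_le.mpr hnP
  have h2 : zpowers n ≤ centralizer (W : Set G) := zpowers_le.mpr hnW
  have h3 : P ⊔ W ≤ centralizer (zpowers n : Set G) :=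
    sup_le (le_centralizer_iff.mp h1) (le_centralizer_iff.mp h2)
  have h4 : zpowers n ≤ centralizer (fittingSubgroup G : Set G) :=
    le_centralizer_iff.mp ((fitting_le_sup r).trans h3)
  have hnF : n ∈ fittingSubgroup G :=
    Cfsg.Agent.Helper16.centralizer_fittingSubgroup_le_of_isSolvable hsol (h4 (mem_zpowers n))
  have hnPW : n ∈ P ⊔ W := fitting_le_sup r hnF
  haveI : P.Normal := Cfsg.Agent.Helper7.pCore_normal r
  have hset : (↑(P ⊔ W) : Set G) = (P : Set G) * (W : Set G) := Subgroup.normal_mul P W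
  have hn' : n ∈ (P : Set G) * (W : Set G) := by rw [← hset]; exact hnPW
  obtain ⟨p, hp, w, hw, hpw⟩ := Set.mem_mul.mp hn'
  obtain ⟨b, hb⟩ := (Cfsg.Agent.Helper14.pCore_isPGroup r G) ⟨p, hp⟩
  have hb' : p ^ (r ^ b) = 1 := by
    have := congrArg Subtype.val hb
    simpa using this
  have hcomm : Commute p w := by
    have := Wr_le_centralizer_pCore (G := G) r hw
    exact (Subgroup.mem_centralizer_iff.mp this p hp)
  refine ⟨a + b, ?_⟩
  have : m ^ (r ^ (a + b)) = w ^ (r ^ b) := by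
    rw [pow_add, pow_mul, ← hn, ← hpw, hcomm.mul_pow, hb', one_mul]
  rw [this]
  exact pow_mem hw _

theorem isNilpotent_M [Finite G] (hsol : Group.IsSolvable G) (r : ℕ) [Fact r.Prime]
    (M : Subgroup G)
    (hMT : ∀ m ∈ M, (QuotientGroup.mk m : G ⧸ centralizer (pCore r G : Set G)) ∈
      pCore r (G ⧸ centralizer (pCore r G : Set G)))
    (hMU : M ≤ centralizer (Wr r G : Set G)) : Group.IsNilpotent ↥M := by
  set W := Wr r G with hW
  set f : ↥M →* G ⧸ W := (QuotientGroup.mk' W).comp M.subtype with hf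
  have hker : f.rangeRestrict.ker ≤ center ↥M := by
    intro m hm
    rw [MonoidHom.ker_rangeRestrict, MonoidHom.mem_ker] at hm
    have hmW : (m : G) ∈ W := by
      rw [← QuotientGroup.eq_one_iff]
      simpa [hf] using hm
    rw [Subgroup.mem_center_iff]
    intro m'
    apply Subtype.ext
    have := Subgroup.mem_centralizer_iff.mp (hMU m'.2) (m : G) hmW
    simpa using this.symm
  have hrange : IsPGroup r f.range := by
    rintro ⟨y, m, rfl⟩
    obtain ⟨k, hk⟩ := exists_pow_mem_Wr hsol r (m : G) (hMT _ m.2) (hMU m.2)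
    refine ⟨k, ?_⟩
    apply Subtype.ext
    have : (f m) ^ (r ^ k) = 1 := by
      rw [← map_pow]
      simp only [hf, MonoidHom.coe_comp, Function.comp_apply, QuotientGroup.mk'_apply,
        Subgroup.coe_subtype, SubmonoidClass.coe_pow]
      rw [QuotientGroup.eq_one_iff]
      exact hk
    simpa using this
  haveI : Group.IsNilpotent f.range := hrange.isNilpotent
  exact Subgroup.isNilpotent_of_ker_le_center f.rangeRestrict hker

/-- **Key lemma**: `G` finite solvable, `Fb` a nilpotent subgroup containing `F(G)`,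
`B` a self-centralizing normal subgroup of `Fb`.  Then every `r`-element (`r ≥ 5`) of `C_G(B)`
lies in `B`. -/
theorem mem_of_mem_centralizer [Finite G] (hsol : Group.IsSolvable G)
    (r : ℕ) [Fact r.Prime] (hr5 : 5 ≤ r)
    (Fb B : Subgroup G) (hFbnil : Group.IsNilpotent ↥Fb) (hF : fittingSubgroup G ≤ Fb)
    (hBF : B ≤ Fb) (hFN : Fb ≤ normalizer (B : Set G))
    (hFC : Fb ⊓ centralizer (B : Set G) ≤ B)
    (x : G) (hxC : x ∈ centralizer (B : Set G)) (hxr : ∃ k : ℕ, x ^ (r ^ k) = 1) : x ∈ B := by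
  have hr : r.Prime := Fact.out
  set X := zpowers x with hX
  have hXB : ⁅X, B⁆ = ⊥ :=
    Subgroup.commutator_eq_bot_iff_le_centralizer.mpr (zpowers_le.mpr hxC)
  have hBX : ⁅B, X⁆ = ⊥ := by rw [Subgroup.commutator_comm]; exact hXB
  have hBcX : B ≤ centralizer (X : Set G) := le_centralizer_iff.mp (zpowers_le.mpr hxC)
  obtain ⟨j, hj⟩ : ∃ j : ℕ, Nat.card X = r ^ j := by
    obtain ⟨k, hk⟩ := hxr
    rw [hX, Nat.card_zpowers]
    obtain ⟨j, -, hj⟩ := (Nat.dvd_prime_pow hr).mp (orderOf_dvd_of_pow_eq_one hk)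
    exact ⟨j, hj⟩
  -- (1) every `O_s`, `s ≠ r`, centralizes `x`
  have h1 : ∀ s : Nat.Primes, (s : ℕ) ≠ r → pCore (s : ℕ) G ≤ centralizer (X : Set G) := by
    intro s hs
    haveI : Fact ((s : ℕ)).Prime := ⟨s.2⟩
    haveI : (pCore (s : ℕ) G).Normal := Cfsg.Agent.Helper7.pCore_normal _
    have hQF : pCore (s : ℕ) G ≤ Fb := (Cfsg.Agent.Helper7.pCore_le_fittingSubgroup _).trans hF
    apply Cfsg.Agent.Helper7.thompson_AxB (pCore (s : ℕ) G) X B
    · rw [Subgroup.normalizer_eq_top]; exact le_top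
    · rw [Subgroup.normalizer_eq_top]; exact le_top
    · exact hXB
    · obtain ⟨m, hm⟩ := IsPGroup.iff_card.mp (Cfsg.Agent.Helper14.pCore_isPGroup (s : ℕ) G)
      rw [hj, hm]
      exact Nat.coprime_pow_primes j m hr s.2 (Ne.symm hs)
    · exact isNilpotent_of_le (sup_le hQF hBF) hFbnil
    · intro y hy
      have hyB : y ∈ B := hFC (Subgroup.mem_inf.2 ⟨hQF (Subgroup.mem_inf.1 hy).1,
        (Subgroup.mem_inf.1 hy).2⟩)
      exact hBcX hyB
  -- (2) quadratic action on `P`
  set P := pCore r G with hP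
  haveI hPn : P.Normal := Cfsg.Agent.Helper7.pCore_normal r
  have hPFb : P ≤ Fb := (Cfsg.Agent.Helper7.pCore_le_fittingSubgroup r).trans hF
  have hBP : ⁅B, P⁆ ≤ B := by
    rw [Subgroup.commutator_le]
    intro b hb p hp
    have hn := Subgroup.mem_normalizer_iff.mp (hFN (hPFb hp))
    have : ⁅b, p⁆ = b * (p * b⁻¹ * p⁻¹) := by
      rw [commutatorElement_def]; group
    rw [this]
    exact B.mul_mem hb ((hn b⁻¹).mp (B.inv_mem hb))
  have hPXB : ⁅P, X⁆ ≤ B := by
    have ha : ⁅P, X⁆ ≤ Fb := (Subgroup.commutator_le_left P X).trans hPFb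
    have hb : ⁅⁅P, X⁆, B⁆ = ⊥ := by
      apply Subgroup.commutator_commutator_eq_bot_of_rotate
      · rw [hXB]; exact Subgroup.commutator_bot_left P
      · exact le_bot_iff.mp ((Subgroup.commutator_mono hBP le_rfl).trans hBX.le)
    have hc : ⁅P, X⁆ ≤ centralizer (B : Set G) :=
      Subgroup.commutator_eq_bot_iff_le_centralizer.mp hb
    exact (le_inf ha hc).trans hFC
  have hquad : ⁅⁅P, X⁆, X⁆ = ⊥ :=
    le_bot_iff.mp ((Subgroup.commutator_mono hPXB le_rfl).trans hBX.le)
  -- (3) stability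
  have hfree := Cfsg.Agent.Helper4.SLF.sl2free_of_isPSolvable hr5
    (Cfsg.Agent.S4227.isPSolvable_of_isSolvable hsol r)
  have hr2 : r ≠ 2 := by omega
  have hxT := Cfsg.Agent.Helper4.SLF.mem_pCore_of_sl2free hr2 hfree P
    (Cfsg.Agent.Helper14.pCore_isPGroup r G) x hquad
  -- (4) the nilpotent normal subgroup `M`
  set T : Subgroup G := (pCore r (G ⧸ centralizer (P : Set G))).comap
    (QuotientGroup.mk' (centralizer (P : Set G))) with hT
  set U : Subgroup G := centralizer (Wr r G : Set G) with hU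
  haveI hTn : T.Normal := by
    haveI : (pCore r (G ⧸ centralizer (P : Set G))).Normal := Cfsg.Agent.Helper7.pCore_normal r
    exact Subgroup.Normal.comap inferInstance _
  haveI hUn : U.Normal := by rw [hU]; infer_instance
  have hMnil : Group.IsNilpotent ↥(T ⊓ U) :=
    isNilpotent_M hsol r (T ⊓ U) (fun m hm => (Subgroup.mem_inf.1 hm).1) inf_le_right
  have hMF : T ⊓ U ≤ fittingSubgroup G := Cfsg.Agent.Helper7.le_fittingSubgroup (T ⊓ U) hMnil
  have hxU : x ∈ U := by
    have hW : Wr r G ≤ centralizer (X : Set G) := by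
      unfold Wr
      apply iSup_le
      rintro ⟨s, hs⟩
      exact h1 s hs
    exact (le_centralizer_iff.mp hW) (mem_zpowers x)
  have hxF : x ∈ fittingSubgroup G := hMF (Subgroup.mem_inf.2 ⟨hxT, hxU⟩)
  exact hFC (Subgroup.mem_inf.2 ⟨hF hxF, hxC⟩)

end Cfsg.Agent.Helper14.ScnCent
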