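import Mathlib
import Cfsg.Prelude.Def_OddOrderLocal
import Cfsg.Agent.Lib.Helper14.ScnCent
import Cfsg.Agent.Lib.Helper10.PiCore

set_option autoImplicit false
set_option linter.unusedSectionVars false
set_option linter.style.haveILetI false
set_option linter.unusedVariables false

/-! Transport of the key lemma of `ScnCent` to `S / O_{π'}(S)` and the splitting of `C_S(A)`. -/

namespace Cfsg.Agent.Helper14.ScnCent

open Cfsg Subgroup
open scoped commutatorElement Pointwise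

/-- a normal subgroup of order prime to the index of `Hb` lies in `Hb` -/
theorem normal_le_of_coprime_index {G : Type*} [Group G] [Finite G] (N Hb : Subgroup G) [N.Normal]
    (hcop : (Nat.card N).Coprime Hb.index) : N ≤ Hb := by
  set X := Hb ⊔ N with hX
  have e1 : N.relIndex X = N.relIndex Hb := Subgroup.relIndex_sup_right Hb N
  have cX : Nat.card N * N.relIndex X = Nat.card X := by
    have := Subgroup.relIndex_mul_relIndex ⊥ N X bot_le le_sup_right
    simpa [Subgroup.relIndex_bot_left] using this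
  have cX' : Nat.card Hb * Hb.relIndex X = Nat.card X := by
    have := Subgroup.relIndex_mul_relIndex ⊥ Hb X bot_le le_sup_left
    simpa [Subgroup.relIndex_bot_left] using this
  have cH : Nat.card (N ⊓ Hb : Subgroup G) * N.relIndex Hb = Nat.card Hb := by
    have := Subgroup.relIndex_mul_relIndex ⊥ (N ⊓ Hb) Hb bot_le inf_le_right
    rw [Subgroup.inf_relIndex_right] at this
    simpa [Subgroup.relIndex_bot_left] using this
  have hne : N.relIndex Hb ≠ 0 := by
    unfold Subgroup.relIndex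
    exact Subgroup.index_ne_zero_of_finite
  have hmain : Nat.card N = Nat.card (N ⊓ Hb : Subgroup G) * Hb.relIndex X := by
    have h : Nat.card N * N.relIndex Hb =
        (Nat.card (N ⊓ Hb : Subgroup G) * Hb.relIndex X) * N.relIndex Hb := by
      rw [← e1, cX, ← cX', ← cH, e1]; ring
    exact Nat.eq_of_mul_eq_mul_right (Nat.pos_of_ne_zero hne) h
  have hd1 : Hb.relIndex X ∣ Nat.card N := ⟨_, by rw [hmain]; ring⟩
  have hd2 : Hb.relIndex X ∣ Hb.index := Subgroup.relIndex_dvd_index_of_le le_sup_left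
  have h1 : Hb.relIndex X = 1 := Nat.eq_one_of_dvd_coprimes hcop hd1 hd2
  exact le_sup_right.trans (Subgroup.relIndex_eq_one.mp h1)

/-- In `S` solvable with Hall `π`-subgroup `H` and `A ∈ SCN(F(H))`: every `r`-element
(`r ∈ π`, `r ≥ 5`) of `C_S(A)` lies in `A`. -/
theorem mem_of_pElement {S : Type*} [Group S] [Finite S] [hsol : Group.IsSolvable S]
    (π : Set ℕ) (H : Subgroup S) (hH : Cfsg.IsPiHall π H)
    (A : Subgroup S) (hA : Cfsg.IsSCN ((Cfsg.fittingSubgroup H).map H.subtype) A)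
    (r : ℕ) [Fact r.Prime] (hr5 : 5 ≤ r) (hrπ : r ∈ π)
    (y : S) (hyC : y ∈ centralizer (A : Set S)) (hyr : ∃ k : ℕ, y ^ (r ^ k) = 1) : y ∈ A := by
  have hr : r.Prime := Fact.out
  set K : Subgroup S := piCore πᶜ S with hK
  haveI hKn : K.Normal := piCore_normal _ _
  have hKcard : ∀ p : ℕ, p.Prime → p ∣ Nat.card K → p ∉ π := fun p hp hd =>
    Cfsg.Agent.Helper10.card_piCore (G := S) πᶜ p hp hd
  have hHK : H ⊓ K = ⊥ := by
    apply Subgroup.inf_eq_bot_of_coprime
    apply Nat.eq_one_iff_not_exists_prime_dvd.mpr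
    intro p hp hd
    exact hKcard p hp (hd.trans (Nat.gcd_dvd_right _ _))
      (hH.1 p hp (hd.trans (Nat.gcd_dvd_left _ _)))
  set ρ : S →* S ⧸ K := QuotientGroup.mk' K with hρ
  have hρsurj : Function.Surjective ρ := QuotientGroup.mk'_surjective K
  have hρinj : ∀ h ∈ H, ρ h = 1 → h = 1 := by
    intro h hh h1
    have hk : h ∈ K := by
      rw [← QuotientGroup.eq_one_iff]; simpa [hρ] using h1
    have : h ∈ H ⊓ K := Subgroup.mem_inf.2 ⟨hh, hk⟩
    rw [hHK] at this
    exact Subgroup.mem_bot.mp this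
  set F : Subgroup S := (Cfsg.fittingSubgroup H).map H.subtype with hF
  have hFH : F ≤ H := Subgroup.map_subtype_le _
  obtain ⟨hAF, hFNA, hFCA⟩ := hA
  have hAH : A ≤ H := hAF.trans hFH
  set Fb : Subgroup (S ⧸ K) := F.map ρ with hFb
  set B : Subgroup (S ⧸ K) := A.map ρ with hB
  -- (i)
  have hFbnil : Group.IsNilpotent ↥Fb := by
    haveI : Group.IsNilpotent ↥(Cfsg.fittingSubgroup ↥H) :=
      Cfsg.Agent.Helper7.fittingSubgroup_isNilpotent
    have h1 : Group.IsNilpotent ↥((Cfsg.fittingSubgroup ↥H).map (ρ.comp H.subtype)) :=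
      Group.nilpotent_of_surjective ((ρ.comp H.subtype).subgroupMap (Cfsg.fittingSubgroup ↥H))
        (MonoidHom.subgroupMap_surjective _ _)
    have h2 : Fb = (Cfsg.fittingSubgroup ↥H).map (ρ.comp H.subtype) := by
      rw [hFb, hF, Subgroup.map_map]
    rw [h2]; exact h1
  -- (ii)
  have hO : piCore πᶜ (S ⧸ K) = ⊥ := Cfsg.Agent.Helper10.piCore_quotient_eq_bot πᶜ
  set Hb : Subgroup (S ⧸ K) := H.map ρ with hHb
  have hHbidx : Hb.index ∣ H.index := Subgroup.index_map_dvd H hρsurj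
  have hF0Hb : Cfsg.fittingSubgroup (S ⧸ K) ≤ Hb := by
    rw [Cfsg.Agent.Helper7.fittingSubgroup_eq_iSup_pCore]
    apply iSup_le
    intro s
    haveI : Fact ((s : ℕ)).Prime := ⟨s.2⟩
    haveI : (pCore (s : ℕ) (S ⧸ K)).Normal := Cfsg.Agent.Helper7.pCore_normal _
    obtain ⟨m, hm⟩ := IsPGroup.iff_card.mp (Cfsg.Agent.Helper14.pCore_isPGroup (s : ℕ) (S ⧸ K))
    by_cases hs : (s : ℕ) ∈ π
    · apply normal_le_of_coprime_index
      rw [hm]
      apply Nat.Coprime.pow_left
      rw [Nat.Prime.coprime_iff_not_dvd s.2]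
      intro hd
      exact hH.2 s s.2 hs (hd.trans hHbidx)
    · have : pCore (s : ℕ) (S ⧸ K) ≤ piCore πᶜ (S ⧸ K) := by
        apply Cfsg.Agent.Helper10.le_piCore πᶜ inferInstance
        intro p hp hd
        rw [hm] at hd
        have := (Nat.prime_dvd_prime_iff_eq hp s.2).mp (hp.dvd_of_dvd_pow hd)
        rw [this]; exact hs
      rw [hO] at this
      exact this.trans bot_le
  have hF0Fb : Cfsg.fittingSubgroup (S ⧸ K) ≤ Fb := by
    intro z hz
    obtain ⟨h, hhH, rfl⟩ := hF0Hb hz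
    set F0 := Cfsg.fittingSubgroup (S ⧸ K) with hF0
    haveI hF0n : F0.Normal := Cfsg.Agent.Helper7.fittingSubgroup_normal'
    haveI hF0nil : Group.IsNilpotent ↥F0 := Cfsg.Agent.Helper7.fittingSubgroup_isNilpotent
    set N1 : Subgroup ↥H := (F0.comap ρ).subgroupOf H with hN1
    haveI hN1n : N1.Normal := by
      haveI : (F0.comap ρ).Normal := Subgroup.Normal.comap hF0n ρ
      exact Subgroup.Normal.subgroupOf inferInstance H
    have hN1nil : Group.IsNilpotent ↥N1 := by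
      set g : ↥N1 →* ↥F0 := (ρ.comp (H.subtype.comp N1.subtype)).codRestrict F0
        (fun m => by
          have h0 : (m : ↥H) ∈ (F0.comap ρ).subgroupOf H := m.2
          rw [Subgroup.mem_subgroupOf, Subgroup.mem_comap] at h0
          exact h0) with hg
      apply Subgroup.isNilpotent_of_ker_le_center g
      intro m hm
      rw [MonoidHom.mem_ker] at hm
      have h1 : ρ ((m : ↥H) : S) = 1 := by
        have := congrArg Subtype.val hm
        exact this
      have h2 := hρinj _ (m : ↥H).2 h1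
      have h3 : m = 1 := by
        apply Subtype.ext; apply Subtype.ext; simpa using h2
      rw [h3]; exact one_mem _
    have hle : N1 ≤ Cfsg.fittingSubgroup ↥H := Cfsg.Agent.Helper7.le_fittingSubgroup N1 hN1nil
    have hmem : (⟨h, hhH⟩ : ↥H) ∈ N1 := by
      rw [hN1, Subgroup.mem_subgroupOf, Subgroup.mem_comap]; exact hz
    exact ⟨h, ⟨⟨h, hhH⟩, hle hmem, rfl⟩, rfl⟩
  -- (iii), (iv), (v)
  have hBFb : B ≤ Fb := Subgroup.map_mono hAF
  have hFbN : Fb ≤ normalizer (B : Set (S ⧸ K)) :=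
    (Subgroup.map_mono hFNA).trans (Subgroup.le_normalizer_map ρ)
  have hFbC : Fb ⊓ centralizer (B : Set (S ⧸ K)) ≤ B := by
    intro z hz
    obtain ⟨hz1, hz2⟩ := Subgroup.mem_inf.1 hz
    obtain ⟨f, hf, rfl⟩ := hz1
    have hfA : f ∈ centralizer (A : Set S) := by
      rw [Subgroup.mem_centralizer_iff]
      intro a ha
      have h1 : ρ a * ρ f = ρ f * ρ a :=
        Subgroup.mem_centralizer_iff.mp hz2 (ρ a) ⟨a, ha, rfl⟩
      have h2 : ρ ((f * a)⁻¹ * (a * f)) = 1 := by
        rw [map_mul, map_inv, map_mul, map_mul, h1]; group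
      have h3 : (f * a)⁻¹ * (a * f) ∈ H :=
        H.mul_mem (H.inv_mem (H.mul_mem (hFH hf) (hAH ha))) (H.mul_mem (hAH ha) (hFH hf))
      have h4 := hρinj _ h3 h2
      exact (inv_mul_eq_one.mp h4).symm
    have : f ∈ A := by
      rw [← hFCA]; exact Subgroup.mem_inf.2 ⟨hf, hfA⟩
    exact ⟨f, this, rfl⟩
  -- (vi), (vii)
  have hyB : ρ y ∈ centralizer (B : Set (S ⧸ K)) := by
    rw [Subgroup.mem_centralizer_iff]
    rintro _ ⟨a, ha, rfl⟩
    rw [← map_mul, ← map_mul, Subgroup.mem_centralizer_iff.mp hyC a ha]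
  have hyr' : ∃ k : ℕ, (ρ y) ^ (r ^ k) = 1 := by
    obtain ⟨k, hk⟩ := hyr
    exact ⟨k, by rw [← map_pow, hk, map_one]⟩
  have hsolq : Group.IsSolvable (S ⧸ K) := inferInstance
  have hmem := mem_of_mem_centralizer hsolq r hr5 Fb B hFbnil hF0Fb hBFb hFbN hFbC (ρ y) hyB hyr'
  obtain ⟨a, ha, hay⟩ := hmem
  -- finish
  have hkK : a⁻¹ * y ∈ K := by
    have : (QuotientGroup.mk a : S ⧸ K) = QuotientGroup.mk y := by simpa [hρ] using hay
    exact QuotientGroup.eq.mp this
  set k := a⁻¹ * y with hk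
  have hay' : a * y = y * a := Subgroup.mem_centralizer_iff.mp hyC a ha
  have hyak : y = a * k := by rw [hk]; group
  have hcomm : Commute a k := by
    show a * k = k * a
    rw [hk]
    calc a * (a⁻¹ * y) = y := by group
      _ = a⁻¹ * (a * y) := by group
      _ = a⁻¹ * y * a := by rw [hay']; group
  set n := orderOf k with hn
  have hnK : n ∣ Nat.card K := by
    have := orderOf_dvd_natCard (⟨k, hkK⟩ : ↥K)
    rwa [Subgroup.orderOf_mk] at this
  have hrn : ¬ r ∣ n := fun hd => hKcard r hr (hd.trans hnK) hrπ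
  have hcop : n.Coprime (orderOf y) := by
    obtain ⟨j, hj⟩ := hyr
    have h1 : orderOf y ∣ r ^ j := orderOf_dvd_of_pow_eq_one hj
    apply Nat.Coprime.coprime_dvd_right h1
    apply Nat.Coprime.pow_right
    exact ((Nat.Prime.coprime_iff_not_dvd hr).mpr hrn).symm
  have hyn : y ^ n ∈ A := by
    rw [hyak, hcomm.mul_pow, hn, pow_orderOf_eq_one, mul_one]
    exact pow_mem ha _
  obtain ⟨m, hm⟩ := exists_pow_eq_self_of_coprime hcop
  rw [← hm]
  exact pow_mem hyn _

/-- If the abelian `π`-subgroup `A` contains every `π`-element of prime power order of `C_S(A)`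
then `C_S(A) = A × D` with `D` a `π'`-group. -/
theorem exists_complement_of_pi_elements {S : Type*} [Group S] [Finite S] (π : Set ℕ)
    (A : Subgroup S) (hAab : A ≤ centralizer (A : Set S))
    (hApi : ∀ q : ℕ, q.Prime → q ∣ Nat.card A → q ∈ π)
    (hel : ∀ r : ℕ, r.Prime → r ∈ π → ∀ y ∈ centralizer (A : Set S),
      (∃ k : ℕ, y ^ (r ^ k) = 1) → y ∈ A) :
    ∃ D : Subgroup S, D ≤ centralizer (A : Set S) ∧
      (∀ c ∈ centralizer (A : Set S), ∀ d ∈ D, c * d * c⁻¹ ∈ D) ∧
      A ⊓ D = ⊥ ∧ A ⊔ D = centralizer (A : Set S) ∧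
      ∀ q : ℕ, q.Prime → q ∣ Nat.card D → q ∉ π := by
  set C : Subgroup S := centralizer (A : Set S) with hC
  set A' : Subgroup ↥C := A.subgroupOf C with hA'
  have hcommAC : ∀ a ∈ A, ∀ c ∈ C, a * c = c * a := fun a ha c hc =>
    Subgroup.mem_centralizer_iff.mp hc a ha
  haveI hA'n : A'.Normal := by
    refine ⟨fun n hn g => ?_⟩
    rw [hA', Subgroup.mem_subgroupOf] at hn ⊢
    have h1 := hcommAC _ hn _ g.2
    have : ((g * n * g⁻¹ : ↥C) : S) = (n : S) := by
      simp only [Subgroup.coe_mul, Subgroup.coe_inv]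
      rw [← h1]; group
    rw [this]; exact hn
  have hcardA' : Nat.card A' = Nat.card A :=
    Nat.card_congr (Subgroup.subgroupOfEquivOfLe hAab).toEquiv
  have hcop : (Nat.card A').Coprime A'.index := by
    apply Nat.eq_one_iff_not_exists_prime_dvd.mpr
    intro q hq hd
    have hqπ : q ∈ π := hApi q hq (hcardA' ▸ hd.trans (Nat.gcd_dvd_left _ _))
    haveI : Fact q.Prime := ⟨hq⟩
    obtain ⟨Q⟩ : Nonempty (Sylow q ↥C) := inferInstance
    have hQA : (Q : Subgroup ↥C) ≤ A' := by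
      intro z hz
      obtain ⟨k, hk⟩ := Q.isPGroup' ⟨z, hz⟩
      have hk' : (z : S) ^ (q ^ k) = 1 := by
        have := congrArg (fun t : ↥(Q : Subgroup ↥C) => ((t : ↥C) : S)) hk
        simpa using this
      rw [hA', Subgroup.mem_subgroupOf]
      exact hel q hq hqπ _ z.2 ⟨k, hk'⟩
    have h1 : A'.index ∣ (Q : Subgroup ↥C).index := Subgroup.index_dvd_of_le hQA
    exact Q.not_dvd_index ((hd.trans (Nat.gcd_dvd_right _ _)).trans h1)
  obtain ⟨D', hD'⟩ := Subgroup.exists_right_complement'_of_coprime hcop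
  have hdisj : A' ⊓ D' = ⊥ := hD'.disjoint.eq_bot
  have hdecomp : ∀ c ∈ C, ∃ a ∈ A, ∃ d : ↥C, d ∈ D' ∧ c = a * (d : S) := by
    intro c hc
    obtain ⟨⟨a, d⟩, had, -⟩ := hD'.existsUnique (⟨c, hc⟩ : ↥C)
    refine ⟨((a : ↥C) : S), ?_, (d : ↥C), d.2, ?_⟩
    · have h0 : (a : ↥C) ∈ A.subgroupOf C := a.2
      rw [Subgroup.mem_subgroupOf] at h0
      exact h0
    · have := congrArg Subtype.val had
      simpa using this.symm
  refine ⟨D'.map C.subtype, Subgroup.map_subtype_le _, ?_, ?_, ?_, ?_⟩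
  · rintro c hc _ ⟨d, hd, rfl⟩
    obtain ⟨a, ha, d0, hd0, rfl⟩ := hdecomp c hc
    have hmem : d0 * d * d0⁻¹ ∈ D' := D'.mul_mem (D'.mul_mem hd0 hd) (D'.inv_mem hd0)
    refine ⟨d0 * d * d0⁻¹, hmem, ?_⟩
    have h1 := hcommAC a ha _ (d0 * d * d0⁻¹).2
    simp only [Subgroup.coe_subtype, Subgroup.coe_mul, Subgroup.coe_inv] at h1 ⊢
    calc (d0 : S) * d * (d0 : S)⁻¹ = (d0 * d * (d0 : S)⁻¹) * a * a⁻¹ := by group
      _ = a * ((d0 : S) * d * (d0 : S)⁻¹) * a⁻¹ := by rw [← h1]
      _ = a * (d0 : S) * d * (a * (d0 : S))⁻¹ := by group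
  · rw [eq_bot_iff]
    rintro x ⟨hxA, d, hd, rfl⟩
    have : d ∈ A' ⊓ D' := Subgroup.mem_inf.2 ⟨by rw [hA', Subgroup.mem_subgroupOf]; exact hxA, hd⟩
    rw [hdisj, Subgroup.mem_bot] at this
    rw [this]; simp
  · apply le_antisymm (sup_le hAab (Subgroup.map_subtype_le _))
    intro c hc
    obtain ⟨a, ha, d0, hd0, rfl⟩ := hdecomp c hc
    exact Subgroup.mul_mem_sup ha ⟨d0, hd0, rfl⟩
  · intro q hq hd hqπ
    have hcard : Nat.card (D'.map C.subtype) = Nat.card D' :=
      Subgroup.card_map_of_injective (Subgroup.subtype_injective _)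
    rw [hcard] at hd
    haveI : Fact q.Prime := ⟨hq⟩
    obtain ⟨x, hx⟩ := exists_prime_orderOf_dvd_card' q hd
    have hx1 : ((x : ↥C) : S) ^ (q ^ 1) = 1 := by
      have h0 : x ^ q = 1 := by rw [← hx]; exact pow_orderOf_eq_one x
      have := congrArg (fun t : ↥D' => ((t : ↥C) : S)) h0
      simpa using this
    have hxA : ((x : ↥C) : S) ∈ A := hel q hq hqπ _ (x : ↥C).2 ⟨1, hx1⟩
    have : (x : ↥C) ∈ A' ⊓ D' :=
      Subgroup.mem_inf.2 ⟨by rw [hA', Subgroup.mem_subgroupOf]; exact hxA, x.2⟩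
    rw [hdisj, Subgroup.mem_bot] at this
    have hx' : x = 1 := Subtype.ext this
    rw [hx', orderOf_one] at hx
    exact hq.one_lt.ne hx

end Cfsg.Agent.Helper14.ScnCent
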