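import Mathlib
import Cfsg.Agent.Lib.Helper23.SlhDefs

/-!
Piece SLH-THETA of S3050 (designer helper23): the coordinates `θ : M ≃+ (Fin 2 → C_M(t))` in which
`t = uu 1` and `t' = ll 1` act by the two elementary 2×2 matrices.
-/

set_option autoImplicit false

namespace Cfsg.Agent.Helper23.Slh

open Cfsg.Agent.Helper12.NatMod

local notation "SL2" => Matrix.SpecialLinearGroup (Fin 2)

theorem slh_theta_abstract {M : Type*} [AddCommGroup M] (T T' : M →+ M) (h2 : ∀ m : M, m + m = 0)
    (hT : ∀ m, T (T m) = m) (hT' : ∀ m, T' (T' m) = m) (hrel : ∀ m, T (T' m) + T' (T m) = m) :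
    ∃ (W : AddSubgroup M) (θ : M ≃+ (Fin 2 → W)),
      (∀ m, θ (T m) = ![θ m 0 + θ m 1, θ m 1]) ∧
      (∀ m, θ (T' m) = ![θ m 0, θ m 0 + θ m 1]) := by
  have hmem : ∀ m, T (m + T m) = m + T m := by
    intro m
    rw [map_add, hT, add_comm]
  have hW : ∀ w : T.eqLocus (AddMonoidHom.id M), T (w : M) = w := fun w => w.2
  refine ⟨T.eqLocus (AddMonoidHom.id M),
    { toFun := fun m => ![⟨(m + T' m) + T (m + T' m), hmem _⟩, ⟨m + T m, hmem _⟩]
      invFun := fun f => (f 0 : M) + ((f 1 : M) + T' (f 1 : M))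
      left_inv := ?_
      right_inv := ?_
      map_add' := ?_ }, ?_, ?_⟩
  · intro m
    simp only [Matrix.cons_val_zero, Matrix.cons_val_one, map_add]
    have e1 := hrel m
    have e2 := h2 (T' m)
    have e3 := h2 (T m)
    have e4 := h2 m
    linear_combination (norm := abel) e1 + e2 + e3 + e4
  · intro f
    have h0 := hW (f 0)
    have h1 := hW (f 1)
    ext i
    fin_cases i
    · show ((f 0 : M) + ((f 1 : M) + T' (f 1 : M))) + T' ((f 0 : M) + ((f 1 : M) + T' (f 1 : M))) +
        T (((f 0 : M) + ((f 1 : M) + T' (f 1 : M))) + T' ((f 0 : M) + ((f 1 : M) + T' (f 1 : M)))) = (f 0 : M)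
      simp only [map_add, hT', h0, h1]
      have e1 := hrel (f 1 : M)
      rw [h1] at e1
      have e2 := h2 (T' (f 1 : M))
      have e3 := h2 (T' (f 0 : M))
      have e4 := h2 (f 1 : M)
      have e5 := hrel (f 0 : M)
      rw [h0] at e5
      have e6 := h2 (T (T' (f 1 : M)))
      have e7 := h2 (f 0 : M)
      linear_combination (norm := abel) e5 + e2 + e4 + e4 + e6 + e7
    · show ((f 0 : M) + ((f 1 : M) + T' (f 1 : M))) + T ((f 0 : M) + ((f 1 : M) + T' (f 1 : M))) = (f 1 : M)
      simp only [map_add, h0, h1]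
      have e1 := hrel (f 1 : M)
      rw [h1] at e1
      have e7 := h2 (f 0 : M)
      have e4 := h2 (f 1 : M)
      have e2 := h2 (T' (f 1 : M))
      linear_combination (norm := abel) e1 + e7 + e4
  · intro m n
    ext i
    fin_cases i
    · show ((m + n) + T' (m + n)) + T ((m + n) + T' (m + n)) = ((m + T' m) + T (m + T' m)) + ((n + T' n) + T (n + T' n))
      simp only [map_add]
      abel
    · show (m + n) + T (m + n) = (m + T m) + (n + T n)
      simp only [map_add]
      abel
  · intro m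
    ext i
    fin_cases i
    · show (T m + T' (T m)) + T (T m + T' (T m)) = ((m + T' m) + T (m + T' m)) + (m + T m)
      simp only [map_add, hT]
      have e1 := hrel m
      have e2 := hrel (T m)
      rw [hT] at e2
      have e3 := h2 (T (T' m))
      have e4 := h2 (T' m)
      linear_combination (norm := abel) e1 + e2 - e3 - e4
    · show T m + T (T m) = m + T m
      rw [hT, add_comm]
  · intro m
    ext i
    fin_cases i
    · show (T' m + T' (T' m)) + T (T' m + T' (T' m)) = ((m + T' m) + T (m + T' m))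
      simp only [map_add, hT']
      abel
    · show T' m + T (T' m) = ((m + T' m) + T (m + T' m)) + (m + T m)
      simp only [map_add]
      have e1 := h2 m
      have e2 := h2 (T m)
      linear_combination (norm := abel) - e1 - e2

variable {F : Type*} [Field F] [CharP F 2] {M : Type*} [AddCommGroup M] [DistribMulAction (SL2 F) M]

theorem slh_theta_uu_sq : uu (1 : F) * uu 1 = 1 := by
  rw [← uu_add, CharTwo.add_self_eq_zero, uu_zero]

theorem slh_theta_ll_sq : ll (1 : F) * ll 1 = 1 := by
  rw [← ll_add, CharTwo.add_self_eq_zero, ll_zero]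

theorem slh_theta_cube : (uu (1 : F) * ll 1) * ((uu 1 * ll 1) * (uu 1 * ll 1)) = 1 := by
  have h11 : (1 : F) + 1 = 0 := CharTwo.add_self_eq_zero 1
  apply sl2_ext
  simp [Matrix.one_fin_two, h11]

theorem slh_theta_sq : (uu (1 : F) * ll 1) * (uu 1 * ll 1) = ll 1 * uu 1 := by
  have h := slh_theta_cube (F := F)
  have h3 : (uu (1 : F) * ll 1) * (ll 1 * uu 1) = 1 := by
    rw [mul_assoc, ← mul_assoc (ll 1), slh_theta_ll_sq, one_mul, slh_theta_uu_sq]
  exact mul_left_cancel (h.trans h3.symm)

theorem slh_theta_rel (h2 : ∀ m : M, m + m = 0)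
    (hfpf : ∀ m : M, (uu (1 : F) * ll 1) • m = m → m = 0) (m : M) :
    uu (1 : F) • ll (1 : F) • m + ll (1 : F) • uu (1 : F) • m = m := by
  have h0 : m + (uu (1 : F) * ll 1) • m + (ll (1 : F) * uu 1) • m = 0 := by
    apply hfpf
    rw [smul_add, smul_add, smul_smul, smul_smul, ← slh_theta_sq, slh_theta_cube, one_smul]
    abel
  rw [mul_smul, mul_smul] at h0
  have e := h2 m
  linear_combination (norm := abel) h0 - e

theorem exists_theta (h2 : ∀ m : M, m + m = 0)
    (hfpf : ∀ m : M, (uu (1 : F) * ll 1) • m = m → m = 0) :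
    ∃ (W : AddSubgroup M) (θ : M ≃+ (Fin 2 → W)),
      (∀ m, θ (uu (1 : F) • m) = ![θ m 0 + θ m 1, θ m 1]) ∧
      (∀ m, θ (ll (1 : F) • m) = ![θ m 0, θ m 0 + θ m 1]) := by
  refine slh_theta_abstract (DistribSMul.toAddMonoidHom M (uu (1 : F)))
    (DistribSMul.toAddMonoidHom M (ll (1 : F))) h2 ?_ ?_ ?_
  · intro m
    show uu (1 : F) • uu (1 : F) • m = m
    rw [smul_smul, slh_theta_uu_sq, one_smul]
  · intro m
    show ll (1 : F) • ll (1 : F) • m = m
    rw [smul_smul, slh_theta_ll_sq, one_smul]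
  · intro m
    exact slh_theta_rel h2 hfpf m

end Cfsg.Agent.Helper23.Slh
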