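import Mathlib
import Cfsg.Agent.Lib.Helper14.StGLDefs
import Cfsg.Agent.Lib.Helper18.StGLVS

/-!
# S2425 piece VSF (helper14): transport of the identity for vector spaces over `AdjoinRoot f` (piece VS) to the invariant
subspaces of an `f`-primary module, via helper13's `kModule`.
-/

set_option autoImplicit false
set_option linter.unusedSectionVars false

namespace Cfsg.Agent.Helper14.StGL

open Module Polynomial Cfsg.Agent.Helper13.SS

open scoped Classical

section

variable {F : Type*} [Field F] {V : Type*} [AddCommGroup V] [Module F V]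

/-- invariant subspaces are stable under polynomials in `g` -/
theorem stglvsf_inv_aeval (g : Module.End F V) (W : Submodule F V) (hW : Inv g W) (p : F[X]) :
    ∀ v ∈ W, aeval g p v ∈ W := by
  induction p using Polynomial.induction_on with
  | C a =>
    intro v hv
    rw [aeval_C, Module.algebraMap_end_apply]
    exact W.smul_mem a hv
  | add p q hp hq =>
    intro v hv
    rw [map_add, LinearMap.add_apply]
    exact W.add_mem (hp v hv) (hq v hv)
  | monomial n a ih =>
    intro v hv
    have h1 : aeval g (C a * X ^ (n + 1)) = aeval g (C a * X ^ n) * g := by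
      rw [pow_succ, ← mul_assoc, map_mul, aeval_X]
    rw [h1, Module.End.mul_apply]
    exact ih (g v) (hW v hv)

end

section main

variable {F : Type*} [Field F] [Fintype F] {V : Type*} [AddCommGroup V] [Module F V] [Fintype V]

theorem vsf (g : Module.End F V) (f : F[X]) (hf : Irreducible f) (U : Submodule F V) (hU : Inv g U)
    (hfU : U ≤ Kf g f) (hne : U ≠ ⊥) :
    ∑ W ∈ Finset.univ.filter (fun W : Submodule F V => Inv g W ∧ W ≤ U),
      gam (Fintype.card F ^ f.natDegree) (finrank F ↥W / f.natDegree) = 0 := by
  haveI : Fact (Irreducible f) := ⟨hf⟩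
  have hdpos : 0 < f.natDegree :=
    Polynomial.natDegree_pos_iff_degree_pos.2 (Polynomial.degree_pos_of_irreducible hf)
  set h : Module.End F ↥U := g.restrict hU with hh_def
  have hh : aeval h f = 0 := aeval_restrict_eq_zero g U hU f hfU
  letI iK := kModule f h hh
  haveI iT := kModule_tower f h hh
  haveI : FiniteDimensional F (AdjoinRoot f) := (AdjoinRoot.powerBasis hf.ne_zero).finite
  haveI : Finite (AdjoinRoot f) := Module.finite_of_finite F
  letI : Fintype (AdjoinRoot f) := Fintype.ofFinite _
  haveI : Nontrivial ↥U := (Submodule.nontrivial_iff_ne_bot).2 hne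
  have hcardK : Fintype.card (AdjoinRoot f) = Fintype.card F ^ f.natDegree := by
    rw [Module.card_eq_pow_finrank (K := F) (V := AdjoinRoot f), finrank_adjoinRoot]
  have key := vs_sum (K := AdjoinRoot f) (M := ↥U)
  rw [← key]
  symm
  refine Finset.sum_bij (fun N _ => (N.restrictScalars F).map U.subtype) ?_ ?_ ?_ ?_
  · -- membership
    intro N _
    rw [Finset.mem_filter]
    refine ⟨Finset.mem_univ _, ?_, ?_⟩
    · intro v hv
      obtain ⟨u, hu, rfl⟩ := Submodule.mem_map.1 hv
      refine Submodule.mem_map.2 ⟨h u, ?_, rfl⟩
      have e1 : h u = (AdjoinRoot.root f) • u := by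
        rw [kModule_smul, rho_root]
      rw [Submodule.restrictScalars_mem, e1]
      exact N.smul_mem _ ((Submodule.restrictScalars_mem F N u).1 hu)
    · intro v hv
      obtain ⟨u, _, rfl⟩ := Submodule.mem_map.1 hv
      exact u.2
  · -- injectivity
    intro N _ N' _ hNN
    have h1 := Submodule.map_injective_of_injective U.injective_subtype hNN
    exact Submodule.restrictScalars_injective F (AdjoinRoot f) ↥U h1
  · -- surjectivity
    intro W hW
    obtain ⟨_, hWinv, hWU⟩ := Finset.mem_filter.1 hW
    let N : Submodule (AdjoinRoot f) ↥U :=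
      { carrier := {u : ↥U | (u : V) ∈ W}
        add_mem' := fun {a} {b} ha hb => W.add_mem ha hb
        zero_mem' := W.zero_mem
        smul_mem' := by
          intro k u hu
          obtain ⟨p, rfl⟩ := AdjoinRoot.mk_surjective k
          show (((AdjoinRoot.mk f p) • u : ↥U) : V) ∈ W
          have e1 : (AdjoinRoot.mk f p) • u = aeval h p u := by
            rw [kModule_smul]
            rfl
          have e2 : ((aeval h p u : ↥U) : V) = aeval g p (u : V) := aeval_restrict_apply g U hU p u
          rw [e1, e2]
          exact stglvsf_inv_aeval g W hWinv p _ hu }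
    refine ⟨N, Finset.mem_univ _, ?_⟩
    ext v
    rw [Submodule.mem_map]
    constructor
    · rintro ⟨u, hu, rfl⟩
      exact hu
    · intro hv
      exact ⟨⟨v, hWU hv⟩, hv, rfl⟩
  · -- values
    intro N _
    rw [hcardK]
    congr 1
    have h1 : finrank F ↥((N.restrictScalars F).map U.subtype) = finrank F ↥(N.restrictScalars F) :=
      Submodule.finrank_map_subtype_eq U (N.restrictScalars F)
    have h2 : finrank F ↥(N.restrictScalars F) = finrank F ↥N := rfl
    have h3 : finrank F (AdjoinRoot f) * finrank (AdjoinRoot f) ↥N = finrank F ↥N :=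
      Module.finrank_mul_finrank F (AdjoinRoot f) ↥N
    rw [h1, h2, ← h3, finrank_adjoinRoot, Nat.mul_div_cancel_left _ hdpos]

end main

end Cfsg.Agent.Helper14.StGL
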