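import Mathlib
import Cfsg.Agent.Lib.Helper14.StGLDefs
import Cfsg.Agent.Lib.Helper17.StGLABS
import Cfsg.Agent.Lib.Helper17.StGLCHAINS
import Cfsg.Agent.Lib.Helper18.StGLCOUNT
import Cfsg.Agent.Lib.Helper12.StGLGF1
import Cfsg.Agent.Lib.Helper21.StGLPARAB
import Cfsg.Agent.Lib.Helper21.StGLPRIMNE
import Cfsg.Agent.Lib.Helper22.StGLPERMA
import Cfsg.Agent.Lib.Helper22.StGLPERMB
import Cfsg.Agent.Lib.Helper6.StGLSPLIT
import Cfsg.Agent.Lib.Helper14.StGLVSF
import Cfsg.Agent.Lib.Helper12.StGLFIXFLAG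

/-!
# S2425 (helper14): assembly - the Steinberg character of `GL_n(q)` at elements of order prime to the characteristic

See `plans/S2425_plan.md`.  Pieces: ABS, CHAINS (helper17), COUNT, VS (helper18), GF1, FIXFLAG (helper12), PARAB, PRIMNE (helper21),
PERMA, PERMB (helper22), SPLIT (helper6), TRANS (helper20), VSF (helper14).
-/

set_option autoImplicit false
set_option linter.unusedSectionVars false

namespace Cfsg.Agent.Helper14.StGL

open Module Polynomial Cfsg.Agent.Helper13.SS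

open scoped Classical MatrixGroups

theorem core_subset {n : ℕ} (μ : Fin n → ℕ) : ∀ d ∈ core μ, 0 < d ∧ d < n := by
  intro d hd
  unfold core at hd
  exact (Finset.mem_filter.1 hd).2

theorem sign_of_condK (n : ℕ) (κ : Equiv.Perm (Fin n)) (h : CondK κ) :
    Equiv.Perm.sign κ = (-1 : ℤˣ) ^ (n - 1 - (core (muK κ)).card) := by
  obtain ⟨κ', h', hc, hs⟩ := perm_exists n (core (muK κ)) (core_subset _)
  have := perm_unique n κ' κ h' h hc
  subst this
  exact hs

theorem perm_sum (n : ℕ) (Ψ : Finset ℕ → ℂ) :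
    ∑ κ : Equiv.Perm (Fin n),
        (if CondK κ then ((Equiv.Perm.sign κ : ℤ) : ℂ) * Ψ (core (muK κ)) else 0) =
      ∑ D ∈ (Finset.Ioo 0 n).powerset, (((-1 : ℤ) ^ (n - 1 - D.card) : ℤ) : ℂ) * Ψ D := by
  rw [← Finset.sum_filter]
  refine Finset.sum_bij (fun κ _ => core (muK κ)) ?_ ?_ ?_ ?_
  · intro κ _
    rw [Finset.mem_powerset]
    intro d hd
    rw [Finset.mem_Ioo]
    exact core_subset _ d hd
  · intro κ hκ κ' hκ' hc
    exact perm_unique n κ κ' (Finset.mem_filter.1 hκ).2 (Finset.mem_filter.1 hκ').2 hc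
  · intro D hD
    rw [Finset.mem_powerset] at hD
    obtain ⟨κ, h, hc, _⟩ := perm_exists n D (fun d hd => Finset.mem_Ioo.1 (hD hd))
    exact ⟨κ, Finset.mem_filter.2 ⟨Finset.mem_univ _, h⟩, hc⟩
  · intro κ hκ
    rw [sign_of_condK n κ (Finset.mem_filter.1 hκ).2]
    simp

section gl

variable {F : Type*} [Field F] [Fintype F] {n : ℕ}

theorem st_eq_chainSum (hn : 0 < n) (x : GL (Fin n) F) :
    Cfsg.unipotentCharacterGL n F (fun _ => 1) x =
      (((-1 : ℤ) ^ (n - 1) * ∑ C ∈ Finset.univ.filter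
        (fun C : Finset (Submodule F (Fin n → F)) => IsInvChain (L x) ⊤ C), (-1 : ℤ) ^ C.card : ℤ) : ℂ) := by
  have h1 : Cfsg.unipotentCharacterGL n F (fun _ => 1) x =
      ∑ κ : Equiv.Perm (Fin n), (if CondK κ then ((Equiv.Perm.sign κ : ℤ) : ℂ) *
        (fun D : Finset ℕ => ((Finset.univ.filter (fun C : Finset (Submodule F (Fin n → F)) =>
          IsInvFlag (L x) D C)).card : ℂ)) (core (muK κ)) else 0) := by
    unfold Cfsg.unipotentCharacterGL
    refine Finset.sum_congr rfl fun κ _ => ?_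
    have e : (∀ i : Fin n, (κ i).val ≤ (fun _ => 1) i + i.val) ↔ CondK κ := Iff.rfl
    by_cases hc : CondK κ
    · rw [if_pos hc, if_pos (e.2 hc)]
      congr 1
      exact fixed_eq_flags (Cfsg.parabolicGL n F (muK κ)) (core (muK κ)) (core_subset _)
        (mem_parabolic_iff (muK κ)) x
    · rw [if_neg hc, if_neg (fun h => hc (e.1 h))]
  rw [h1, perm_sum n (fun D : Finset ℕ => ((Finset.univ.filter (fun C : Finset (Submodule F (Fin n → F)) =>
          IsInvFlag (L x) D C)).card : ℂ)), ← chains_regroup hn (L x)]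
  push_cast
  rfl

end gl

section mod

variable {F : Type*} [Field F] [Fintype F] {V : Type*} [AddCommGroup V] [Module F V] [Fintype V]

theorem gam_zero (Q : ℕ) : gam Q 0 = 1 := by
  simp [gam]

theorem inv_bot (g : Module.End F V) : Inv g ⊥ := by
  intro v hv
  rw [Submodule.mem_bot] at hv
  rw [hv, map_zero]
  exact Submodule.zero_mem _

theorem inv_Kf (g : Module.End F V) (f : F[X]) : Inv g (Kf g f) :=
  ker_aeval_invariant g f

theorem inv_inf (g : Module.End F V) {W W' : Submodule F V} (h : Inv g W) (h' : Inv g W') : Inv g (W ⊓ W') :=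
  fun v hv => ⟨h v hv.1, h' v hv.2⟩

theorem gfun_bot (q : ℕ) (g : Module.End F V) (S : Finset F[X]) : Gfun q g S ⊥ = 1 := by
  unfold Gfun
  refine Finset.prod_eq_one fun f _ => ?_
  rw [bot_inf_eq, finrank_bot, Nat.zero_div, gam_zero]

theorem sum_gfun_eq_zero (g : Module.End F V) (S : Finset F[X]) (hirr : ∀ f ∈ S, Irreducible f)
    (hmon : ∀ f ∈ S, f.Monic) (hg : aeval g (∏ f ∈ S, f) = 0) (U : Submodule F V) (hU : Inv g U) (hne : ⊥ < U) :
    ∑ W ∈ Finset.univ.filter (fun W : Submodule F V => Inv g W ∧ ⊥ ≤ W ∧ W ≤ U),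
      Gfun (Fintype.card F) g S W = 0 := by
  have e : Finset.univ.filter (fun W : Submodule F V => Inv g W ∧ ⊥ ≤ W ∧ W ≤ U) =
      Finset.univ.filter (fun W : Submodule F V => Inv g W ∧ W ≤ U) := by
    ext W
    simp
  rw [e]
  obtain ⟨f, hf, hfne⟩ := exists_primary_ne_bot g S hg U hU (ne_of_gt hne)
  rw [split_sum (Fintype.card F) g S hirr hmon hg f hf U hU]
  have h0 : ∑ W ∈ Finset.univ.filter (fun W : Submodule F V => Inv g W ∧ W ≤ U ⊓ Kf g f),
      Gfun (Fintype.card F) g S W = 0 := by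
    rw [← vsf g f (hirr f hf) (U ⊓ Kf g f) (inv_inf g hU (inv_Kf g f)) inf_le_right hfne]
    refine Finset.sum_congr rfl fun W hW => ?_
    exact gfun_primary _ g S hirr hmon f hf W (le_trans (Finset.mem_filter.1 hW).2.2 inf_le_right)
  rw [h0, zero_mul]

theorem chainSum_top (g : Module.End F V) (S : Finset F[X]) (hirr : ∀ f ∈ S, Irreducible f)
    (hmon : ∀ f ∈ S, f.Monic) (hg : aeval g (∏ f ∈ S, f) = 0) (hV : (⊥ : Submodule F V) < ⊤) :
    ∑ C ∈ Finset.univ.filter (fun C : Finset (Submodule F V) => IsInvChain g ⊤ C), (-1 : ℤ) ^ C.card =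
      - Gfun (Fintype.card F) g S ⊤ := by
  unfold IsInvChain
  have := abs_chain (Inv g) ⊥ (Gfun (Fintype.card F) g S) (gfun_bot _ g S) (inv_bot g)
    (fun U hU hne => sum_gfun_eq_zero g S hirr hmon hg U hU hne) ⊤ (fun _ _ => Submodule.mem_top) hV
  convert this using 2
  ext C
  simp only [Finset.mem_filter, Finset.mem_univ, true_and]

theorem gfun_top (q : ℕ) (g : Module.End F V) (S : Finset F[X]) :
    Gfun q g S ⊤ = ∏ f ∈ S, gam (q ^ f.natDegree) (kdim g f / f.natDegree) := by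
  unfold Gfun
  refine Finset.prod_congr rfl fun f _ => ?_
  rw [top_inf_eq]
  rfl

end mod

section final

variable {F : Type*} [Field F] [Fintype F]

/-- the summand of the formula -/
def Aterm (q : ℕ) (f : F[X]) (k : ℕ) : ℂ :=
  (-1 : ℂ) ^ ((f.natDegree - 1) * k) * (q : ℂ) ^ (f.natDegree * k * (k - 1) / 2)

theorem aterm_zero (q : ℕ) (f : F[X]) : Aterm q f 0 = 1 := by
  simp [Aterm]

theorem gam_cast (q d k : ℕ) (hd : 0 < d) :
    ((gam (q ^ d) k : ℤ) : ℂ) * (-1 : ℂ) ^ (d * k) = (-1 : ℂ) ^ ((d - 1) * k) * (q : ℂ) ^ (d * k * (k - 1) / 2) := by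
  unfold gam
  have h2 : d * k * (k - 1) / 2 = d * k.choose 2 := by
    rw [Nat.choose_two_right, mul_assoc]
    exact Nat.mul_div_assoc d (Nat.even_mul_pred_self k).two_dvd
  rw [h2]
  push_cast
  have h3 : ((q : ℂ) ^ d) ^ k.choose 2 = (q : ℂ) ^ (d * k.choose 2) := by rw [← pow_mul]
  rw [h3]
  have h4 : (-1 : ℂ) ^ k * (-1 : ℂ) ^ (d * k) = (-1 : ℂ) ^ ((d - 1) * k) := by
    obtain ⟨d', rfl⟩ : ∃ d', d = d' + 1 := ⟨d - 1, by omega⟩
    rw [Nat.add_sub_cancel, ← pow_add]
    have : k + (d' + 1) * k = d' * k + 2 * k := by ring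
    rw [this, pow_add, pow_mul (-1 : ℂ) 2 k]
    norm_num
  calc (-1 : ℂ) ^ k * (q : ℂ) ^ (d * k.choose 2) * (-1 : ℂ) ^ (d * k)
      = ((-1 : ℂ) ^ k * (-1 : ℂ) ^ (d * k)) * (q : ℂ) ^ (d * k.choose 2) := by ring
    _ = _ := by rw [h4]

theorem main_pos {q : ℕ} (hq : Fintype.card F = q) (p : ℕ) [Fact p.Prime] [CharP F p] {n : ℕ} (hn : 0 < n)
    (x : GL (Fin n) F) (hx : (orderOf x).Coprime p) :
    Cfsg.unipotentCharacterGL n F (fun _ => 1) x =
      ∏ f ∈ (UniqueFactorizationMonoid.normalizedFactors (x : Matrix (Fin n) (Fin n) F).charpoly).toFinset,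
        Aterm q f ((UniqueFactorizationMonoid.normalizedFactors (x : Matrix (Fin n) (Fin n) F).charpoly).count f) := by
  set N := orderOf x with hN
  set S := irrFactors (X ^ N - 1 : F[X]) with hS
  have hirr : ∀ f ∈ S, Irreducible f := fun f hf => irrFactors_irreducible hf
  have hmon : ∀ f ∈ S, f.Monic := fun f hf => irrFactors_monic hf
  have hNF : (N : F) ≠ 0 := cast_ne_zero_of_coprime (p := p) hx
  have hg : aeval (L x) (∏ f ∈ S, f) = 0 := by
    rw [hS, sepFactors_prod hNF, ← Cfsg.Agent.Helper13.SS.pow_eq_one_iff, hN, pow_orderOf_eq_one]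
  set c : F[X] → ℕ := fun f => kdim (L x) f / f.natDegree with hc
  have hchar : (x : Matrix (Fin n) (Fin n) F).charpoly = ∏ f ∈ S, f ^ c f := by
    rw [← charpoly_L, charpoly_eq_prod S hirr hmon (L x) hg]
  obtain ⟨hcount, hmem⟩ := count_normalizedFactors S hirr hmon c
  rw [← hchar] at hcount hmem
  -- the right hand side as a product over `S`
  have hsub : (UniqueFactorizationMonoid.normalizedFactors (x : Matrix (Fin n) (Fin n) F).charpoly).toFinset ⊆ S := by
    intro f hf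
    exact hmem f (Multiset.mem_toFinset.1 hf)
  rw [Finset.prod_subset hsub (fun f hf hnf => by
    rw [Multiset.mem_toFinset, ← Multiset.count_pos, not_lt, Nat.le_zero] at hnf
    rw [hnf, aterm_zero])]
  have hR : ∏ f ∈ S, Aterm q f
      ((UniqueFactorizationMonoid.normalizedFactors (x : Matrix (Fin n) (Fin n) F).charpoly).count f) =
      ∏ f ∈ S, Aterm q f (c f) := Finset.prod_congr rfl fun f hf => by rw [hcount f hf]
  rw [hR]
  -- the degree
  have hdeg : n = ∑ f ∈ S, f.natDegree * c f := by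
    have h1 : (x : Matrix (Fin n) (Fin n) F).charpoly.natDegree = n := by
      rw [Matrix.charpoly_natDegree_eq_dim, Fintype.card_fin]
    rw [← h1, hchar, Polynomial.natDegree_prod_of_monic _ _ (fun f hf => (hmon f hf).pow _)]
    refine Finset.sum_congr rfl fun f hf => ?_
    rw [(hmon f hf).natDegree_pow, mul_comm]
  -- the left hand side
  have hV : (⊥ : Submodule F (Fin n → F)) < ⊤ := by
    rw [bot_lt_iff_ne_bot]
    intro h
    have h1 : finrank F (⊤ : Submodule F (Fin n → F)) = n := by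
      rw [finrank_top, Module.finrank_fin_fun]
    rw [h, finrank_bot] at h1
    omega
  rw [st_eq_chainSum hn x, chainSum_top (L x) S hirr hmon hg hV, gfun_top, hq]
  push_cast
  have hsign : ((-1 : ℂ)) ^ (n - 1) * -(∏ f ∈ S, ((gam (q ^ f.natDegree) (c f) : ℤ) : ℂ)) =
      ∏ f ∈ S, (((gam (q ^ f.natDegree) (c f) : ℤ) : ℂ) * (-1 : ℂ) ^ (f.natDegree * c f)) := by
    rw [Finset.prod_mul_distrib, Finset.prod_pow_eq_pow_sum, ← hdeg]
    obtain ⟨n', rfl⟩ : ∃ n', n = n' + 1 := ⟨n - 1, by omega⟩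
    rw [Nat.add_sub_cancel, pow_succ]
    ring
  rw [hsign]
  refine Finset.prod_congr rfl fun f hf => ?_
  exact gam_cast q f.natDegree (c f) (Polynomial.natDegree_pos_iff_degree_pos.2
    (Polynomial.degree_pos_of_irreducible (hirr f hf)))

theorem main_zero (x : GL (Fin 0) F) :
    Cfsg.unipotentCharacterGL 0 F (fun _ => 1) x = 1 := by
  unfold Cfsg.unipotentCharacterGL
  haveI : Subsingleton (GL (Fin 0) F) := ⟨fun a b => Units.ext (Subsingleton.elim _ _)⟩
  rw [Fintype.sum_subsingleton _ (1 : Equiv.Perm (Fin 0))]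
  rw [if_pos (fun i => i.elim0), Equiv.Perm.sign_one]
  unfold Cfsg.fixedPointCharacter
  have h1 : Nat.card (MulAction.fixedBy (GL (Fin 0) F ⧸ Cfsg.parabolicGL 0 F
      fun i => (fun _ => 1) i + i.val - ((1 : Equiv.Perm (Fin 0)) i).val) x) = 1 := by
    rw [Nat.card_eq_one_iff_unique]
    refine ⟨⟨fun a b => Subtype.ext ?_⟩, ⟨⟨((1 : GL (Fin 0) F) : GL (Fin 0) F ⧸ _), ?_⟩⟩⟩
    · obtain ⟨a, _⟩ := a
      obtain ⟨b, _⟩ := b
      induction a using Quotient.inductionOn
      induction b using Quotient.inductionOn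
      exact congrArg _ (Subsingleton.elim _ _)
    · rw [MulAction.mem_fixedBy]
      rw [Subsingleton.elim x 1, one_smul]
  rw [h1]
  simp

theorem main {q : ℕ} (hq : Fintype.card F = q) (p : ℕ) [Fact p.Prime] [CharP F p] {n : ℕ}
    (x : GL (Fin n) F) (hx : (orderOf x).Coprime p) :
    Cfsg.unipotentCharacterGL n F (fun _ => 1) x =
      ∏ f ∈ (UniqueFactorizationMonoid.normalizedFactors (x : Matrix (Fin n) (Fin n) F).charpoly).toFinset,
        Aterm q f ((UniqueFactorizationMonoid.normalizedFactors (x : Matrix (Fin n) (Fin n) F).charpoly).count f) := by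
  rcases Nat.eq_zero_or_pos n with rfl | hn
  · rw [main_zero]
    have h1 : (x : Matrix (Fin 0) (Fin 0) F).charpoly = 1 := by
      unfold Matrix.charpoly
      exact Matrix.det_isEmpty
    rw [h1, UniqueFactorizationMonoid.normalizedFactors_one]
    simp
  · exact main_pos hq p hn x hx

end final

end Cfsg.Agent.Helper14.StGL
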