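import Mathlib

/-!
# S4625 (helper14): abstract core.

`Good H`: the finite group `H` has a 2-subgroup `U` of odd index (so `U` is a Sylow 2-subgroup) such that
the square of every element of `U` lies in `⁅U, U⁆` (i.e. `U / U'` is elementary abelian).
`Good` passes to quotients (surjective images) and gives the statement for EVERY Sylow 2-subgroup.
-/

set_option autoImplicit false
set_option linter.unusedSectionVars false
set_option linter.unusedVariables false

namespace Cfsg.Agent.Helper14.SylAb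

open scoped commutatorElement Pointwise

/-- `H` has a Sylow 2-subgroup `U` (2-group of odd index) with `x² ∈ ⁅U, U⁆` for all `x ∈ U`. -/
def Good (H : Type*) [Group H] : Prop :=
  ∃ U : Subgroup H, IsPGroup 2 U ∧ ¬ 2 ∣ U.index ∧ ∀ x ∈ U, x ^ 2 ∈ ⁅U, U⁆

/-- In a group generated by elements whose squares lie in the derived subgroup, every square lies in the
derived subgroup. -/
theorem sq_mem_commutator_closure {H : Type*} [Group H] (S : Set H)
    (hS : ∀ s ∈ S, s ^ 2 ∈ ⁅Subgroup.closure S, Subgroup.closure S⁆) :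
    ∀ x ∈ Subgroup.closure S, x ^ 2 ∈ ⁅Subgroup.closure S, Subgroup.closure S⁆ := by
  set U := Subgroup.closure S with hU
  have hle : ⁅U, U⁆ ≤ U :=
    Subgroup.commutator_le.2 fun a ha b hb => by
      rw [commutatorElement_def]
      exact U.mul_mem (U.mul_mem (U.mul_mem ha hb) (U.inv_mem ha)) (U.inv_mem hb)
  -- elements of `U` normalize `⁅U, U⁆`
  have hconj : ∀ x ∈ U, ∀ h ∈ ⁅U, U⁆, x * h * x⁻¹ ∈ ⁅U, U⁆ := by
    intro x hx h hh
    have h1 : x * h * x⁻¹ = ⁅x, h⁆ * h := by
      rw [commutatorElement_def]; group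
    rw [h1]
    exact Subgroup.mul_mem _ (Subgroup.commutator_mem_commutator hx (hle hh)) hh
  -- (x y)^2 ≡ x^2 y^2 mod U'
  have key : ∀ x ∈ U, ∀ y ∈ U, (x * y) ^ 2 * (y ^ 2)⁻¹ * (x ^ 2)⁻¹ ∈ ⁅U, U⁆ := by
    intro x hx y hy
    have h1 : (x * y) ^ 2 * (y ^ 2)⁻¹ * (x ^ 2)⁻¹ = x * ⁅y, x⁆ * x⁻¹ := by
      rw [commutatorElement_def, pow_two, pow_two, pow_two]; group
    rw [h1]
    exact hconj x hx _ (Subgroup.commutator_mem_commutator hy hx)
  intro x hx
  induction hx using Subgroup.closure_induction with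
  | mem s hs => exact hS s hs
  | one => simp
  | mul x y hx hy ihx ihy =>
    have hx' : x ∈ U := hx
    have hy' : y ∈ U := hy
    have := key x hx' y hy'
    have h3 : (x * y) ^ 2 = ((x * y) ^ 2 * (y ^ 2)⁻¹ * (x ^ 2)⁻¹) * (x ^ 2 * y ^ 2) := by
      rw [pow_two, pow_two, pow_two]; group
    rw [h3]
    exact Subgroup.mul_mem _ this (Subgroup.mul_mem _ ihx ihy)
  | inv x hx ihx =>
    have : x⁻¹ ^ 2 = (x ^ 2)⁻¹ := by rw [pow_two, pow_two]; group
    rw [this]
    exact Subgroup.inv_mem _ ihx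

/-- `Good` from a generating set of "square-in-derived-subgroup" elements (e.g. involutions). -/
theorem good_of_closure {H : Type*} [Group H] (S : Set H)
    (hS : ∀ s ∈ S, s ^ 2 ∈ ⁅Subgroup.closure S, Subgroup.closure S⁆)
    (h2 : IsPGroup 2 (Subgroup.closure S)) (hidx : ¬ 2 ∣ (Subgroup.closure S).index) : Good H :=
  ⟨Subgroup.closure S, h2, hidx, sq_mem_commutator_closure S hS⟩

/-- `Good` from a generating set of involutions. -/
theorem good_of_closure_invol {H : Type*} [Group H] (S : Set H) (hS : ∀ s ∈ S, s ^ 2 = 1)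
    (h2 : IsPGroup 2 (Subgroup.closure S)) (hidx : ¬ 2 ∣ (Subgroup.closure S).index) : Good H :=
  good_of_closure S (fun s hs => by rw [hS s hs]; exact Subgroup.one_mem _) h2 hidx

/-- odd index from the orders: `|U| = 2^k`, `|H| = 2^k * m`, `m` odd. -/
theorem not_dvd_index_of_card {H : Type*} [Group H] [Finite H] (U : Subgroup H) (k m : ℕ)
    (hU : Nat.card U = 2 ^ k) (hH : Nat.card H = 2 ^ k * m) (hm : ¬ 2 ∣ m) : ¬ 2 ∣ U.index := by
  have h := U.card_mul_index
  rw [hU, hH] at h
  have : U.index = m := Nat.eq_of_mul_eq_mul_left (by positivity) h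
  rwa [this]

/-- odd index from a LOWER bound on `|U|`: `U` a 2-group, `2^k ≤ |U|`, `|H| = 2^k * m`, `m` odd. -/
theorem not_dvd_index_of_le_card {H : Type*} [Group H] [Finite H] (U : Subgroup H) (hU2 : IsPGroup 2 U)
    (k m : ℕ) (hU : 2 ^ k ≤ Nat.card U) (hH : Nat.card H = 2 ^ k * m) (hm : ¬ 2 ∣ m) : ¬ 2 ∣ U.index := by
  have : Fact (Nat.Prime 2) := ⟨Nat.prime_two⟩
  obtain ⟨j, hj⟩ := hU2.exists_card_eq
  have h := U.card_mul_index
  rw [hj, hH] at h
  have hkj : k ≤ j := by
    rw [hj] at hU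
    exact (Nat.pow_le_pow_iff_right (by norm_num)).1 hU
  -- 2^j ∣ 2^k * m with m odd gives j ≤ k
  have hjk : j ≤ k := by
    have hd : 2 ^ j ∣ 2 ^ k * m := ⟨U.index, h.symm⟩
    have hcop : Nat.Coprime (2 ^ j) m := by
      apply Nat.Coprime.pow_left
      exact (Nat.Prime.coprime_iff_not_dvd Nat.prime_two).2 hm
    have := hcop.dvd_of_dvd_mul_right hd
    exact (Nat.pow_dvd_pow_iff_le_right (by norm_num)).1 this
  have hjk' : j = k := le_antisymm hjk hkj
  subst hjk'
  have : U.index = m := Nat.eq_of_mul_eq_mul_left (by positivity) h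
  rwa [this]

/-- `Good` passes to surjective images. -/
theorem good_of_surjective {H G : Type*} [Group H] [Group G] (f : H →* G) (hf : Function.Surjective f)
    (h : Good H) : Good G := by
  obtain ⟨U, h2, hidx, hsq⟩ := h
  refine ⟨U.map f, ?_, ?_, ?_⟩
  · exact h2.map f
  · intro hd
    exact hidx (dvd_trans hd (Subgroup.index_map_dvd U hf))
  · rintro _ ⟨x, hx, rfl⟩
    rw [← map_pow, ← Subgroup.map_commutator]
    exact Subgroup.mem_map_of_mem f (hsq x hx)

/-- `Good` is invariant under isomorphism. -/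
theorem good_of_mulEquiv {H G : Type*} [Group H] [Group G] (e : G ≃* H) (h : Good H) : Good G :=
  good_of_surjective e.symm.toMonoidHom e.symm.surjective h

/-- The statement of S4625 from `Good G`. -/
theorem good_main {G : Type*} [Group G] [Finite G] (h : Good G) (P : Sylow 2 G) :
    ∀ x : (P : Subgroup G), x ^ 2 ∈ commutator (P : Subgroup G) := by
  have : Fact (Nat.Prime 2) := ⟨Nat.prime_two⟩
  obtain ⟨U, h2, hidx, hsq⟩ := h
  -- `U` is a Sylow 2-subgroup
  let Q : Sylow 2 G := h2.toSylow hidx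
  have hQ : (Q : Subgroup G) = U := IsPGroup.toSylow_coe h2 hidx
  obtain ⟨g, hg⟩ := MulAction.exists_smul_eq G Q P
  -- P = g U g⁻¹
  have hP : (P : Subgroup G) = U.map (MulAut.conj g).toMonoidHom := by
    rw [← hQ, ← hg]
    rfl
  intro x
  have hx : (x : G) ∈ U.map (MulAut.conj g).toMonoidHom := hP ▸ x.2
  obtain ⟨u, hu, hux⟩ := hx
  -- x^2 ∈ ⁅P, P⁆ as subgroups of G
  have h1 : ((x : G)) ^ 2 ∈ ⁅(P : Subgroup G), (P : Subgroup G)⁆ := by
    have h5 : ⁅(P : Subgroup G), (P : Subgroup G)⁆ =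
        (⁅U, U⁆).map (MulAut.conj g).toMonoidHom := by
      rw [Subgroup.map_commutator, ← hP]
    rw [h5, ← hux, ← map_pow]
    exact Subgroup.mem_map_of_mem _ (hsq u hu)
  -- transfer to the subtype
  have h3 : (commutator (P : Subgroup G)).map (P : Subgroup G).subtype = ⁅(P : Subgroup G), (P : Subgroup G)⁆ := by
    rw [commutator_def, Subgroup.map_commutator, ← MonoidHom.range_eq_map, Subgroup.range_subtype]
  rw [← h3] at h1
  obtain ⟨y, hy, hyx⟩ := h1
  have : y = x ^ 2 := by
    apply Subtype.ext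
    rw [Subgroup.coe_pow]
    exact hyx
  rwa [← this]

end Cfsg.Agent.Helper14.SylAb
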