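import Mathlib
import Cfsg.Agent.Lib.Helper13.SdBN3
import Cfsg.Agent.Lib.Helper28.SqGen
import Cfsg.Agent.Lib.Helper14.SylAbDefs

/-!
# S4625 piece OPLUS (helper14): `Good (Ω⁺_{2m}(F))` in characteristic 2, from the generation of `unipQ` by the
short root elements `Tm` (hypothesis `hgen` of the core).
-/

set_option autoImplicit false
set_option linter.unusedSectionVars false
set_option linter.unusedVariables false

namespace Cfsg.Agent.Helper14.SylAb

open Cfsg Cfsg.Agent.Helper28.Sq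
open Matrix Cfsg.Agent.Helper13.SuBN Cfsg.Agent.Helper13.BNAbs Cfsg.Agent.Helper13.SdP
  Cfsg.Agent.Helper13.SuP Cfsg.Agent.Helper13.SdBN

/-- bridge: helper28's `SylSq` gives `Good`. -/
theorem good_of_sylSq {G : Type*} [Group G] [Finite G] (h : SylSq G) : Good G := by
  haveI : Fact (Nat.Prime 2) := ⟨Nat.prime_two⟩
  obtain ⟨P⟩ : Nonempty (Sylow 2 G) := inferInstance
  refine ⟨P, P.2, P.not_dvd_index, ?_⟩
  intro x hx
  have h1 := h P ⟨x, hx⟩
  rw [← Subgroup.map_subtype_commutator]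
  exact ⟨_, h1, rfl⟩

/-- bridge: `Good` gives helper28's `SylSq`. -/
theorem sylSq_of_good {G : Type*} [Group G] [Finite G] (h : Good G) : SylSq G :=
  fun P x => good_main h P x

/-- the generators of `unipQ`: the short root elements -/
def sylaboplus_gens (n : ℕ) (F : Type*) [Field F] : Set (WSU n (RingHom.id F)) :=
  {g | ∃ (a b : Fin n) (t : F), a < b ∧ a ≠ Fin.rev b ∧ g = Tm (RingHom.id F) a b t}

theorem sylaboplus_ne_rev {n : ℕ} (hn : n % 2 = 0) (a : Fin n) : a ≠ Fin.rev a := by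
  intro e
  have := congrArg Fin.val e
  rw [Fin.val_rev] at this
  have := a.2
  omega

theorem sylaboplus_gens_sub {n : ℕ} {F : Type*} [Field F] (hn : n % 2 = 0) :
    sylaboplus_gens n F ⊆ (unipQ n F : Set (WSU n (RingHom.id F))) := by
  rintro _ ⟨a, b, t, hlt, hab', rfl⟩
  have hab : a ≠ b := ne_of_lt hlt
  have ha := sylaboplus_ne_rev hn a
  have hbb := sylaboplus_ne_rev hn b
  refine ⟨⟨Tm_mem_bor hid hab ha hbb hlt t, fun p => ?_⟩, Tm_mem_soq hab hab' ha hbb hn t⟩
  rw [Tm_coe hid hab ha hbb]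
  unfold TmM
  rw [Matrix.sub_apply, Matrix.add_apply, Matrix.one_apply_eq, Matrix.single_apply,
    Matrix.single_apply, if_neg, if_neg]
  · ring
  · rintro ⟨e1, e2⟩
    exact hab (Fin.rev_inj.1 (e2.trans e1.symm))
  · rintro ⟨e1, e2⟩
    exact hab (e1.trans e2.symm)

theorem sylaboplus_sq {n : ℕ} {F : Type*} [Field F] [CharP F 2] (hn : n % 2 = 0)
    (s : WSU n (RingHom.id F)) (hs : s ∈ sylaboplus_gens n F) : s * s = 1 := by
  obtain ⟨a, b, t, hlt, hab', rfl⟩ := hs
  have hab : a ≠ b := ne_of_lt hlt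
  have ha := sylaboplus_ne_rev hn a
  have hbb := sylaboplus_ne_rev hn b
  rw [Tm_add hid hab ha hbb, CharTwo.add_self_eq_zero, Tm_zero hid hab ha hbb]

/-- the core: from the generation of `unipQ` -/
theorem sylaboplus_core (F : Type*) [Field F] [Fintype F] [CharP F 2] (m : ℕ) (hm : 4 ≤ m)
    (hgen : unipQ (2 * m) F ≤ Subgroup.closure (sylaboplus_gens (2 * m) F)) :
    Good (Omega F (quadFormPlus m F)) := by
  classical
  haveI : Fact (Nat.Prime 2) := ⟨Nat.prime_two⟩
  have hm2 : 2 ≤ m := by omega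
  have hex : Fintype.card F ≠ 2 ∨ m ≠ 2 := Or.inr (by omega)
  have hn : (2 * m) % 2 = 0 := by omega
  have h4 : 4 ≤ 2 * m := by omega
  have hloc := bnLocD (F := F) hn h4
  have hfin : Finite (WSU (2 * m) (RingHom.id F)) := finite_WSU
  have hHle : borQ (2 * m) F ⊔ monE (2 * m) F ≤ soq (2 * m) F := sup_le borQ_le_soq monE_le_soq
  -- squares in `unipQ`
  have hsqU : SqComm ↥(unipQ (2 * m) F) := by
    apply sqComm_subgroup_of_closure (unipQ (2 * m) F) (sylaboplus_gens (2 * m) F)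
      (sylaboplus_gens_sub hn) hgen
    intro s hs
    rw [sylaboplus_sq hn s hs]
    exact Subgroup.one_mem _
  -- the Sylow subgroup of `H = ⟨B, N⟩`
  have hUB : (unipQ (2 * m) F).subgroupOf (borQ (2 * m) F ⊔ monE (2 * m) F) ≤ hloc.pair.B := by
    intro u hu
    exact unipQ_le_borQ hu
  have hUn : ∀ b ∈ hloc.pair.B,
      ∀ u ∈ (unipQ (2 * m) F).subgroupOf (borQ (2 * m) F ⊔ monE (2 * m) F),
      b * u * b⁻¹ ∈ (unipQ (2 * m) F).subgroupOf (borQ (2 * m) F ⊔ monE (2 * m) F) := by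
    intro b hb u hu
    exact conj_mem_unipQ hb hu
  have hsU : ∀ s ∈ hloc.pair.S,
      ∃ u ∈ (unipQ (2 * m) F).subgroupOf (borQ (2 * m) F ⊔ monE (2 * m) F),
      s * u * s⁻¹ ∉ hloc.pair.B := by
    intro s hs
    obtain ⟨i, hi⟩ := hs
    have hx := XD_mem (F := F) hn h4 i 1
    refine ⟨⟨_, Subgroup.mem_sup_left (unipQ_le_borQ hx)⟩, hx, ?_⟩
    intro hcon
    apply conj_XD_not_mem (F := F) hn h4 i
    have h1 : ((s * ⟨_, Subgroup.mem_sup_left (unipQ_le_borQ hx)⟩ * s⁻¹ :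
        ↥(borQ (2 * m) F ⊔ monE (2 * m) F)) : WSU (2 * m) (RingHom.id F)) ∈ borQ (2 * m) F := hcon
    rw [Subgroup.coe_mul, Subgroup.coe_mul, Subgroup.coe_inv, ← hi] at h1
    exact h1.1
  have hUp : IsPGroup 2 ((unipQ (2 * m) F).subgroupOf (borQ (2 * m) F ⊔ monE (2 * m) F)) := by
    have h1 : IsPGroup 2 (unipQ (2 * m) F) :=
      (unip_isPGroup (n := 2 * m) (F := F) (φ := RingHom.id F) 2).to_le inf_le_left
    exact h1.comap_subtype
  have hcardB : Nat.card hloc.pair.B = Nat.card (tor (2 * m) (RingHom.id F)) *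
      Nat.card ((unipQ (2 * m) F).subgroupOf (borQ (2 * m) F ⊔ monE (2 * m) F)) := by
    have h1 : Nat.card hloc.pair.B = Nat.card (borQ (2 * m) F) :=
      Nat.card_congr (Subgroup.subgroupOfEquivOfLe le_sup_left).toEquiv
    have h2 : Nat.card ((unipQ (2 * m) F).subgroupOf (borQ (2 * m) F ⊔ monE (2 * m) F)) =
        Nat.card (unipQ (2 * m) F) :=
      Nat.card_congr (Subgroup.subgroupOfEquivOfLe
        (le_trans unipQ_le_borQ le_sup_left)).toEquiv
    rw [h1, h2, card_borQ]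
  let U : Sylow 2 ↥(borQ (2 * m) F ⊔ monE (2 * m) F) :=
    { toSubgroup := (unipQ (2 * m) F).subgroupOf (borQ (2 * m) F ⊔ monE (2 * m) F)
      isPGroup' := hUp
      is_maximal' := fun {Q} hQ hle =>
        isMax_of_bn hloc.pair 2 _ hUB hUn hsU hUp _ hcardB (not_dvd_card_tor 2) hQ hle }
  have hsqH : SylSq ↥(borQ (2 * m) F ⊔ monE (2 * m) F) := by
    apply sylSq_of_sylow U
    have e : ↥(unipQ (2 * m) F) ≃* ↥(U : Subgroup ↥(borQ (2 * m) F ⊔ monE (2 * m) F)) :=
      (Subgroup.subgroupOfEquivOfLe (le_trans unipQ_le_borQ le_sup_left)).symm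
    exact hsqU.of_equiv e
  -- the transport
  obtain ⟨j, hjinj, hjent, hjdet⟩ := exists_hom_plus (F := F) m
  have hΩ := Omega_le_map m hm2 hex j hjent hjdet
  have hidx := not_dvd_index 2 m hm2 hex hloc j hjinj hjent hΩ
  let jH : ↥(borQ (2 * m) F ⊔ monE (2 * m) F) →* Cfsg.isometryGroup F (Cfsg.quadFormPlus m F) :=
    j.comp (Subgroup.inclusion hHle)
  have hrange : jH.range =
      ((borQ (2 * m) F ⊔ monE (2 * m) F).subgroupOf (soq (2 * m) F)).map j := by
    rw [MonoidHom.range_comp, Subgroup.inclusion_range]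
  have hΩ' : commutator (Cfsg.isometryGroup F (Cfsg.quadFormPlus m F)) ≤ jH.range := by
    rw [hrange]; exact hΩ
  have hidx' : ¬ 2 ∣ ((commutator (Cfsg.isometryGroup F (Cfsg.quadFormPlus m F))).comap jH).index := by
    rw [Subgroup.index_comap, hrange]
    exact hidx
  have hsqC : SylSq ↥((commutator (Cfsg.isometryGroup F (Cfsg.quadFormPlus m F))).comap jH) :=
    SylSq.of_normal_odd_index _ hidx' hsqH
  -- the surjection of the preimage onto `Ω`
  let f : ↥((commutator (Cfsg.isometryGroup F (Cfsg.quadFormPlus m F))).comap jH) →*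
      ↥(commutator (Cfsg.isometryGroup F (Cfsg.quadFormPlus m F))) :=
    jH.subgroupComap (commutator (Cfsg.isometryGroup F (Cfsg.quadFormPlus m F)))
  have hf : Function.Surjective f := by
    rintro ⟨y, hy⟩
    obtain ⟨x, hx⟩ := hΩ' hy
    refine ⟨⟨x, ?_⟩, ?_⟩
    · rw [Subgroup.mem_comap, hx]; exact hy
    · apply Subtype.ext
      exact hx
  exact good_of_sylSq (hsqC.of_surjective f hf)

end Cfsg.Agent.Helper14.SylAb
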