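import Mathlib
import Cfsg.Agent.Lib.Helper14.SylAbOPLUSCore
import Cfsg.Agent.Lib.Helper28.SqWQ

/-!
# S4625 piece OPLUS (helper14): `Good (Ω⁺_{2m}(F))` in characteristic 2.
-/

set_option autoImplicit false
set_option linter.unusedSectionVars false
set_option linter.unusedVariables false

namespace Cfsg.Agent.Helper14.SylAb

open Cfsg

/-- PIECE OPLUS -/
theorem good_OmegaPlus (F : Type*) [Field F] [Fintype F] [CharP F 2] (m : ℕ) (hm : 4 ≤ m) :
    Good (Omega F (quadFormPlus m F)) :=
  sylaboplus_core F m hm (Cfsg.Agent.Helper28.SqW.unipQ_le_closure (by omega))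

end Cfsg.Agent.Helper14.SylAb
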