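import Mathlib
import Cfsg.Agent.Lib.Helper8.InnerExtra
import Cfsg.Agent.Lib.Helper24.TLAPPXCore
import Cfsg.Agent.Lib.Helper12.TC27NORM2
import Cfsg.Agent.Lib.Helper12.TC27SUMZ
import Cfsg.Agent.Lib.Helper14.TC27Defs
import Cfsg.Agent.Lib.Helper14.TC27Core
import Cfsg.Agent.Lib.Helper8.CharExtra
import Cfsg.Agent.Lib.Helper24.CharComplete
import Cfsg.Agent.Lib.Helper24.CharLinear
import Cfsg.Agent.Lib.Helper24.CharInduced
import Cfsg.Agent.Lib.Helper1.TC27NORM
import Cfsg.Agent.Lib.Helper1.TC27INDVAL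
import Cfsg.Agent.Lib.Helper25.TC27CCGEN
import Cfsg.Agent.Lib.Helper18.TC27CLS
import Cfsg.Agent.Lib.Helper18.TC27COUNT
import Cfsg.Agent.Lib.Helper2.TC27SYLCONG
import Cfsg.Agent.Lib.Helper2.TC27UNPACK2
import Cfsg.Agent.Lib.Helper24.TC27CENT
import Cfsg.Agent.Lib.Helper24.TC27CHARS
import Cfsg.Agent.Lib.Helper4.TC27UNPACK1
import Cfsg.Agent.Lib.Helper4.TC27VALS
import Cfsg.Agent.Lib.Helper5.TC27UNPACK3

/-!
# S3701 (helper14): assembly for the `3³ : 2²` configuration
-/

set_option autoImplicit false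
set_option linter.unusedSectionVars false
set_option linter.unusedVariables false

namespace Cfsg.Agent.Helper14.TC27

open Cfsg Cfsg.Agent.Helper24
open scoped ComplexConjugate

universe u v

section Asm

variable {G : Type u} [Group G] [Fintype G] {T : Sylow 3 G}

/-- `θ` is a generalized character -/
theorem asm_isGen (c : Cfg T) (l : Lin c) : IsGeneralizedCharacter G l.θ := by
  refine ⟨indFun (T : Subgroup G) l.μc, indFun (T : Subgroup G) l.νc,
    isCharacter_indFun _ (isCharacter_of_isIrrCharacter (isIrrCharacter_of_monoidHom l.μ)),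
    isCharacter_indFun _ (isCharacter_of_isIrrCharacter (isIrrCharacter_of_monoidHom l.ν)), ?_⟩
  have e : l.δ = l.μc + (-1 : ℂ) • l.νc := by
    ext t
    simp only [Lin.δ, Lin.μc, Lin.νc, Pi.add_apply, Pi.smul_apply, smul_eq_mul]
    ring
  unfold Lin.θ
  rw [e, indFun_add, indFun_smul]
  ext g
  simp only [Pi.add_apply, Pi.smul_apply, Pi.sub_apply, smul_eq_mul]
  ring

theorem asm_theta_one (c : Cfg T) (l : Lin c) : l.θ 1 = 0 := by
  unfold Lin.θ
  rw [indFun_one, l.delta_one, mul_zero]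

/-- the weighted sum against a difference of two irreducible characters -/
theorem asm_sum_diff [Fintype (IrrCharacter G)] (Y Y' : IrrCharacter G) (F : IrrCharacter G → ℂ) :
    ∑ X : IrrCharacter G, classInner ((Y : G → ℂ) - (Y' : G → ℂ)) (X : G → ℂ) * F X = F Y - F Y' := by
  classical
  have h1 : ∀ X : IrrCharacter G, classInner ((Y : G → ℂ) - (Y' : G → ℂ)) (X : G → ℂ) * F X =
      (if Y = X then F X else 0) - (if Y' = X then F X else 0) := by
    intro X
    rw [Cfsg.Agent.Helper8.classInner_sub_left, irr_orthogonality' Y X, irr_orthogonality' Y' X]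
    split_ifs <;> ring
  rw [Finset.sum_congr rfl (fun X _ => h1 X), Finset.sum_sub_distrib, Finset.sum_ite_eq,
    Finset.sum_ite_eq]
  simp

/-- the arithmetic at the end -/
theorem asm_arith (g D n : ℕ) (m : ℤ) (hD : 0 < D) (hg : g = 108 * n) (hn : n ≡ 1 [MOD 27])
    (hm : m * (g : ℤ) = -54 * (D : ℤ)) (hsq : 2 * D ^ 2 ≤ g) : n = 1 := by
  have hgpos : 0 < g := by
    rcases Nat.eq_zero_or_pos g with h0 | h0
    · subst h0
      simp at hm
      omega
    · exact h0
  have hm0 : m ≠ 0 := by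
    intro h0
    rw [h0] at hm
    simp at hm
    omega
  -- g ≤ 54 D
  have hle : (g : ℤ) ≤ 54 * D := by
    have habs : |m| * (g : ℤ) = 54 * D := by
      have := congrArg abs hm
      rw [abs_mul, abs_mul] at this
      simpa [abs_of_nonneg] using this
    have h1 : 1 ≤ |m| := Int.one_le_abs hm0
    nlinarith
  have hle' : g ≤ 54 * D := by exact_mod_cast hle
  have hD27 : D ≤ 27 := by nlinarith
  have hg' : g ≤ 1458 := by omega
  have hn13 : n ≤ 13 := by omega
  have hnpos : 0 < n := by omega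
  unfold Nat.ModEq at hn
  omega


/-- the core: `N_G(T) = G` -/
theorem asm_main (h : Hyp T) (c : Cfg T) :
    Subgroup.normalizer ((T : Subgroup G) : Set G) = ⊤ := by
  classical
  letI : Fintype (IrrCharacter G) := irrFintype
  haveI : Fintype ↥(T : Subgroup G) := Fintype.ofFinite _
  obtain ⟨l⟩ := exists_lin h c
  obtain ⟨φ, hφ⟩ := normalizer_equiv h c
  have hN := card_normalizer h c
  have hval : ∀ t ∈ (T : Subgroup G), t ≠ 1 →
      l.θ t = ∑ i : Fin 4, extendByZero (T : Subgroup G) l.δ ((c.E i)⁻¹ * t * c.E i) :=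
    fun t ht ht1 => indFun_apply_of_mem h c φ hφ l.δ ht ht1
  have hθt1 := theta_t1 h c l hval
  have hθt2 := theta_t2 h c l hval
  have hnorm := norm_theta h c l hval
  obtain ⟨Y0, Y0', hY, hY', hne, hθ⟩ :=
    Cfsg.Agent.Helper8.genChar_norm_two (asm_isGen c l) hnorm (asm_theta_one c l)
  set Y : IrrCharacter G := ⟨Y0, hY⟩ with hYdef
  set Y' : IrrCharacter G := ⟨Y0', hY'⟩ with hY'def
  have hθ' : l.θ = (Y : G → ℂ) - (Y' : G → ℂ) := hθ
  obtain ⟨D, hD0, hD⟩ := irr_one_eq hY
  have hD' : Y0' 1 = D := by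
    have := congrFun hθ 1
    rw [asm_theta_one, Pi.sub_apply, hD] at this
    linear_combination this
  -- the values at t1, t2
  have e1 : Y0 c.t1 = Y0' c.t1 := by
    have := congrFun hθ c.t1
    rw [hθt1, Pi.sub_apply] at this
    linear_combination -this
  have e2 : Y0 c.t2 - Y0' c.t2 = -6 := by
    have := congrFun hθ c.t2
    rw [hθt2, Pi.sub_apply] at this
    exact this.symm
  -- the class constants
  have hC1 := card_centralizer_t1 h c hN
  have hC2 := card_centralizer_t2 h c hN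
  have hc1 : ∀ g : G, g * c.t1 * g⁻¹ ∈ (T : Subgroup G) →
      g * c.t1 * g⁻¹ = c.t1 ∨ g * c.t1 * g⁻¹ = c.t1⁻¹ := fun g hg => conj_t1 h c hg
  have hc2 : ∀ g : G, g * c.t2 * g⁻¹ ∈ (T : Subgroup G) →
      g * c.t2 * g⁻¹ = c.t2 ∨ g * c.t2 * g⁻¹ = c.t2⁻¹ := fun g hg => conj_t2 h c hg
  have hnc := not_isConj_t1_t2 h c
  have hsum := sum_delta_count h c l (54 * 54)
    (fun i j => by rw [count_pos h c hc1 hc2 hnc i j, hC1, hC2])
    (fun z hz hz1 hne => count_zero h c hc1 hc2 hnc hz hz1 hne)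
  have hcc := sum_inner_indFun (T : Subgroup G) l.δ c.t1 c.t2
  rw [hsum] at hcc
  have hcc' : ∑ X : IrrCharacter G, classInner l.θ (X : G → ℂ) *
      ((X : G → ℂ) c.t1 * (X : G → ℂ) c.t2 / (X : G → ℂ) 1) =
      ((Nat.card ↥(T : Subgroup G) : ℂ) * (Nat.card G : ℂ))⁻¹ * (3 * ((54 * 54 : ℕ) : ℂ)) := hcc
  rw [hθ', asm_sum_diff Y Y' (fun X => (X : G → ℂ) c.t1 * (X : G → ℂ) c.t2 / (X : G → ℂ) 1)] at hcc'
  simp only [hYdef, hY'def] at hcc'
  rw [hD, hD', h.card, ← e1] at hcc'
  -- the key equation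
  have hgpos : 0 < Nat.card G := Nat.card_pos
  have hg0 : (Nat.card G : ℂ) ≠ 0 := by exact_mod_cast hgpos.ne'
  have hD0' : (D : ℂ) ≠ 0 := by exact_mod_cast hD0.ne'
  have key : Y0 c.t1 * (Nat.card G : ℂ) = -54 * (D : ℂ) := by
    have e3 : Y0 c.t1 * Y0 c.t2 / (D : ℂ) - Y0 c.t1 * Y0' c.t2 / (D : ℂ) =
        Y0 c.t1 * (-6) / (D : ℂ) := by
      rw [← e2]; ring
    rw [e3] at hcc'
    field_simp at hcc'
    push_cast at hcc'
    linear_combination (-1 / 162 : ℂ) * hcc'
  -- integrality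
  have hint : IsIntegral ℤ (Y0 c.t1) :=
    isIntegral_of_isCharacter (isCharacter_of_isIrrCharacter hY) c.t1
  have hq : Y0 c.t1 = (((-54 * (D : ℚ)) / (Nat.card G : ℚ) : ℚ) : ℂ) := by
    push_cast
    field_simp
    linear_combination key
  obtain ⟨m, hm⟩ := Cfsg.Agent.Helper5.TL.exists_int_of_rat_integral _ hint _ hq
  have hmZ : m * (Nat.card G : ℤ) = -54 * (D : ℤ) := by
    rw [hm] at key
    exact_mod_cast key
  -- the degrees
  have hsq : 2 * D ^ 2 ≤ Nat.card G := by
    rw [← sum_charDegree_sq (G := G)]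
    have hYY' : Y ≠ Y' := by
      intro he
      apply hne
      exact congrArg Subtype.val he
    have hsub : ({Y, Y'} : Finset (IrrCharacter G)) ⊆ Finset.univ := Finset.subset_univ _
    have := Finset.sum_le_sum_of_subset (f := fun χ : IrrCharacter G => charDegree (χ : G → ℂ) ^ 2) hsub
    rw [Finset.sum_pair hYY'] at this
    have d1 : charDegree (Y : G → ℂ) = D := charDegree_natCast D hD
    have d2 : charDegree (Y' : G → ℂ) = D := charDegree_natCast D hD'
    rw [d1, d2] at this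
    linarith
  -- the index
  have hidx := index_normalizer_modEq h
  have hgN : Nat.card G = 108 * (Subgroup.normalizer ((T : Subgroup G) : Set G)).index := by
    rw [← hN, Subgroup.card_mul_index]
  have h1 := asm_arith (Nat.card G) D _ m hD0 hgN hidx hmZ hsq
  exact Subgroup.index_eq_one.mp h1

end Asm

end Cfsg.Agent.Helper14.TC27
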