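import Mathlib
import Cfsg.Agent.Lib.Helper20.TCDefs

/-!
# S3104 piece BURN: a subgroup of `A8` all of whose nonidentity elements are 3-cycles, of order
3, 5, 7 or 9, is generated by a 3-cycle
-/

set_option autoImplicit false

namespace Cfsg.Agent.Helper20.TC

open Cfsg Cfsg.Agent.Helper20.GL4Sub
open scoped Pointwise

namespace BURN

theorem card_fix (σ : Equiv.Perm (Fin 8)) :
    Fintype.card {i : Fin 8 // σ i = i} + σ.support.card = 8 := by
  classical
  rw [Fintype.card_subtype]
  have h : (Finset.univ.filter (fun i : Fin 8 => σ i = i)) = σ.supportᶜ := by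
    ext i
    simp [Equiv.Perm.mem_support]
  rw [h, Finset.card_compl, Fintype.card_fin]
  have := Finset.card_le_univ σ.support
  rw [Fintype.card_fin] at this
  omega

theorem smul_eq (M : Subgroup A8) (m : M) (i : Fin 8) :
    m • i = (((m : A8) : Equiv.Perm (Fin 8))) i := rfl

end BURN

open BURN in
/-- PIECE BURN. -/
theorem eq_zpowers_of_all (M : Subgroup A8) (hM1 : M ≠ ⊥)
    (h3 : ∀ x ∈ M, x ≠ 1 → ((x : A8) : Equiv.Perm (Fin 8)).IsThreeCycle)
    (hcard : Nat.card M = 3 ∨ Nat.card M = 5 ∨ Nat.card M = 7 ∨ Nat.card M = 9) :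
    ∃ x : A8, ((x : A8) : Equiv.Perm (Fin 8)).IsThreeCycle ∧ M = Subgroup.zpowers x := by
  classical
  obtain ⟨⟨x, hxM⟩, hx1'⟩ := Subgroup.ne_bot_iff_exists_ne_one.mp hM1
  have hx1 : x ≠ 1 := fun h => hx1' (Subtype.ext h)
  have hx3 := h3 x hxM hx1
  have hord : orderOf x = 3 := by
    have h1 : orderOf ((x : A8) : Equiv.Perm (Fin 8)) = 3 := hx3.orderOf
    rw [← h1]
    exact (Subgroup.orderOf_coe x).symm
  have hdvd : 3 ∣ Nat.card M := by
    have h1 : orderOf (⟨x, hxM⟩ : M) = 3 := by
      rw [← hord]
      exact (Subgroup.orderOf_mk x hxM)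
    rw [← h1]
    exact orderOf_dvd_natCard _
  have hle : Subgroup.zpowers x ≤ M := (Subgroup.zpowers_le).mpr hxM
  have hz : Nat.card (Subgroup.zpowers x) = 3 := by rw [Nat.card_zpowers, hord]
  refine ⟨x, hx3, ?_⟩
  rcases hcard with h | h | h | h
  · -- card 3
    symm
    apply Subgroup.eq_of_le_of_card_ge hle
    rw [h, hz]
  · omega
  · omega
  · -- card 9: Burnside's count
    exfalso
    haveI : Fintype M := Fintype.ofFinite M
    have hB := MulAction.sum_card_fixedBy_eq_card_orbits_mul_card_group (↥M) (Fin 8)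
    have hcardM : Fintype.card M = 9 := by rw [← Nat.card_eq_fintype_card]; exact h
    have hval : ∀ m : M, Fintype.card (MulAction.fixedBy (Fin 8) m) = 5 + (if m = 1 then 3 else 0) := by
      intro m
      have hc := card_fix (((m : A8) : Equiv.Perm (Fin 8)))
      have he : Fintype.card (MulAction.fixedBy (Fin 8) m) =
          Fintype.card {i : Fin 8 // (((m : A8) : Equiv.Perm (Fin 8))) i = i} := by
        apply Fintype.card_congr
        exact Equiv.subtypeEquivRight (fun i => by
          rw [MulAction.mem_fixedBy, smul_eq])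
      rw [he]
      by_cases hm : m = 1
      · rw [if_pos hm]
        rw [hm] at hc
        have : (((( 1 : M) : A8) : A8) : Equiv.Perm (Fin 8)) = 1 := rfl
        rw [this, Equiv.Perm.support_one, Finset.card_empty] at hc
        rw [hm, this]
        omega
      · rw [if_neg hm]
        have hm1 : (m : A8) ≠ 1 := fun hh => hm (Subtype.ext hh)
        have h3c := h3 (m : A8) m.2 hm1
        rw [h3c.card_support] at hc
        omega
    rw [Finset.sum_congr rfl (fun m _ => hval m), Finset.sum_add_distrib, Finset.sum_const,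
      Finset.card_univ, hcardM, Finset.sum_ite_eq' Finset.univ (1 : M) (fun _ => 3)] at hB
    simp only [Finset.mem_univ, if_true, smul_eq_mul] at hB
    omega
  
end Cfsg.Agent.Helper20.TC
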