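import Mathlib
import Cfsg.Agent.Lib.Helper20.TCDefs

/-!
# S3104 piece E16B: `5 ∤ |Aut V|` for an elementary abelian 2-group `V` of order `≤ 8`
-/

set_option autoImplicit false

namespace Cfsg.Agent.Helper20.TC

open Cfsg Cfsg.Agent.Helper20.GL4Sub
open scoped Pointwise

namespace E16B

/-- the fixed points of an automorphism, as a subgroup -/
def fixSub {V : Type*} [Group V] (φ : MulAut V) : Subgroup V where
  carrier := {v | φ v = v}
  one_mem' := map_one φ
  mul_mem' := by
    intro a b ha hb
    simp only [Set.mem_setOf_eq] at ha hb ⊢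
    rw [map_mul, ha, hb]
  inv_mem' := by
    intro a ha
    simp only [Set.mem_setOf_eq] at ha ⊢
    rw [map_inv, ha]

theorem pow_fix {V : Type*} [Group V] (φ : MulAut V) {v : V} (h : φ v = v) (n : ℕ) :
    (φ ^ n) v = v := by
  induction n with
  | zero => simp
  | succ k ih => rw [pow_succ, MulAut.mul_apply, h, ih]

theorem card_pow_two {V : Type*} [Group V] [Finite V] (he : ∀ a : V, a ^ 2 = 1) (h8 : Nat.card V ≤ 8) :
    Nat.card V = 1 ∨ Nat.card V = 2 ∨ Nat.card V = 4 ∨ Nat.card V = 8 := by
  have hp : IsPGroup 2 V := by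
    intro a
    exact ⟨1, by rw [pow_one]; exact he a⟩
  obtain ⟨n, hn⟩ := (IsPGroup.iff_card (p := 2) (G := V)).mp hp
  rw [hn] at h8 ⊢
  have hn3 : n ≤ 3 := by
    by_contra hlt
    have : 2 ^ 4 ≤ 2 ^ n := Nat.pow_le_pow_right (by norm_num) (by omega)
    omega
  interval_cases n <;> simp

end E16B

open E16B in
/-- PIECE E16B. -/
theorem five_not_dvd_aut {V : Type*} [Group V] [Finite V] (hc : ∀ a b : V, a * b = b * a)
    (he : ∀ a : V, a ^ 2 = 1) (h8 : Nat.card V ≤ 8) : ¬ 5 ∣ Nat.card (MulAut V) := by
  classical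
  intro h5
  haveI : Fact (Nat.Prime 5) := ⟨by norm_num⟩
  obtain ⟨φ, hφ⟩ := exists_prime_orderOf_dvd_card' (G := MulAut V) 5 h5
  -- the subgroup generated by `φ` is a 5-group acting on `V`
  have hP : IsPGroup 5 (Subgroup.zpowers φ) := by
    apply IsPGroup.of_card (n := 1)
    rw [Nat.card_zpowers, hφ, pow_one]
  have hmod := hP.card_modEq_card_fixedPoints V
  -- the fixed points are the subgroup `fixSub φ`
  have hfix : (MulAction.fixedPoints (Subgroup.zpowers φ) V) = ((fixSub φ : Subgroup V) : Set V) := by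
    ext v
    constructor
    · intro hv
      have := hv ⟨φ, Subgroup.mem_zpowers φ⟩
      exact this
    · intro hv
      rintro ⟨ψ, hψ⟩
      obtain ⟨k, rfl⟩ := Subgroup.mem_zpowers_iff.mp hψ
      have hv' : φ v = v := hv
      change (φ ^ k) v = v
      -- reduce to natural powers using the finite order
      have hk : φ ^ k = φ ^ (k % 5).toNat := by
        have h5' : φ ^ (5 : ℤ) = 1 := by
          have := pow_orderOf_eq_one φ
          rw [hφ] at this
          exact_mod_cast this
        have hmod5 : k = 5 * (k / 5) + k % 5 := (Int.mul_ediv_add_emod k 5).symm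
        have hnn : 0 ≤ k % 5 := Int.emod_nonneg k (by norm_num)
        conv_lhs => rw [hmod5]
        rw [zpow_add, zpow_mul, h5', one_zpow, one_mul]
        conv_lhs => rw [← Int.toNat_of_nonneg hnn]
        rw [zpow_natCast]
      rw [hk]
      exact pow_fix φ hv' _
  have hcardfix : Nat.card (MulAction.fixedPoints (Subgroup.zpowers φ) V) = Nat.card (fixSub φ) := by
    rw [hfix]
    rfl
  rw [hcardfix] at hmod
  have hdvd : Nat.card (fixSub φ) ∣ Nat.card V := Subgroup.card_subgroup_dvd_card _
  have hV := card_pow_two he h8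
  have hle : Nat.card (fixSub φ) ≤ Nat.card V := Nat.le_of_dvd Nat.card_pos hdvd
  have hpos : 0 < Nat.card (fixSub φ) := Nat.card_pos
  have heq : Nat.card (fixSub φ) = Nat.card V := by
    unfold Nat.ModEq at hmod
    rcases hV with h | h | h | h <;> rw [h] at hmod hdvd hle ⊢
    · omega
    · have : Nat.card (fixSub φ) = 1 ∨ Nat.card (fixSub φ) = 2 := by
        have := (Nat.dvd_prime Nat.prime_two).mp hdvd
        exact this
      omega
    · have h4 : Nat.card (fixSub φ) ∈ Nat.divisors 4 := Nat.mem_divisors.mpr ⟨hdvd, by norm_num⟩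
      have hd : Nat.divisors 4 = {1, 2, 4} := by decide
      rw [hd] at h4
      simp only [Finset.mem_insert, Finset.mem_singleton] at h4
      omega
    · have h4 : Nat.card (fixSub φ) ∈ Nat.divisors 8 := Nat.mem_divisors.mpr ⟨hdvd, by norm_num⟩
      have hd : Nat.divisors 8 = {1, 2, 4, 8} := by decide
      rw [hd] at h4
      simp only [Finset.mem_insert, Finset.mem_singleton] at h4
      omega
  have htop : fixSub φ = ⊤ := Subgroup.eq_top_of_card_eq _ heq
  have hφ1 : φ = 1 := by
    ext v
    have : v ∈ fixSub φ := by rw [htop]; exact Subgroup.mem_top v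
    exact this
  rw [hφ1, orderOf_one] at hφ
  norm_num at hφ

end Cfsg.Agent.Helper20.TC
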