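import Mathlib
import Cfsg.Agent.Lib.Helper20.TCDefs
import Cfsg.Agent.Lib.Helper4.GL4SubIDX8

/-!
# S3104 piece S7: `Perm (Fin 7)` does not embed in `A8`
-/

set_option autoImplicit false

namespace Cfsg.Agent.Helper20.TC

open Cfsg Cfsg.Agent.Helper20.GL4Sub
open scoped Pointwise

/-- PIECE S7. -/
theorem no_S7 (f : Equiv.Perm (Fin 7) →* A8) : ¬ Function.Injective f := by
  intro hf
  have hcard : Nat.card f.range = 5040 := by
    have e : Equiv.Perm (Fin 7) ≃ f.range := (MonoidHom.ofInjective hf).toEquiv
    rw [← Nat.card_congr e, Nat.card_eq_fintype_card, Fintype.card_perm, Fintype.card_fin]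
    decide
  have hmul := Subgroup.card_mul_index f.range
  rw [hcard, card_A8] at hmul
  have hidx : f.range.index = 4 := by omega
  have hne : f.range ≠ ⊤ := by
    intro h
    rw [h, Subgroup.index_top] at hidx
    omega
  have h8 := idx8 f.range hne
  omega

end Cfsg.Agent.Helper20.TC
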