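import Mathlib
import Cfsg.Agent.Lib.Helper2.TIHDefs
import Cfsg.Agent.Lib.Helper24.TIHOPI
import Cfsg.Agent.S4115

/-!
# S4118 piece FROBC (helper14): `H` is isomorphic to a Frobenius complement
(S4115 applied inside `piCore H ⊔ H`).
-/

set_option autoImplicit false

namespace Cfsg.Agent.Helper2.TIH

open Cfsg

universe u

theorem exists_frobenius_model {G : Type u} [Group G] [Finite G] (H : Subgroup G)
    (hTI : IsTISubset (H : Set G)) (hnn : ¬ H.Normal)
    (hHall : (Nat.card H).Coprime (H.subgroupOf (Subgroup.normalizer (H : Set G))).index)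
    (hA : piCore H ⊔ Subgroup.normalizer (H : Set G) = ⊤) :
    HasFrobModel.{u, u} H := by
  haveI hOn : (piCore H).Normal := piCore_normal H
  have hOc := piCore_coprime H
  have hHL : H ≤ piCore H ⊔ H := le_sup_right
  have hOL : piCore H ≤ piCore H ⊔ H := le_sup_left
  -- normalizer inside `L`
  have hnorm : (Subgroup.normalizer (H : Set G)).subgroupOf (piCore H ⊔ H) =
      Subgroup.normalizer ((H.subgroupOf (piCore H ⊔ H) : Subgroup ↥(piCore H ⊔ H)) :
        Set ↥(piCore H ⊔ H)) :=
    Subgroup.subgroupOf_normalizer_eq hHL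
  -- TI in `L`
  have hTIL : IsTISubset ((H.subgroupOf (piCore H ⊔ H) : Subgroup ↥(piCore H ⊔ H)) :
      Set ↥(piCore H ⊔ H)) := by
    intro g hg x hx hgx
    have hg' : (g : G) ∉ Subgroup.normalizer (H : Set G) := by
      intro h
      apply hg
      rw [← hnorm]
      exact Subgroup.mem_subgroupOf.2 h
    have hx' : (x : G) ∈ H := Subgroup.mem_subgroupOf.1 hx
    have hgx' : (g : G) * (x : G) * (g : G)⁻¹ ∈ H := by
      have := Subgroup.mem_subgroupOf.1 hgx
      simpa using this
    have := hTI (g : G) hg' (x : G) hx' hgx'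
    exact Subtype.ext this
  -- Hall in the normalizer inside `L`
  have hHallL : (Nat.card (H.subgroupOf (piCore H ⊔ H))).Coprime
      ((H.subgroupOf (piCore H ⊔ H)).subgroupOf (Subgroup.normalizer
        ((H.subgroupOf (piCore H ⊔ H) : Subgroup ↥(piCore H ⊔ H)) :
          Set ↥(piCore H ⊔ H)))).index := by
    rw [Nat.card_congr (Subgroup.subgroupOfEquivOfLe hHL).toEquiv]
    change (Nat.card H).Coprime ((H.subgroupOf (piCore H ⊔ H)).relIndex _)
    rw [← hnorm, ← Subgroup.inf_subgroupOf_right (Subgroup.normalizer (H : Set G)) (piCore H ⊔ H),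
      Subgroup.relIndex_subgroupOf (inf_le_right : Subgroup.normalizer (H : Set G) ⊓
        (piCore H ⊔ H) ≤ piCore H ⊔ H)]
    have hle1 : H ≤ Subgroup.normalizer (H : Set G) ⊓ (piCore H ⊔ H) :=
      le_inf Subgroup.le_normalizer hHL
    have hmul := Subgroup.relIndex_mul_relIndex H
      (Subgroup.normalizer (H : Set G) ⊓ (piCore H ⊔ H)) (Subgroup.normalizer (H : Set G))
      hle1 inf_le_left
    exact Nat.Coprime.coprime_dvd_right (Dvd.intro _ hmul) hHall
  -- not normal in `L`
  have hnnL : ¬ (H.subgroupOf (piCore H ⊔ H)).Normal := by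
    intro hn
    apply hnn
    have hON : piCore H ≤ Subgroup.normalizer (H : Set G) := by
      intro o ho
      have h1 : (⟨o, hOL ho⟩ : ↥(piCore H ⊔ H)) ∈ Subgroup.normalizer
          ((H.subgroupOf (piCore H ⊔ H) : Subgroup ↥(piCore H ⊔ H)) :
            Set ↥(piCore H ⊔ H)) := by
        rw [Subgroup.normalizer_eq_top_iff.2 hn]
        trivial
      rw [← hnorm] at h1
      exact Subgroup.mem_subgroupOf.1 h1
    rw [sup_eq_right.2 hON] at hA
    exact Subgroup.normalizer_eq_top_iff.1 hA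
  -- the normal complement `O` of `H` in `L`
  have hcompl : ((piCore H).subgroupOf (piCore H ⊔ H)).IsComplement'
      (H.subgroupOf (piCore H ⊔ H)) := by
    apply Subgroup.isComplement'_of_disjoint_and_mul_eq_univ
    · rw [Subgroup.disjoint_def]
      intro x hxO hxH
      have h1 : (x : G) ∈ piCore H ⊓ H :=
        ⟨Subgroup.mem_subgroupOf.1 hxO, Subgroup.mem_subgroupOf.1 hxH⟩
      rw [Subgroup.inf_eq_bot_of_coprime hOc, Subgroup.mem_bot] at h1
      exact Subtype.ext h1
    · rw [Set.eq_univ_iff_forall]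
      intro x
      have hx : (x : G) ∈ ((piCore H ⊔ H : Subgroup G) : Set G) := x.2
      rw [Subgroup.normal_mul] at hx
      obtain ⟨o, ho, h, hh, hoh⟩ := Set.mem_mul.1 hx
      refine Set.mem_mul.2 ⟨⟨o, hOL ho⟩, ?_, ⟨h, hHL hh⟩, ?_, ?_⟩
      · exact Subgroup.mem_subgroupOf.2 ho
      · exact Subgroup.mem_subgroupOf.2 hh
      · exact Subtype.ext hoh
  have h4115 := Cfsg.Agent.S4115.result (H.subgroupOf (piCore H ⊔ H)) hTIL hHallL
  obtain ⟨F, instG, instF, C, hC, ⟨e⟩⟩ :=
    h4115.2 hnnL (h4115.1.2 ⟨(piCore H).subgroupOf (piCore H ⊔ H), inferInstance, hcompl⟩)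
  exact ⟨F, instG, instF, C, hC, ⟨(Subgroup.subgroupOfEquivOfLe hHL).symm.trans e⟩⟩

end Cfsg.Agent.Helper2.TIH
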