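import Mathlib
import Cfsg.Agent.Lib.Helper2.TIHDefs
import Cfsg.Agent.S0039
import Cfsg.Agent.S0040
import Cfsg.Agent.Lib.Helper2.OTFROB

/-!
# S4118 piece HSYL (helper14): Sylow subgroups of a group isomorphic to a Frobenius complement
are cyclic or generalized quaternion.
-/

set_option autoImplicit false

namespace Cfsg.Agent.Helper2.TIH

open Cfsg

universe u

theorem sylow_cyclic_or_quaternion {H : Type*} [Group H] [Finite H] (hF : HasFrobModel.{u} H)
    (p : ℕ) [Fact p.Prime] (P : Sylow p H) :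
    IsCyclic P ∨ ∃ n : ℕ, Nonempty (P ≃* QuaternionGroup (2 ^ n)) := by
  obtain ⟨F, instG, instF, C, hC, ⟨e⟩⟩ := hF
  obtain ⟨N, -, hNn, hNC, -, hNcard⟩ := Cfsg.Agent.Helper2.OT.FROB.exists_kernel C hC
  haveI := hNn
  have hN1 : N ≠ ⊥ := by
    intro h
    rw [h, Subgroup.card_bot] at hNcard
    exact hC.2.1 (Subgroup.index_eq_one.1 hNcard.symm)
  have hfpf := (Cfsg.Agent.S0039.result N C hNC hN1 hC.1).1 hC
  -- transport the Sylow subgroup
  let Q : Sylow p C := P.comapOfInjective e.symm.toMonoidHom e.symm.injective (by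
    intro x _
    exact ⟨e x, e.symm_apply_apply x⟩)
  have hQ : (Q : Subgroup C) = (P : Subgroup H).comap e.symm.toMonoidHom :=
    Sylow.coe_comapOfInjective _ _ _ _
  have hQ' : (Q : Subgroup C) = (P : Subgroup H).map e.toMonoidHom :=
    hQ.trans (Subgroup.map_equiv_eq_comap_symm e (P : Subgroup H)).symm
  let φ : (Q : Subgroup C) ≃* (P : Subgroup H) :=
    (MulEquiv.subgroupCongr hQ').trans (e.subgroupMap (P : Subgroup H)).symm
  rcases Cfsg.Agent.S0040.result N C hNC hN1 hfpf p Q with hcyc | ⟨n, ⟨ψ⟩⟩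
  · left
    haveI := hcyc
    exact isCyclic_of_surjective φ φ.surjective
  · right
    exact ⟨n, ⟨φ.symm.trans ψ⟩⟩

end Cfsg.Agent.Helper2.TIH
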