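import Mathlib
import Cfsg.Agent.Lib.Helper26.TIDefs2
import Cfsg.Agent.Lib.Helper19.TILEMA
import Cfsg.Agent.Lib.Helper27.TIPHI2

/-!
# S1786 piece TI-NORMW (design helper26): `Cfg8.H_le_norm` and `Cfg1.existsUnique_component`.
-/

set_option autoImplicit false

namespace Cfsg.Agent.Helper26.TI

variable {G : Type*} [Group G] {V P A PA U U' : Subgroup G}

/-- a subgroup all of whose elements conjugate `W` into itself normalizes `W`. -/
theorem tinormw_le_normalizer {K W : Subgroup G}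
    (h : ∀ g ∈ K, ∀ w ∈ W, g * w * g⁻¹ ∈ W) : K ≤ Subgroup.normalizer ((W : Subgroup G) : Set G) := by
  intro g hg
  rw [Subgroup.mem_normalizer_iff]
  intro w
  constructor
  · intro hw
    exact h g hg w hw
  · intro hw
    have := h g⁻¹ (K.inv_mem hg) _ hw
    simpa [mul_assoc] using this

/-- an element of `P` conjugates `V ⊔ A` into itself (only `Loc V P` and `A ≤ P` are used). -/
theorem tinormw_conj_mem (hL : Loc V P) (hA : A ≤ P) {x : G} (hx : x ∈ P) :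
    ∀ w ∈ V ⊔ A, x * w * x⁻¹ ∈ V ⊔ A := by
  have hle : V ⊔ A ≤ (V ⊔ A).comap (MulAut.conj x).toMonoidHom := by
    refine sup_le ?_ ?_
    · intro v hv
      rw [Subgroup.mem_comap]
      have h1 : x * v * x⁻¹ = v := by
        rw [hL.cent x hx v hv]; group
      change (MulAut.conj x) v ∈ V ⊔ A
      rw [MulAut.conj_apply, h1]
      exact Subgroup.mem_sup_left hv
    · intro a ha
      rw [Subgroup.mem_comap]
      change (MulAut.conj x) a ∈ V ⊔ A
      rw [MulAut.conj_apply]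
      have h1 : x * a * x⁻¹ = (x * a * x⁻¹ * a⁻¹) * a := by group
      rw [h1]
      exact Subgroup.mul_mem _ (Subgroup.mem_sup_left (hL.comm x hx a (hA ha)))
        (Subgroup.mem_sup_right ha)
  intro w hw
  have := hle hw
  rw [Subgroup.mem_comap] at this
  change (MulAut.conj x) w ∈ V ⊔ A at this
  rwa [MulAut.conj_apply] at this

/-- TI-NORMW. -/
theorem Cfg8.H_le_norm (h : Cfg8 V P A PA U U') :
    P ⊔ PA ≤ Subgroup.normalizer ((V ⊔ A : Subgroup G) : Set G) := by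
  refine sup_le ?_ ?_
  · exact tinormw_le_normalizer (fun g hg w hw =>
      tinormw_conj_mem h.left.loc h.left.le hg w hw)
  · have hsw : (A ⊔ V : Subgroup G) = V ⊔ A := sup_comm _ _
    refine tinormw_le_normalizer (fun g hg w hw => ?_)
    have := tinormw_conj_mem h.right.loc h.right.le hg w (by rw [hsw]; exact hw)
    rwa [hsw] at this

/-- every element of `V ⊔ A` is a product `v * a`. -/
theorem tinormw_mem_sup (hL : Loc V P) (hA : A ≤ P) {w : G} (hw : w ∈ V ⊔ A) :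
    ∃ v ∈ V, ∃ a ∈ A, w = v * a := by
  have hcomm : ∀ v ∈ V, ∀ a ∈ A, a * v = v * a := fun v hv a ha => hL.cent a (hA ha) v hv
  let K : Subgroup G :=
    { carrier := {w | ∃ v ∈ V, ∃ a ∈ A, w = v * a}
      one_mem' := ⟨1, V.one_mem, 1, A.one_mem, by simp⟩
      mul_mem' := by
        rintro _ _ ⟨v1, hv1, a1, ha1, rfl⟩ ⟨v2, hv2, a2, ha2, rfl⟩
        refine ⟨v1 * v2, V.mul_mem hv1 hv2, a1 * a2, A.mul_mem ha1 ha2, ?_⟩
        calc v1 * a1 * (v2 * a2) = v1 * (a1 * v2) * a2 := by group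
          _ = v1 * (v2 * a1) * a2 := by rw [hcomm v2 hv2 a1 ha1]
          _ = v1 * v2 * (a1 * a2) := by group
      inv_mem' := by
        rintro _ ⟨v1, hv1, a1, ha1, rfl⟩
        refine ⟨v1⁻¹, V.inv_mem hv1, a1⁻¹, A.inv_mem ha1, ?_⟩
        rw [mul_inv_rev, hcomm v1⁻¹ (V.inv_mem hv1) a1⁻¹ (A.inv_mem ha1)] }
  have hle : V ⊔ A ≤ K := by
    refine sup_le ?_ ?_
    · intro v hv
      exact ⟨v, hv, 1, A.one_mem, by simp⟩
    · intro a ha
      exact ⟨1, V.one_mem, a, ha, by simp⟩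
  exact hle hw

/-- TI-PART: statement (b) of the theorem. -/
theorem Cfg1.existsUnique_component [Finite G] (h : Cfg1 V P A PA U) :
    ∀ w ∈ V ⊔ A, w ≠ 1 → ∃! U0 : Subgroup G, (∃ x : G, U0 = cj x V) ∧ U0 ≤ V ⊔ A ∧ w ∈ U0 := by
  intro w hw hw1
  have huniq : ∀ U1 U2 : Subgroup G, (∃ x : G, U1 = cj x V) → w ∈ U1 →
      (∃ x : G, U2 = cj x V) → w ∈ U2 → U1 = U2 := by
    rintro _ _ ⟨x1, rfl⟩ h1 ⟨x2, rfl⟩ h2
    by_contra hne
    have hbot := h.loc.base.inf_eq_bot hne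
    have : w ∈ cj x1 V ⊓ cj x2 V := ⟨h1, h2⟩
    rw [hbot, Subgroup.mem_bot] at this
    exact hw1 this
  obtain ⟨v, hv, a, ha, rfl⟩ := tinormw_mem_sup h.loc h.le hw
  by_cases ha1 : a = 1
  · subst ha1
    refine ⟨V, ⟨⟨1, (cj_one V).symm⟩, le_sup_left, by simpa using hv⟩, ?_⟩
    rintro U2 ⟨hU2, -, hwU2⟩
    exact huniq U2 V hU2 hwU2 ⟨1, (cj_one V).symm⟩ (by simpa using hv)
  · obtain ⟨u, hu, hmem⟩ := h.partition hv ha ha1
    obtain ⟨g, hAg, -⟩ := h.conj
    have hconj : ∃ x : G, cj u A = cj x V := ⟨u * g, by rw [hAg, cj_cj]⟩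
    have hle : cj u A ≤ V ⊔ A := by
      intro y hy
      obtain ⟨b, hb, rfl⟩ := mem_cj.1 hy
      exact tinormw_conj_mem h.loc h.le (h.U_le hu) b (Subgroup.mem_sup_right hb)
    refine ⟨cj u A, ⟨hconj, hle, hmem⟩, ?_⟩
    rintro U2 ⟨hU2, -, hwU2⟩
    exact huniq U2 (cj u A) hU2 hwU2 hconj hmem

end Cfsg.Agent.Helper26.TI
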