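import Mathlib
import Cfsg.Agent.Lib.Helper14.ThompsonA
import Cfsg.Agent.Lib.Helper1.ThompsonNPCFinal
import Cfsg.Agent.Lib.Helper9.ThompsonRepl

set_option autoImplicit false

/-! Thompson's normal `p`-complement theorem for the abelian version of the Thompson subgroup:
the common part of the final contradiction (after Helper1's `final_contradiction`). -/

namespace Cfsg.Agent.Helper14.TNA

universe u

open Cfsg Cfsg.Agent.Helper10 Cfsg.Agent.Helper4.NPCB Cfsg.Agent.Helper4.GT
  Cfsg.Agent.Helper1.TNPC Cfsg.Agent.Helper4.ZJ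
open scoped commutatorElement

section repl

variable {G : Type u} [Group G] [Finite G]

/-- Thompson's replacement theorem, for the abelian subgroups of largest order of a nilpotent
subgroup `P` of `G`. -/
theorem thompson_replacement_sub (P : Subgroup G) [hnil : Group.IsNilpotent ↥P] {A : Subgroup G}
    (hA : A ∈ famA P) (B : Subgroup G) (hBP : B ≤ P)
    (hBc : ∀ b ∈ B, ∀ b' ∈ B, b * b' = b' * b)
    (hnorm : A ≤ Subgroup.normalizer (B : Set G))
    (hBA : ¬ B ≤ Subgroup.normalizer (A : Set G)) :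
    ∃ A' ∈ famA P, A ⊓ B < A' ⊓ B ∧ A' ≤ Subgroup.normalizer (A : Set G) := by
  obtain ⟨A₀, hA₀, rfl⟩ := hA
  simp only at hnorm hBA ⊢
  set B₀ : Subgroup ↥P := B.subgroupOf P with hB₀
  have hinj := P.subtype_injective
  have hB₀map : B₀.map P.subtype = B := by
    rw [hB₀, Subgroup.subgroupOf_map_subtype]; exact inf_eq_left.2 hBP
  have hB₀c : ∀ b ∈ B₀, ∀ b' ∈ B₀, b * b' = b' * b := by
    intro b hb b' hb'
    apply Subtype.ext
    exact hBc _ (Subgroup.mem_subgroupOf.mp hb) _ (Subgroup.mem_subgroupOf.mp hb')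
  have hnorm₀ : ∀ a ∈ A₀, ∀ b ∈ B₀, a * b * a⁻¹ ∈ B₀ := by
    intro a ha b hb
    rw [hB₀, Subgroup.mem_subgroupOf] at hb ⊢
    have h1 := hnorm (Subgroup.mem_map_of_mem P.subtype ha)
    rw [Subgroup.mem_normalizer_iff] at h1
    simpa using (h1 _).mp hb
  have hBA₀ : ¬ B₀ ≤ Subgroup.normalizer (A₀ : Set ↥P) := by
    intro h
    apply hBA
    intro b hb
    have hb₀ : (⟨b, hBP hb⟩ : ↥P) ∈ B₀ := Subgroup.mem_subgroupOf.mpr hb
    have h1 := h hb₀
    have h2 := Subgroup.le_normalizer_map P.subtype (Subgroup.mem_map_of_mem P.subtype h1)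
    simpa using h2
  obtain ⟨As, hAs, hlt, hAsN⟩ :=
    Cfsg.Agent.Helper9.thompson_replacement hA₀ B₀ hB₀c hnorm₀ hBA₀
  refine ⟨As.map P.subtype, ⟨As, hAs, rfl⟩, ?_, ?_⟩
  · have h1 : (A₀ ⊓ B₀).map P.subtype = A₀.map P.subtype ⊓ B := by
      rw [Subgroup.map_inf _ _ _ hinj, hB₀map]
    have h2 : (As ⊓ B₀).map P.subtype = As.map P.subtype ⊓ B := by
      rw [Subgroup.map_inf _ _ _ hinj, hB₀map]
    rw [← h1, ← h2]
    exact (Subgroup.map_lt_map_iff_of_injective hinj).mpr hlt
  · intro x hx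
    obtain ⟨x₀, hx₀, rfl⟩ := hx
    exact Subgroup.le_normalizer_map P.subtype (Subgroup.mem_map_of_mem P.subtype (hAsN hx₀))

end repl

section final

variable {G : Type u} [Group G] [Finite G] {p : ℕ} [hpp : Fact p.Prime]

/-- The common part of the final contradiction: in a minimal counterexample, with
`V = Ω₁(Z(O_p(G)))`, we have `C_G(V) = O_p(G)` and some abelian subgroup `A` of `P` of largest
order is not contained in `O_p(G)` and is normalized by `V`. -/
theorem final_common (P : Sylow p G) (hnot : ¬ NPC p G)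
    (hP : HypA p G (P : Subgroup G))
    (hE : ∀ L : Subgroup G, (P : Subgroup G) ≤ L → L ≠ ⊤ → L ≤ P)
    (hcent : Subgroup.centralizer (pCore p G : Set G) ≤ pCore p G)
    (M : Subgroup G) (st : Cfsg.Agent.Helper4.QS.Struc p G (pCore p G) M) :
    Subgroup.centralizer (omegaZ p (pCore p G) : Set G) = pCore p G ∧
    ∃ A ∈ famA (P : Subgroup G), ¬ A ≤ pCore p G ∧
      omegaZ p (pCore p G) ≤ Subgroup.normalizer (A : Set G) := by
  set H := pCore p G with hH
  have hHn : H.Normal := st.hHn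
  have hMn : M.Normal := st.hMn
  have hHp : IsPGroup p H := st.hHp
  have hHP : H ≤ P := Cfsg.Agent.Helper23.PSolv.pCore_le_sylow P
  have hGp : ¬ IsPGroup p G := fun h => hnot (npc_of_isPGroup h)
  have hPtop : ¬ (⊤ : Subgroup G) ≤ P := by
    intro h
    apply hGp
    have h1 := P.2
    rw [top_le_iff.mp h] at h1
    exact h1.of_equiv Subgroup.topEquiv
  have hNJ : Subgroup.normalizer (Cfsg.thompsonSubgroupAOf (P : Subgroup G) : Set G) ≤ P := by
    apply hE _ (Subgroup.le_normalizer.trans (normalizer_le_jA _))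
    intro h
    have h1 := hP.1
    rw [h] at h1
    exact hnot (npc_top_iff.mp h1)
  have hCZ : Subgroup.centralizer (zOf (P : Subgroup G) : Set G) ≤ P := by
    apply hE
    · intro x hx
      rw [Subgroup.mem_centralizer_iff]
      intro z hz
      exact ((mem_zOf.mp hz).2 x hx).symm
    · intro h
      have h1 := hP.2
      rw [h] at h1
      exact hnot (npc_top_iff.mp h1)
  have hMp : ¬ IsPGroup p M := by
    intro h
    apply hGp
    obtain ⟨k, hk⟩ := st.hidx
    obtain ⟨j, hj⟩ := IsPGroup.iff_card.mp h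
    rw [IsPGroup.iff_card]
    refine ⟨j + k, ?_⟩
    rw [← M.card_mul_index, hj, hk, pow_add]
  have hZPH : zOf (P : Subgroup G) ≤ zOf H := by
    intro z hz
    obtain ⟨hz1, hz2⟩ := mem_zOf.mp hz
    have hzH : z ∈ H := by
      apply hcent
      rw [Subgroup.mem_centralizer_iff]
      intro h hh
      exact hz2 h (hHP hh)
    exact mem_zOf.mpr ⟨hzH, fun r hr => hz2 r (hHP hr)⟩
  set V := omegaZ p H with hV
  have hVn : V.Normal := omegaZ_normal p H
  have hVe : Cfsg.IsElementaryAbelian p V := omegaZ_isElementaryAbelian p H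
  have hVH : V ≤ H := (omegaZ_le_zOf p H).trans (zOf_le H)
  have hVp : IsPGroup p V := hHp.to_le hVH
  set C := Subgroup.centralizer (V : Set G) with hC
  have hCn : C.Normal := inferInstance
  have hHC : H ≤ C := by
    intro x hx
    rw [hC, Subgroup.mem_centralizer_iff]
    intro v hv
    exact ((mem_zOf.mp hv.1).2 x hx).symm
  have hzn : (zOf H).Normal := zOf_normal H
  have hMC : M ⊓ C = H := by
    rcases st.hchief (M ⊓ C) inferInstance (le_inf st.hHM hHC) inf_le_left with h | h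
    · exact h
    · exfalso
      have hMleC : M ≤ C := by rw [← h]; exact inf_le_right
      apply hMp
      rintro ⟨m, hm⟩
      obtain ⟨a, b, hb, hab⟩ := Nat.exists_eq_pow_mul_and_not_dvd (orderOf_pos m).ne' p
        hpp.out.ne_one
      have hxord : orderOf (m ^ p ^ a) = b := by
        rw [orderOf_pow_of_dvd (pow_ne_zero a hpp.out.ne_zero) (hab ▸ dvd_mul_right _ _), hab,
          Nat.mul_div_cancel_left _ (pow_pos hpp.out.pos a)]
      have hxo : (orderOf (m ^ p ^ a)).Coprime p := by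
        rw [hxord]
        exact ((Nat.Prime.coprime_iff_not_dvd hpp.out).mpr hb).symm
      have hxM : m ^ p ^ a ∈ M := M.pow_mem hm _
      have hxC : m ^ p ^ a ∈ C := hMleC hxM
      have hcen : ∀ b ∈ zOf H, (m ^ p ^ a) * b * (m ^ p ^ a)⁻¹ = b := by
        intro b hb
        obtain ⟨k, hk⟩ := hHp ⟨b, zOf_le H hb⟩
        have hk' : b ^ p ^ k = 1 := by simpa using congrArg Subtype.val hk
        refine centralizes_of_centralizes_omega (zOf H)
          (fun a ha b hb => (mem_zOf.mp hb).2 a (mem_zOf.mp ha).1) (m ^ p ^ a)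
          (fun b hb => hzn.conj_mem b hb _) hxo ?_ k b hb hk'
        intro v hv hvp
        have hvV : v ∈ V := ⟨hv, hvp⟩
        have h1 := Subgroup.mem_centralizer_iff.mp hxC v hvV
        rw [← h1]; group
      have hxCZ : m ^ p ^ a ∈ Subgroup.centralizer (zOf (P : Subgroup G) : Set G) := by
        rw [Subgroup.mem_centralizer_iff]
        intro z hz
        have h1 := hcen z (hZPH hz)
        calc z * m ^ p ^ a = (m ^ p ^ a * z * (m ^ p ^ a)⁻¹) * m ^ p ^ a := by rw [h1]
          _ = m ^ p ^ a * z := by group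
      have hxP : m ^ p ^ a ∈ (P : Subgroup G) := hCZ hxCZ
      obtain ⟨k, hk⟩ := P.2 ⟨m ^ p ^ a, hxP⟩
      have hk' : (m ^ p ^ a) ^ p ^ k = 1 := by simpa using congrArg Subtype.val hk
      have h2 : orderOf (m ^ p ^ a) ∣ p ^ k := orderOf_dvd_of_pow_eq_one hk'
      have h3 : orderOf (m ^ p ^ a) = 1 :=
        Nat.Coprime.eq_one_of_dvd (Nat.Coprime.pow_right k hxo) h2
      refine ⟨a, ?_⟩
      apply Subtype.ext
      simpa using orderOf_eq_one_iff.mp h3
  have hCM : C ≤ M := by
    intro g hg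
    apply st.mem_of_centralizes g
    intro m hm
    rw [← hMC]
    refine Subgroup.mem_inf.mpr ⟨?_, ?_⟩
    · have : m * g * m⁻¹ * g⁻¹ = m * (g * m⁻¹ * g⁻¹) := by group
      rw [this]
      exact M.mul_mem hm (hMn.conj_mem _ (M.inv_mem hm) g)
    · exact C.mul_mem (hCn.conj_mem g hg m) (C.inv_mem hg)
  have hCH : C ≤ H := by
    intro g hg
    rw [← hMC]
    exact Subgroup.mem_inf.mpr ⟨hCM hg, hg⟩
  refine ⟨le_antisymm hCH hHC, ?_⟩
  -- a member of `famA P` outside `H`
  have hexA : ∃ A ∈ famA (P : Subgroup G), ¬ A ≤ H := by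
    by_contra hcon
    push Not at hcon
    have hJH : Cfsg.thompsonSubgroupAOf (P : Subgroup G) ≤ H := thompsonSubgroupAOf_le hcon
    -- `J(H) = J(P)`
    have hfam : famA H = famA (P : Subgroup G) := by
      obtain ⟨A, hA⟩ := famA_nonempty (P : Subgroup G)
      have hAH : A ≤ H := hcon A hA
      obtain ⟨-, hAc, hAmax⟩ := mem_famA.mp hA
      ext B
      constructor
      · intro hB
        obtain ⟨hBH, hBc, hBmax⟩ := mem_famA.mp hB
        refine mem_famA.mpr ⟨hBH.trans hHP, hBc, fun A'' h1 h2 => ?_⟩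
        exact (hAmax A'' h1 h2).trans (hBmax A hAH hAc)
      · intro hB
        exact (famA_mono hHP hB (hcon B hB)).1
    have hJeq : Cfsg.thompsonSubgroupAOf H = Cfsg.thompsonSubgroupAOf (P : Subgroup G) := by
      rw [thompsonSubgroupAOf_eq, thompsonSubgroupAOf_eq, hfam]
    have h1 : Subgroup.normalizer (Cfsg.thompsonSubgroupAOf (P : Subgroup G) : Set G) = ⊤ := by
      rw [← hJeq, eq_top_iff, ← Subgroup.normalizer_eq_top_iff.mpr hHn]
      exact normalizer_le_jA H
    rw [h1] at hNJ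
    exact hPtop hNJ
  -- choose one with `A ⊓ V` of largest order
  obtain ⟨A, ⟨hA, hAH⟩, hAmax⟩ := Set.exists_max_image
    {A : Subgroup G | A ∈ famA (P : Subgroup G) ∧ ¬ A ≤ H}
    (fun A => Nat.card (A ⊓ V : Subgroup G)) (Set.toFinite _) hexA
  refine ⟨A, hA, hAH, ?_⟩
  by_contra hVA
  have hVc : ∀ b ∈ V, ∀ b' ∈ V, b * b' = b' * b := fun b hb b' hb' =>
    (mem_zOf.mp hb'.1).2 b (zOf_le H hb.1)
  haveI : Group.IsNilpotent ↥(P : Subgroup G) := P.2.isNilpotent
  have hAV : A ≤ Subgroup.normalizer (V : Set G) := by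
    rw [Subgroup.normalizer_eq_top_iff.mpr hVn]; exact le_top
  obtain ⟨A', hA', hlt, hA'N⟩ :=
    thompson_replacement_sub (P : Subgroup G) hA V (hVH.trans hHP) hVc hAV hVA
  have hcardlt : Nat.card (A ⊓ V : Subgroup G) < Nat.card (A' ⊓ V : Subgroup G) := by
    have h1 : Nat.card (A ⊓ V : Subgroup G) ∣ Nat.card (A' ⊓ V : Subgroup G) :=
      Subgroup.card_dvd_of_le hlt.le
    have h2 := Nat.le_of_dvd Nat.card_pos h1
    rcases lt_or_eq_of_le h2 with h | h
    · exact h
    · exact absurd (Subgroup.eq_of_le_of_card_ge hlt.le h.ge) hlt.ne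
  have hA'H : A' ≤ H := by
    by_contra h
    have := hAmax A' ⟨hA', h⟩
    omega
  -- then `V ≤ A'`
  obtain ⟨hA'P, hA'c, hA'max⟩ := mem_famA.mp hA'
  have hcomm : IsMulCommutative (A' ⊔ V : Subgroup G) := by
    apply sup_comm_of A' V (comm_of_mem_famA hA') hVc
    intro x hx y hy
    exact ((mem_zOf.mp hy.1).2 x (hA'H hx))
  have hle : (A' ⊔ V : Subgroup G) ≤ P := sup_le hA'P (hVH.trans hHP)
  have hcard := hA'max _ hle hcomm
  have heq : A' = A' ⊔ V := Subgroup.eq_of_le_of_card_ge le_sup_left hcard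
  have hVA' : V ≤ A' := by rw [heq]; exact le_sup_right
  exact hVA (hVA'.trans hA'N)

end final

end Cfsg.Agent.Helper14.TNA
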