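import Mathlib
import Cfsg.Agent.Lib.Helper14.ThompsonA2

set_option autoImplicit false

/-! Thompson's normal `p`-complement theorem for the abelian version of the Thompson subgroup:
the final contradiction for odd `p`. -/

namespace Cfsg.Agent.Helper14.TNA

universe u

open Cfsg Cfsg.Agent.Helper10 Cfsg.Agent.Helper4.NPCB Cfsg.Agent.Helper4.GT
  Cfsg.Agent.Helper1.TNPC Cfsg.Agent.Helper4.ZJ
open scoped commutatorElement

variable {G : Type u} [Group G] [Finite G] {p : ℕ} [hpp : Fact p.Prime]

/-- quadratic action of an abelian subgroup normalized by `V` -/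
theorem quadratic_of_le_normalizer {V A : Subgroup G}
    (hAc : ∀ x ∈ A, ∀ y ∈ A, x * y = y * x)
    (hVA : V ≤ Subgroup.normalizer (A : Set G)) {a : G} (ha : a ∈ A) :
    ⁅⁅V, Subgroup.zpowers a⁆, Subgroup.zpowers a⁆ = ⊥ := by
  have hz : Subgroup.zpowers a ≤ A := Subgroup.zpowers_le.mpr ha
  have h1 : ⁅V, Subgroup.zpowers a⁆ ≤ A := by
    refine (Subgroup.commutator_mono le_rfl hz).trans ?_
    rw [Subgroup.commutator_comm]
    exact Cfsg.Agent.Helper7.commutator_le_of_le_normalizer hVA
  rw [eq_bot_iff]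
  refine (Subgroup.commutator_mono h1 hz).trans ?_
  rw [Subgroup.commutator_le]
  intro x hx y hy
  rw [Subgroup.mem_bot, commutatorElement_def, hAc x hx y hy]
  group

theorem final_odd (hp : p ≠ 2) (P : Sylow p G) (hnot : ¬ NPC p G)
    (hP : HypA p G (P : Subgroup G))
    (hE : ∀ L : Subgroup G, (P : Subgroup G) ≤ L → L ≠ ⊤ → L ≤ P)
    (hcent : Subgroup.centralizer (pCore p G : Set G) ≤ pCore p G)
    (M : Subgroup G) (st : Cfsg.Agent.Helper4.QS.Struc p G (pCore p G) M) : False := by
  have hst := Cfsg.Agent.Helper4.QS.stab_of_struc st hp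
  obtain ⟨hCV, A, hA, hAH, hVA⟩ := final_common P hnot hP hE hcent M st
  set H := pCore p G with hH
  set V := omegaZ p H with hV
  have hHp : IsPGroup p H := st.hHp
  have hVn : V.Normal := omegaZ_normal p H
  have hVH : V ≤ H := (omegaZ_le_zOf p H).trans (zOf_le H)
  have hVp : IsPGroup p V := hHp.to_le hVH
  obtain ⟨hAP, hAc, -⟩ := mem_famA.mp hA
  apply hAH
  intro a ha
  have hq := quadratic_of_le_normalizer (comm_of_mem_famA hA) hVA ha
  have hapow : ∃ k : ℕ, a ^ p ^ k = 1 := by
    obtain ⟨k, hk⟩ := P.2 ⟨a, hAP ha⟩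
    exact ⟨k, by simpa using congrArg Subtype.val hk⟩
  have h1 := hst V hVp a hapow hq
  set C := Subgroup.centralizer (V : Set G) with hC
  set D : Subgroup G := (pCore p (G ⧸ C)).comap (QuotientGroup.mk' C) with hD
  have hDn : D.Normal := Subgroup.Normal.comap inferInstance _
  have hDp : IsPGroup p D := by
    apply IsPGroup.comap_of_ker_isPGroup (Cfsg.Agent.Helper10.pCore_isPGroup p)
    rw [QuotientGroup.ker_mk', hCV]
    exact hHp
  exact st.hHmax D hDn hDp h1

end Cfsg.Agent.Helper14.TNA
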