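import Mathlib
import Cfsg.Agent.Lib.Helper14.ThompsonA3
import Cfsg.Agent.Lib.Helper14.FFTwoAmbient
import Cfsg.Agent.Lib.Helper14.S4Section

set_option autoImplicit false

/-! Thompson's normal `p`-complement theorem for the abelian version of the Thompson subgroup:
the final step for `p = 2`: the minimal structure involves `S₄`. -/

namespace Cfsg.Agent.Helper14.TNA

universe u

open Cfsg Cfsg.Agent.Helper10 Cfsg.Agent.Helper4.NPCB Cfsg.Agent.Helper4.GT
  Cfsg.Agent.Helper1.TNPC Cfsg.Agent.Helper4.ZJ Cfsg.Agent.Helper1.BO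
open scoped commutatorElement

variable {G : Type u} [Group G] [Finite G]

/-- a quadratically acting element of `G` has its square centralizing the elementary abelian
normal `2`-subgroup `V`. -/
theorem sq_mem_centralizer_of_quadratic {V : Subgroup G} [hVn : V.Normal]
    (hV : Cfsg.IsElementaryAbelian 2 V) {a : G}
    (hq : ⁅⁅V, Subgroup.zpowers a⁆, Subgroup.zpowers a⁆ = ⊥) :
    a * a ∈ Subgroup.centralizer (V : Set G) := by
  rw [Subgroup.mem_centralizer_iff]
  intro v hv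
  set c := ⁅v, a⁆ with hc
  have hcV : c ∈ V := by
    rw [hc, commutatorElement_def]
    have : v * a * v⁻¹ * a⁻¹ = v * (a * v⁻¹ * a⁻¹) := by group
    rw [this]
    exact V.mul_mem hv (hVn.conj_mem _ (V.inv_mem hv) a)
  have hc2 : c * c = 1 := by
    have := hV.2 c hcV
    rwa [pow_two] at this
  have hca : ⁅c, a⁆ = 1 := by
    have h1 : ⁅c, a⁆ ∈ ⁅⁅V, Subgroup.zpowers a⁆, Subgroup.zpowers a⁆ :=
      Subgroup.commutator_mem_commutator
        (Subgroup.commutator_mem_commutator hv (Subgroup.mem_zpowers a)) (Subgroup.mem_zpowers a)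
    rw [hq, Subgroup.mem_bot] at h1
    exact h1
  have hcomm : c * a = a * c := commutatorElement_eq_one_iff_mul_comm.mp hca
  -- `a v a⁻¹ = c⁻¹ v`
  have h1 : a * v * a⁻¹ = c⁻¹ * v := by
    rw [hc, commutatorElement_def]; group
  have hcinv : c⁻¹ = c := inv_eq_of_mul_eq_one_left hc2
  rw [hcinv] at h1
  have h2 : a * v = c * v * a := by
    calc a * v = (a * v * a⁻¹) * a := by group
      _ = c * v * a := by rw [h1]
  calc v * (a * a) = v * a * a := by group
    _ = (c * c) * v * a * a := by rw [hc2, one_mul]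
    _ = c * (c * v * a) * a := by group
    _ = c * (a * v) * a := by rw [h2]
    _ = (c * a) * v * a := by group
    _ = (a * c) * v * a := by rw [hcomm]
    _ = a * (c * v * a) := by group
    _ = a * (a * v) := by rw [h2]
    _ = a * a * v := by group

theorem final_two [Fact (Nat.Prime 2)] (P : Sylow 2 G) (hnot : ¬ NPC 2 G)
    (hP : HypA 2 G (P : Subgroup G))
    (hE : ∀ L : Subgroup G, (P : Subgroup G) ≤ L → L ≠ ⊤ → L ≤ P)
    (hcent : Subgroup.centralizer (pCore 2 G : Set G) ≤ pCore 2 G)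
    (M : Subgroup G) (st : Cfsg.Agent.Helper4.QS.Struc 2 G (pCore 2 G) M) :
    Cfsg.Involves (Equiv.Perm (Fin 4)) G := by
  obtain ⟨hCV, A, hA, hAH, hVA⟩ := final_common P hnot hP hE hcent M st
  set H := pCore 2 G with hH
  set V := omegaZ 2 H with hV
  have hHn : H.Normal := st.hHn
  have hMn : M.Normal := st.hMn
  have hHp : IsPGroup 2 H := st.hHp
  have hHP : H ≤ P := Cfsg.Agent.Helper23.PSolv.pCore_le_sylow P
  have hVn : V.Normal := omegaZ_normal 2 H
  have hVe : Cfsg.IsElementaryAbelian 2 V := omegaZ_isElementaryAbelian 2 H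
  have hVH : V ≤ H := (omegaZ_le_zOf 2 H).trans (zOf_le H)
  obtain ⟨hAP, hAcomm, hAmax⟩ := mem_famA.mp hA
  have hAc := comm_of_mem_famA hA
  have hVc : ∀ b ∈ V, ∀ b' ∈ V, b * b' = b' * b := fun b hb b' hb' =>
    (mem_zOf.mp hb'.1).2 b (zOf_le H hb.1)
  -- squares of elements of `A` lie in `H`
  have hA2 : ∀ a ∈ A, a * a ∈ H := by
    intro a ha
    rw [← hCV]
    exact sq_mem_centralizer_of_quadratic hVe (quadratic_of_le_normalizer hAc hVA ha)
  have hAM : A ≤ Subgroup.normalizer (M : Set G) := by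
    rw [Subgroup.normalizer_eq_top_iff.mpr hMn]; exact le_top
  -- elements of `P ∩ M` lie in `H`
  have hPM : ∀ a ∈ (P : Subgroup G), a ∈ M → a ∈ H := by
    intro a haP haM
    obtain ⟨e, he, hae⟩ := st.hcop a haM
    obtain ⟨k, hk⟩ := P.2 ⟨a, haP⟩
    have hk' : a ^ 2 ^ k = 1 := by simpa using congrArg Subtype.val hk
    have h1 : (QuotientGroup.mk a : G ⧸ H) ^ e = 1 := by
      rw [← QuotientGroup.mk_pow]; exact (QuotientGroup.eq_one_iff _).mpr hae
    have h2 : (QuotientGroup.mk a : G ⧸ H) ^ 2 ^ k = 1 := by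
      rw [← QuotientGroup.mk_pow, hk']; rfl
    have h3 : orderOf (QuotientGroup.mk a : G ⧸ H) ∣ Nat.gcd e (2 ^ k) :=
      Nat.dvd_gcd (orderOf_dvd_of_pow_eq_one h1) (orderOf_dvd_of_pow_eq_one h2)
    rw [Nat.Coprime.gcd_eq_one (Nat.Coprime.pow_right k he), Nat.dvd_one,
      orderOf_eq_one_iff] at h3
    exact (QuotientGroup.eq_one_iff a).mp h3
  have hAMf : ∀ a ∈ A, (∀ m ∈ M, a * m * a⁻¹ * m⁻¹ ∈ H) → a ∈ H := by
    intro a ha h
    apply hPM a (hAP ha)
    apply st.mem_of_centralizes a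
    intro m hm
    have h1 := H.inv_mem (h m hm)
    have h2 : (a * m * a⁻¹ * m⁻¹)⁻¹ = m * a * m⁻¹ * a⁻¹ := by group
    rwa [h2] at h1
  -- the offender inequality
  have hoff : Nat.card V * Nat.card (A ⊓ H : Subgroup G) ≤ Nat.card A * Nat.card (cV V A) := by
    have hVAH : ∀ x ∈ V, ∀ y ∈ (A ⊓ H : Subgroup G), x * y = y * x := by
      intro x hx y hy
      exact ((mem_zOf.mp hx.1).2 y hy.2).symm
    have hcomm : IsMulCommutative (V ⊔ (A ⊓ H) : Subgroup G) := by
      apply sup_comm_of V (A ⊓ H) hVc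
      · intro x hx y hy
        exact hAc x hx.1 y hy.1
      · exact hVAH
    have hle : (V ⊔ (A ⊓ H) : Subgroup G) ≤ P :=
      sup_le (hVH.trans hHP) (inf_le_left.trans hAP)
    have hcard := hAmax _ hle hcomm
    have hnorm : V ≤ Subgroup.normalizer ((A ⊓ H : Subgroup G) : Set G) := by
      refine le_trans ?_ (Subgroup.centralizer_le_normalizer _)
      intro x hx
      rw [Subgroup.mem_centralizer_iff]
      intro y hy
      exact (hVAH x hx y hy).symm
    have h1 := Cfsg.Agent.Helper27.card_sup_mul_card_inf V (A ⊓ H) hnorm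
    have h2 : (V ⊓ (A ⊓ H) : Subgroup G) ≤ cV V A := by
      intro x hx
      refine Subgroup.mem_inf.mpr ⟨hx.1, ?_⟩
      rw [Subgroup.mem_centralizer_iff]
      intro y hy
      exact hAc y hy x hx.2.1
    have h3 := Subgroup.card_le_of_le h2
    calc Nat.card V * Nat.card (A ⊓ H : Subgroup G)
        = Nat.card (V ⊔ (A ⊓ H) : Subgroup G) * Nat.card (V ⊓ (A ⊓ H) : Subgroup G) := h1.symm
      _ ≤ Nat.card A * Nat.card (cV V A) := Nat.mul_le_mul hcard h3
  obtain ⟨a, haA, y, hyM, W, hWV, hW4, hinvH, haW, hyW, hfpf⟩ :=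
    Cfsg.Agent.Helper14.FF2.ff_two_ambient V M A H hVe hCV st.hcop hAc hA2 hAM hAMf hAH hoff
  -- `H` centralizes `W`
  have hHW : ∀ h ∈ H, ∀ w ∈ W, Commute h w := by
    intro h hh w hw
    rw [← hCV, Subgroup.mem_centralizer_iff] at hh
    exact (hh w (hWV hw)).symm
  -- an odd power of `y` lies in `H`
  obtain ⟨e, he, hye⟩ := st.hcop y hyM
  have heodd : Odd e := Nat.coprime_two_right.mp he
  have hyeW : ∀ w ∈ W, Commute (y ^ e) w := fun w hw => hHW _ hye w hw
  have h3 := Cfsg.Agent.Helper14.S4Sec.cube_commute W hW4 y hyW hfpf e heodd hyeW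
  -- the `3`-part of `y`
  obtain ⟨k, m, hm3, hn⟩ := Nat.exists_eq_pow_mul_and_not_dvd (orderOf_pos y).ne' 3 (by norm_num)
  set y₃ := y ^ m with hy₃
  have hm0 : m ≠ 0 := by
    rintro rfl
    exact hm3 (dvd_zero 3)
  have hy₃ord : orderOf y₃ = 3 ^ k := by
    rw [hy₃, orderOf_pow_of_dvd hm0 (hn ▸ dvd_mul_left _ _), hn,
      Nat.mul_div_cancel _ (Nat.pos_of_ne_zero hm0)]
  haveI : Fact (Nat.Prime 3) := ⟨Nat.prime_three⟩
  have hy₃p : IsPGroup 3 (Subgroup.zpowers y₃) := by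
    apply IsPGroup.of_card (n := k)
    rw [Nat.card_zpowers, hy₃ord]
  have hfpf₃ := Cfsg.Agent.Helper14.S4Sec.fpf_pow hfpf h3 e heodd hyeW m hm3
  have h3₃ : ∀ w ∈ W, Commute (y₃ ^ 3) w := by
    intro w hw
    rw [hy₃, ← pow_mul, mul_comm, pow_mul]
    exact (h3 w hw).pow_left m
  have hy₃W : y₃ ∈ Subgroup.normalizer (W : Set G) := Subgroup.pow_mem _ hyW m
  have hinv₃ : a * y₃ * a⁻¹ * y₃ ∈ H := by
    rw [← QuotientGroup.eq_one_iff] at hinvH ⊢
    have h1 : (QuotientGroup.mk a : G ⧸ H) * QuotientGroup.mk y * (QuotientGroup.mk a)⁻¹ =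
        (QuotientGroup.mk y)⁻¹ := by
      apply eq_inv_of_mul_eq_one_left
      simpa using hinvH
    rw [hy₃]
    simp only [QuotientGroup.mk_mul, QuotientGroup.mk_inv, QuotientGroup.mk_pow]
    rw [← conj_pow, h1, inv_pow, inv_mul_cancel]
  have hHcop : (Nat.card H).Coprime 3 := by
    obtain ⟨j, hj⟩ := IsPGroup.iff_card.mp hHp
    rw [hj]
    exact Nat.Coprime.pow_left j (by norm_num)
  obtain ⟨h, hh, hinv'⟩ := Cfsg.Agent.Helper14.S4Sec.lift_invert 3 H hHcop y₃ a hy₃p hinv₃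
  have hhW : h ∈ Subgroup.normalizer (W : Set G) := by
    apply Subgroup.centralizer_le_normalizer
    rw [Subgroup.mem_centralizer_iff]
    intro w hw
    exact ((hHW h hh w hw).eq).symm
  have ha'W : h * a ∈ Subgroup.normalizer (W : Set G) := Subgroup.mul_mem _ hhW haW
  have ha'2 : ∃ j : ℕ, (h * a) ^ 2 ^ j = 1 := by
    have hmem : h * a ∈ (P : Subgroup G) := Subgroup.mul_mem _ (hHP hh) (hAP haA)
    obtain ⟨j, hj⟩ := P.2 ⟨h * a, hmem⟩
    exact ⟨j, by simpa using congrArg Subtype.val hj⟩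
  exact Cfsg.Agent.Helper14.S4Sec.s4_section W hW4 y₃ (h * a) hy₃W ha'W hfpf₃ h3₃ hinv' ha'2

end Cfsg.Agent.Helper14.TNA
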