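import Mathlib
import Cfsg.Prelude.Def_Local
import Cfsg.Agent.Lib.Helper7.PConstrainedInv
import Cfsg.Agent.Lib.Helper7.Coprime
import Cfsg.Agent.Lib.Helper4.PPrimeQuot

/-!
# Invariant `p'`-subgroups in `p`-constrained groups whose `p`-subgroups have class at most two
(helper14)
-/

set_option autoImplicit false

namespace Cfsg.Agent.Helper14.TransCore

open Subgroup
open scoped commutatorElement

variable {X : Type*} [Group X] [Finite X]

/-- the chain stabilizer of `R ≥ D ≥ 1` -/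
def chainStab (R D : Subgroup X) [R.Normal] : Subgroup X where
  carrier := {c | c ∈ centralizer (D : Set X) ∧ ∀ s ∈ R, ⁅c, s⁆ ∈ D}
  one_mem' := by
    refine ⟨Subgroup.one_mem _, fun s _ => ?_⟩
    rw [commutatorElement_one_left]
    exact D.one_mem
  mul_mem' := by
    rintro c₁ c₂ ⟨h1, h1'⟩ ⟨h2, h2'⟩
    refine ⟨Subgroup.mul_mem _ h1 h2, fun s hs => ?_⟩
    have e : ⁅c₁ * c₂, s⁆ = c₁ * ⁅c₂, s⁆ * c₁⁻¹ * ⁅c₁, s⁆ := by
      simp only [commutatorElement_def]; group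
    rw [e]
    have h3 : c₁ * ⁅c₂, s⁆ * c₁⁻¹ = ⁅c₂, s⁆ := by
      have := (Subgroup.mem_centralizer_iff.mp h1) _ (h2' s hs)
      rw [← this]; group
    rw [h3]
    exact D.mul_mem (h2' s hs) (h1' s hs)
  inv_mem' := by
    rintro c ⟨h1, h1'⟩
    refine ⟨Subgroup.inv_mem _ h1, fun s hs => ?_⟩
    have hs' : c⁻¹ * s * c ∈ R := by
      have := ‹R.Normal›.conj_mem s hs c⁻¹
      simpa using this
    have h2 := h1' _ hs'
    have e : ⁅c⁻¹, s⁆ = (⁅c, c⁻¹ * s * c⁆)⁻¹ := by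
      simp only [commutatorElement_def]; group
    rw [e]
    exact D.inv_mem h2

theorem mem_chainStab {R D : Subgroup X} [R.Normal] {c : X} :
    c ∈ chainStab R D ↔ c ∈ centralizer (D : Set X) ∧ ∀ s ∈ R, ⁅c, s⁆ ∈ D := Iff.rfl

theorem conj_mem_chainStab {R D : Subgroup X} [hR : R.Normal] {c y : X} (hc : c ∈ chainStab R D)
    (hy : y ∈ centralizer (D : Set X)) : y * c * y⁻¹ ∈ chainStab R D := by
  obtain ⟨h1, h1'⟩ := hc
  refine ⟨Subgroup.mul_mem _ (Subgroup.mul_mem _ hy h1) (Subgroup.inv_mem _ hy), fun s hs => ?_⟩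
  have hs' : y⁻¹ * s * y ∈ R := by
    have := hR.conj_mem s hs y⁻¹
    simpa using this
  have h2 := h1' _ hs'
  have e : ⁅y * c * y⁻¹, s⁆ = y * ⁅c, y⁻¹ * s * y⁆ * y⁻¹ := by
    simp only [commutatorElement_def]; group
  rw [e]
  have h3 : y * ⁅c, y⁻¹ * s * y⁆ * y⁻¹ = ⁅c, y⁻¹ * s * y⁆ := by
    have := (Subgroup.mem_centralizer_iff.mp hy) _ h2
    rw [← this]; group
  rw [h3]
  exact h2

/-- In a `p`-constrained group all of whose `p`-subgroups have class at most two, let `A` be an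
abelian `p`-subgroup containing every `p`-element of `C_X(A)`.  Then every `A`-invariant
`p'`-subgroup lies in `O_{p'}(X)`. -/
theorem le_pPrimeCore_of_class_two (p : ℕ) [hp : Fact p.Prime]
    (hX : Cfsg.IsPConstrained p X)
    (hcl : ∀ T : Subgroup X, IsPGroup p ↥T → ∀ x ∈ T, ∀ y ∈ T, ∀ z ∈ T, ⁅⁅x, y⁆, z⁆ = 1)
    (A : Subgroup X) (hAp : IsPGroup p ↥A) (hAc : ∀ a ∈ A, ∀ b ∈ A, a * b = b * a)
    (hfull : ∀ x ∈ Subgroup.centralizer (A : Set X), IsPGroup p ↥(zpowers x) → x ∈ A)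
    (Q : Subgroup X)
    (hQ : ¬ p ∣ Nat.card ↥Q) (hAQ : A ≤ Subgroup.normalizer (Q : Set X)) :
    Q ≤ Cfsg.pPrimeCore p X := by
  haveI hKn : (Cfsg.pPrimeCore p X).Normal := Cfsg.Agent.Helper22.pPrimeCore_normal p
  set K := Cfsg.pPrimeCore p X with hK
  set φ := QuotientGroup.mk' K with hφ
  have hKcop : (Nat.card ↥K).Coprime p := Cfsg.Agent.Helper22.card_pPrimeCore_coprime p
  set Rb := Cfsg.pCore p (X ⧸ K) with hRb
  haveI hRbn : Rb.Normal := by
    rw [hRb]; unfold Cfsg.pCore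
    exact Subgroup.sSup_normal _ (fun _ h => h.1)
  have hRbp : IsPGroup p ↥Rb := Cfsg.Agent.Helper7.pCore_isPGroup p
  have hcent := (Cfsg.Agent.Helper7.isPConstrained_iff_centralizer_le (X := X) p).mp hX
  set Qb := Q.map φ with hQbdef
  set Ab := A.map φ with hAbdef
  have hQb : ¬ p ∣ Nat.card ↥Qb := fun h => hQ (h.trans (Subgroup.card_map_dvd _ φ))
  have hQbcop : (Nat.card ↥Qb).Coprime p :=
    ((Nat.Prime.coprime_iff_not_dvd hp.out).mpr hQb).symm
  have hAb : IsPGroup p ↥Ab := hAp.map φ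
  have hAQb : Ab ≤ normalizer ((Qb : Subgroup (X ⧸ K)) : Set (X ⧸ K)) :=
    (Subgroup.map_mono hAQ).trans (Subgroup.le_normalizer_map φ)
  have htop : normalizer ((Rb : Subgroup (X ⧸ K)) : Set (X ⧸ K)) = ⊤ :=
    Subgroup.normalizer_eq_top Rb
  have hdisj : Rb ⊓ Qb = ⊥ := Cfsg.Agent.Helper7.inf_eq_bot_of_isPGroup_of_coprime hRbp hQbcop
  have hAbc : ∀ a ∈ Ab, ∀ b ∈ Ab, a * b = b * a := by
    rintro _ ⟨a, ha, rfl⟩ _ ⟨b, hb, rfl⟩
    rw [← map_mul, ← map_mul, hAc a ha b hb]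
  -- Step 1: `C_R̄(Ā) ≤ Ā`
  have step1 : ∀ xb ∈ Rb, xb ∈ centralizer ((Ab : Subgroup (X ⧸ K)) : Set (X ⧸ K)) → xb ∈ Ab := by
    intro xb hxR hxA
    by_cases hx1 : xb = 1
    · rw [hx1]; exact Ab.one_mem
    obtain ⟨k, hk⟩ := hRbp ⟨xb, hxR⟩
    have hk' : xb ^ p ^ k = 1 := by
      have := congrArg Subtype.val hk
      simpa using this
    have hk0 : k ≠ 0 := by
      rintro rfl
      rw [pow_zero, pow_one] at hk'
      exact hx1 hk'
    have hpk : 1 < p ^ k := Nat.one_lt_pow hk0 hp.out.one_lt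
    obtain ⟨x, rfl⟩ : ∃ x, φ x = xb := QuotientGroup.mk'_surjective K xb
    have hAK : A ≤ normalizer (K : Set X) := by
      rw [Subgroup.normalizer_eq_top K]; exact le_top
    have hcopAK : (Nat.card ↥A).Coprime (Nat.card ↥K) := by
      obtain ⟨j, hj⟩ := hAp.exists_card_eq
      rw [hj]
      exact (Nat.Coprime.pow_right j hKcop).symm
    have hsolv : Group.IsSolvable ↥A ∨ Group.IsSolvable ↥K := by
      left
      have := hAp.isNilpotent
      infer_instance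
    have hxa : ∀ a ∈ A, x⁻¹ * a * x * a⁻¹ ∈ K := by
      intro a ha
      have h1 := (Subgroup.mem_centralizer_iff.mp hxA) (φ a) (Subgroup.mem_map_of_mem φ ha)
      have h2 : φ (x⁻¹ * a * x * a⁻¹) = 1 := by
        rw [map_mul, map_mul, map_mul, map_inv, map_inv, mul_assoc (φ x)⁻¹, h1]
        group
      exact (QuotientGroup.eq_one_iff _).mp h2
    obtain ⟨c, hcA, hcx⟩ :=
      Cfsg.Agent.Helper1.exists_centralizer_mem_coset K A hAK hcopAK hsolv x hxa
    have hφc : φ c = φ x := by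
      have : φ (x⁻¹ * c) = 1 := (QuotientGroup.eq_one_iff _).mpr hcx
      rw [map_mul, map_inv, inv_mul_eq_one] at this
      exact this.symm
    obtain ⟨u, -, hu⟩ := Nat.exists_mul_mod_eq_one_of_coprime (Nat.Coprime.pow_right k hKcop) hpk
    set y := c ^ (Nat.card ↥K * u) with hy
    have hφy : φ y = φ x := by
      rw [hy, map_pow, hφc, pow_eq_pow_mod _ hk', hu, pow_one]
    have hyp : y ^ p ^ k = 1 := by
      have hcp : c ^ p ^ k ∈ K := by
        have : φ (c ^ p ^ k) = 1 := by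
          rw [map_pow, hφc]
          exact hk'
        exact (QuotientGroup.eq_one_iff _).mp this
      have h1 : (c ^ p ^ k) ^ Nat.card ↥K = 1 := by
        have h2 : (⟨c ^ p ^ k, hcp⟩ : ↥K) ^ Nat.card ↥K = 1 := pow_card_eq_one'
        have h3 := congrArg Subtype.val h2
        rw [Subgroup.coe_pow, Subgroup.coe_one] at h3
        exact h3
      rw [hy, ← pow_mul, mul_comm (Nat.card ↥K * u) (p ^ k), ← mul_assoc, pow_mul, pow_mul, h1,
        one_pow]
    have hyP : IsPGroup p ↥(zpowers y) := by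
      obtain ⟨j, -, hj⟩ := (Nat.dvd_prime_pow hp.out).mp (orderOf_dvd_of_pow_eq_one hyp)
      apply IsPGroup.of_card (n := j)
      rw [Nat.card_zpowers, hj]
    have hyA : y ∈ A := hfull y (Subgroup.pow_mem _ hcA _) hyP
    exact hφy ▸ Subgroup.mem_map_of_mem φ hyA
  -- Step 2: `D̄ = R̄ ∩ Ā` is centralized by `Q̄`
  set Db := Rb ⊓ Ab with hDb
  have hDQ : ∀ d ∈ Db, ∀ qb ∈ Qb, qb * d = d * qb := by
    intro d hd qb hqb
    have hn := hAQb hd.2
    rw [Subgroup.mem_set_normalizer_iff] at hn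
    have h1 : d * qb * d⁻¹ ∈ Qb := (hn qb).mp hqb
    have h2 : ⁅d, qb⁆ ∈ Rb ⊓ Qb := by
      constructor
      · have : ⁅d, qb⁆ = d * (qb * d⁻¹ * qb⁻¹) := by
          rw [commutatorElement_def]; group
        rw [this]
        exact Rb.mul_mem hd.1 (hRbn.conj_mem _ (Rb.inv_mem hd.1) qb)
      · have : ⁅d, qb⁆ = (d * qb * d⁻¹) * qb⁻¹ := by
          rw [commutatorElement_def]
        rw [this]
        exact Qb.mul_mem h1 (Qb.inv_mem hqb)
    rw [hdisj, Subgroup.mem_bot, commutatorElement_eq_one_iff_commute] at h2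
    exact h2.eq.symm
  have hQD : Qb ≤ centralizer ((Db : Subgroup (X ⧸ K)) : Set (X ⧸ K)) := by
    intro qb hqb
    rw [Subgroup.mem_centralizer_iff]
    intro d hd
    exact (hDQ d hd qb hqb).symm
  have hAD : Ab ≤ centralizer ((Db : Subgroup (X ⧸ K)) : Set (X ⧸ K)) := by
    intro a ha
    rw [Subgroup.mem_centralizer_iff]
    intro d hd
    exact hAbc d hd.2 a ha
  -- Step 3: `R̄Ā` has class at most two
  have hTb : IsPGroup p ↥(Rb ⊔ Ab) := hRbp.to_sup_of_normal_left hAb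
  obtain ⟨T, hTp, hTmap⟩ := Cfsg.Agent.Helper4.PQ.exists_lift_pSubgroup hKcop (Rb ⊔ Ab) hTb
  have hcl' : ∀ x ∈ Rb ⊔ Ab, ∀ y ∈ Rb ⊔ Ab, ∀ z ∈ Rb ⊔ Ab, ⁅⁅x, y⁆, z⁆ = 1 := by
    intro x hx y hy z hz
    rw [← hTmap] at hx hy hz
    obtain ⟨x', hx', rfl⟩ := hx
    obtain ⟨y', hy', rfl⟩ := hy
    obtain ⟨z', hz', rfl⟩ := hz
    rw [← map_commutatorElement, ← map_commutatorElement, hcl T hTp x' hx' y' hy' z' hz', map_one]
  -- Step 4: `[R̄, Ā] ≤ D̄`
  have hRA : ∀ r ∈ Rb, ∀ a ∈ Ab, ⁅a, r⁆ ∈ Db := by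
    intro r hr a ha
    have h1 : ⁅a, r⁆ ∈ Rb := by
      have : ⁅a, r⁆ = (a * r * a⁻¹) * r⁻¹ := by rw [commutatorElement_def]
      rw [this]
      exact Rb.mul_mem (hRbn.conj_mem _ hr a) (Rb.inv_mem hr)
    refine ⟨h1, step1 _ h1 ?_⟩
    rw [Subgroup.mem_centralizer_iff]
    intro a' ha'
    have := hcl' a (Subgroup.mem_sup_right ha) r (Subgroup.mem_sup_left hr) a'
      (Subgroup.mem_sup_right ha')
    rw [commutatorElement_eq_one_iff_commute] at this
    exact this.eq.symm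
  -- Step 5: `[Q̄, Ā]` stabilizes the chain
  have hAS : Ab ≤ chainStab Rb Db := fun a ha => ⟨hAD ha, fun s hs => hRA s hs a ha⟩
  have hKS : ⁅Qb, Ab⁆ ≤ chainStab Rb Db := by
    rw [Subgroup.commutator_le]
    intro y hy a ha
    have h1 : y * a * y⁻¹ ∈ chainStab Rb Db := conj_mem_chainStab (hAS ha) (hQD hy)
    have : ⁅y, a⁆ = (y * a * y⁻¹) * a⁻¹ := by rw [commutatorElement_def]
    rw [this]
    exact Subgroup.mul_mem _ h1 (Subgroup.inv_mem _ (hAS ha))
  have hKQ : ⁅Qb, Ab⁆ ≤ Qb := Cfsg.Agent.Helper7.commutator_le_of_le_normalizer hAQb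
  -- Step 6: `[Q̄, Ā] = 1`
  have hKcop' : (Nat.card ↥(⁅Qb, Ab⁆ : Subgroup (X ⧸ K))).Coprime (Nat.card ↥Rb) := by
    obtain ⟨j, hj⟩ := hRbp.exists_card_eq
    rw [hj]
    exact Nat.Coprime.pow_right j
      (Nat.Coprime.coprime_dvd_left (Subgroup.card_dvd_of_le hKQ) hQbcop)
  have hRK : Rb ≤ centralizer ((⁅Qb, Ab⁆ : Subgroup (X ⧸ K)) : Set (X ⧸ K)) := by
    apply Cfsg.Agent.Helper7.le_centralizer_of_commutator_commutator_eq_bot hKcop'
      (htop ▸ le_top)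
    rw [eq_bot_iff]
    have h1 : ⁅Rb, ⁅Qb, Ab⁆⁆ ≤ Db := by
      rw [Subgroup.commutator_le]
      intro r hr k hk
      have h2 := (hKS hk).2 r hr
      have : ⁅r, k⁆ = (⁅k, r⁆)⁻¹ := by
        simp only [commutatorElement_def]; group
      rw [this]
      exact Db.inv_mem h2
    have h2 : ⁅Db, ⁅Qb, Ab⁆⁆ = ⊥ := by
      rw [Subgroup.commutator_eq_bot_iff_le_centralizer]
      intro d hd
      rw [Subgroup.mem_centralizer_iff]
      intro k hk
      exact ((Subgroup.mem_centralizer_iff.mp (hKS hk).1) d hd).symm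
    exact (Subgroup.commutator_mono h1 le_rfl).trans h2.le
  have hKbot : ⁅Qb, Ab⁆ = ⊥ := by
    rw [eq_bot_iff, ← hdisj]
    refine le_inf (le_trans ?_ hcent) hKQ
    intro k hk
    rw [Subgroup.mem_centralizer_iff]
    intro r hr
    exact ((Subgroup.mem_centralizer_iff.mp (hRK hr)) k hk).symm
  -- Step 7: Thompson's lemma
  have key : Rb ≤ centralizer ((Qb : Subgroup (X ⧸ K)) : Set (X ⧸ K)) := by
    apply Cfsg.Agent.Helper7.thompson_AxB Rb Qb Ab (htop ▸ le_top) (htop ▸ le_top) hKbot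
    · obtain ⟨j, hj⟩ := hRbp.exists_card_eq
      rw [hj]
      exact Nat.Coprime.pow_right j hQbcop
    · exact hTb.isNilpotent
    · rintro x ⟨hxR, hxA⟩
      have hxD : x ∈ Db := ⟨hxR, step1 x hxR hxA⟩
      rw [Subgroup.mem_centralizer_iff]
      intro qb hqb
      exact hDQ x hxD qb hqb
  -- conclusion
  have hQR : Qb ≤ Rb := by
    refine le_trans ?_ hcent
    intro qb hqb
    rw [Subgroup.mem_centralizer_iff]
    intro r hr
    exact ((Subgroup.mem_centralizer_iff.mp (key hr)) qb hqb).symm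
  have hQbot : Qb = ⊥ := by
    rw [eq_bot_iff, ← hdisj]
    exact le_inf hQR le_rfl
  intro q hq
  have : φ q ∈ Qb := Subgroup.mem_map_of_mem φ hq
  rw [hQbot, Subgroup.mem_bot] at this
  exact (QuotientGroup.eq_one_iff _).mp this

end Cfsg.Agent.Helper14.TransCore
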