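import Mathlib
import Cfsg.Agent.Lib.Helper14.TransCore2
import Cfsg.Agent.Lib.Helper14.TransCore3

/-!
# Transitivity: subgroup form of the class-two key lemma (helper14)
-/

set_option autoImplicit false

namespace Cfsg.Agent.Helper14.TransCore

open Cfsg Subgroup
open scoped commutatorElement
open Cfsg.Agent.Helper14.BGTrans

variable {G : Type*} [Group G]

/-- key lemma for class two, in subgroup form -/
theorem le_pcoreOf_of_inv_class_two [Finite G] (p : ℕ) [Fact p.Prime] (H : Subgroup G)
    (hH : IsPConstrained p ↥H)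
    (hcl : ∀ T : Subgroup G, IsPGroup p ↥T → ∀ x ∈ T, ∀ y ∈ T, ∀ z ∈ T, ⁅⁅x, y⁆, z⁆ = 1)
    (E : Subgroup G) (hEH : E ≤ H) (hEp : IsPGroup p ↥E)
    (hEc : ∀ a ∈ E, ∀ b ∈ E, a * b = b * a)
    (hfull : ∀ x ∈ centralizer (E : Set G), IsPGroup p ↥(zpowers x) → x ∈ E)
    (U : Subgroup G) (hUH : U ≤ H) (hU : (Nat.card ↥U).Coprime p)
    (hEU : E ≤ normalizer (U : Set G)) : U ≤ pcoreOf p H := by
  have hpp := (Fact.out : p.Prime)
  have h1 := le_pPrimeCore_of_class_two p hH (by
      intro T hT x hx y hy z hz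
      have h := hcl (T.map H.subtype) (hT.map _) x (Subgroup.mem_map_of_mem _ hx) y
        (Subgroup.mem_map_of_mem _ hy) z (Subgroup.mem_map_of_mem _ hz)
      apply H.subtype_injective
      rw [map_commutatorElement, map_commutatorElement, map_one]
      exact h)
    (E.subgroupOf H) hEp.comap_subtype (by
      intro a ha b hb
      apply Subtype.ext
      exact hEc a (Subgroup.mem_subgroupOf.mp ha) b (Subgroup.mem_subgroupOf.mp hb))
    (by
      intro x hx hxo
      rw [Subgroup.mem_subgroupOf]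
      apply hfull
      · rw [Subgroup.mem_centralizer_iff] at hx ⊢
        intro e he
        have := hx ⟨e, hEH he⟩ (Subgroup.mem_subgroupOf.mpr he)
        exact congrArg Subtype.val this
      · have h2 : (zpowers x).map H.subtype = zpowers (x : G) := by
          rw [MonoidHom.map_zpowers]; rfl
        rw [← h2]
        exact hxo.map _)
    (U.subgroupOf H) (by
      rw [Nat.card_congr (Subgroup.subgroupOfEquivOfLe hUH).toEquiv]
      intro hdvd
      have := Nat.dvd_gcd hdvd (dvd_refl p)
      rw [hU] at this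
      exact hpp.one_lt.ne' (Nat.dvd_one.mp this))
    (by
      intro a ha
      rw [Subgroup.mem_normalizer_iff]
      intro y
      rw [Subgroup.mem_subgroupOf, Subgroup.mem_subgroupOf]
      have := Subgroup.mem_normalizer_iff.mp (hEU (Subgroup.mem_subgroupOf.mp ha)) (y : G)
      simpa using this)
  have h2 := Subgroup.map_mono (f := H.subtype) h1
  rwa [Subgroup.map_subgroupOf_eq_of_le hUH] at h2

/-- class at most two, elementwise, from Sylow subgroups -/
theorem class_two_of_sylow [Finite G] (p : ℕ) [Fact p.Prime]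
    (h2 : ∀ S : Sylow p G, Group.IsNilpotent ↥(S : Subgroup G) ∧
      Group.nilpotencyClass ↥(S : Subgroup G) ≤ 2)
    (T : Subgroup G) (hT : IsPGroup p ↥T) :
    ∀ x ∈ T, ∀ y ∈ T, ∀ z ∈ T, ⁅⁅x, y⁆, z⁆ = 1 := by
  obtain ⟨S, hTS⟩ := hT.exists_le_sylow
  obtain ⟨hnil, hcls⟩ := h2 S
  haveI := hnil
  have h3 : Subgroup.lowerCentralSeries (⊤ : Subgroup ↥(S : Subgroup G)) 2 = ⊥ :=
    Subgroup.lowerCentralSeries_eq_bot_iff_nilpotencyClass_le.mpr hcls
  intro x hx y hy z hz
  set x' : ↥(S : Subgroup G) := ⟨x, hTS hx⟩ with hx'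
  set y' : ↥(S : Subgroup G) := ⟨y, hTS hy⟩ with hy'
  set z' : ↥(S : Subgroup G) := ⟨z, hTS hz⟩ with hz'
  have h4 : ⁅⁅x', y'⁆, z'⁆ ∈
      Subgroup.lowerCentralSeries (⊤ : Subgroup ↥(S : Subgroup G)) 2 := by
    rw [Subgroup.lowerCentralSeries_succ, Subgroup.lowerCentralSeries_succ,
      Subgroup.lowerCentralSeries_zero]
    exact Subgroup.commutator_mem_commutator
      (Subgroup.commutator_mem_commutator (Subgroup.mem_top _) (Subgroup.mem_top _))
      (Subgroup.mem_top _)
  rw [h3, Subgroup.mem_bot] at h4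
  have h5 := congrArg ((S : Subgroup G).subtype) h4
  rw [map_commutatorElement, map_commutatorElement, map_one] at h5
  exact h5

end Cfsg.Agent.Helper14.TransCore
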