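import Mathlib
import Cfsg.Agent.Lib.Helper21.ClassSize
import Cfsg.Agent.Lib.Helper21.SmallClasses
import Cfsg.Agent.Lib.Helper20.PrimaryParts

/-!
General lemmas on class sizes (indices of centralizers) used for the theorem on groups whose two
largest class sizes are coprime.
-/

set_option autoImplicit false

namespace Cfsg.Agent.Helper14.TwoLargest

open Subgroup Cfsg.Agent.Helper21.ClassSize
open scoped Pointwise

variable {G : Type*} [Group G]

theorem cent_le_of_mem_zpowers {g a : G} (h : a ∈ zpowers g) :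
    centralizer ({g} : Set G) ≤ centralizer ({a} : Set G) := by
  intro x hx
  rw [mem_centralizer_singleton] at hx ⊢
  obtain ⟨k, rfl⟩ := h
  exact (Commute.zpow_left (show Commute g x from hx) k).eq

theorem idx_dvd_of_cent_le {g a : G}
    (h : centralizer ({g} : Set G) ≤ centralizer ({a} : Set G)) : idx a ∣ idx g :=
  index_dvd_of_le h

theorem eq_of_le_of_index_eq [Finite G] {H K : Subgroup G} (h : H ≤ K)
    (hi : H.index = K.index) : H = K := by
  have h1 := relIndex_mul_index h
  rw [hi] at h1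
  have hK : 0 < K.index := Nat.pos_of_ne_zero index_ne_zero_of_finite
  have h2 : H.relIndex K = 1 := by
    have : H.relIndex K * K.index = 1 * K.index := by rw [h1, one_mul]
    exact Nat.eq_of_mul_eq_mul_right hK this
  exact le_antisymm h (relIndex_eq_one.mp h2)

theorem idx_one : idx (1 : G) = 1 := idx_eq_one_iff.mpr (one_mem _)

theorem idx_inv (g : G) : idx g⁻¹ = idx g := by
  have : centralizer ({g⁻¹} : Set G) = centralizer ({g} : Set G) := by
    ext x
    rw [mem_centralizer_singleton, mem_centralizer_singleton]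
    constructor
    · intro h
      have h' : Commute g⁻¹ x := h
      exact (Commute.inv_left_iff.mp h').eq
    · intro h
      have h' : Commute g x := h
      exact h'.inv_left.eq
  rw [idx, idx, this]

theorem mem_zpowers_mul_of_coprime {a b : G} (hc : Commute a b)
    (hcop : (orderOf a).Coprime (orderOf b)) :
    a ∈ zpowers (a * b) ∧ b ∈ zpowers (a * b) := by
  constructor
  · obtain ⟨j, hj⟩ := exists_pow_eq_self_of_coprime (x := a) (n := orderOf b) hcop.symm
    have h1 : (a * b) ^ (orderOf b) = a ^ (orderOf b) := by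
      rw [hc.mul_pow, pow_orderOf_eq_one, mul_one]
    have h2 : ((a * b) ^ (orderOf b)) ^ j = a := by rw [h1, hj]
    have h3 : ((a * b) ^ (orderOf b)) ^ j ∈ zpowers (a * b) :=
      Subgroup.pow_mem _ (Subgroup.pow_mem _ (mem_zpowers (a * b)) _) _
    rwa [h2] at h3
  · obtain ⟨j, hj⟩ := exists_pow_eq_self_of_coprime (x := b) (n := orderOf a) hcop
    have h1 : (a * b) ^ (orderOf a) = b ^ (orderOf a) := by
      rw [hc.mul_pow, pow_orderOf_eq_one, one_mul]
    have h2 : ((a * b) ^ (orderOf a)) ^ j = b := by rw [h1, hj]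
    have h3 : ((a * b) ^ (orderOf a)) ^ j ∈ zpowers (a * b) :=
      Subgroup.pow_mem _ (Subgroup.pow_mem _ (mem_zpowers (a * b)) _) _
    rwa [h2] at h3

/-- the maximality trick -/
theorem cent_le_of_max [Finite G] {a g : G} (hc : Commute a g)
    (hcop : (orderOf a).Coprime (orderOf g)) (hmax : idx (a * g) ≤ idx g) :
    centralizer ({g} : Set G) ≤ centralizer ({a} : Set G) := by
  obtain ⟨h1, h2⟩ := mem_zpowers_mul_of_coprime hc hcop
  have e1 : centralizer ({a * g} : Set G) ≤ centralizer ({g} : Set G) := cent_le_of_mem_zpowers h2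
  have e2 : idx g ∣ idx (a * g) := index_dvd_of_le e1
  have e3 : idx (a * g) = idx g := le_antisymm hmax (Nat.le_of_dvd (idx_pos _) e2)
  have e4 : centralizer ({a * g} : Set G) = centralizer ({g} : Set G) := eq_of_le_of_index_eq e1 e3
  rw [← e4]
  exact cent_le_of_mem_zpowers h1

theorem conj_mem_cls_iff (c a x : G) : a * x * a⁻¹ ∈ cls c ↔ x ∈ cls c := by
  constructor
  · rintro ⟨b, hb⟩
    refine ⟨a⁻¹ * b, ?_⟩
    have : a⁻¹ * b * c * (a⁻¹ * b)⁻¹ = a⁻¹ * (b * c * b⁻¹) * a := by group
    rw [this, hb]; group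
  · rintro ⟨b, rfl⟩
    exact ⟨a * b, by group⟩

/-- the right stabilizer of a class, with all the properties exported -/
theorem exists_stab [Finite G] (c : G) (D : Set G) (hmax : ∀ d ∈ D, idx (c * d) ≤ idx c) :
    ∃ M : Subgroup G, M.Normal ∧ Nat.card M ∣ idx c ∧
      (∀ x ∈ cls c, ∀ μ ∈ M, x * μ ∈ cls c) ∧
      (∀ d ∈ D, Nat.Coprime (idx c) (idx d) → ∀ b : G, b * d * b⁻¹ * d⁻¹ ∈ M) ∧
      (∀ d ∈ D, Nat.Coprime (idx c) (idx d) → idx (c * d) = idx c) := by
  classical
  let M : Subgroup G :=
    { carrier := {m | ∀ x, x ∈ cls c ↔ x * m ∈ cls c}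
      mul_mem' := by
        intro a b ha hb x
        rw [ha x, hb (x * a), mul_assoc]
      one_mem' := by intro x; simp
      inv_mem' := by
        intro a ha x
        have := ha (x * a⁻¹)
        simpa using this.symm }
  have hMmem : ∀ m, m ∈ M ↔ ∀ x, x ∈ cls c ↔ x * m ∈ cls c := fun m => Iff.rfl
  have hfin : (cls c).Finite := Set.toFinite _
  have hmemof : ∀ μ : G, (∀ x ∈ cls c, x * μ ∈ cls c) → μ ∈ M := by
    intro μ h
    rw [hMmem]
    intro x
    refine ⟨h x, fun hx => ?_⟩
    have : Finite (cls c) := hfin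
    let f : cls c → cls c := fun y => ⟨y.1 * μ, h y.1 y.2⟩
    have hinj : Function.Injective f := by
      intro y z hyz
      have := congrArg Subtype.val hyz
      exact Subtype.ext (mul_right_cancel this)
    obtain ⟨y, hy⟩ := Finite.surjective_of_injective hinj ⟨x * μ, hx⟩
    have := congrArg Subtype.val hy
    have hxy : y.1 = x := mul_right_cancel this
    rw [← hxy]; exact y.2
  have himg : ∀ d ∈ D, Nat.Coprime (idx c) (idx d) → (fun y => y * d) '' cls c = cls (c * d) := by
    intro d hdD hcd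
    apply Set.eq_of_subset_of_ncard_le
    · rintro _ ⟨y, hy, rfl⟩
      exact mul_mem_cls_of_coprime hcd hy (mem_cls_self d)
    · rw [Set.ncard_image_of_injective _ (mul_left_injective d), ncard_cls, ncard_cls]
      exact hmax d hdD
    · exact Set.toFinite _
  refine ⟨M, ⟨?_⟩, ?_, ?_, ?_, ?_⟩
  · intro n hn g
    rw [hMmem] at hn ⊢
    intro x
    rw [← conj_mem_cls_iff c g⁻¹ x, hn, ← conj_mem_cls_iff c g]
    have : g * (g⁻¹ * x * g⁻¹⁻¹ * n) * g⁻¹ = x * (g * n * g⁻¹) := by group
    rw [this]
  · have h1 := Subgroup.card_mul_eq_card_subgroup_mul_card_quotient M (cls c)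
    have h2 : (cls c * (M : Set G)) = cls c := by
      ext x
      constructor
      · rintro ⟨y, hy, m, hm, rfl⟩
        exact ((hMmem m).1 hm y).1 hy
      · intro hx
        exact ⟨x, hx, 1, M.one_mem, by simp⟩
    rw [h2, Nat.card_coe_set_eq, ncard_cls] at h1
    exact ⟨_, h1⟩
  · intro x hx μ hμ
    exact ((hMmem μ).1 hμ x).1 hx
  · intro d hdD hcd b
    apply hmemof
    intro x hx
    have h1 : x * (b * d * b⁻¹) ∈ cls (c * d) :=
      mul_mem_cls_of_coprime hcd hx (conj_mem_cls d b)
    rw [← himg d hdD hcd] at h1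
    obtain ⟨y, hy, hyx⟩ := h1
    have : x * (b * d * b⁻¹ * d⁻¹) = y := by
      have : y = x * (b * d * b⁻¹) * d⁻¹ := by rw [← hyx]; group
      rw [this]; group
    rw [this]; exact hy
  · intro d hdD hcd
    have h1 := congrArg Set.ncard (himg d hdD hcd)
    rw [Set.ncard_image_of_injective _ (mul_left_injective d), ncard_cls, ncard_cls] at h1
    exact h1.symm

end Cfsg.Agent.Helper14.TwoLargest
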