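import Mathlib
import Cfsg.Agent.Lib.Helper14.TwoLargestA

/-!
General lemmas (continued): fixed points of conjugation by a `p`-element on a finite set,
the commutator homomorphism of an abelian normal subgroup, and an orbit-counting bound.
-/

set_option autoImplicit false

namespace Cfsg.Agent.Helper14.TwoLargest

open Subgroup Cfsg.Agent.Helper21.ClassSize
open scoped Pointwise

variable {G : Type*} [Group G]

/-- conjugation by an element of `p`-power order on an invariant finite set of size prime to `p`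
has a fixed point -/
theorem exists_fixed_conj [Finite G] {p : ℕ} [Fact p.Prime] (Ω : Set G) (d : G) {k : ℕ}
    (hd : d ^ (p ^ k) = 1) (hinv : ∀ g ∈ Ω, d * g * d⁻¹ ∈ Ω) (hcard : ¬ p ∣ Ω.ncard) :
    ∃ g ∈ Ω, d * g * d⁻¹ = g := by
  classical
  haveI : Fintype Ω := Fintype.ofFinite _
  let f : Function.End Ω := fun g => ⟨d * g.1 * d⁻¹, hinv g.1 g.2⟩
  have hpow : ∀ j : ℕ, ∀ g : Ω, ((f ^ j) g).1 = d ^ j * g.1 * (d ^ j)⁻¹ := by
    intro j
    induction j with
    | zero =>
      intro g
      rw [pow_zero, pow_zero, one_mul, inv_one, mul_one]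
      rfl
    | succ j ih =>
      intro g
      rw [pow_succ']
      change (f ((f ^ j) g)).1 = _
      change d * ((f ^ j) g).1 * d⁻¹ = _
      rw [ih g, pow_succ']
      group
  have hf : f ^ p ^ k = 1 := by
    funext g
    apply Subtype.ext
    have : ((f ^ p ^ k) g).1 = g.1 := by
      rw [hpow, hd]; simp
    exact this
  have h1 := Equiv.Perm.card_fixedPoints_modEq (p := p) (n := k) hf
  by_contra hcon
  push Not at hcon
  have h2 : IsEmpty (Function.fixedPoints f) := by
    constructor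
    rintro ⟨g, hg⟩
    have := congrArg Subtype.val hg
    exact hcon g.1 g.2 this
  rw [Fintype.card_eq_zero_iff.mpr h2] at h1
  have h3 : p ∣ Fintype.card Ω := (Nat.modEq_zero_iff_dvd.mp h1)
  apply hcard
  rwa [← Nat.card_coe_set_eq, Nat.card_eq_fintype_card]

/-- if a subgroup `T` contains all the `p`-elements of `D` then `p` does not divide `|D : D ∩ T|` -/
theorem not_dvd_relIndex_of_pElements [Finite G] {p : ℕ} [Fact p.Prime] (T D : Subgroup G)
    (h : ∀ u ∈ D, (∃ k : ℕ, orderOf u = p ^ k) → u ∈ T) : ¬ p ∣ T.relIndex D := by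
  obtain ⟨Q⟩ : Nonempty (Sylow p D) := inferInstance
  have hQ : (Q : Subgroup D) ≤ T.subgroupOf D := by
    intro q hq
    rw [mem_subgroupOf]
    apply h _ q.2
    obtain ⟨k, hk⟩ := IsPGroup.iff_orderOf.mp Q.isPGroup' ⟨q, hq⟩
    refine ⟨k, ?_⟩
    have : orderOf (q : G) = orderOf (⟨q, hq⟩ : (Q : Subgroup D)) := by
      rw [← Subgroup.orderOf_coe, ← Subgroup.orderOf_coe]
    rw [this, hk]
  intro hdvd
  have h1 : (T.subgroupOf D).index ∣ (Q : Subgroup D).index := index_dvd_of_le hQ
  exact Q.not_dvd_index (hdvd.trans h1)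

section lam

variable (S : Subgroup G) [S.Normal] (hab : ∀ a ∈ S, ∀ b ∈ S, a * b = b * a) (d : G)

/-- `s ↦ s * (d s d⁻¹)⁻¹` on an abelian normal subgroup -/
noncomputable def lam : ↥S →* G :=
  MonoidHom.mk' (fun s => (s : G) * (d * s * d⁻¹)⁻¹) (by
    intro a b
    have ha' : d * (a : G) * d⁻¹ ∈ S := Subgroup.Normal.conj_mem inferInstance _ a.2 d
    have hb' : d * (b : G) * d⁻¹ ∈ S := Subgroup.Normal.conj_mem inferInstance _ b.2 d
    have e1 : d * ((a * b : S) : G) * d⁻¹ = (d * a * d⁻¹) * (d * b * d⁻¹) := by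
      rw [Subgroup.coe_mul]; group
    have c1 : (b : G) * (d * a * d⁻¹)⁻¹ = (d * a * d⁻¹)⁻¹ * b :=
      hab _ b.2 _ (S.inv_mem ha')
    have c2 : (d * (b : G) * d⁻¹)⁻¹ * (d * a * d⁻¹)⁻¹ = (d * a * d⁻¹)⁻¹ * (d * b * d⁻¹)⁻¹ :=
      hab _ (S.inv_mem hb') _ (S.inv_mem ha')
    rw [e1, mul_inv_rev, Subgroup.coe_mul]
    calc (a : G) * b * ((d * b * d⁻¹)⁻¹ * (d * a * d⁻¹)⁻¹)
        = a * b * ((d * a * d⁻¹)⁻¹ * (d * b * d⁻¹)⁻¹) := by rw [c2]
      _ = a * (b * (d * a * d⁻¹)⁻¹) * (d * b * d⁻¹)⁻¹ := by group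
      _ = a * ((d * a * d⁻¹)⁻¹ * b) * (d * b * d⁻¹)⁻¹ := by rw [c1]
      _ = a * (d * a * d⁻¹)⁻¹ * (b * (d * b * d⁻¹)⁻¹) := by group)

theorem lam_apply (s : S) : lam S hab d s = (s : G) * (d * s * d⁻¹)⁻¹ := rfl

theorem lam_range_le : (lam S hab d).range ≤ S := by
  rintro _ ⟨s, rfl⟩
  rw [lam_apply]
  exact S.mul_mem s.2 (S.inv_mem (Subgroup.Normal.conj_mem inferInstance _ s.2 d))

theorem lam_ker : (lam S hab d).ker = (centralizer ({d} : Set G)).subgroupOf S := by
  ext s
  rw [MonoidHom.mem_ker, lam_apply, mem_subgroupOf, mem_centralizer_singleton]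
  constructor
  · intro h
    have : (s : G) = d * s * d⁻¹ := by
      have := mul_inv_eq_one.mp h
      exact this
    calc d * (s : G) = (d * s * d⁻¹) * d := by group
      _ = s * d := by rw [← this]
  · intro h
    rw [mul_inv_eq_one]
    calc (s : G) = (s * d) * d⁻¹ := by group
      _ = d * s * d⁻¹ := by rw [← h]

theorem card_lam_range [Finite G] :
    Nat.card (lam S hab d).range = (centralizer ({d} : Set G)).relIndex S := by
  rw [← Subgroup.index_ker, lam_ker]
  rfl

/-- the range is stable under conjugation by elements commuting with `d` -/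
theorem conj_mem_lam_range {h : G} (hh : Commute h d) {u : G} (hu : u ∈ (lam S hab d).range) :
    h * u * h⁻¹ ∈ (lam S hab d).range := by
  obtain ⟨s, rfl⟩ := hu
  refine ⟨⟨h * s * h⁻¹, Subgroup.Normal.conj_mem inferInstance _ s.2 h⟩, ?_⟩
  rw [lam_apply, lam_apply]
  have e : d * (h * (s : G) * h⁻¹) * d⁻¹ = h * (d * s * d⁻¹) * h⁻¹ := by
    have h1 : d * h = h * d := hh.eq.symm
    have h2 : h⁻¹ * d⁻¹ = d⁻¹ * h⁻¹ := by
      rw [← mul_inv_rev, ← mul_inv_rev, h1]
    calc d * (h * (s : G) * h⁻¹) * d⁻¹ = (d * h) * s * (h⁻¹ * d⁻¹) := by group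
      _ = (h * d) * s * (d⁻¹ * h⁻¹) := by rw [h1, h2]
      _ = h * (d * s * d⁻¹) * h⁻¹ := by group
  simp only []
  rw [e]
  group

/-- orbit-counting bound -/
theorem card_lt_of_mem_range [Finite G] (x x₀ : G) (hx : x ∈ S)
    (hu : x₀⁻¹ * x ∈ (lam S hab d).range) (hne : x₀⁻¹ * x ≠ 1)
    (H : Subgroup G) (hHd : H ≤ centralizer ({d} : Set G)) (hHx : H ≤ centralizer ({x₀} : Set G)) :
    Nat.card H < Nat.card (centralizer ({x} : Set G)) := by
  classical
  set u := x₀⁻¹ * x with hu_def
  set L := (lam S hab d).range with hL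
  set T := centralizer ({x} : Set G) ⊓ centralizer ({d} : Set G) with hT
  -- (a) the orbit of u under H
  have hO : ({y | ∃ h ∈ H, h * u * h⁻¹ = y} : Set G) ⊆ (L : Set G) \ {1} := by
    rintro y ⟨h, hh, rfl⟩
    constructor
    · have := hHd hh
      rw [mem_centralizer_singleton] at this
      exact conj_mem_lam_range S hab d (show Commute h d from this.symm) hu
    · intro h1
      apply hne
      have h2 : h * u * h⁻¹ = 1 := h1
      have : u = h⁻¹ * (h * u * h⁻¹) * h := by group
      rw [this, h2]; group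
  have hOcard : (centralizer ({u} : Set G)).relIndex H ≤ Nat.card L - 1 := by
    rw [← Cfsg.Agent.Helper21.SmallClasses.ncard_conj_orbit]
    have h1 := Set.ncard_le_ncard hO (Set.toFinite _)
    have h2 : ((L : Set G) \ {1}).ncard = Nat.card L - 1 := by
      rw [Set.ncard_diff_singleton_of_mem (L.one_mem)]
      rfl
    rwa [h2] at h1
  -- (b)
  have hb := relIndex_mul_card_inf (centralizer ({u} : Set G)) H
  -- (c)
  have hc : centralizer ({u} : Set G) ⊓ H ≤ T := by
    intro h hh
    rw [mem_inf] at hh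
    rw [hT, mem_inf]
    have h1 := hh.1
    have h2 := hHx hh.2
    have h3 := hHd hh.2
    rw [mem_centralizer_singleton] at h1 h2
    refine ⟨?_, h3⟩
    rw [mem_centralizer_singleton]
    have hxe : x = x₀ * u := by rw [hu_def]; group
    rw [hxe]
    calc x₀ * u * h = x₀ * (u * h) := by group
      _ = x₀ * (h * u) := by rw [h1]
      _ = (x₀ * h) * u := by group
      _ = (h * x₀) * u := by rw [h2]
      _ = h * (x₀ * u) := by group
  -- (d)
  have hSx : S ≤ centralizer ({x} : Set G) := by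
    intro s hs
    rw [mem_centralizer_singleton]
    exact hab x hx s hs
  have hTS : T ⊔ S ≤ centralizer ({x} : Set G) := sup_le inf_le_left hSx
  have hd1 : Nat.card T * Nat.card L ≤ Nat.card (centralizer ({x} : Set G)) := by
    have e1 := relIndex_mul_card_inf T (T ⊔ S)
    have e2 : T ⊓ (T ⊔ S) = T := inf_eq_left.mpr le_sup_left
    rw [e2, Cfsg.Agent.Helper21.SmallClasses.relIndex_sup_of_normal_right] at e1
    have e3 : (centralizer ({d} : Set G)).relIndex S ∣ T.relIndex S :=
      relIndex_dvd_of_le_left S (inf_le_right)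
    have e4 : 0 < T.relIndex S := Nat.pos_of_ne_zero (by
      unfold relIndex; exact index_ne_zero_of_finite)
    have e5 : Nat.card L ≤ T.relIndex S := by
      rw [hL, card_lam_range]
      exact Nat.le_of_dvd e4 e3
    calc Nat.card T * Nat.card L ≤ Nat.card T * T.relIndex S := Nat.mul_le_mul_left _ e5
      _ = T.relIndex S * Nat.card T := mul_comm _ _
      _ = Nat.card ↥(T ⊔ S) := e1
      _ ≤ Nat.card (centralizer ({x} : Set G)) := Subgroup.card_le_of_le hTS
  -- (e)
  have hLpos : 0 < Nat.card L := Nat.card_pos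
  have he1 : Nat.card H ≤ (Nat.card L - 1) * Nat.card T := by
    rw [← hb]
    exact Nat.mul_le_mul hOcard (Subgroup.card_le_of_le hc)
  have he2 : Nat.card H * Nat.card L ≤ (Nat.card L - 1) * Nat.card (centralizer ({x} : Set G)) := by
    calc Nat.card H * Nat.card L ≤ (Nat.card L - 1) * Nat.card T * Nat.card L :=
          Nat.mul_le_mul_right _ he1
      _ = (Nat.card L - 1) * (Nat.card T * Nat.card L) := by ring
      _ ≤ (Nat.card L - 1) * Nat.card (centralizer ({x} : Set G)) := Nat.mul_le_mul_left _ hd1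
  have hCpos : 0 < Nat.card (centralizer ({x} : Set G)) := Nat.card_pos
  by_contra hcon
  push Not at hcon
  have he3 : Nat.card (centralizer ({x} : Set G)) * Nat.card L ≤
      (Nat.card L - 1) * Nat.card (centralizer ({x} : Set G)) :=
    le_trans (Nat.mul_le_mul_right _ hcon) he2
  have he4 : (Nat.card L - 1) * Nat.card (centralizer ({x} : Set G)) <
      Nat.card L * Nat.card (centralizer ({x} : Set G)) :=
    Nat.mul_lt_mul_of_pos_right (by omega) hCpos
  rw [mul_comm (Nat.card (centralizer ({x} : Set G))) (Nat.card L)] at he3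
  omega

end lam

end Cfsg.Agent.Helper14.TwoLargest
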