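import Mathlib
import Cfsg.Agent.Lib.Helper14.TwoLargestB

/-!
Groups whose two largest class sizes `m > n > 1` are coprime: the abelian normal subgroup
generated by the elements of class size prime to `m`.
-/

set_option autoImplicit false

namespace Cfsg.Agent.Helper14.TwoLargest

open Subgroup Cfsg.Agent.Helper21.ClassSize

variable {G : Type*} [Group G]

/-- the hypothesis: `m > n > 1` coprime, all class sizes `≤ m`, those `< m` are `≤ n`, both occur -/
structure Hyp (G : Type*) [Group G] (m n : ℕ) : Prop where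
  hmn : n < m
  hn : 1 < n
  hcop : m.Coprime n
  htop : ∀ z : G, idx z ≤ m
  hsec : ∀ z : G, idx z < m → idx z ≤ n
  ey : ∃ y : G, idx y = m
  ex : ∃ x : G, idx x = n

/-- elements of class size prime to `m` -/
def W (G : Type*) [Group G] (m : ℕ) : Set G := {w | (idx w).Coprime m}

/-- the subgroup they generate -/
def Sg (G : Type*) [Group G] (m : ℕ) : Subgroup G := closure (W G m)

/-- commutators with elements of `W` -/
def comms (G : Type*) [Group G] (m : ℕ) : Set G :=
  {k | ∃ w ∈ W G m, ∃ b : G, k = b * w * b⁻¹ * w⁻¹}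

/-- the subgroup generated by the commutators -/
def Ks (G : Type*) [Group G] (m : ℕ) : Subgroup G := closure (comms G m)

theorem closure_normal_of_conj {s : Set G} (hs : ∀ x ∈ s, ∀ g : G, g * x * g⁻¹ ∈ s) :
    (closure s).Normal := by
  constructor
  intro n hn g
  induction hn using closure_induction with
  | mem x hx => exact subset_closure (hs x hx g)
  | one => simp
  | mul x y _ _ hx hy =>
    have : g * (x * y) * g⁻¹ = (g * x * g⁻¹) * (g * y * g⁻¹) := by group
    rw [this]; exact mul_mem hx hy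
  | inv x _ hx =>
    have : g * x⁻¹ * g⁻¹ = (g * x * g⁻¹)⁻¹ := by group
    rw [this]; exact inv_mem hx

variable {m n : ℕ}

theorem mem_W {w : G} : w ∈ W G m ↔ (idx w).Coprime m := Iff.rfl

theorem W_conj {w : G} (hw : w ∈ W G m) (g : G) : g * w * g⁻¹ ∈ W G m := by
  rw [mem_W] at *
  rwa [idx_conj]

instance Sg_normal (m : ℕ) : (Sg G m).Normal :=
  closure_normal_of_conj (fun _ hx g => W_conj hx g)

theorem comms_conj {k : G} (hk : k ∈ comms G m) (g : G) : g * k * g⁻¹ ∈ comms G m := by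
  obtain ⟨w, hw, b, rfl⟩ := hk
  refine ⟨g * w * g⁻¹, W_conj hw g, g * b * g⁻¹, ?_⟩
  group

instance Ks_normal (m : ℕ) : (Ks G m).Normal :=
  closure_normal_of_conj (fun _ hx g => comms_conj hx g)

theorem Ks_le_Sg (m : ℕ) : Ks G m ≤ Sg G m := by
  rw [Ks, closure_le]
  rintro k ⟨w, hw, b, rfl⟩
  have h1 : b * w * b⁻¹ ∈ Sg G m := subset_closure (W_conj hw b)
  have h2 : w ∈ Sg G m := subset_closure hw
  exact mul_mem h1 (inv_mem h2)

theorem center_le_Sg (m : ℕ) : center G ≤ Sg G m := by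
  intro z hz
  apply Subgroup.subset_closure
  rw [mem_W, idx_eq_one_iff.mpr hz]
  exact Nat.coprime_one_left m

theorem mem_W_of_idx_eq (h : Hyp G m n) {x : G} (hx : idx x = n) : x ∈ W G m := by
  rw [mem_W, hx]; exact h.hcop.symm

theorem stab_facts [Finite G] (h : Hyp G m n) {y : G} (hy : idx y = m) :
    Nat.card (Ks G m) ∣ m ∧ (∀ k ∈ Ks G m, y * k ∈ cls y) ∧ (∀ w ∈ W G m, idx (y * w) = m) := by
  obtain ⟨M, hMn, hMc, hMs, hMk, hMi⟩ := exists_stab y Set.univ
    (fun d _ => by rw [hy]; exact h.htop _)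
  have hcw : ∀ w ∈ W G m, Nat.Coprime (idx y) (idx w) := by
    intro w hw
    rw [hy]; exact (mem_W.mp hw).symm
  have hle : Ks G m ≤ M := by
    rw [Ks, closure_le]
    rintro k ⟨w, hw, b, rfl⟩
    exact hMk w (Set.mem_univ _) (hcw w hw) b
  refine ⟨?_, ?_, ?_⟩
  · have := (Subgroup.card_dvd_of_le hle).trans hMc
    rwa [hy] at this
  · intro k hk; exact hMs y (mem_cls_self y) k (hle hk)
  · intro w hw; rw [hMi w (Set.mem_univ _) (hcw w hw), hy]

theorem idx_mul_Sg [Finite G] (h : Hyp G m n) {s : G} (hs : s ∈ Sg G m) :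
    ∀ y : G, idx y = m → idx (y * s) = m := by
  have hpow : ∀ t : G, (∀ y, idx y = m → idx (y * t) = m) →
      ∀ j : ℕ, ∀ y, idx y = m → idx (y * t ^ j) = m := by
    intro t ht j
    induction j with
    | zero => intro y hy; simpa using hy
    | succ j ih =>
      intro y hy
      rw [pow_succ, ← mul_assoc]
      exact ht _ (ih y hy)
  induction hs using closure_induction with
  | mem w hw => intro y hy; exact (stab_facts h hy).2.2 w hw
  | one => intro y hy; simpa using hy
  | mul a b _ _ ha hb => intro y hy; rw [← mul_assoc]; exact hb _ (ha y hy)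
  | inv a _ ha =>
    intro y hy
    have hinv : a⁻¹ = a ^ (orderOf a - 1) := by
      apply inv_eq_of_mul_eq_one_right
      rw [← pow_succ', Nat.sub_add_cancel (orderOf_pos a), pow_orderOf_eq_one]
    rw [hinv]; exact hpow a ha _ y hy

theorem idx_ne_of_mem_Sg [Finite G] (h : Hyp G m n) {s : G} (hs : s ∈ Sg G m) : idx s ≠ m := by
  intro hsm
  have h1 := idx_mul_Sg h ((Sg G m).inv_mem hs) s hsm
  rw [mul_inv_cancel, idx_one] at h1
  have := h.hmn; have := h.hn; omega

theorem idx_le_of_mem_Sg [Finite G] (h : Hyp G m n) {s : G} (hs : s ∈ Sg G m) : idx s ≤ n :=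
  h.hsec s (lt_of_le_of_ne (h.htop s) (idx_ne_of_mem_Sg h hs))

theorem comm_mem_Ks {s : G} (hs : s ∈ Sg G m) : ∀ b : G, b * s * b⁻¹ * s⁻¹ ∈ Ks G m := by
  induction hs using closure_induction with
  | mem w hw => intro b; exact subset_closure ⟨w, hw, b, rfl⟩
  | one => intro b; simp
  | mul s t _ _ hs ht =>
    intro b
    have : b * (s * t) * b⁻¹ * (s * t)⁻¹ =
        (b * s * b⁻¹ * s⁻¹) * (s * (b * t * b⁻¹ * t⁻¹) * s⁻¹) := by group
    rw [this]
    exact mul_mem (hs b) ((Ks_normal m).conj_mem _ (ht b) s)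
  | inv s _ hs =>
    intro b
    have : b * s⁻¹ * b⁻¹ * s⁻¹⁻¹ = s⁻¹ * (b * s * b⁻¹ * s⁻¹)⁻¹ * s⁻¹⁻¹ := by group
    rw [this]
    exact (Ks_normal m).conj_mem _ (inv_mem (hs b)) s⁻¹

theorem Ks_le_cent_W [Finite G] (h : Hyp G m n) {w : G} (hw : w ∈ W G m) :
    Ks G m ≤ centralizer ({w} : Set G) := by
  obtain ⟨y, hy⟩ := h.ey
  have hc := (stab_facts h hy).1
  rw [← relIndex_eq_one]
  have h1 : (centralizer ({w} : Set G)).relIndex (Ks G m) ∣ idx w :=
    relIndex_dvd_index_of_normal_right _ _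
  have h2 : (centralizer ({w} : Set G)).relIndex (Ks G m) ∣ m :=
    (relIndex_dvd_card _ _).trans hc
  exact Nat.Coprime.eq_one_of_dvd (Nat.Coprime.coprime_dvd_left h2 (mem_W.mp hw).symm) h1

theorem Sg_comm_Ks [Finite G] (h : Hyp G m n) {s k : G} (hs : s ∈ Sg G m) (hk : k ∈ Ks G m) :
    s * k = k * s := by
  have hle : Sg G m ≤ centralizer (Ks G m : Set G) := by
    show closure (W G m) ≤ _
    rw [closure_le]
    intro w hw
    rw [SetLike.mem_coe, mem_centralizer_iff]
    intro k hk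
    have := Ks_le_cent_W h hw hk
    rw [mem_centralizer_singleton] at this
    exact this.symm
  have := hle hs
  rw [mem_centralizer_iff] at this
  exact (this k hk).symm

theorem Sg_le_cent_W [Finite G] (h : Hyp G m n) {w : G} (hw : w ∈ W G m) :
    Sg G m ≤ centralizer ({w} : Set G) := by
  have hwS : w ∈ Sg G m := subset_closure hw
  let φ : ↥(Sg G m) →* G := MonoidHom.mk' (fun s => (s : G) * w * (s : G)⁻¹ * w⁻¹) (by
    intro s t
    have kt : (t : G) * w * (t : G)⁻¹ * w⁻¹ ∈ Ks G m := comm_mem_Ks hwS t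
    have ks : (s : G) * w * (s : G)⁻¹ * w⁻¹ ∈ Ks G m := comm_mem_Ks hwS s
    have c1 : (s : G) * ((t : G) * w * (t : G)⁻¹ * w⁻¹) = ((t : G) * w * (t : G)⁻¹ * w⁻¹) * s :=
      Sg_comm_Ks h s.2 kt
    have c2 : ((s : G) * w * (s : G)⁻¹ * w⁻¹) * ((t : G) * w * (t : G)⁻¹ * w⁻¹) =
        ((t : G) * w * (t : G)⁻¹ * w⁻¹) * ((s : G) * w * (s : G)⁻¹ * w⁻¹) :=
      Sg_comm_Ks h (Ks_le_Sg m ks) kt
    rw [Subgroup.coe_mul]
    calc (s : G) * t * w * ((s : G) * t)⁻¹ * w⁻¹
        = ((s : G) * ((t : G) * w * (t : G)⁻¹ * w⁻¹)) * w * (s : G)⁻¹ * w⁻¹ := by group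
      _ = (((t : G) * w * (t : G)⁻¹ * w⁻¹) * s) * w * (s : G)⁻¹ * w⁻¹ := by rw [c1]
      _ = ((t : G) * w * (t : G)⁻¹ * w⁻¹) * ((s : G) * w * (s : G)⁻¹ * w⁻¹) := by group
      _ = _ := c2.symm)
  have hφ : ∀ s : ↥(Sg G m), φ s = (s : G) * w * (s : G)⁻¹ * w⁻¹ := fun _ => rfl
  have hker : φ.ker = (centralizer ({w} : Set G)).subgroupOf (Sg G m) := by
    ext s
    rw [MonoidHom.mem_ker, hφ, mem_subgroupOf, mem_centralizer_singleton]
    constructor
    · intro h1
      have h2 : (s : G) * w * (s : G)⁻¹ = w := by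
        have := mul_inv_eq_one.mp h1
        exact this
      calc w * (s : G) = ((s : G) * w * (s : G)⁻¹) * s := by rw [h2]
        _ = s * w := by group
    · intro h1
      rw [mul_inv_eq_one]
      calc (s : G) * w * (s : G)⁻¹ = (w * s) * (s : G)⁻¹ := by rw [h1]
        _ = w := by group
  have hrange : φ.range ≤ Ks G m := by
    rintro _ ⟨s, rfl⟩
    rw [hφ]
    exact comm_mem_Ks hwS s
  obtain ⟨y, hy⟩ := h.ey
  have hc := (stab_facts h hy).1
  have h1 : (centralizer ({w} : Set G)).relIndex (Sg G m) ∣ m := by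
    have : (centralizer ({w} : Set G)).relIndex (Sg G m) = Nat.card φ.range := by
      rw [← Subgroup.index_ker, hker]; rfl
    rw [this]
    exact (Subgroup.card_dvd_of_le hrange).trans hc
  have h2 : (centralizer ({w} : Set G)).relIndex (Sg G m) ∣ idx w :=
    relIndex_dvd_index_of_normal_right _ _
  rw [← relIndex_eq_one]
  exact Nat.Coprime.eq_one_of_dvd (Nat.Coprime.coprime_dvd_left h1 (mem_W.mp hw).symm) h2

theorem Sg_comm [Finite G] (h : Hyp G m n) : ∀ a ∈ Sg G m, ∀ b ∈ Sg G m, a * b = b * a := by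
  have hle : Sg G m ≤ centralizer (Sg G m : Set G) := by
    show closure (W G m) ≤ _
    rw [closure_le]
    intro w hw
    rw [SetLike.mem_coe, mem_centralizer_iff]
    intro s hs
    have := Sg_le_cent_W h hw hs
    rw [mem_centralizer_singleton] at this
    exact this.symm
  intro a ha b hb
  have := hle ha
  rw [mem_centralizer_iff] at this
  exact (this b hb).symm

theorem coprime_of_pi {a b : ℕ} (h : Hyp G m n) (ha : ∀ q : ℕ, q.Prime → q ∣ a → q ∣ m)
    (hb : b ∣ n) : a.Coprime b := by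
  by_contra hcon
  obtain ⟨p, hp, hpa, hpb⟩ := Nat.Prime.not_coprime_iff_dvd.mp hcon
  have h1 : p ∣ m := ha p hp hpa
  have h2 : p ∣ n := hpb.trans hb
  have h3 : p ∣ 1 := by
    have := Nat.dvd_gcd h1 h2
    rwa [h.hcop] at this
  exact hp.one_lt.ne' (Nat.dvd_one.mp h3)

/-- elements of `Sg` of order prime to `m` are central -/
theorem mem_center_of_coprime_order [Finite G] (h : Hyp G m n) {s : G} (hs : s ∈ Sg G m)
    (hc : (orderOf s).Coprime m) : s ∈ center G := by
  rw [mem_center_iff]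
  intro b
  have hk := comm_mem_Ks hs b
  set k := b * s * b⁻¹ * s⁻¹ with hkdef
  have hcomm : Commute k s := (Sg_comm_Ks h hs hk).symm
  have hks : k * s = b * s * b⁻¹ := by rw [hkdef]; group
  have ho : orderOf (k * s) = orderOf s := by
    rw [hks]
    exact (MulAut.conj b).orderOf_eq s
  obtain ⟨y, hy⟩ := h.ey
  have hcard := (stab_facts h hy).1
  have hko : orderOf k ∣ m := (Subgroup.orderOf_dvd_natCard _ hk).trans hcard
  have hcop : (orderOf k).Coprime (orderOf s) := Nat.Coprime.coprime_dvd_left hko hc.symm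
  rw [hcomm.orderOf_mul_eq_mul_orderOf_of_coprime hcop] at ho
  have hk1 : orderOf k = 1 := by
    have hpos : 0 < orderOf s := orderOf_pos s
    have : orderOf k * orderOf s = 1 * orderOf s := by rw [ho, one_mul]
    exact Nat.eq_of_mul_eq_mul_right hpos this
  have hk1' : k = 1 := orderOf_eq_one_iff.mp hk1
  rw [hk1', one_mul] at hks
  calc b * s = (b * s * b⁻¹) * b := by group
    _ = s * b := by rw [← hks]

end Cfsg.Agent.Helper14.TwoLargest
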