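import Mathlib
import Cfsg.Agent.Lib.Helper14.TwoLargestC

/-!
Groups whose two largest class sizes are coprime: representatives of prime power order,
the classes of size `m` avoid the centralizers of the elements of size `n`.
-/

set_option autoImplicit false

namespace Cfsg.Agent.Helper14.TwoLargest

open Subgroup Cfsg.Agent.Helper21.ClassSize

variable {G : Type*} [Group G] {m n : ℕ}

/-- `g` is a `π(m)`-element -/
def PiElt (m : ℕ) (g : G) : Prop := ∀ q : ℕ, q.Prime → q ∣ orderOf g → q ∣ m

theorem cent_eq_of_central_mul {u v : G} (hu : u ∈ center G) :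
    centralizer ({u * v} : Set G) = centralizer ({v} : Set G) := by
  ext z
  rw [mem_centralizer_singleton, mem_centralizer_singleton]
  have hz : z * u = u * z := (mem_center_iff.mp hu z)
  constructor
  · intro h
    have : u * (v * z) = u * (z * v) := by
      calc u * (v * z) = u * v * z := by group
        _ = z * (u * v) := h
        _ = (z * u) * v := by group
        _ = (u * z) * v := by rw [hz]
        _ = u * (z * v) := by group
    exact mul_left_cancel this
  · intro h
    calc u * v * z = u * (v * z) := by group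
      _ = u * (z * v) := by rw [h]
      _ = (u * z) * v := by group
      _ = (z * u) * v := by rw [hz]
      _ = z * (u * v) := by group

theorem orderOf_lt_of_decomp {q : ℕ} (hq : q.Prime) {g u v : G} (hg : g = u * v)
    (hcomm : u * v = v * u) {k : ℕ} (hk : orderOf u = q ^ k) (hv : (orderOf v).Coprime q)
    (hu1 : u ≠ 1) (hvpos : 0 < orderOf v) : orderOf v < orderOf g := by
  have hc : Commute u v := hcomm
  have hcop : (orderOf u).Coprime (orderOf v) := by
    rw [hk]; exact (Nat.Coprime.pow_left k hv.symm)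
  rw [hg, hc.orderOf_mul_eq_mul_orderOf_of_coprime hcop]
  have h2 : 2 ≤ orderOf u := by
    have h0 : 0 < orderOf u := by rw [hk]; exact pow_pos hq.pos k
    have h1 : orderOf u ≠ 1 := fun h => hu1 (orderOf_eq_one_iff.mp h)
    omega
  nlinarith

/-- every element of `Sg` has the same centralizer as some `π(m)`-element of `Sg` -/
theorem exists_pi_rep [Finite G] (h : Hyp G m n) {g : G} (hg : g ∈ Sg G m) :
    ∃ x' ∈ Sg G m, centralizer ({x'} : Set G) = centralizer ({g} : Set G) ∧ PiElt m x' := by
  induction' hN : orderOf g using Nat.strong_induction_on with N ih generalizing g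
  by_cases hall : PiElt m g
  · exact ⟨g, hg, rfl, hall⟩
  · unfold PiElt at hall
    push Not at hall
    obtain ⟨q, hq, hqg, hqm⟩ := hall
    haveI := Fact.mk hq
    obtain ⟨u, v, huv, hcomm, ⟨k, hk⟩, hvq, huz, hvz⟩ :=
      Cfsg.Agent.Helper20.exists_pPart_decomp q g (orderOf_pos g)
    have hzle : zpowers g ≤ Sg G m := zpowers_le.mpr hg
    have huS : u ∈ Sg G m := hzle huz
    have hvS : v ∈ Sg G m := hzle hvz
    have huc : u ∈ center G := mem_center_of_coprime_order h huS (by
      rw [hk]; exact Nat.Coprime.pow_left k ((Nat.Prime.coprime_iff_not_dvd hq).mpr hqm))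
    have hC : centralizer ({v} : Set G) = centralizer ({g} : Set G) := by
      rw [huv]; exact (cent_eq_of_central_mul huc).symm
    have hu1 : u ≠ 1 := by
      intro hu1
      rw [hu1, one_mul] at huv
      rw [huv] at hqg
      exact (Nat.Prime.coprime_iff_not_dvd hq).mp hvq.symm hqg
    have hlt : orderOf v < orderOf g :=
      orderOf_lt_of_decomp hq huv hcomm hk hvq hu1 (orderOf_pos v)
    obtain ⟨x', hx'S, hx'C, hx'pi⟩ := ih (orderOf v) (hN ▸ hlt) hvS rfl
    exact ⟨x', hx'S, hx'C.trans hC, hx'pi⟩

/-- a class size dividing `m` is `1` or `m` -/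
theorem idx_eq_of_dvd [Finite G] (h : Hyp G m n) {u : G} (hu : idx u ∣ m) :
    idx u = 1 ∨ idx u = m := by
  by_contra hcon
  push Not at hcon
  obtain ⟨x, hx⟩ := h.ex
  obtain ⟨x', hx'S, hx'C, hx'pi⟩ := exists_pi_rep h (Subgroup.subset_closure (mem_W_of_idx_eq h hx))
  have hx'n : idx x' = n := by rw [idx, hx'C]; exact hx
  set m' := idx u with hm'
  have hm'lt : m' < m := lt_of_le_of_ne (h.htop u) hcon.2
  have hm'n : m' ≤ n := h.hsec u hm'lt
  have hcop : Nat.Coprime n m' := (Nat.Coprime.coprime_dvd_left hu h.hcop).symm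
  obtain ⟨M, hMn, hMc, hMs, hMk, -⟩ := exists_stab x' {d | idx d = m'} (by
    intro d hd
    have hd' : idx d = m' := hd
    have h1 : idx (x' * d) ∣ n * m' := by
      have := idx_mul_dvd (x := x') (y := d) (by rw [hx'n, hd']; exact hcop)
      rwa [hx'n, hd'] at this
    rw [hx'n]
    apply h.hsec
    apply lt_of_le_of_ne (h.htop _)
    intro heq
    rw [heq] at h1
    have h2 : m ∣ m' := (h.hcop).dvd_of_dvd_mul_left h1
    have := Nat.le_of_dvd (idx_pos u) h2
    omega)
  have hcentral : u ∈ center G := by
    rw [mem_center_iff]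
    intro b
    have hk : b * u * b⁻¹ * u⁻¹ ∈ M := hMk u rfl (by rw [hx'n]; exact hcop) b
    set k := b * u * b⁻¹ * u⁻¹ with hkdef
    have hxk : x' * k ∈ cls x' := hMs x' (mem_cls_self x') k hk
    have hclsS : ∀ z ∈ cls x', z ∈ Sg G m := by
      rintro z ⟨a, rfl⟩
      exact (Sg_normal m).conj_mem _ hx'S a
    have hkS : k ∈ Sg G m := by
      have h1 := hclsS _ hxk
      have h2 : k = x'⁻¹ * (x' * k) := by group
      rw [h2]; exact mul_mem (inv_mem hx'S) h1
    have hko : orderOf k ∣ n := by
      have := (Subgroup.orderOf_dvd_natCard _ hk).trans hMc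
      rwa [hx'n] at this
    have hkc : k ∈ center G :=
      mem_center_of_coprime_order h hkS (Nat.Coprime.coprime_dvd_left hko h.hcop.symm)
    obtain ⟨a, ha⟩ := hxk
    have ho : orderOf (x' * k) = orderOf x' := by
      rw [← ha]; exact (MulAut.conj a).orderOf_eq x'
    have hcomm : Commute x' k := (mem_center_iff.mp hkc x')
    have hcop2 : (orderOf x').Coprime (orderOf k) := coprime_of_pi h hx'pi hko
    rw [hcomm.orderOf_mul_eq_mul_orderOf_of_coprime hcop2] at ho
    have hk1 : orderOf k = 1 := by
      have hpos : 0 < orderOf x' := orderOf_pos x'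
      have : orderOf x' * orderOf k = orderOf x' * 1 := by rw [ho, mul_one]
      exact Nat.eq_of_mul_eq_mul_left hpos this
    have hk1' : k = 1 := orderOf_eq_one_iff.mp hk1
    have hbu : b * u * b⁻¹ = u := by
      have : b * u * b⁻¹ = k * u := by rw [hkdef]; group
      rw [this, hk1', one_mul]
    calc b * u = (b * u * b⁻¹) * b := by group
      _ = u * b := by rw [hbu]
  exact hcon.1 (idx_eq_one_iff.mpr hcentral)

/-- every element of class size `m` has the same centralizer as one of prime power order -/
theorem exists_pp_rep [Finite G] (h : Hyp G m n) {y : G} (hy : idx y = m) :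
    ∃ y' : G, centralizer ({y'} : Set G) = centralizer ({y} : Set G) ∧
      ∃ r k : ℕ, r.Prime ∧ orderOf y' = r ^ k := by
  induction' hN : orderOf y using Nat.strong_induction_on with N ih generalizing y
  have hy1 : y ≠ 1 := by
    intro h1
    rw [h1, idx_one] at hy
    have := h.hmn; have := h.hn; omega
  have ho1 : orderOf y ≠ 1 := fun h1 => hy1 (orderOf_eq_one_iff.mp h1)
  obtain ⟨r, hr, hry⟩ := Nat.exists_prime_and_dvd ho1
  haveI := Fact.mk hr
  obtain ⟨u, v, huv, hcomm, ⟨k, hk⟩, hvr, huz, hvz⟩ :=
    Cfsg.Agent.Helper20.exists_pPart_decomp r y (orderOf_pos y)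
  have hCu : centralizer ({y} : Set G) ≤ centralizer ({u} : Set G) := cent_le_of_mem_zpowers huz
  have hud : idx u ∣ m := hy ▸ idx_dvd_of_cent_le hCu
  rcases idx_eq_of_dvd h hud with hu1 | hum
  · -- `u` central
    have huc : u ∈ center G := idx_eq_one_iff.mp hu1
    have hC : centralizer ({v} : Set G) = centralizer ({y} : Set G) := by
      rw [huv]; exact (cent_eq_of_central_mul huc).symm
    have hu1' : u ≠ 1 := by
      intro hu1'
      rw [hu1', one_mul] at huv
      rw [huv] at hry
      exact (Nat.Prime.coprime_iff_not_dvd hr).mp hvr.symm hry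
    have hlt : orderOf v < orderOf y :=
      orderOf_lt_of_decomp hr huv hcomm hk hvr hu1' (orderOf_pos v)
    have hvm : idx v = m := by rw [idx, hC]; exact hy
    obtain ⟨y', hy'C, hy'pp⟩ := ih (orderOf v) (hN ▸ hlt) hvm rfl
    exact ⟨y', hy'C.trans hC, hy'pp⟩
  · have hC : centralizer ({y} : Set G) = centralizer ({u} : Set G) :=
      eq_of_le_of_index_eq hCu (by
        change idx y = idx u
        rw [hy, hum])
    exact ⟨u, hC.symm, r, k, hr, hk⟩

theorem relIndex_of_coprime [Finite G] (h : Hyp G m n) {x' y : G} (hx' : idx x' = n)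
    (hy : idx y = m) :
    (centralizer ({x'} : Set G)).relIndex (centralizer ({y} : Set G)) = n := by
  have h1 := index_inf_of_coprime (centralizer ({x'} : Set G)) (centralizer ({y} : Set G))
    (by change Nat.Coprime (idx x') (idx y); rw [hx', hy]; exact h.hcop.symm)
  have h2 := relIndex_mul_index (H := centralizer ({x'} : Set G) ⊓ centralizer ({y} : Set G))
    (K := centralizer ({y} : Set G)) inf_le_right
  rw [inf_relIndex_right, h1] at h2
  have hy' : (centralizer ({y} : Set G)).index = m := hy
  have hx'' : (centralizer ({x'} : Set G)).index = n := hx'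
  rw [hy', hx''] at h2
  have hm : 0 < m := by have := h.hmn; omega
  exact Nat.eq_of_mul_eq_mul_right hm h2

/-- no element of class size `m` commutes with a `π(m)`-element of class size `n` -/
theorem not_commute [Finite G] (h : Hyp G m n) {x' y : G} (hx' : idx x' = n) (hpi : PiElt m x')
    (hy : idx y = m) : ¬ Commute x' y := by
  intro hc
  obtain ⟨y', hy'C, r, k, hr, hk⟩ := exists_pp_rep h hy
  have hy'm : idx y' = m := by rw [idx, hy'C]; exact hy
  have hxy' : x' ∈ centralizer ({y'} : Set G) := by
    rw [hy'C, mem_centralizer_singleton]; exact hc.eq.symm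
  have hc' : Commute x' y' := by
    rw [mem_centralizer_singleton] at hxy'; exact hxy'.symm
  by_cases hrm : r ∣ m
  · obtain ⟨p, hp, hpn⟩ := Nat.exists_prime_and_dvd (show n ≠ 1 from by have := h.hn; omega)
    haveI := Fact.mk hp
    have hpr : p ≠ r := by
      intro hpr
      rw [hpr] at hpn
      have h3 : r ∣ 1 := by
        have := Nat.dvd_gcd hrm hpn
        rwa [h.hcop] at this
      exact hr.one_lt.ne' (Nat.dvd_one.mp h3)
    have hT : ¬ p ∣ (centralizer ({x'} : Set G)).relIndex (centralizer ({y'} : Set G)) := by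
      apply not_dvd_relIndex_of_pElements
      rintro u hu ⟨j, hj⟩
      have hcu : Commute u y' := by
        rw [mem_centralizer_singleton] at hu; exact hu.symm
      have hcop : (orderOf u).Coprime (orderOf y') := by
        rw [hj, hk]
        exact Nat.Coprime.pow _ _ ((Nat.coprime_primes hp hr).mpr hpr)
      have hle := cent_le_of_max hcu hcop (by rw [hy'm]; exact h.htop _)
      have := hle hxy'
      rw [mem_centralizer_singleton] at this ⊢
      exact this.symm
    rw [relIndex_of_coprime h hx' hy'm] at hT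
    exact hT hpn
  · have hcop : (orderOf x').Coprime (orderOf y') := by
      rw [hk]
      apply Nat.Coprime.pow_right
      rw [Nat.coprime_comm, Nat.Prime.coprime_iff_not_dvd hr]
      intro hrx
      exact hrm (hpi r hr hrx)
    have hle := cent_le_of_max hc' hcop (by rw [hy'm]; exact h.htop _)
    have hdvd : idx x' ∣ idx y' := idx_dvd_of_cent_le hle
    rw [hx', hy'm] at hdvd
    have h3 : n ∣ 1 := by
      have := Nat.dvd_gcd hdvd (dvd_refl n)
      rwa [h.hcop] at this
    have := Nat.dvd_one.mp h3
    have := h.hn; omega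

/-- there is a `π(m)`-element of class size `n` in `Sg` -/
theorem exists_pi_elt [Finite G] (h : Hyp G m n) :
    ∃ x' ∈ Sg G m, idx x' = n ∧ PiElt m x' := by
  obtain ⟨x, hx⟩ := h.ex
  obtain ⟨x', hx'S, hx'C, hx'pi⟩ := exists_pi_rep h (Subgroup.subset_closure (mem_W_of_idx_eq h hx))
  exact ⟨x', hx'S, by rw [idx, hx'C]; exact hx, hx'pi⟩

/-- an element of class size `m` and prime power order `r ^ k` has `r ∤ m` -/
theorem not_dvd_of_pp [Finite G] (h : Hyp G m n) {y : G} (hy : idx y = m) {r k : ℕ}
    (hr : r.Prime) (ho : orderOf y = r ^ k) : ¬ r ∣ m := by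
  intro hrm
  obtain ⟨x', -, hx'n, hx'pi⟩ := exists_pi_elt h
  haveI := Fact.mk hr
  have hrn : ¬ r ∣ (centralizer ({x'} : Set G)).index := by
    change ¬ r ∣ idx x'
    rw [hx'n]
    intro hrn
    have h3 : r ∣ 1 := by
      have := Nat.dvd_gcd hrm hrn
      rwa [h.hcop] at this
    exact hr.one_lt.ne' (Nat.dvd_one.mp h3)
  have hP : IsPGroup r (zpowers y) := IsPGroup.of_card (n := k) (by rw [Nat.card_zpowers, ho])
  obtain ⟨g, hg⟩ := exists_conj_mem_of_not_dvd_index (zpowers y) hP _ hrn
  have h1 := hg y (mem_zpowers y)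
  rw [mem_centralizer_singleton] at h1
  have h2 : idx (g⁻¹ * y * g) = m := by
    have := idx_conj y g⁻¹
    rw [inv_inv] at this
    rw [this, hy]
  exact not_commute h hx'n hx'pi h2 h1

theorem exists_good_rep [Finite G] (h : Hyp G m n) {y : G} (hy : idx y = m) :
    ∃ y' : G, centralizer ({y'} : Set G) = centralizer ({y} : Set G) ∧ idx y' = m ∧
      ∃ r k : ℕ, r.Prime ∧ orderOf y' = r ^ k ∧ ¬ r ∣ m := by
  obtain ⟨y', hy'C, r, k, hr, hk⟩ := exists_pp_rep h hy
  have hy'm : idx y' = m := by rw [idx, hy'C]; exact hy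
  exact ⟨y', hy'C, hy'm, r, k, hr, hk, not_dvd_of_pp h hy'm hr hk⟩

theorem commute_of_cent_eq {y y' c : G}
    (hC : centralizer ({y'} : Set G) = centralizer ({y} : Set G)) (hc : Commute c y) :
    Commute c y' := by
  have : c ∈ centralizer ({y'} : Set G) := by
    rw [hC, mem_centralizer_singleton]; exact hc.eq.symm
  rw [mem_centralizer_singleton] at this
  exact this.symm

/-- `Ks` meets the centralizer of an element of class size `m` trivially -/
theorem eq_one_of_mem_Ks_commute [Finite G] (h : Hyp G m n) {y k : G} (hy : idx y = m)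
    (hk : k ∈ Ks G m) (hc : Commute k y) : k = 1 := by
  obtain ⟨y', hy'C, hy'm, r, j, hr, ho, hrm⟩ := exists_good_rep h hy
  have hc' : Commute k y' := commute_of_cent_eq hy'C hc
  obtain ⟨hcard, hcls, -⟩ := stab_facts h hy'm
  obtain ⟨a, ha⟩ := hcls k hk
  have ho1 : orderOf (y' * k) = orderOf y' := by
    rw [← ha]; exact (MulAut.conj a).orderOf_eq y'
  have hko : orderOf k ∣ m := (Subgroup.orderOf_dvd_natCard _ hk).trans hcard
  have hcop : (orderOf y').Coprime (orderOf k) := by
    rw [ho]
    apply Nat.Coprime.pow_left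
    rw [Nat.Prime.coprime_iff_not_dvd hr]
    intro hrk
    exact hrm (hrk.trans hko)
  rw [hc'.symm.orderOf_mul_eq_mul_orderOf_of_coprime hcop] at ho1
  have hk1 : orderOf k = 1 := by
    have hpos : 0 < orderOf y' := orderOf_pos y'
    have : orderOf y' * orderOf k = orderOf y' * 1 := by rw [ho1, mul_one]
    exact Nat.eq_of_mul_eq_mul_left hpos this
  exact orderOf_eq_one_iff.mp hk1

/-- `Sg` meets the centralizer of an element of class size `m` in the center -/
theorem mem_center_of_mem_Sg_commute [Finite G] (h : Hyp G m n) {y s : G} (hy : idx y = m)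
    (hs : s ∈ Sg G m) (hc : Commute s y) : s ∈ center G := by
  obtain ⟨y', hy'C, hy'm, r, j, hr, ho, hrm⟩ := exists_good_rep h hy
  have hc' : Commute s y' := commute_of_cent_eq hy'C hc
  haveI := Fact.mk hr
  obtain ⟨u, v, huv, hcomm, ⟨k, hk⟩, hvr, huz, hvz⟩ :=
    Cfsg.Agent.Helper20.exists_pPart_decomp r s (orderOf_pos s)
  have hzle : zpowers s ≤ Sg G m := zpowers_le.mpr hs
  have huS : u ∈ Sg G m := hzle huz
  have hvS : v ∈ Sg G m := hzle hvz
  have huc : u ∈ center G := mem_center_of_coprime_order h huS (by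
    rw [hk]; exact Nat.Coprime.pow_left k ((Nat.Prime.coprime_iff_not_dvd hr).mpr hrm))
  have hvy : Commute v y' := by
    obtain ⟨i, rfl⟩ := hvz
    exact hc'.zpow_left i
  have hcop : (orderOf v).Coprime (orderOf y') := by
    rw [ho]; exact Nat.Coprime.pow_right j hvr
  have hle := cent_le_of_max hvy hcop (by rw [hy'm]; exact h.htop _)
  have hvd : idx v ∣ m := hy'm ▸ idx_dvd_of_cent_le hle
  have hvc : v ∈ center G := by
    rcases idx_eq_of_dvd h hvd with h1 | h1
    · exact idx_eq_one_iff.mp h1
    · exact absurd h1 (idx_ne_of_mem_Sg h hvS)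
  rw [huv]
  exact mul_mem huc hvc

/-- an element commuting with a `π(m)`-element of class size `n` and an element of class size `m`
is central -/
theorem mem_center_of_commute_both [Finite G] (h : Hyp G m n) {x' y c : G} (hx' : idx x' = n)
    (hpi : PiElt m x') (hy : idx y = m) (hcx : Commute c x') (hcy : Commute c y) :
    c ∈ center G := by
  obtain ⟨y', hy'C, hy'm, r, j, hr, ho, hrm⟩ := exists_good_rep h hy
  have hc' : Commute c y' := commute_of_cent_eq hy'C hcy
  haveI := Fact.mk hr
  obtain ⟨u, v, huv, hcomm, ⟨k, hk⟩, hvr, huz, hvz⟩ :=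
    Cfsg.Agent.Helper20.exists_pPart_decomp r c (orderOf_pos c)
  have hvy : Commute v y' := by
    obtain ⟨i, rfl⟩ := hvz
    exact hc'.zpow_left i
  have hvx : Commute v x' := by
    obtain ⟨i, rfl⟩ := hvz
    exact hcx.zpow_left i
  have huy : Commute u y' := by
    obtain ⟨i, rfl⟩ := huz
    exact hc'.zpow_left i
  have hux : Commute u x' := by
    obtain ⟨i, rfl⟩ := huz
    exact hcx.zpow_left i
  -- `v`
  have hcop : (orderOf v).Coprime (orderOf y') := by
    rw [ho]; exact Nat.Coprime.pow_right j hvr
  have hle := cent_le_of_max hvy hcop (by rw [hy'm]; exact h.htop _)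
  have hvd : idx v ∣ m := hy'm ▸ idx_dvd_of_cent_le hle
  have hvc : v ∈ center G := by
    rcases idx_eq_of_dvd h hvd with h1 | h1
    · exact idx_eq_one_iff.mp h1
    · exact absurd hvx.symm (not_commute h hx' hpi h1)
  -- `u`
  have hcop2 : (orderOf u).Coprime (orderOf x') := by
    rw [hk]
    apply Nat.Coprime.pow_left
    rw [Nat.Prime.coprime_iff_not_dvd hr]
    intro hrx
    exact hrm (hpi r hr hrx)
  have hmax : idx (u * x') ≤ idx x' := by
    rw [hx']
    apply h.hsec
    apply lt_of_le_of_ne (h.htop _)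
    intro heq
    have : Commute x' (u * x') := hux.symm.mul_right (Commute.refl x')
    exact not_commute h hx' hpi heq this
  have hle2 := cent_le_of_max hux hcop2 hmax
  have hud : idx u ∣ n := hx' ▸ idx_dvd_of_cent_le hle2
  have huS : u ∈ Sg G m := by
    apply Subgroup.subset_closure
    rw [mem_W]
    exact Nat.Coprime.coprime_dvd_left hud h.hcop.symm
  have huc : u ∈ center G := mem_center_of_mem_Sg_commute h hy'm huS huy
  rw [huv]
  exact mul_mem huc hvc

/-- the center has index `m * n` -/
theorem inf_eq_center [Finite G] (h : Hyp G m n) {x' y : G} (hx' : idx x' = n)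
    (hpi : PiElt m x') (hy : idx y = m) :
    centralizer ({x'} : Set G) ⊓ centralizer ({y} : Set G) = center G := by
  apply le_antisymm
  · intro c hc
    rw [mem_inf, mem_centralizer_singleton, mem_centralizer_singleton] at hc
    exact mem_center_of_commute_both h hx' hpi hy hc.1.symm hc.2.symm
  · intro c hc
    rw [mem_inf, mem_centralizer_singleton, mem_centralizer_singleton]
    exact ⟨mem_center_iff.mp hc x', mem_center_iff.mp hc y⟩

theorem index_center [Finite G] (h : Hyp G m n) : (center G).index = n * m := by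
  obtain ⟨x', -, hx'n, hx'pi⟩ := exists_pi_elt h
  obtain ⟨y, hy⟩ := h.ey
  rw [← inf_eq_center h hx'n hx'pi hy]
  have := index_inf_of_coprime (centralizer ({x'} : Set G)) (centralizer ({y} : Set G))
    (by change Nat.Coprime (idx x') (idx y); rw [hx'n, hy]; exact h.hcop.symm)
  rw [this]
  change idx x' * idx y = _
  rw [hx'n, hy]

end Cfsg.Agent.Helper14.TwoLargest
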