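import Mathlib
import Cfsg.Agent.Lib.Helper14.TwoLargestD

/-!
Groups whose two largest class sizes are coprime: the centralizer of an element of class
size `m` consists of central elements and elements of class size `m`; both centralizers are
abelian.
-/

set_option autoImplicit false

namespace Cfsg.Agent.Helper14.TwoLargest

open Subgroup Cfsg.Agent.Helper21.ClassSize

variable {G : Type*} [Group G] {m n : ℕ}

theorem lam_range_le_Ks [Finite G] (h : Hyp G m n) (u : G) :
    (lam (Sg G m) (Sg_comm h) u).range ≤ Ks G m := by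
  rintro _ ⟨s, rfl⟩
  rw [lam_apply]
  have h1 := comm_mem_Ks s.2 u
  have h2 : (s : G) * (u * s * u⁻¹)⁻¹ = (u * s * u⁻¹ * (s : G)⁻¹)⁻¹ := by group
  rw [h2]
  exact inv_mem h1

/-- the key step for `r`-elements -/
theorem idx_eq_of_pp_commute [Finite G] (h : Hyp G m n) {y' u : G} (hy'm : idx y' = m)
    {r k : ℕ} (hr : r.Prime) (hrm : ¬ r ∣ m) (hk : orderOf u = r ^ k)
    (huy : Commute u y') (huc : u ∉ center G) : idx u = m := by
  classical
  haveI := Fact.mk hr
  obtain ⟨x', hx'S, hx'n, hx'pi⟩ := exists_pi_elt h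
  have hux : ¬ Commute u x' := fun hc =>
    huc (mem_center_of_commute_both h hx'n hx'pi hy'm hc huy)
  set S := Sg G m with hS
  have hab := Sg_comm h
  set L := (lam S hab u).range with hL
  have hLK : L ≤ Ks G m := lam_range_le_Ks h u
  have hLS : L ≤ S := lam_range_le S hab u
  obtain ⟨y, hy⟩ := h.ey
  have hKcard := (stab_facts h hy).1
  have hLcard : Nat.card L ∣ m := (Subgroup.card_dvd_of_le hLK).trans hKcard
  have hrL : ¬ r ∣ Nat.card L := fun hc => hrm (hc.trans hLcard)
  -- the set `x' L`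
  set Ω : Set G := {g | x'⁻¹ * g ∈ L} with hΩ
  have hΩimg : Ω = (fun ℓ => x' * ℓ) '' (L : Set G) := by
    ext g
    constructor
    · intro hg
      exact ⟨x'⁻¹ * g, hg, by group⟩
    · rintro ⟨ℓ, hℓ, rfl⟩
      show x'⁻¹ * (x' * ℓ) ∈ L
      rw [inv_mul_cancel_left]; exact hℓ
  have hΩcard : Ω.ncard = Nat.card L := by
    rw [hΩimg, Set.ncard_image_of_injective _ (mul_right_injective x')]
    rfl
  have hinv : ∀ g ∈ Ω, u * g * u⁻¹ ∈ Ω := by
    intro g hg
    show x'⁻¹ * (u * g * u⁻¹) ∈ L
    have e1 : x'⁻¹ * (u * g * u⁻¹) = (x'⁻¹ * (u * x'⁻¹ * u⁻¹)⁻¹) * (u * (x'⁻¹ * g) * u⁻¹) := by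
      group
    rw [e1]
    apply mul_mem
    · exact ⟨⟨x'⁻¹, S.inv_mem hx'S⟩, rfl⟩
    · exact conj_mem_lam_range S hab u (Commute.refl u) hg
  obtain ⟨x₀, hx₀Ω, hx₀u⟩ := exists_fixed_conj (p := r) Ω u (k := k)
    (by rw [← hk]; exact pow_orderOf_eq_one u) hinv (by rw [hΩcard]; exact hrL)
  have hℓ : x'⁻¹ * x₀ ∈ L := hx₀Ω
  have hx₀S : x₀ ∈ S := by
    have : x₀ = x' * (x'⁻¹ * x₀) := by group
    rw [this]; exact mul_mem hx'S (hLS hℓ)
  have hcux₀ : Commute u x₀ := by
    show u * x₀ = x₀ * u
    calc u * x₀ = (u * x₀ * u⁻¹) * u := by group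
      _ = x₀ * u := by rw [hx₀u]
  have hu' : x₀⁻¹ * x' ∈ L := by
    have : x₀⁻¹ * x' = (x'⁻¹ * x₀)⁻¹ := by group
    rw [this]; exact inv_mem hℓ
  have hne : x₀⁻¹ * x' ≠ 1 := by
    intro h1
    have : x' = x₀ := by
      have := inv_mul_eq_one.mp h1
      exact this.symm
    exact hux (this ▸ hcux₀)
  -- order of `x₀`
  have hcop : (orderOf u).Coprime (orderOf x₀) := by
    rw [hk]
    apply Nat.Coprime.pow_left
    rw [Nat.Prime.coprime_iff_not_dvd hr]
    intro hrx
    have hx₀e : x₀ = x' * (x'⁻¹ * x₀) := by group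
    have hc1 : Commute x' (x'⁻¹ * x₀) := hab _ hx'S _ (hLS hℓ)
    have h1 : orderOf x₀ ∣ Nat.lcm (orderOf x') (orderOf (x'⁻¹ * x₀)) := by
      conv_lhs => rw [hx₀e]
      exact hc1.orderOf_mul_dvd_lcm
    have h2 : r ∣ orderOf x' * orderOf (x'⁻¹ * x₀) :=
      (hrx.trans h1).trans (Nat.lcm_dvd_mul _ _)
    rcases (Nat.Prime.dvd_mul hr).mp h2 with h3 | h3
    · exact hrm (hx'pi r hr h3)
    · exact hrm ((h3.trans (Subgroup.orderOf_dvd_natCard _ hℓ)).trans hLcard)
  obtain ⟨hz1, hz2⟩ := mem_zpowers_mul_of_coprime hcux₀ hcop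
  have hlt := card_lt_of_mem_range S hab u x' x₀ hx'S hu' hne (centralizer ({u * x₀} : Set G))
    (cent_le_of_mem_zpowers hz1) (cent_le_of_mem_zpowers hz2)
  -- class size of `u * x₀`
  have hg : idx (u * x₀) = m := by
    by_contra hcon
    have hle : idx (u * x₀) ≤ n := h.hsec _ (lt_of_le_of_ne (h.htop _) hcon)
    have e1 := Subgroup.card_mul_index (centralizer ({u * x₀} : Set G))
    have e2 := Subgroup.card_mul_index (centralizer ({x'} : Set G))
    have e3 : (centralizer ({x'} : Set G)).index = n := hx'n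
    have e4 : (centralizer ({u * x₀} : Set G)).index ≤ n := hle
    rw [e3] at e2
    have hnpos : 0 < n := by have := h.hn; omega
    have : Nat.card (centralizer ({u * x₀} : Set G)) * (centralizer ({u * x₀} : Set G)).index <
        Nat.card (centralizer ({x'} : Set G)) * n :=
      lt_of_le_of_lt (Nat.mul_le_mul_left _ e4) (Nat.mul_lt_mul_of_pos_right hlt hnpos)
    rw [e1, e2] at this
    exact lt_irrefl _ this
  have := idx_mul_Sg h (S.inv_mem hx₀S) (u * x₀) hg
  rwa [mul_inv_cancel_right] at this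

/-- noncentral elements of the centralizer of an element of class size `m` have class size `m` -/
theorem idx_eq_of_mem_cent [Finite G] (h : Hyp G m n) {y d : G} (hy : idx y = m)
    (hd : d ∈ centralizer ({y} : Set G)) (hdc : d ∉ center G) : idx d = m := by
  obtain ⟨y', hy'C, hy'm, r, j, hr, ho, hrm⟩ := exists_good_rep h hy
  have hdy : Commute d y := by
    rw [mem_centralizer_singleton] at hd; exact hd.symm
  have hdy' : Commute d y' := commute_of_cent_eq hy'C hdy
  haveI := Fact.mk hr
  obtain ⟨u, v, huv, hcomm, ⟨k, hk⟩, hvr, huz, hvz⟩ :=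
    Cfsg.Agent.Helper20.exists_pPart_decomp r d (orderOf_pos d)
  have hvy : Commute v y' := by
    obtain ⟨i, rfl⟩ := hvz
    exact hdy'.zpow_left i
  have huy : Commute u y' := by
    obtain ⟨i, rfl⟩ := huz
    exact hdy'.zpow_left i
  have hcop : (orderOf v).Coprime (orderOf y') := by
    rw [ho]; exact Nat.Coprime.pow_right j hvr
  have hle := cent_le_of_max hvy hcop (by rw [hy'm]; exact h.htop _)
  have hvd : idx v ∣ m := hy'm ▸ idx_dvd_of_cent_le hle
  rcases idx_eq_of_dvd h hvd with h1 | h1
  · have hvc : v ∈ center G := idx_eq_one_iff.mp h1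
    have hC : centralizer ({d} : Set G) = centralizer ({u} : Set G) := by
      rw [huv, hcomm]; exact cent_eq_of_central_mul hvc
    have huc : u ∉ center G := by
      intro huc
      apply hdc
      rw [huv]; exact mul_mem huc hvc
    have := idx_eq_of_pp_commute h hy'm hr hrm hk huy huc
    rw [idx, hC]; exact this
  · have h2 : idx v ∣ idx d := idx_dvd_of_cent_le (cent_le_of_mem_zpowers hvz)
    rw [h1] at h2
    exact le_antisymm (h.htop d) (Nat.le_of_dvd (idx_pos d) h2)

/-- the centralizer of an element of class size `n` is `Sg` -/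
theorem cent_eq_Sg [Finite G] (h : Hyp G m n) {x : G} (hx : idx x = n) :
    centralizer ({x} : Set G) = Sg G m := by
  obtain ⟨x', hx'S, hx'C, hx'pi⟩ :=
    exists_pi_rep h (Subgroup.subset_closure (mem_W_of_idx_eq h hx))
  have hx'n : idx x' = n := by rw [idx, hx'C]; exact hx
  rw [← hx'C]
  apply le_antisymm
  · intro c hc
    rw [mem_centralizer_singleton] at hc
    by_cases hcc : c ∈ center G
    · exact center_le_Sg m hcc
    · have hcm : idx c ≠ m := fun hcm => not_commute h hx'n hx'pi hcm hc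
      have hcn : idx c ≤ n := h.hsec c (lt_of_le_of_ne (h.htop c) hcm)
      obtain ⟨y, hy⟩ := h.ey
      have hinf : centralizer ({c} : Set G) ⊓ centralizer ({y} : Set G) = center G := by
        apply le_antisymm
        · intro d hd
          rw [mem_inf] at hd
          by_contra hdc
          have hdm := idx_eq_of_mem_cent h hy hd.2 hdc
          have h1 := hd.1
          rw [mem_centralizer_singleton] at h1
          exact hcc (mem_center_of_commute_both h hx'n hx'pi hdm hc.symm h1)
        · intro d hd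
          rw [mem_inf, mem_centralizer_singleton, mem_centralizer_singleton]
          exact ⟨mem_center_iff.mp hd c, mem_center_iff.mp hd y⟩
      have hZD : center G ≤ centralizer ({y} : Set G) := by
        rw [← hinf]; exact inf_le_right
      have e1 := relIndex_mul_index hZD
      rw [index_center h] at e1
      have e2 : (centralizer ({y} : Set G)).index = m := hy
      rw [e2] at e1
      have hmpos : 0 < m := by have := h.hmn; omega
      have e3 : (center G).relIndex (centralizer ({y} : Set G)) = n :=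
        Nat.eq_of_mul_eq_mul_right hmpos e1
      have e4 : (centralizer ({c} : Set G)).relIndex (centralizer ({y} : Set G)) = n := by
        rw [← inf_relIndex_right, hinf, e3]
      have e5 : (centralizer ({c} : Set G)).relIndex (centralizer ({y} : Set G)) ≤ idx c := by
        have := relIndex_le_of_le_right (H := centralizer ({c} : Set G))
          (le_top : centralizer ({y} : Set G) ≤ ⊤) (by
            rw [relIndex_top_right]; exact Subgroup.index_ne_zero_of_finite)
        rwa [relIndex_top_right] at this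
      have hcn' : idx c = n := le_antisymm hcn (e4 ▸ e5)
      apply Subgroup.subset_closure
      rw [mem_W, hcn']
      exact h.hcop.symm
  · intro s hs
    rw [mem_centralizer_singleton]
    exact Sg_comm h x' hx'S s hs

/-- the centralizer of an element of class size `m` is abelian -/
theorem cent_le_of_mem [Finite G] (h : Hyp G m n) {y d : G} (hy : idx y = m)
    (hd : d ∈ centralizer ({y} : Set G)) (hdc : d ∉ center G) :
    centralizer ({d} : Set G) ≤ centralizer ({y} : Set G) := by
  intro g hg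
  rw [mem_centralizer_singleton] at hg
  obtain ⟨x, hx⟩ := h.ex
  have hCS := cent_eq_Sg h hx
  obtain ⟨c, hc, d₀, hd₀, hgc⟩ := exists_mul_of_coprime_index (centralizer ({x} : Set G))
    (centralizer ({y} : Set G))
    (by change Nat.Coprime (idx x) (idx y); rw [hx, hy]; exact h.hcop.symm) g
  rw [hCS] at hc
  set d₂ := d₀ * d * d₀⁻¹ with hd₂
  have hd₂y : d₂ ∈ centralizer ({y} : Set G) := mul_mem (mul_mem hd₀ hd) (inv_mem hd₀)
  have hcd : c * d₂ * c⁻¹ = d := by
    have : c * d₂ * c⁻¹ = g * d * g⁻¹ := by rw [hgc, hd₂]; group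
    rw [this]
    calc g * d * g⁻¹ = (d * g) * g⁻¹ := by rw [hg]
      _ = d := by group
  have hk : c * d₂ * c⁻¹ * d₂⁻¹ ∈ Ks G m := by
    have h1 := comm_mem_Ks hc d₂
    have h2 : c * d₂ * c⁻¹ * d₂⁻¹ = (d₂ * c * d₂⁻¹ * c⁻¹)⁻¹ := by group
    rw [h2]; exact inv_mem h1
  have hky : c * d₂ * c⁻¹ * d₂⁻¹ ∈ centralizer ({y} : Set G) := by
    rw [hcd]; exact mul_mem hd (inv_mem hd₂y)
  have hk1 : c * d₂ * c⁻¹ * d₂⁻¹ = 1 := by
    rw [mem_centralizer_singleton] at hky
    exact eq_one_of_mem_Ks_commute h hy hk hky.symm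
  have hcc : Commute c d₂ := by
    show c * d₂ = d₂ * c
    have : c * d₂ * c⁻¹ = d₂ := by
      have := mul_inv_eq_one.mp hk1
      exact this
    calc c * d₂ = (c * d₂ * c⁻¹) * c := by group
      _ = d₂ * c := by rw [this]
  have hd₂c : d₂ ∉ center G := by
    intro hz
    apply hdc
    have : d = d₀⁻¹ * d₂ * d₀ := by rw [hd₂]; group
    rw [this]
    have h1 : d₀⁻¹ * d₂ * d₀ = d₂ := by
      have := mem_center_iff.mp hz d₀⁻¹
      calc d₀⁻¹ * d₂ * d₀ = (d₂ * d₀⁻¹) * d₀ := by rw [this]
        _ = d₂ := by group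
    rw [h1]; exact hz
  have hd₂m : idx d₂ = m := idx_eq_of_mem_cent h hy hd₂y hd₂c
  have hcz : c ∈ center G := mem_center_of_mem_Sg_commute h hd₂m hc hcc
  rw [hgc]
  apply mul_mem _ hd₀
  rw [mem_centralizer_singleton]
  exact (mem_center_iff.mp hcz y)

theorem cent_comm [Finite G] (h : Hyp G m n) {y : G} (hy : idx y = m) :
    ∀ a ∈ centralizer ({y} : Set G), ∀ b ∈ centralizer ({y} : Set G), a * b = b * a := by
  intro a ha b hb
  by_cases hac : a ∈ center G
  · exact (mem_center_iff.mp hac b).symm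
  · have hle := cent_le_of_mem h hy ha hac
    have ham := idx_eq_of_mem_cent h hy ha hac
    have heq : centralizer ({a} : Set G) = centralizer ({y} : Set G) :=
      eq_of_le_of_index_eq hle (by change idx a = idx y; rw [ham, hy])
    rw [← heq, mem_centralizer_singleton] at hb
    exact hb

end Cfsg.Agent.Helper14.TwoLargest
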