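import Mathlib
import Cfsg.Agent.Lib.Helper14.Large
import Cfsg.Agent.Lib.Helper10.PResidual

set_option autoImplicit false

namespace Cfsg.Agent.Helper14

open Cfsg
open scoped commutatorElement

variable {H : Type*} [Group H]

/-- A weakly closed subgroup is normalized by every `p`-subgroup containing it. -/
theorem IsWeaklyClosedSubgroup.le_normalizer {p : ℕ} [Fact p.Prime] [Finite H] {Q : Subgroup H}
    (hwc : IsWeaklyClosedSubgroup p Q) {S : Subgroup H} (hS : IsPGroup p S) (hQS : Q ≤ S) :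
    S ≤ Subgroup.normalizer (Q : Set H) := by
  intro s hs
  apply mem_normalizer_of_map_conj_eq
  apply IsWeaklyClosedSubgroup.eq_of_le hwc hS hQS
  rintro _ ⟨q, hq, rfl⟩
  have : (MulAut.conj s).toMonoidHom q = s * q * s⁻¹ := by simp
  rw [this]
  exact S.mul_mem (S.mul_mem hs (hQS hq)) (S.inv_mem hs)

/-- The stability group of the chain `1 ≤ P₀ ≤ R`. -/
def stabChain (R P₀ : Subgroup H) : Subgroup H where
  carrier := {g | g ∈ Subgroup.normalizer (R : Set H) ⊓ Subgroup.centralizer (P₀ : Set H) ∧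
    ∀ u ∈ R, ⁅u, g⁆ ∈ P₀}
  mul_mem' := by
    rintro g h ⟨hg1, hg2⟩ ⟨hh1, hh2⟩
    refine ⟨Subgroup.mul_mem _ hg1 hh1, fun u hu => ?_⟩
    have e : ⁅u, g * h⁆ = ⁅u, g⁆ * (g * ⁅u, h⁆ * g⁻¹) := by
      simp only [commutatorElement_def]; group
    rw [e]
    have hgP : g * ⁅u, h⁆ * g⁻¹ = ⁅u, h⁆ := by
      have := (Subgroup.mem_centralizer_iff.mp hg1.2) _ (hh2 u hu)
      calc g * ⁅u, h⁆ * g⁻¹ = (g * ⁅u, h⁆) * g⁻¹ := by group
        _ = ⁅u, h⁆ := by rw [← this]; group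
    rw [hgP]
    exact P₀.mul_mem (hg2 u hu) (hh2 u hu)
  one_mem' := ⟨Subgroup.one_mem _, fun u _ => by simp⟩
  inv_mem' := by
    rintro g ⟨hg1, hg2⟩
    refine ⟨Subgroup.inv_mem _ hg1, fun u hu => ?_⟩
    have e : ⁅u, g⁻¹⁆ = g⁻¹ * (⁅u, g⁆)⁻¹ * g⁻¹⁻¹ := by
      simp only [commutatorElement_def]; group
    rw [e]
    have hgP : g⁻¹ * (⁅u, g⁆)⁻¹ * g⁻¹⁻¹ = (⁅u, g⁆)⁻¹ := by
      have := (Subgroup.mem_centralizer_iff.mp hg1.2) _ (hg2 u hu)
      have h2 : g * (⁅u, g⁆)⁻¹ = (⁅u, g⁆)⁻¹ * g := by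
        calc g * (⁅u, g⁆)⁻¹ = (⁅u, g⁆)⁻¹ * (⁅u, g⁆ * g) * (⁅u, g⁆)⁻¹ := by group
          _ = (⁅u, g⁆)⁻¹ * (g * ⁅u, g⁆) * (⁅u, g⁆)⁻¹ := by rw [this]
          _ = (⁅u, g⁆)⁻¹ * g := by group
      calc g⁻¹ * (⁅u, g⁆)⁻¹ * g⁻¹⁻¹ = g⁻¹ * ((⁅u, g⁆)⁻¹ * g) := by group
        _ = g⁻¹ * (g * (⁅u, g⁆)⁻¹) := by rw [h2]
        _ = (⁅u, g⁆)⁻¹ := by group
    rw [hgP]
    exact P₀.inv_mem (hg2 u hu)

theorem mem_stabChain_iff {R P₀ : Subgroup H} {g : H} :
    g ∈ stabChain R P₀ ↔ (g ∈ Subgroup.normalizer (R : Set H) ⊓ Subgroup.centralizer (P₀ : Set H) ∧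
      ∀ u ∈ R, ⁅u, g⁆ ∈ P₀) := Iff.rfl

/-- Elements normalizing `R` and `P₀` normalize the stability group. -/
theorem conj_mem_stabChain {R P₀ : Subgroup H} {x g : H} (hxR : x ∈ Subgroup.normalizer (R : Set H))
    (hxP : x ∈ Subgroup.normalizer (P₀ : Set H)) (hg : g ∈ stabChain R P₀) : x * g * x⁻¹ ∈ stabChain R P₀ := by
  obtain ⟨hg1, hg2⟩ := hg
  refine ⟨Subgroup.mem_inf.mpr ⟨?_, ?_⟩, fun u hu => ?_⟩
  · exact Subgroup.mul_mem _ (Subgroup.mul_mem _ hxR hg1.1) (Subgroup.inv_mem _ hxR)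
  · have hn := le_normalizer_centralizer_of_le_normalizer (le_refl (Subgroup.normalizer (P₀ : Set H))) hxP
    exact (Subgroup.mem_normalizer_iff.mp hn g).mp hg1.2
  · have hu' : x⁻¹ * u * x⁻¹⁻¹ ∈ R :=
      (Subgroup.mem_normalizer_iff.mp (Subgroup.inv_mem _ hxR) u).mp hu
    have e : ⁅u, x * g * x⁻¹⁆ = x * ⁅x⁻¹ * u * x⁻¹⁻¹, g⁆ * x⁻¹ := by
      simp only [commutatorElement_def]; group
    rw [e]
    exact (Subgroup.mem_normalizer_iff.mp hxP _).mp (hg2 _ hu')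

/-- `p'`-elements of the stability group of `1 ≤ P₀ ≤ R` (with `R` a `p`-group) centralize `R`. -/
theorem stabChain_centralizes {p : ℕ} {R P₀ : Subgroup H} (hR : IsPGroup p R) (hP₀R : P₀ ≤ R) {g : H}
    (hg : g ∈ stabChain R P₀) (hgc : (orderOf g).Coprime p) : g ∈ Subgroup.centralizer (R : Set H) := by
  obtain ⟨hg1, hg2⟩ := hg
  rw [Subgroup.mem_centralizer_iff]
  intro u hu
  have hc := hg2 u hu
  have hcomm : Commute (u * g * u⁻¹ * g⁻¹) g := by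
    have h1 : u * g * u⁻¹ * g⁻¹ = ⁅u, g⁆ := by rw [commutatorElement_def]
    rw [h1]
    exact (Subgroup.mem_centralizer_iff.mp hg1.2) _ hc
  obtain ⟨j, hj⟩ := hR ⟨_, hP₀R hc⟩
  have hj' : (u * g * u⁻¹ * g⁻¹) ^ (p ^ j) = 1 := by
    have := congrArg Subtype.val hj
    simpa [commutatorElement_def] using this
  exact commute_of_commutator_commute' u g j hcomm hj' hgc

/-- The core of the weakly closed argument: if `Q` is weakly closed with `C_H(Q) ≤ Q`, `Q ≤ L`, and `C = C_H(O_p(L))` has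
characteristic `p`, then `C` is a `p`-group normalizing `Q`, and `Q ∩ C ≤ O_p(L)`. -/
theorem IsWeaklyClosedSubgroup.centralizer_pCoreOf {p : ℕ} [Fact p.Prime] [Finite H] {Q : Subgroup H}
    (hwc : IsWeaklyClosedSubgroup p Q) (hQp : IsPGroup p Q) (hCQ : Subgroup.centralizer (Q : Set H) ≤ Q)
    {L : Subgroup H} (hQL : Q ≤ L)
    (hchar : Subgroup.centralizer (pCoreOf p L : Set H) ⊓
      Subgroup.centralizer (pCoreOf p (Subgroup.centralizer (pCoreOf p L : Set H)) : Set H) ≤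
        pCoreOf p (Subgroup.centralizer (pCoreOf p L : Set H))) :
    IsPGroup p (Subgroup.centralizer (pCoreOf p L : Set H)) ∧
      Subgroup.centralizer (pCoreOf p L : Set H) ≤ Subgroup.normalizer (Q : Set H) ∧
        Q ⊓ Subgroup.centralizer (pCoreOf p L : Set H) ≤ pCoreOf p L := by
  set D := pCoreOf p L with hD
  set C := Subgroup.centralizer (D : Set H) with hC
  set R := pCoreOf p C with hR
  have hLD : L ≤ Subgroup.normalizer (D : Set H) := le_normalizer_pCoreOf p L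
  have hLC : L ≤ Subgroup.normalizer (C : Set H) := le_normalizer_centralizer_of_le_normalizer hLD
  have hLR : L ≤ Subgroup.normalizer (R : Set H) := hLC.trans (normalizer_le_normalizer_pCoreOf p C)
  have hCR : C ≤ Subgroup.normalizer (R : Set H) := le_normalizer_pCoreOf p C
  have hRp : IsPGroup p R := pCoreOf_isPGroup p C
  have hRC : R ≤ C := pCoreOf_le p C
  have hRLD : R ⊓ L ≤ D :=
    le_pCoreOf inf_le_right (le_normalizer_inf hLR Subgroup.le_normalizer) (hRp.to_le inf_le_left)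
  -- `R` normalizes `Q`
  have hRQ : R ≤ Subgroup.normalizer (Q : Set H) := by
    have hp : IsPGroup p ((Q ⊔ R : Subgroup H)) := IsPGroup.to_sup_of_normal_right' hQp hRp (hQL.trans hLR)
    exact le_sup_right.trans (IsWeaklyClosedSubgroup.le_normalizer hwc hp le_sup_left)
  set P₀ := R ⊓ Q with hP₀
  have hP₀D : P₀ ≤ D := (inf_le_inf_left R hQL).trans hRLD
  have hCP₀ : C ≤ Subgroup.centralizer (P₀ : Set H) := Subgroup.centralizer_le hP₀D
  have hQP₀ : Q ≤ Subgroup.normalizer (P₀ : Set H) := le_normalizer_inf (hQL.trans hLR) Subgroup.le_normalizer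
  have hcomm : ∀ u ∈ R, ∀ q ∈ Q, ⁅u, q⁆ ∈ P₀ := by
    intro u hu q hq
    refine Subgroup.mem_inf.mpr ⟨?_, ?_⟩
    · have h1 : q * u⁻¹ * q⁻¹ ∈ R := (Subgroup.mem_normalizer_iff.mp (hLR (hQL hq)) u⁻¹).mp (R.inv_mem hu)
      have e : ⁅u, q⁆ = u * (q * u⁻¹ * q⁻¹) := by rw [commutatorElement_def]; group
      rw [e]; exact R.mul_mem hu h1
    · have h1 : u * q * u⁻¹ ∈ Q := (Subgroup.mem_normalizer_iff.mp (hRQ hu) q).mp hq
      have e : ⁅u, q⁆ = (u * q * u⁻¹) * q⁻¹ := by rw [commutatorElement_def]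
      rw [e]; exact Q.mul_mem h1 (Q.inv_mem hq)
  -- the `p`-group `N₀`
  set N₀ := C ⊓ stabChain R P₀ with hN₀
  have hN₀p : IsPGroup p N₀ := by
    apply isPGroup_of_pprime_elements_trivial
    intro g hgc
    have hgc' : (orderOf (g : H)).Coprime p := by rwa [Subgroup.orderOf_coe]
    obtain ⟨hgC, hgS⟩ := Subgroup.mem_inf.mp g.2
    have hgR := stabChain_centralizes hRp inf_le_left hgS hgc'
    have := hchar (Subgroup.mem_inf.mpr ⟨hgC, hgR⟩)
    exact Subtype.ext (eq_one_of_mem_pGroup_of_coprime hRp this hgc')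
  have hQN₀ : Q ≤ Subgroup.normalizer (N₀ : Set H) := by
    apply le_normalizer_of_conj_mem
    intro q hq g hg
    obtain ⟨hgC, hgS⟩ := Subgroup.mem_inf.mp hg
    refine Subgroup.mem_inf.mpr ⟨(Subgroup.mem_normalizer_iff.mp (hLC (hQL hq)) g).mp hgC, ?_⟩
    exact conj_mem_stabChain (hLR (hQL hq)) (hQP₀ hq) hgS
  have hQN₀p : IsPGroup p ((Q ⊔ N₀ : Subgroup H)) := IsPGroup.to_sup_of_normal_right' hQp hN₀p hQN₀
  have hQstab : ∀ q ∈ Q, q ∈ Subgroup.normalizer (R : Set H) ⊓ Subgroup.normalizer (P₀ : Set H) ∧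
      ∀ u ∈ R, ⁅u, q⁆ ∈ P₀ := fun q hq => ⟨Subgroup.mem_inf.mpr ⟨hLR (hQL hq), hQP₀ hq⟩, fun u hu => hcomm u hu q hq⟩
  -- (2a) every `p'`-element of `C` normalizes `Q`
  have h2a : ∀ x ∈ C, (orderOf x).Coprime p → x ∈ Subgroup.normalizer (Q : Set H) := by
    intro x hxC _
    apply mem_normalizer_of_map_conj_eq
    apply IsWeaklyClosedSubgroup.eq_of_le hwc hQN₀p le_sup_left
    rintro _ ⟨q, hq, rfl⟩
    have e : (MulAut.conj x).toMonoidHom q = ⁅x, q⁆ * q := by simp [commutatorElement_def]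
    rw [e]
    apply Subgroup.mul_mem _ _ (Subgroup.mem_sup_left hq)
    apply Subgroup.mem_sup_right
    have hxR : x ∈ Subgroup.normalizer (R : Set H) := hCR hxC
    have hxP₀c : x ∈ Subgroup.centralizer (P₀ : Set H) := hCP₀ hxC
    have hxP₀ : x ∈ Subgroup.normalizer (P₀ : Set H) := Cfsg.Agent.Helper1.centralizer_le_normalizer P₀ hxP₀c
    refine Subgroup.mem_inf.mpr ⟨?_, ?_⟩
    · have h1 : q * x⁻¹ * q⁻¹ ∈ C := (Subgroup.mem_normalizer_iff.mp (hLC (hQL hq)) x⁻¹).mp (C.inv_mem hxC)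
      have e2 : ⁅x, q⁆ = x * (q * x⁻¹ * q⁻¹) := by rw [commutatorElement_def]; group
      rw [e2]; exact C.mul_mem hxC h1
    · -- `⁅x, q⁆ = (x q x⁻¹) q⁻¹`, a product of two elements stabilizing the chain modulo the centralizer condition
      obtain ⟨hq1, hq2⟩ := hQstab q hq
      refine ⟨Subgroup.mem_inf.mpr ⟨?_, ?_⟩, fun u hu => ?_⟩
      · have e2 : ⁅x, q⁆ = x * q * x⁻¹ * q⁻¹ := by rw [commutatorElement_def]
        rw [e2]
        exact Subgroup.mul_mem _ (Subgroup.mul_mem _ (Subgroup.mul_mem _ hxR hq1.1) (Subgroup.inv_mem _ hxR))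
          (Subgroup.inv_mem _ hq1.1)
      · have hn := le_normalizer_centralizer_of_le_normalizer (le_refl (Subgroup.normalizer (P₀ : Set H))) hq1.2
        have h1 : q * x⁻¹ * q⁻¹ ∈ Subgroup.centralizer (P₀ : Set H) :=
          (Subgroup.mem_normalizer_iff.mp hn x⁻¹).mp (Subgroup.inv_mem _ hxP₀c)
        have e2 : ⁅x, q⁆ = x * (q * x⁻¹ * q⁻¹) := by rw [commutatorElement_def]; group
        rw [e2]; exact Subgroup.mul_mem _ hxP₀c h1
      · -- `⁅u, ⁅x,q⁆⁆ ∈ P₀`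
        have hu' : x⁻¹ * u * x⁻¹⁻¹ ∈ R := (Subgroup.mem_normalizer_iff.mp (Subgroup.inv_mem _ hxR) u).mp hu
        have h1 : ⁅u, x * q * x⁻¹⁆ ∈ P₀ := by
          have e2 : ⁅u, x * q * x⁻¹⁆ = x * ⁅x⁻¹ * u * x⁻¹⁻¹, q⁆ * x⁻¹ := by
            simp only [commutatorElement_def]; group
          rw [e2]
          exact (Subgroup.mem_normalizer_iff.mp hxP₀ _).mp (hq2 _ hu')
        have h2 : ⁅u, q⁻¹⁆ ∈ P₀ := by
          have e2 : ⁅u, q⁻¹⁆ = q⁻¹ * (⁅u, q⁆)⁻¹ * q⁻¹⁻¹ := by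
            simp only [commutatorElement_def]; group
          rw [e2]
          exact (Subgroup.mem_normalizer_iff.mp (Subgroup.inv_mem _ hq1.2) _).mp (P₀.inv_mem (hq2 _ hu))
        have hxq : x * q * x⁻¹ ∈ Subgroup.normalizer (P₀ : Set H) :=
          Subgroup.mul_mem _ (Subgroup.mul_mem _ hxP₀ hq1.2) (Subgroup.inv_mem _ hxP₀)
        have e3 : ⁅u, ⁅x, q⁆⁆ = ⁅u, x * q * x⁻¹⁆ * ((x * q * x⁻¹) * ⁅u, q⁻¹⁆ * (x * q * x⁻¹)⁻¹) := by
          simp only [commutatorElement_def]; group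
        rw [e3]
        exact P₀.mul_mem h1 ((Subgroup.mem_normalizer_iff.mp hxq _).mp h2)
  -- (2b) `C ≤ N(Q)`
  have hQC : Q ≤ Subgroup.normalizer (C : Set H) := hQL.trans hLC
  have h2b : C ≤ Subgroup.normalizer (Q : Set H) := by
    obtain ⟨S, hS, hQS⟩ := exists_isSylowOf_ge (le_sup_right : Q ≤ C ⊔ Q) hQp
    have hSC : IsSylowOf p C (S ⊓ C) :=
      hS.inf_of_le_normalizer le_sup_left (sup_le Subgroup.le_normalizer hQC)
    have hSQ : S ≤ Subgroup.normalizer (Q : Set H) := IsWeaklyClosedSubgroup.le_normalizer hwc hS.isPGroup hQS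
    have hres : (pResidual p ↥C).map C.subtype ≤ Subgroup.normalizer (Q : Set H) := by
      rw [Cfsg.pResidual, MonoidHom.map_closure, Subgroup.closure_le]
      rintro _ ⟨g, hg, rfl⟩
      apply h2a _ g.2
      have : (orderOf ((g : ↥C) : H)).Coprime p := by rw [Subgroup.orderOf_coe]; exact hg
      exact this
    intro c hc
    obtain ⟨r, hr, _, u, hu, rfl⟩ := Cfsg.Agent.Helper10.exists_mul_of_pResidual_subgroup (p := p) C (S ⊓ C)
      hSC.not_dvd_relIndex c hc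
    exact Subgroup.mul_mem _ (hSQ hr.1) (hres hu)
  -- (2c) `Q ⊓ C ≤ D`
  have h2c : Q ⊓ C ≤ D := by
    have h1 : Q ⊓ C ≤ R :=
      le_pCoreOf inf_le_right (le_normalizer_inf h2b Subgroup.le_normalizer) (hQp.to_le inf_le_left)
    exact (le_inf h1 (inf_le_left.trans hQL)).trans hRLD
  refine ⟨?_, h2b, h2c⟩
  apply isPGroup_of_pprime_elements_trivial
  intro x hxc
  have hxc' : (orderOf (x : H)).Coprime p := by rwa [Subgroup.orderOf_coe]
  have hxQ : (x : H) ∈ Subgroup.centralizer (Q : Set H) := by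
    rw [Subgroup.mem_centralizer_iff]
    intro q hq
    have hcQ : q * (x : H) * q⁻¹ * (x : H)⁻¹ ∈ Q := by
      have h1 : (x : H) * q⁻¹ * (x : H)⁻¹ ∈ Q :=
        (Subgroup.mem_normalizer_iff.mp (h2b x.2) q⁻¹).mp (Q.inv_mem hq)
      have e : q * (x : H) * q⁻¹ * (x : H)⁻¹ = q * ((x : H) * q⁻¹ * (x : H)⁻¹) := by group
      rw [e]
      exact Q.mul_mem hq h1
    have hcC : q * (x : H) * q⁻¹ * (x : H)⁻¹ ∈ C := by
      have h1 : q * (x : H) * q⁻¹ ∈ C := (Subgroup.mem_normalizer_iff.mp (hQC hq) (x : H)).mp x.2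
      exact C.mul_mem h1 (C.inv_mem x.2)
    have hcD : q * (x : H) * q⁻¹ * (x : H)⁻¹ ∈ D := h2c (Subgroup.mem_inf.mpr ⟨hcQ, hcC⟩)
    have hcomm' : Commute (q * (x : H) * q⁻¹ * (x : H)⁻¹) (x : H) :=
      (Subgroup.mem_centralizer_iff.mp x.2) _ hcD
    obtain ⟨j, hj⟩ := hQp ⟨_, hcQ⟩
    have hj' : (q * (x : H) * q⁻¹ * (x : H)⁻¹) ^ (p ^ j) = 1 := by
      have := congrArg Subtype.val hj
      simpa using this
    exact commute_of_commutator_commute' q (x : H) j hcomm' hj' hxc'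
  exact Subtype.ext (eq_one_of_mem_pGroup_of_coprime hQp (hCQ hxQ) hxc')

end Cfsg.Agent.Helper14
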