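import Mathlib
import Cfsg.Agent.Lib.Helper23.ZS4Defs

/-!
# S3222 piece CLASS: orbit-stabilizer for conjugation, with the class as an explicit set
-/

set_option autoImplicit false

namespace Cfsg.Agent.Helper23.ZS4

open Equiv

variable {G : Type*} [Group G]

namespace CLASS

/-- the fibre of `g ↦ g x g⁻¹` over a conjugate of `x` is a coset of the centralizer -/
noncomputable def fibreEquiv (x c : G) :
    Subgroup.centralizer ({x} : Set G) ≃ {g : G // g * x * g⁻¹ = c * x * c⁻¹} where
  toFun z := ⟨c * z.1, by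
    have hz := Subgroup.mem_centralizer_singleton_iff.mp z.2
    have h1 : z.1 * x * z.1⁻¹ = x := by
      rw [hz]; group
    calc c * z.1 * x * (c * z.1)⁻¹ = c * (z.1 * x * z.1⁻¹) * c⁻¹ := by group
      _ = c * x * c⁻¹ := by rw [h1]⟩
  invFun g := ⟨c⁻¹ * g.1, by
    rw [Subgroup.mem_centralizer_singleton_iff]
    have hg := g.2
    have h1 : c⁻¹ * (g.1 * x * g.1⁻¹) * c = x := by rw [hg]; group
    calc c⁻¹ * g.1 * x = (c⁻¹ * (g.1 * x * g.1⁻¹) * c) * (c⁻¹ * g.1) := by group
      _ = x * (c⁻¹ * g.1) := by rw [h1]⟩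
  left_inv z := by ext; simp
  right_inv g := by ext; simp

end CLASS

open CLASS in
/-- PIECE CLASS (generic).  Orbit-stabilizer for conjugation. -/
theorem class_card [Finite G] (x : G) :
    Set.ncard {x' : G | ∃ g : G, x' = g * x * g⁻¹} *
      Nat.card (Subgroup.centralizer ({x} : Set G)) = Nat.card G := by
  classical
  haveI : Fintype G := Fintype.ofFinite G
  set S : Set G := {x' : G | ∃ g : G, x' = g * x * g⁻¹} with hS
  -- `G` is the disjoint union of the fibres
  let f : G → S := fun g => ⟨g * x * g⁻¹, ⟨g, rfl⟩⟩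
  have e : G ≃ Σ s : S, {g : G // f g = s} := (Equiv.sigmaFiberEquiv f).symm
  have hfib : ∀ s : S, Nat.card {g : G // f g = s} = Nat.card (Subgroup.centralizer ({x} : Set G)) := by
    rintro ⟨s, c, rfl⟩
    have e2 : {g : G // f g = ⟨c * x * c⁻¹, ⟨c, rfl⟩⟩} ≃ {g : G // g * x * g⁻¹ = c * x * c⁻¹} :=
      Equiv.subtypeEquivRight (fun g => by
        constructor
        · intro h
          exact congrArg Subtype.val h
        · intro h
          exact Subtype.ext h)
    rw [Nat.card_congr e2, ← Nat.card_congr (fibreEquiv x c)]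
  rw [Nat.card_congr e, Nat.card_sigma, Finset.sum_congr rfl (fun s _ => hfib s), Finset.sum_const,
    Finset.card_univ, smul_eq_mul, ← Nat.card_eq_fintype_card, Nat.card_coe_set_eq]

end Cfsg.Agent.Helper23.ZS4
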