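import Mathlib
import Cfsg.Agent.Lib.Helper23.ZS4Defs
import Cfsg.Agent.Lib.Helper24.ZS4J3E

/-!
# S3222 piece JN, core: a subgroup of index 6 (with `aut_stab` as a hypothesis)
-/

set_option autoImplicit false

namespace Cfsg.Agent.Helper23.ZS4

open Equiv

variable {G : Type*} [Group G]

namespace JN

/-- the hypothesis `aut_stab` (piece J3D) -/
def AutStab : Prop :=
  ∀ (θ : alternatingGroup (Fin 6) ≃* alternatingGroup (Fin 6))
    (a : alternatingGroup (Fin 6)), orderOf a = 3 → θ a = a →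
    ∃ j : Fin 6, (stabA 0).map θ.toMonoidHom = stabA j

/-- `stabA 0` has index 6 -/
theorem index_stabA : (stabA 0).index = 6 := by
  classical
  have h1 : MulAction.stabilizer (alternatingGroup (Fin 6)) (0 : Fin 6) = stabA 0 := by
    ext g
    rw [MulAction.mem_stabilizer_iff, mem_stabA]
    rfl
  rw [← h1, MulAction.index_stabilizer]
  have h2 : MulAction.orbit (alternatingGroup (Fin 6)) (0 : Fin 6) = Set.univ := by
    ext j
    simp only [Set.mem_univ, iff_true]
    obtain ⟨g, hg⟩ := stabA_facts.2.1 j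
    exact ⟨g, hg⟩
  rw [h2, Set.ncard_univ, Nat.card_eq_fintype_card, Fintype.card_fin]

/-- conjugation characterisation of `stabA j` for `j = g 0` -/
theorem mem_stabA_conj (g u : alternatingGroup (Fin 6)) :
    u ∈ stabA ((g : Perm (Fin 6)) 0) ↔ g⁻¹ * u * g ∈ stabA 0 := by
  rw [← stabA_facts.1 g 0, Subgroup.mem_map]
  constructor
  · rintro ⟨s, hs, rfl⟩
    have : g⁻¹ * ((MulAut.conj g).toMonoidHom s) * g = s := by
      simp [MulAut.conj_apply, mul_assoc]
    rw [this]; exact hs
  · intro h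
    refine ⟨g⁻¹ * u * g, h, ?_⟩
    simp [MulAut.conj_apply, mul_assoc]

end JN

open JN in
/-- the core of PIECE JN -/
theorem exists_index_six_core [Finite G] (haut : AutStab) (M : Subgroup G) (hM2 : M.index = 2)
    (ψ : ↥M ≃* ↥(alternatingGroup (Fin 6))) (t : G) (htM : t ∉ M)
    (y : G) (hyM : y ∈ M) (hy : orderOf y = 3) (hty : t * y = y * t) :
    ∃ N : Subgroup G, N.index = 6 := by
  classical
  haveI hMn : M.Normal := Subgroup.normal_of_index_eq_two hM2
  -- the automorphism of `A₆` induced by `t`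
  let θ : alternatingGroup (Fin 6) ≃* alternatingGroup (Fin 6) :=
    (ψ.symm.trans (MulAut.conjNormal t : MulAut M)).trans ψ
  have hθ_apply : ∀ m : M, θ (ψ m) = ψ ((MulAut.conjNormal t : MulAut M) m) := by
    intro m
    change ψ ((MulAut.conjNormal t : MulAut M) (ψ.symm (ψ m))) = _
    rw [MulEquiv.symm_apply_apply]
  let a0 : alternatingGroup (Fin 6) := ψ ⟨y, hyM⟩
  have ha0 : orderOf a0 = 3 := by
    rw [MulEquiv.orderOf_eq ψ, Subgroup.orderOf_mk, hy]
  have hθa0 : θ a0 = a0 := by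
    rw [hθ_apply]
    congr 1
    apply Subtype.ext
    rw [MulAut.conjNormal_apply]
    change t * y * t⁻¹ = y
    rw [hty]; group
  obtain ⟨j, hj⟩ := haut θ a0 ha0 hθa0
  obtain ⟨g, hg⟩ := stabA_facts.2.1 j
  -- the subgroup `H0 = ψ⁻¹ (stabA 0)` of `G`
  let H0 : Subgroup G := ((stabA 0).comap ψ.toMonoidHom).map M.subtype
  have hmemH0 : ∀ x : G, x ∈ H0 ↔ ∃ hx : x ∈ M, ψ ⟨x, hx⟩ ∈ stabA 0 := by
    intro x
    constructor
    · rintro ⟨m, hm, rfl⟩
      exact ⟨m.2, hm⟩
    · rintro ⟨hx, h⟩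
      exact ⟨⟨x, hx⟩, h, rfl⟩
  have hH0M : H0 ≤ M := by
    intro x hx
    exact ((hmemH0 x).mp hx).1
  -- key: for `m ∈ M`: `ψ m ∈ stabA 0 ↔ g⁻¹ θ(ψ m) g ∈ stabA 0`
  have hkey : ∀ m : M, ψ m ∈ stabA 0 ↔ g⁻¹ * θ (ψ m) * g ∈ stabA 0 := by
    intro m
    rw [← mem_stabA_conj, hg, ← hj, Subgroup.mem_map]
    constructor
    · intro h
      exact ⟨ψ m, h, rfl⟩
    · rintro ⟨s, hs, hse⟩
      have : s = ψ m := θ.injective hse
      rw [← this]; exact hs
  -- the element `n = r⁻¹ t`
  let r : G := ((ψ.symm g : M) : G)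
  have hrM : r ∈ M := (ψ.symm g).2
  let n : G := r⁻¹ * t
  have hnM : n ∉ M := by
    intro h
    apply htM
    have : t = r * n := by simp [n]
    rw [this]
    exact M.mul_mem hrM h
  -- `ψ (n m n⁻¹) = g⁻¹ θ(ψ m) g`
  have hconj : ∀ (m : M) (h : n * (m : G) * n⁻¹ ∈ M),
      ψ ⟨n * (m : G) * n⁻¹, h⟩ = g⁻¹ * θ (ψ m) * g := by
    intro m h
    rw [hθ_apply]
    have h1 : (⟨n * (m : G) * n⁻¹, h⟩ : M) =
        (ψ.symm g)⁻¹ * ((MulAut.conjNormal t : MulAut M) m) * (ψ.symm g) := by
      apply Subtype.ext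
      rw [Subgroup.coe_mul, Subgroup.coe_mul, Subgroup.coe_inv, MulAut.conjNormal_apply]
      simp only [n, r]
      group
    rw [h1, map_mul, map_mul, map_inv, MulEquiv.apply_symm_apply]
  have hnN : n ∈ Subgroup.normalizer (H0 : Set G) := by
    rw [Subgroup.mem_normalizer_iff]
    intro x
    by_cases hxM : x ∈ M
    · have hcM : n * x * n⁻¹ ∈ M := hMn.conj_mem x hxM n
      rw [hmemH0, hmemH0]
      constructor
      · rintro ⟨_, h⟩
        refine ⟨hcM, ?_⟩
        rw [hconj ⟨x, hxM⟩ hcM]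
        exact (hkey ⟨x, hxM⟩).mp h
      · rintro ⟨_, h⟩
        refine ⟨hxM, ?_⟩
        rw [hconj ⟨x, hxM⟩ hcM] at h
        exact (hkey ⟨x, hxM⟩).mpr h
    · constructor
      · intro h; exact absurd (hH0M h) hxM
      · intro h
        exfalso
        apply hxM
        have h2 := hMn.conj_mem _ (hH0M h) n⁻¹
        have : n⁻¹ * (n * x * n⁻¹) * n⁻¹⁻¹ = x := by group
        rw [this] at h2
        exact h2
  -- `N ⊓ M = H0`
  let N : Subgroup G := Subgroup.normalizer (H0 : Set G)
  have hNM : N ⊓ M = H0 := by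
    apply le_antisymm
    · rintro x ⟨hxN, hxM⟩
      rw [hmemH0]
      refine ⟨hxM, ?_⟩
      set a : alternatingGroup (Fin 6) := ψ ⟨x, hxM⟩ with ha
      -- `a` normalizes `stabA 0`
      have hnorm : ∀ s : alternatingGroup (Fin 6), s ∈ stabA 0 ↔ a * s * a⁻¹ ∈ stabA 0 := by
        intro s
        have hx := (Subgroup.mem_normalizer_iff.mp hxN) ((ψ.symm s : M) : G)
        have hcM : x * ((ψ.symm s : M) : G) * x⁻¹ ∈ M := hMn.conj_mem _ (ψ.symm s).2 x
        rw [hmemH0, hmemH0] at hx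
        have e1 : (⟨((ψ.symm s : M) : G), (ψ.symm s).2⟩ : M) = ψ.symm s := rfl
        have e2 : ψ ⟨x * ((ψ.symm s : M) : G) * x⁻¹, hcM⟩ = a * s * a⁻¹ := by
          have : (⟨x * ((ψ.symm s : M) : G) * x⁻¹, hcM⟩ : M) = ⟨x, hxM⟩ * ψ.symm s * ⟨x, hxM⟩⁻¹ := by
            apply Subtype.ext
            simp
          rw [this, map_mul, map_mul, map_inv, MulEquiv.apply_symm_apply]
        constructor
        · intro hs
          have := hx.mp ⟨(ψ.symm s).2, by rw [e1, MulEquiv.apply_symm_apply]; exact hs⟩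
          obtain ⟨_, h⟩ := this
          rw [e2] at h
          exact h
        · intro hs
          have := hx.mpr ⟨hcM, by rw [e2]; exact hs⟩
          obtain ⟨_, h⟩ := this
          rw [e1, MulEquiv.apply_symm_apply] at h
          exact h
      -- so `stabA (a 0) = stabA 0`
      have hst : stabA ((a : Perm (Fin 6)) 0) = stabA 0 := by
        ext u
        rw [mem_stabA_conj]
        have := hnorm (a⁻¹ * u * a)
        have e : a * (a⁻¹ * u * a) * a⁻¹ = u := by group
        rw [e] at this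
        exact this
      have := stabA_facts.2.2 _ _ hst
      exact this
    · intro x hx
      exact ⟨Subgroup.le_normalizer hx, hH0M hx⟩
  -- indices
  have hrel : M.relIndex N = 2 := by
    have hdvd : M.relIndex N ∣ 2 := by
      rw [← hM2]
      exact Subgroup.relIndex_dvd_index_of_normal M N
    have hne : M.relIndex N ≠ 1 := by
      intro h
      rw [Subgroup.relIndex_eq_one] at h
      exact hnM (h hnN)
    rcases (Nat.dvd_prime Nat.prime_two).mp hdvd with h | h
    · exact absurd h hne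
    · exact h
  have hH0idx : H0.index = 12 := by
    have h1 : H0.index = (H0.subgroupOf M).index * M.index := by
      rw [← Subgroup.relIndex, Subgroup.relIndex_mul_index hH0M]
    have h2 : H0.subgroupOf M = (stabA 0).comap ψ.toMonoidHom := by
      ext m
      rw [Subgroup.mem_subgroupOf, hmemH0, Subgroup.mem_comap]
      constructor
      · rintro ⟨_, h⟩; exact h
      · intro h; exact ⟨m.2, h⟩
    have h3 : ((stabA 0).comap ψ.toMonoidHom).index = 6 := by
      rw [Subgroup.index_comap_of_surjective _ ψ.surjective, index_stabA]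
    rw [h1, h2, h3, hM2]
  refine ⟨N, ?_⟩
  have h1 : (N ⊓ M).relIndex N * N.index = (N ⊓ M).index :=
    Subgroup.relIndex_mul_index inf_le_left
  rw [Subgroup.inf_relIndex_left, hrel, hNM, hH0idx] at h1
  omega

end Cfsg.Agent.Helper23.ZS4
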