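import Mathlib
import Cfsg.Agent.Lib.Helper14.ZS4JNCore
import Cfsg.Agent.Lib.Helper24.ZS4J3D

/-!
# S3222 piece JN: a subgroup of index 6
-/

set_option autoImplicit false

namespace Cfsg.Agent.Helper23.ZS4

open Equiv

variable {G : Type*} [Group G]

/-- PIECE JN. -/
theorem exists_index_six [Finite G] (M : Subgroup G) (hM2 : M.index = 2)
    (ψ : ↥M ≃* ↥(alternatingGroup (Fin 6))) (t : G) (htM : t ∉ M)
    (y : G) (hyM : y ∈ M) (hy : orderOf y = 3) (hty : t * y = y * t) :
    ∃ N : Subgroup G, N.index = 6 :=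
  exists_index_six_core (fun θ a ha hθ => aut_stab θ a ha hθ) M hM2 ψ t htM y hyM hy hty

end Cfsg.Agent.Helper23.ZS4
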