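import Mathlib
import Cfsg.Agent.Lib.Helper23.ZS4Defs

/-!
# S3222 piece ORD84: a group of order 84 has a characteristic subgroup of order 7
-/

set_option autoImplicit false

namespace Cfsg.Agent.Helper23.ZS4

open Equiv

/-- PIECE ORD84 (generic). -/
theorem card_84_char (H : Type*) [Group H] [Finite H] (h : Nat.card H = 84) :
    ∃ K : Subgroup H, K.Characteristic ∧ Nat.card K = 7 := by
  classical
  haveI : Fact (Nat.Prime 7) := ⟨by norm_num⟩
  have P : Sylow 7 H := default
  have hfac : (84 : ℕ).factorization 7 = 1 := by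
    have h84 : (84 : ℕ) = 7 ^ 1 * 12 := by norm_num
    rw [h84, Nat.factorization_mul (by norm_num) (by norm_num), Nat.Prime.factorization_pow (by norm_num)]
    simp only [Finsupp.coe_add, Pi.add_apply, Finsupp.single_eq_same]
    have : (12 : ℕ).factorization 7 = 0 := Nat.factorization_eq_zero_of_not_dvd (by norm_num)
    rw [this]
  have hcardP : Nat.card (P : Subgroup H) = 7 := by
    rw [Sylow.card_eq_multiplicity, h, hfac, pow_one]
  have hidx : (P : Subgroup H).index = 12 := by
    have := Subgroup.card_mul_index (P : Subgroup H)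
    rw [hcardP, h] at this
    omega
  have h1 : Nat.card (Sylow 7 H) ≡ 1 [MOD 7] := card_sylow_modEq_one 7 H
  have h2 : Nat.card (Sylow 7 H) ∣ 12 := by
    rw [← hidx]
    exact Sylow.card_dvd_index P
  have h3 : Nat.card (Sylow 7 H) = 1 := by
    have hmem : Nat.card (Sylow 7 H) ∈ Nat.divisors 12 := Nat.mem_divisors.mpr ⟨h2, by norm_num⟩
    have hd : Nat.divisors 12 = {1, 2, 3, 4, 6, 12} := by decide
    rw [hd] at hmem
    simp only [Finset.mem_insert, Finset.mem_singleton] at hmem
    unfold Nat.ModEq at h1
    omega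
  haveI : Subsingleton (Sylow 7 H) := (Nat.card_eq_one_iff_unique.mp h3).1
  have hnorm : (P : Subgroup H).Normal := Sylow.normal_of_subsingleton P
  exact ⟨(P : Subgroup H), Sylow.characteristic_of_normal P hnorm, hcardP⟩

end Cfsg.Agent.Helper23.ZS4
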