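import Mathlib
import Cfsg.Agent.Lib.Helper23.ZS4Defs

/-!
# S3222 piece PAIRCOUNT: double count of the commuting pairs in `x^G × y^G`
-/

set_option autoImplicit false

namespace Cfsg.Agent.Helper23.ZS4

open Equiv

variable {G : Type*} [Group G]

namespace PAIRCOUNT

/-- conjugation by `g` maps `{y' ∈ y^G | y' commutes with x}` onto `{y' ∈ y^G | y' commutes with g x g⁻¹}` -/
theorem card_comm_conj [Fintype G] [DecidableEq G] (x y g : G) :
    ((Finset.univ.filter (fun y' : G => ∃ h : G, y' = h * y * h⁻¹)).filter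
        (fun y' => y' * (g * x * g⁻¹) = (g * x * g⁻¹) * y')).card =
      ((Finset.univ.filter (fun y' : G => ∃ h : G, y' = h * y * h⁻¹)).filter
        (fun y' => y' * x = x * y')).card := by
  symm
  apply Finset.card_bij (fun y' _ => g * y' * g⁻¹)
  · intro a ha
    simp only [Finset.mem_filter, Finset.mem_univ, true_and] at ha ⊢
    obtain ⟨⟨h, rfl⟩, hc⟩ := ha
    refine ⟨⟨g * h, by group⟩, ?_⟩
    calc g * (h * y * h⁻¹) * g⁻¹ * (g * x * g⁻¹) = g * ((h * y * h⁻¹) * x) * g⁻¹ := by group
      _ = g * (x * (h * y * h⁻¹)) * g⁻¹ := by rw [hc]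
      _ = g * x * g⁻¹ * (g * (h * y * h⁻¹) * g⁻¹) := by group
  · intro a _ b _ hab
    have := congrArg (fun u => g⁻¹ * u * g) hab
    simpa [mul_assoc] using this
  · intro b hb
    simp only [Finset.mem_filter, Finset.mem_univ, true_and] at hb ⊢
    obtain ⟨⟨h, rfl⟩, hc⟩ := hb
    refine ⟨g⁻¹ * (h * y * h⁻¹) * g, ⟨⟨g⁻¹ * h, by group⟩, ?_⟩, by group⟩
    have h1 : g⁻¹ * ((h * y * h⁻¹) * (g * x * g⁻¹)) * g = g⁻¹ * ((g * x * g⁻¹) * (h * y * h⁻¹)) * g := by
      rw [hc]
    calc g⁻¹ * (h * y * h⁻¹) * g * x = g⁻¹ * ((h * y * h⁻¹) * (g * x * g⁻¹)) * g := by group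
      _ = g⁻¹ * ((g * x * g⁻¹) * (h * y * h⁻¹)) * g := h1
      _ = x * (g⁻¹ * (h * y * h⁻¹) * g) := by group

/-- the Finset form of the double count -/
theorem pair_count_finset [Fintype G] [DecidableEq G] (x y : G) :
    (Finset.univ.filter (fun x' : G => ∃ g : G, x' = g * x * g⁻¹)).card *
        ((Finset.univ.filter (fun y' : G => ∃ h : G, y' = h * y * h⁻¹)).filter
          (fun y' => y' * x = x * y')).card =
      (Finset.univ.filter (fun y' : G => ∃ h : G, y' = h * y * h⁻¹)).card *
        ((Finset.univ.filter (fun x' : G => ∃ g : G, x' = g * x * g⁻¹)).filter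
          (fun x' => x' * y = y * x')).card := by
  set Fx := Finset.univ.filter (fun x' : G => ∃ g : G, x' = g * x * g⁻¹) with hFx
  set Fy := Finset.univ.filter (fun y' : G => ∃ h : G, y' = h * y * h⁻¹) with hFy
  have h1 : ∑ x' ∈ Fx, (Fy.filter (fun y' => y' * x' = x' * y')).card =
      Fx.card * (Fy.filter (fun y' => y' * x = x * y')).card := by
    rw [Finset.sum_congr rfl (g := fun _ => (Fy.filter (fun y' => y' * x = x * y')).card),
      Finset.sum_const, smul_eq_mul]
    intro x' hx'
    rw [hFx] at hx'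
    simp only [Finset.mem_filter, Finset.mem_univ, true_and] at hx'
    obtain ⟨g, rfl⟩ := hx'
    exact card_comm_conj x y g
  have h2 : ∑ y' ∈ Fy, (Fx.filter (fun x' => x' * y' = y' * x')).card =
      Fy.card * (Fx.filter (fun x' => x' * y = y * x')).card := by
    rw [Finset.sum_congr rfl (g := fun _ => (Fx.filter (fun x' => x' * y = y * x')).card),
      Finset.sum_const, smul_eq_mul]
    intro y' hy'
    rw [hFy] at hy'
    simp only [Finset.mem_filter, Finset.mem_univ, true_and] at hy'
    obtain ⟨g, rfl⟩ := hy'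
    exact card_comm_conj y x g
  rw [← h1, ← h2]
  simp only [Finset.card_filter]
  rw [Finset.sum_comm]
  apply Finset.sum_congr rfl
  intro y' _
  apply Finset.sum_congr rfl
  intro x' _
  by_cases h : y' * x' = x' * y'
  · rw [if_pos h, if_pos h.symm]
  · rw [if_neg h, if_neg (fun h' => h h'.symm)]

end PAIRCOUNT

open PAIRCOUNT in
/-- PIECE PAIRCOUNT (generic).  Double count of commuting pairs in `x^G × y^G`. -/
theorem pair_count [Finite G] (x y : G) :
    Set.ncard {x' : G | ∃ g : G, x' = g * x * g⁻¹} *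
        Set.ncard {y' : G | (∃ g : G, y' = g * y * g⁻¹) ∧ y' * x = x * y'} =
      Set.ncard {y' : G | ∃ g : G, y' = g * y * g⁻¹} *
        Set.ncard {x' : G | (∃ g : G, x' = g * x * g⁻¹) ∧ x' * y = y * x'} := by
  classical
  haveI : Fintype G := Fintype.ofFinite G
  have key := pair_count_finset x y
  have e1 : ∀ (p : G → Prop), Set.ncard {a : G | p a} = (Finset.univ.filter p).card := by
    intro p
    rw [Set.ncard_eq_toFinset_card', Set.toFinset_setOf]
  rw [e1, e1, e1, e1]
  simp only [Finset.filter_filter] at key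
  convert key

end Cfsg.Agent.Helper23.ZS4
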